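import Groth.Agent.Lib.Helper8.GenFreeR3

/-!
# Generic flatness and finite presentation for ring homomorphisms out of a reduced ring (helper8)
-/

set_option autoImplicit false
set_option maxHeartbeats 400000

universe u

namespace Groth.Agent.Lib.Helper8.GenFree

open TensorProduct

section Decomp

variable {R : Type*} [CommRing R] {S : Type*} [CommRing S] [Algebra R S]

attribute [local instance] Algebra.TensorProduct.rightAlgebra in
/-- `awayMap` factors as the base change map followed by a ring isomorphism. -/
theorem awayMap_eq_comp (f : R) :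
    ∃ e : (Localization.Away f ⊗[R] S) ≃+* Localization.Away (algebraMap R S f),
      Localization.awayMap (algebraMap R S) f =
        (e : (Localization.Away f ⊗[R] S) →+* Localization.Away (algebraMap R S f)).comp
          (algebraMap (Localization.Away f) (Localization.Away f ⊗[R] S)) := by
  have hloc : IsLocalization (Algebra.algebraMapSubmonoid S (Submonoid.powers f))
      (Localization.Away f ⊗[R] S) := inferInstance
  have hsub : Algebra.algebraMapSubmonoid S (Submonoid.powers f) =
      Submonoid.powers (algebraMap R S f) := by
    simp [Algebra.algebraMapSubmonoid, Submonoid.map_powers]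
  rw [hsub] at hloc
  let e : (Localization.Away f ⊗[R] S) ≃ₐ[S] Localization.Away (algebraMap R S f) :=
    IsLocalization.algEquiv (Submonoid.powers (algebraMap R S f)) _ _
  refine ⟨e.toRingEquiv, ?_⟩
  apply IsLocalization.ringHom_ext (Submonoid.powers f)
  ext r
  have h1 : (algebraMap (Localization.Away f) (Localization.Away f ⊗[R] S))
      (algebraMap R (Localization.Away f) r) =
      algebraMap S (Localization.Away f ⊗[R] S) (algebraMap R S r) := by
    rw [Algebra.TensorProduct.algebraMap_apply, Algebra.TensorProduct.right_algebraMap_apply]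
    simp [Algebra.algebraMap_eq_smul_one, TensorProduct.smul_tmul]
  simp only [RingHom.comp_apply]
  rw [h1]
  simp [Localization.awayMap, IsLocalization.Away.map, IsLocalization.map_eq]

theorem awayMap_flat (f : R)
    (h : Module.Flat (Localization.Away f) (Localization.Away f ⊗[R] S)) :
    (Localization.awayMap (algebraMap R S) f).Flat := by
  obtain ⟨e, he⟩ := awayMap_eq_comp (S := S) f
  rw [he]
  exact RingHom.Flat.comp (RingHom.flat_algebraMap_iff.mpr h) (RingHom.Flat.of_bijective e.bijective)

end Decomp

section Models

variable {Q : ∀ {R S : Type u} [CommRing R] [CommRing S], (R →+* S) → Prop}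

/-- independence of the chosen models of the localizations -/
theorem away_map_of_awayMap (hQ : RingHom.RespectsIso Q) {R A : Type u} [CommRing R] [CommRing A]
    (φ : R →+* A) (g : R) (R' A' : Type u) [CommRing R'] [CommRing A'] [Algebra R R']
    [Algebra A A'] [IsLocalization.Away g R'] [IsLocalization.Away (φ g) A']
    (h : Q (Localization.awayMap φ g)) : Q (IsLocalization.Away.map R' A' φ g) := by
  let eR : Localization.Away g ≃ₐ[R] R' :=
    IsLocalization.algEquiv (Submonoid.powers g) (Localization.Away g) R'
  let eA : Localization.Away (φ g) ≃ₐ[A] A' :=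
    IsLocalization.algEquiv (Submonoid.powers (φ g)) (Localization.Away (φ g)) A'
  have hcomp : IsLocalization.Away.map R' A' φ g =
      (eA.toRingEquiv.toRingHom.comp (Localization.awayMap φ g)).comp
        eR.symm.toRingEquiv.toRingHom := by
    apply IsLocalization.ringHom_ext (Submonoid.powers g)
    ext r
    simp [IsLocalization.Away.map, IsLocalization.map_eq, Localization.awayMap, eR, eA]
  rw [hcomp]
  exact hQ.2 _ _ (hQ.1 _ _ h)

end Models

section Main

variable {R : Type u} [CommRing R] [IsReduced R]

/-- Generic flatness and finite presentation of a finite type algebra over a reduced ring, in a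
form stable under passing to multiples of the denominator. -/
theorem exists_flat_fp_awayMap (A : Type u) [CommRing A] [Algebra R A] [Algebra.FiniteType R A]
    (g : R) (hg : ¬ IsNilpotent g) :
    ∃ h : R, g ∣ h ∧ ¬ IsNilpotent h ∧ ∀ h' : R, h ∣ h' →
      (Localization.awayMap (algebraMap R A) h').Flat ∧
      (Localization.awayMap (algebraMap R A) h').FinitePresentation := by
  obtain ⟨h₂, hd2, hn2, hS⟩ := gpr_of_finite (R := R) (S := A) A g hg
  obtain ⟨h₃, hd3, hn3, hA⟩ := exists_fp_algebra' (R := R) A h₂ hn2
  refine ⟨h₃, hd2.trans hd3, hn3, fun h' hh' => ?_⟩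
  have hu' : IsUnit (algebraMap R (Localization.Away h') h') :=
    IsLocalization.Away.algebraMap_isUnit _
  have hu3 : IsUnit (algebraMap R (Localization.Away h') h₃) :=
    isUnit_of_dvd_unit (map_dvd _ hh') hu'
  have hu2 : IsUnit (algebraMap R (Localization.Away h') h₂) :=
    isUnit_of_dvd_unit (map_dvd _ hd3) hu3
  constructor
  · have := hS.1 (Localization.Away h') hu2
    exact awayMap_flat h' inferInstance
  · exact awayMap_finitePresentation h' (hA _ hu3)

/-- a common denominator for finitely many monotone generic properties -/
theorem exists_common_denominator {ι : Type*} (PP : ι → R → Prop)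
    (hmono : ∀ i (h h' : R), h ∣ h' → PP i h → PP i h')
    (hex : ∀ i (g : R), ¬ IsNilpotent g → ∃ h, g ∣ h ∧ ¬ IsNilpotent h ∧ PP i h)
    (s : Finset ι) (g : R) (hg : ¬ IsNilpotent g) :
    ∃ h, g ∣ h ∧ ¬ IsNilpotent h ∧ ∀ i ∈ s, PP i h := by
  classical
  induction s using Finset.induction_on with
  | empty => exact ⟨g, dvd_rfl, hg, by simp⟩
  | insert a s _ ih =>
    obtain ⟨h₁, hd1, hn1, hP1⟩ := ih
    obtain ⟨h₂, hd2, hn2, hP2⟩ := hex a h₁ hn1
    refine ⟨h₂, hd1.trans hd2, hn2, fun i hi => ?_⟩
    rcases Finset.mem_insert.mp hi with rfl | hi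
    · exact hP2
    · exact hmono i h₁ h₂ hd2 (hP1 i hi)

end Main

end Groth.Agent.Lib.Helper8.GenFree
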