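import Mathlib

/-!
# Linear sequences `X j - C (h j)` in a polynomial ring (helper8, for helper9's S9269)

`S = MvPolynomial (Fin m) R`, `h : Fin m → R`, `w = List.ofFn (fun j => X j - C (h j))`.
* `isWeaklyRegular_w` : `w` is a weakly regular sequence on `S`;
* `ker_aeval_eq` : `ker (aeval h) = Ideal.ofList w`;
* `mul_notMem` : for an ideal `J ⊇ (w)`, a prime `q ⊇ J`, a split `w = p ++ x :: rest` and `u ∉ q`,
  `u * x ∉ (p) + q J` (partial derivative argument).
-/

set_option autoImplicit false
universe u

namespace Groth.Agent.Lib.Helper8.LinSeq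

open MvPolynomial

variable {R : Type u} [CommRing R] {m : ℕ} (h : Fin m → R)

/-- the linear sequence `X j - C (h j)` -/
noncomputable def w : List (MvPolynomial (Fin m) R) := List.ofFn (fun j => X j - C (h j))

theorem length_w : (w h).length = m := by simp [w]

theorem getElem_w (k : ℕ) (hk : k < (w h).length) :
    (w h)[k] = X ⟨k, by simpa [length_w] using hk⟩ - C (h ⟨k, by simpa [length_w] using hk⟩) := by
  simp [w]

/-- general principle: `f - aeval g f` lies in any ideal containing all `X j - g j` -/
theorem sub_aeval_mem {σ : Type*} (g : σ → MvPolynomial σ R) (I : Ideal (MvPolynomial σ R))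
    (hg : ∀ j, X j - g j ∈ I) (f : MvPolynomial σ R) : f - aeval g f ∈ I := by
  induction f using MvPolynomial.induction_on with
  | C a => simp
  | add p q hp hq =>
    have : p + q - aeval g (p + q) = (p - aeval g p) + (q - aeval g q) := by
      rw [map_add]; ring
    rw [this]; exact I.add_mem hp hq
  | mul_X p j hp =>
    have : p * X j - aeval g (p * X j) = (p - aeval g p) * X j + aeval g p * (X j - g j) := by
      rw [map_mul, aeval_X]; ring
    rw [this]
    exact I.add_mem (I.mul_mem_right _ hp) (I.mul_mem_left _ (hg j))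

/-- partial substitution: the first `i` variables are replaced by the constants `h` -/
noncomputable def rho (i : ℕ) : MvPolynomial (Fin m) R →ₐ[R] MvPolynomial (Fin m) R :=
  aeval (fun j : Fin m => if (j : ℕ) < i then C (h j) else X j)

theorem rho_X_lt (i : ℕ) (j : Fin m) (hj : (j : ℕ) < i) : rho h i (X j) = C (h j) := by
  simp [rho, hj]

theorem rho_X_ge (i : ℕ) (j : Fin m) (hj : ¬ (j : ℕ) < i) : rho h i (X j) = X j := by
  simp [rho, hj]

theorem rho_C (i : ℕ) (a : R) : rho h i (C a) = C a := by
  simp [rho]

/-- the ideal generated by the first `i` members of `w` -/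
theorem mem_take_iff (i : ℕ) (x : MvPolynomial (Fin m) R) :
    x ∈ (w h).take i ↔ ∃ k : Fin m, (k : ℕ) < i ∧ x = X k - C (h k) := by
  rw [List.mem_take_iff_getElem]
  constructor
  · rintro ⟨k, hk, rfl⟩
    have hk1 : k < i := lt_of_lt_of_le hk (min_le_left _ _)
    have hk2 : k < (w h).length := lt_of_lt_of_le hk (min_le_right _ _)
    exact ⟨⟨k, by simpa [length_w] using hk2⟩, hk1, getElem_w h k hk2⟩
  · rintro ⟨k, hk, rfl⟩
    have hk2 : (k : ℕ) < (w h).length := by rw [length_w]; exact k.2
    exact ⟨k, lt_min hk hk2, getElem_w h k hk2⟩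

theorem ker_rho (i : ℕ) : RingHom.ker (rho h i).toRingHom = Ideal.ofList ((w h).take i) := by
  apply le_antisymm
  · intro f hf
    have h1 := sub_aeval_mem (fun j : Fin m => if (j : ℕ) < i then C (h j) else X j)
      (Ideal.ofList ((w h).take i)) (fun j => by
        by_cases hj : (j : ℕ) < i
        · rw [if_pos hj]
          exact Ideal.subset_span ((mem_take_iff h i _).mpr ⟨j, hj, rfl⟩)
        · rw [if_neg hj, sub_self]; exact zero_mem _) f
    have h2 : aeval (fun j : Fin m => if (j : ℕ) < i then C (h j) else X j) f = 0 := hf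
    rwa [h2, sub_zero] at h1
  · refine Ideal.span_le.mpr ?_
    intro x hx
    obtain ⟨k, hk, rfl⟩ := (mem_take_iff h i x).mp hx
    change (rho h i) (X k - C (h k)) = 0
    rw [map_sub, rho_X_lt h i k hk, rho_C, sub_self]

/-- `X i - C a` is a regular element of the polynomial ring -/
theorem isRegular_X_sub_C {σ : Type*} (i : σ) (a : R) :
    IsSMulRegular (MvPolynomial σ R) (X i - C a : MvPolynomial σ R) := by
  classical
  let τ : MvPolynomial σ R →ₐ[R] MvPolynomial σ R :=
    aeval (fun j => if j = i then X j + C a else X j)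
  let τ' : MvPolynomial σ R →ₐ[R] MvPolynomial σ R :=
    aeval (fun j => if j = i then X j - C a else X j)
  have hτ : ∀ f, τ' (τ f) = f := by
    intro f
    have : τ'.comp τ = AlgHom.id R _ := by
      apply MvPolynomial.algHom_ext
      intro j
      by_cases hj : j = i
      · simp [τ, τ', hj]
      · simp [τ, τ', hj]
    exact DFunLike.congr_fun this f
  have hτx : τ (X i - C a) = X i := by simp [τ]
  rw [isSMulRegular_iff_right_eq_zero_of_smul]
  intro f hf
  have h1 : τ ((X i - C a) * f) = 0 := by
    rw [show (X i - C a) * f = (X i - C a : MvPolynomial σ R) • f from rfl, hf, map_zero]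
  rw [map_mul, hτx] at h1
  have h2 : τ f = 0 := (MvPolynomial.isRegular_X (R := R) (n := i)).left
    (by simpa using h1)
  rw [← hτ f, h2, map_zero]

/-- **(a)** the linear sequence is weakly regular -/
theorem isWeaklyRegular_w :
    RingTheory.Sequence.IsWeaklyRegular (MvPolynomial (Fin m) R) (w h) := by
  refine ⟨fun i hi => ?_⟩
  have him : i < m := by simpa [length_w] using hi
  rw [isSMulRegular_iff_right_eq_zero_of_smul]
  intro y hy
  obtain ⟨f, rfl⟩ := Submodule.Quotient.mk_surjective _ y
  rw [← Submodule.Quotient.mk_smul, Submodule.Quotient.mk_eq_zero, smul_eq_mul,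
    Ideal.mul_top] at hy
  rw [Submodule.Quotient.mk_eq_zero, smul_eq_mul, Ideal.mul_top]
  rw [← ker_rho] at hy ⊢
  have h1 : rho h i ((w h)[i] • f) = 0 := hy
  rw [smul_eq_mul, map_mul, getElem_w h i hi, map_sub, rho_X_ge h i ⟨i, him⟩ (lt_irrefl i),
    rho_C] at h1
  exact isSMulRegular_iff_right_eq_zero_of_smul.mp (isRegular_X_sub_C _ _) _ h1

/-- **(b)** the kernel of evaluation at `h` is generated by the linear sequence -/
theorem ker_aeval_eq :
    RingHom.ker (aeval h : MvPolynomial (Fin m) R →ₐ[R] R).toRingHom = Ideal.ofList (w h) := by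
  have h0 : (w h).take m = w h := List.take_of_length_le (le_of_eq (length_w h))
  rw [← h0, ← ker_rho]
  ext f
  have h1 : rho h m f = C (aeval h f) := by
    have : rho h m = (Algebra.ofId R _).comp (aeval h) := by
      apply MvPolynomial.algHom_ext
      intro j
      rw [rho_X_lt h m j j.2]
      simp [Algebra.ofId_apply]
    rw [this]
    simp [Algebra.ofId_apply]
  change aeval h f = 0 ↔ rho h m f = 0
  rw [h1]
  constructor
  · intro hf; rw [hf, map_zero]
  · intro hf; exact (C_injective (Fin m) R) (by rw [hf, map_zero])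

/-- the derivative of `q * J` lies in `q` when `J ≤ q` -/
theorem pderiv_mem_of_mem_mul (i : Fin m) (J q : Ideal (MvPolynomial (Fin m) R)) (hq : J ≤ q)
    (y : MvPolynomial (Fin m) R) (hy : y ∈ q * J) : pderiv i y ∈ q := by
  refine Submodule.mul_induction_on hy ?_ ?_
  · intro a ha b hb
    rw [Derivation.leibniz]
    rw [smul_eq_mul, smul_eq_mul]
    exact q.add_mem (q.mul_mem_right _ ha) (q.mul_mem_right _ (hq hb))
  · intro a b ha hb
    rw [map_add]; exact q.add_mem ha hb

/-- the derivative in direction `i` of the ideal generated by the members of `w` of index `< i`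
stays inside that ideal -/
theorem pderiv_mem_of_mem_take (i : Fin m) (y : MvPolynomial (Fin m) R)
    (hy : y ∈ Ideal.ofList ((w h).take i)) : pderiv i y ∈ Ideal.ofList ((w h).take i) := by
  refine Submodule.span_induction (p := fun y _ => pderiv i y ∈ Ideal.ofList ((w h).take i))
    ?_ ?_ ?_ ?_ hy
  · intro x hx
    obtain ⟨k, hk, rfl⟩ := (mem_take_iff h i x).mp hx
    have hki : k ≠ i := fun e => by rw [e] at hk; exact lt_irrefl _ hk
    rw [map_sub, pderiv_C, pderiv_X, Pi.single_apply, if_neg hki, sub_zero]
    exact zero_mem _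
  · rw [map_zero]; exact zero_mem _
  · intro a b _ _ ha hb
    rw [map_add]; exact Ideal.add_mem _ ha hb
  · intro c a ha iha
    rw [smul_eq_mul, Derivation.leibniz, smul_eq_mul, smul_eq_mul]
    exact Ideal.add_mem _ (Ideal.mul_mem_left _ _ iha) (Ideal.mul_mem_right _ _ ha)

/-- **(c)** the derivative criterion: for `J ⊇ (w)`, a prime `q ⊇ J`, a split
`w = p ++ x :: rest` and `u ∉ q`, the product `u * x` is not in `(p) + q J` -/
theorem mul_notMem (J q : Ideal (MvPolynomial (Fin m) R)) [q.IsPrime]
    (hJ : Ideal.ofList (w h) ≤ J) (hq : J ≤ q)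
    (p rest : List (MvPolynomial (Fin m) R)) (x : MvPolynomial (Fin m) R)
    (hw : w h = p ++ x :: rest) (u : MvPolynomial (Fin m) R) (hu : u ∉ q) :
    u * x ∉ Ideal.ofList p ⊔ q * J := by
  have hlen : p.length < (w h).length := by rw [hw]; simp
  have hpm : p.length < m := by simpa [length_w] using hlen
  have hp : p = (w h).take p.length := by rw [hw]; simp
  have hx : x = (w h)[p.length] := by
    have := List.getElem_of_eq hw hlen
    rw [this]; simp
  rw [getElem_w h _ hlen] at hx
  set i : Fin m := ⟨p.length, hpm⟩ with hi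
  have hxq : x ∈ q := by
    apply hq; apply hJ
    rw [hx]
    refine Ideal.subset_span ?_
    change _ ∈ w h
    rw [w, List.mem_ofFn]
    exact ⟨i, rfl⟩
  intro hmem
  obtain ⟨a, ha, b, hb, hab⟩ := Submodule.mem_sup.mp hmem
  have h1 : pderiv i a ∈ q := by
    rw [hp] at ha
    have := pderiv_mem_of_mem_take h i a ha
    apply hq; apply hJ
    refine (Ideal.span_mono ?_) this
    intro z hz
    exact List.mem_of_mem_take hz
  have h2 : pderiv i b ∈ q := pderiv_mem_of_mem_mul i J q hq b hb
  have h3 : pderiv i (u * x) ∈ q := by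
    rw [← hab, map_add]; exact q.add_mem h1 h2
  rw [Derivation.leibniz, hx, map_sub, pderiv_C, pderiv_X, Pi.single_apply, if_pos rfl,
    sub_zero, smul_eq_mul, mul_one, ← hx] at h3
  have h4 : u ∈ q := by
    have := q.sub_mem h3 (q.mul_mem_right (pderiv i u) hxq)
    simpa using this
  exact hu h4

end Groth.Agent.Lib.Helper8.LinSeq
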