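import Groth.Agent.S4503
import Mathlib.Algebra.Category.ModuleCat.Monoidal.Closed
import Mathlib.Algebra.Homology.ShortComplex.ModuleCat
import Mathlib.Algebra.Homology.ShortComplex.ExactFunctor
import Mathlib.CategoryTheory.Limits.Preserves.Finite

/-!
# Eilenberg–Watts: the comparison `T(A) ⊗ M ⟶ T(M)` (helper8)
-/

set_option autoImplicit false
set_option maxHeartbeats 400000
universe u
open CategoryTheory CategoryTheory.Limits MonoidalCategory TensorProduct

namespace Groth.Agent.Lib.Helper8.EW

variable {A : Type u} [CommRing A]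

/-- `θ_x : A ⟶ M`, `a ↦ a • x`. -/
noncomputable abbrev thetaHom {M : ModuleCat.{u} A} (x : M) : ModuleCat.of A A ⟶ M :=
  ModuleCat.ofHom ((LinearMap.ringLmapEquivSelf A A M).symm x)

theorem thetaHom_comp {M N : ModuleCat.{u} A} (g : M ⟶ N) (x : M) :
    thetaHom x ≫ g = thetaHom (g.hom x) := by
  apply ModuleCat.hom_ext
  apply LinearMap.ext_ring
  simp

variable (T : ModuleCat.{u} A ⥤ ModuleCat.{u} A) [T.Additive] [T.Linear A]

/-- the canonical map `t_M : T(A) ⊗ M → T(M)`. -/
noncomputable def tMap (M : ModuleCat.{u} A) :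
    TensorProduct A (T.obj (ModuleCat.of A A)) M →ₗ[A] T.obj M :=
  TensorProduct.lift (LinearMap.flip
    ((ModuleCat.homLinearEquiv (S := A)).toLinearMap ∘ₗ Functor.mapLinearMap A T ∘ₗ
      (ModuleCat.homLinearEquiv (S := A)).symm.toLinearMap ∘ₗ
        (LinearMap.ringLmapEquivSelf A A M).symm.toLinearMap))

theorem tMap_tmul (M : ModuleCat.{u} A) (y : T.obj (ModuleCat.of A A)) (x : M) :
    tMap T M (y ⊗ₜ x) = (T.map (thetaHom x)).hom y := rfl

theorem tMap_naturality {M N : ModuleCat.{u} A} (g : M ⟶ N)
    (z : TensorProduct A (T.obj (ModuleCat.of A A)) M) :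
    tMap T N (g.hom.lTensor _ z) = (T.map g).hom (tMap T M z) := by
  induction z using TensorProduct.induction_on with
  | zero => simp
  | tmul y x =>
    rw [LinearMap.lTensor_tmul, tMap_tmul, tMap_tmul, ← thetaHom_comp, T.map_comp]
    rfl
  | add z w hz hw => simp only [map_add, hz, hw]

/-- `t` as a natural transformation. -/
noncomputable def tNat : tensorLeft (T.obj (ModuleCat.of A A)) ⟶ T where
  app M := ModuleCat.ofHom (tMap T M)
  naturality M N g := by
    apply ModuleCat.hom_ext
    apply LinearMap.ext
    intro z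
    exact tMap_naturality T g z

theorem tNat_app_hom (M : ModuleCat.{u} A) : ((tNat T).app M).hom = tMap T M := rfl

theorem isIso_tNat_app_iff (M : ModuleCat.{u} A) :
    IsIso ((tNat T).app M) ↔ Function.Bijective (tMap T M) :=
  ConcreteCategory.isIso_iff_bijective ((tNat T).app M)

section free

variable [∀ J : Type u, PreservesColimitsOfShape (Discrete J) T]

theorem bijective_tMap_of_free (L : ModuleCat.{u} A) [Module.Free A L] :
    Function.Bijective (tMap T L) :=
  Groth.Agent.S4503.result T L

instance (L : ModuleCat.{u} A) [Module.Free A L] : IsIso ((tNat T).app L) :=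
  (isIso_tNat_app_iff T L).mpr (bijective_tMap_of_free T L)

end free

section presentation

variable (M : ModuleCat.{u} A)

/-- the free module on the underlying set of `M`. -/
noncomputable abbrev F0 : ModuleCat.{u} A := ModuleCat.of A (M →₀ A)

noncomputable abbrev pi0 : F0 M ⟶ M := ModuleCat.ofHom (Finsupp.linearCombination A id)

theorem surjective_pi0 : Function.Surjective (pi0 M).hom :=
  Finsupp.linearCombination_surjective _ Function.surjective_id

noncomputable abbrev F1 : ModuleCat.{u} A :=
  ModuleCat.of A (LinearMap.ker (pi0 M).hom →₀ A)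

noncomputable abbrev f1 : F1 M ⟶ F0 M :=
  ModuleCat.ofHom ((LinearMap.ker (pi0 M).hom).subtype ∘ₗ Finsupp.linearCombination A id)

theorem range_f1 : LinearMap.range (f1 M).hom = LinearMap.ker (pi0 M).hom := by
  show LinearMap.range ((LinearMap.ker (pi0 M).hom).subtype ∘ₗ Finsupp.linearCombination A id) = _
  rw [LinearMap.range_comp, LinearMap.range_eq_top.mpr
    (Finsupp.linearCombination_surjective _ Function.surjective_id), Submodule.map_top,
    Submodule.range_subtype]

theorem f1_pi0 : f1 M ≫ pi0 M = 0 := by
  apply ModuleCat.hom_ext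
  apply LinearMap.ext
  intro z
  have : (f1 M).hom z ∈ LinearMap.ker (pi0 M).hom := by
    rw [← range_f1]; exact ⟨z, rfl⟩
  exact this

/-- the free presentation `F1 ⟶ F0 ⟶ M`. -/
noncomputable def presSC : ShortComplex (ModuleCat.{u} A) := ShortComplex.mk (f1 M) (pi0 M) (f1_pi0 M)

theorem presSC_exact : (presSC M).Exact := by
  rw [ShortComplex.moduleCat_exact_iff_range_eq_ker]
  exact range_f1 M

instance : Epi (presSC M).g := (ModuleCat.epi_iff_surjective _).mpr (surjective_pi0 M)

end presentation

instance (X : ModuleCat.{u} A) : PreservesColimits (tensorLeft X) :=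
  (ihom.adjunction X).leftAdjoint_preservesColimits

section rightExact

variable [∀ J : Type u, PreservesColimitsOfShape (Discrete J) T]

theorem isIso_tNat_app_of_preservesFiniteColimits [PreservesFiniteColimits T]
    (M : ModuleCat.{u} A) : IsIso ((tNat T).app M) := by
  have h : ∀ j, IsIso ((Functor.whiskerLeft (parallelPair (presSC M).f 0) (tNat T)).app j) := by
    rintro (_ | _)
    · show IsIso ((tNat T).app (F1 M)); infer_instance
    · show IsIso ((tNat T).app (F0 M)); infer_instance
  have : IsIso (Functor.whiskerLeft (parallelPair (presSC M).f 0) (tNat T)) :=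
    NatIso.isIso_of_isIso_app _
  exact isIso_app_coconePt_of_preservesColimit (parallelPair (presSC M).f 0) (tNat T)
    (CokernelCofork.ofπ (presSC M).g (presSC M).zero) (presSC_exact M).gIsCokernel

theorem isIso_tNat_of_preservesFiniteColimits [PreservesFiniteColimits T] : IsIso (tNat T) := by
  have := isIso_tNat_app_of_preservesFiniteColimits T
  exact NatIso.isIso_of_isIso_app _

end rightExact

end Groth.Agent.Lib.Helper8.EW
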