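import Groth.Agent.Lib.Helper8.GenFlatAlg

/-!
# Generic flatness over a reduced base scheme (helper8)
-/

set_option autoImplicit false
set_option maxHeartbeats 400000

universe u

namespace Groth.Agent.Lib.Helper8.GenFlatSch

open AlgebraicGeometry CategoryTheory Limits TopologicalSpace

section General

variable {P : MorphismProperty Scheme.{u}}

/-- a property local on the target holds over a union of opens as soon as it holds over each -/
theorem morphismRestrict_iSup [IsZariskiLocalAtTarget P] {X Y : Scheme.{u}} (f : X ⟶ Y)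
    {ι : Type*} (U : ι → Y.Opens) (hf : ∀ i, P (f ∣_ U i)) : P (f ∣_ (⨆ i, U i)) := by
  rw [IsZariskiLocalAtTarget.iff_of_iSup_eq_top (P := P)
    (U := fun i : ι => (⨆ i, U i).ι ⁻¹ᵁ U i)]
  · intro i
    rw [P.arrow_mk_iso_iff (morphismRestrictRestrict f (⨆ i, U i) ((⨆ i, U i).ι ⁻¹ᵁ U i))]
    have h : (⨆ i, U i).ι ''ᵁ ((⨆ i, U i).ι ⁻¹ᵁ U i) = U i := by
      rw [Scheme.Hom.image_preimage_eq_opensRange_inf, Scheme.Opens.opensRange_ι]
      exact inf_eq_right.mpr (le_iSup U i)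
    rw [h]
    exact hf i
  · apply (⨆ i, U i).ι.image_injective
    dsimp
    rw [Scheme.Hom.image_iSup, Scheme.Hom.image_top_eq_opensRange, Scheme.Opens.opensRange_ι]
    simp [Scheme.Hom.image_preimage_eq_opensRange_inf, le_iSup U]

variable {Q : ∀ {R S : Type u} [CommRing R] [CommRing S], (R →+* S) → Prop}
  [HasRingHomProperty P Q]

/-- check a ring-hom property of a restriction to an affine open on an affine cover of the
preimage -/
theorem morphismRestrict_of_affine_cover {X Y : Scheme.{u}} (f : X ⟶ Y) (D : Y.Opens)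
    (hD : IsAffineOpen D) {ι : Type*} (W : ι → X.affineOpens)
    (hle : ∀ i, (W i).1 ≤ f ⁻¹ᵁ D) (hcov : f ⁻¹ᵁ D ≤ ⨆ i, (W i).1)
    (H : ∀ i, Q (f.appLE D (W i).1 (hle i)).hom) : P (f ∣_ D) := by
  have : IsAffine D := hD
  refine HasRingHomProperty.of_iSup_eq_top (P := P)
    (fun i => (affineOpensRestrict (f ⁻¹ᵁ D)).symm ⟨W i, hle i⟩) ?_ ?_
  · rw [eq_top_iff]
    rintro x -
    have hx := hcov x.2
    rw [Opens.mem_iSup] at hx ⊢
    obtain ⟨i, hi⟩ := hx
    exact ⟨i, hi⟩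
  · intro i
    rw [morphismRestrict_appLE]
    refine (f.appLE_congr _ (Scheme.Opens.ι_image_top _) ?_ (fun f => Q f.hom)).mpr (H i)
    rw [affineOpensRestrict_symm_apply_coe, Scheme.Hom.image_preimage_eq_opensRange_inf,
      Scheme.Opens.opensRange_ι]
    exact inf_eq_right.mpr (hle i)

end General

section Main

open Groth.Agent.Lib.Helper8.GenFree

variable {X S : Scheme.{u}} (f : X ⟶ S) [IsReduced S] [LocallyOfFiniteType f] [QuasiCompact f]

/-- inside every non-empty affine open of a reduced base there is a non-empty basic open over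
which `f` is flat and locally of finite presentation -/
theorem exists_basicOpen_flat_fp (V : S.affineOpens) (hV : V.1 ≠ ⊥) :
    ∃ g : Γ(S, V.1), S.basicOpen g ≠ ⊥ ∧ Flat (f ∣_ S.basicOpen g) ∧
      LocallyOfFinitePresentation (f ∣_ S.basicOpen g) := by
  classical
  have h1 : ¬ IsNilpotent (1 : Γ(S, V.1)) := by
    intro hn
    have h10 : (1 : Γ(S, V.1)) = 0 := hn.eq_zero
    apply hV
    have := (basicOpen_eq_bot_iff (X := S) (1 : Γ(S, V.1))).mpr h10
    rwa [S.basicOpen_of_isUnit isUnit_one] at this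
  have hc : IsCompact ((f ⁻¹ᵁ V.1 : X.Opens) : Set X) :=
    QuasiCompact.isCompact_preimage (f := f) _ V.1.isOpen V.2.isCompact
  obtain ⟨s, hs, hU⟩ := isCompact_iff_finite_and_eq_biUnion_affineOpens.mp hc
  let ι := {W : X.affineOpens // W.1 ≤ f ⁻¹ᵁ V.1}
  let φ : ∀ W : ι, Γ(S, V.1) →+* Γ(X, W.1.1) := fun W => (f.appLE V.1 W.1.1 W.2).hom
  have hφ : ∀ W : ι, (φ W).FiniteType := fun W =>
    HasRingHomProperty.appLE @LocallyOfFiniteType f inferInstance V W.1 W.2
  let PP : ι → Γ(S, V.1) → Prop := fun W h => ∀ h' : Γ(S, V.1), h ∣ h' →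
    (Localization.awayMap (φ W) h').Flat ∧ (Localization.awayMap (φ W) h').FinitePresentation
  have hmono : ∀ (W : ι) (h h' : Γ(S, V.1)), h ∣ h' → PP W h → PP W h' :=
    fun W h h' hd hP h'' hd' => hP h'' (hd.trans hd')
  have hex : ∀ (W : ι) (g : Γ(S, V.1)), ¬ IsNilpotent g → ∃ h, g ∣ h ∧ ¬ IsNilpotent h ∧ PP W h := by
    intro W g hg
    let _ : Algebra Γ(S, V.1) Γ(X, W.1.1) := (φ W).toAlgebra
    have : Algebra.FiniteType Γ(S, V.1) Γ(X, W.1.1) := hφ W
    exact exists_flat_fp_awayMap (R := Γ(S, V.1)) Γ(X, W.1.1) g hg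
  have hsle : ∀ W ∈ s, W.1 ≤ f ⁻¹ᵁ V.1 := by
    intro W hW
    rw [hU]
    exact le_iSup₂ (f := fun (i : X.affineOpens) (_ : i ∈ s) => (i : X.Opens)) W hW
  let s' : Finset ι := (hs.toFinset.attach).image
    (fun W => ⟨W.1, hsle W.1 (hs.mem_toFinset.mp W.2)⟩)
  obtain ⟨h, -, hn, hP⟩ := exists_common_denominator PP hmono hex s' 1 h1
  have hne : S.basicOpen h ≠ ⊥ := by
    intro h0
    rw [basicOpen_eq_bot_iff] at h0
    exact hn (h0 ▸ IsNilpotent.zero)
  refine ⟨h, hne, ?_, ?_⟩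
  all_goals
    let W' : s' → X.affineOpens := fun W =>
      ⟨X.basicOpen (φ W.1 h), W.1.1.2.basicOpen _⟩
    have hle : ∀ W : s', (W' W).1 ≤ f ⁻¹ᵁ S.basicOpen h := by
      intro W
      show X.basicOpen (f.appLE V.1 W.1.1.1 W.1.2 h) ≤ _
      simp [Scheme.Hom.appLE]
    have hcov : f ⁻¹ᵁ S.basicOpen h ≤ ⨆ W : s', (W' W).1 := by
      intro x hx
      have hxV : x ∈ f ⁻¹ᵁ V.1 := S.basicOpen_le h hx
      rw [hU] at hxV
      simp only [Opens.mem_iSup] at hxV
      obtain ⟨W, hWs, hxW⟩ := hxV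
      have hW' : (⟨W, hsle W hWs⟩ : ι) ∈ s' := by
        refine Finset.mem_image.mpr ⟨⟨W, hs.mem_toFinset.mpr hWs⟩, Finset.mem_attach _ _, rfl⟩
      rw [Opens.mem_iSup]
      refine ⟨⟨_, hW'⟩, ?_⟩
      show x ∈ X.basicOpen (f.appLE V.1 W.1 (hsle W hWs) h)
      simpa [Scheme.Hom.appLE, ← Scheme.preimage_basicOpen] using And.intro hxW hx
    refine morphismRestrict_of_affine_cover f (S.basicOpen h) (V.2.basicOpen h) W' hle hcov ?_
    intro W
    have hloc1 := V.2.isLocalization_basicOpen h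
    have hloc2 := W.1.1.2.isLocalization_basicOpen (f.appLE V.1 W.1.1.1 W.1.2 h)
    have key := IsAffineOpen.appLE_eq_away_map f V.2 W.1.1.2 W.1.2 h
    have hPW := hP W.1 W.2 h dvd_rfl
  · have h3 : RingHom.Flat (IsLocalization.Away.map Γ(S, S.basicOpen h)
        Γ(X, X.basicOpen (f.appLE V.1 W.1.1.1 W.1.2 h)) (f.appLE V.1 W.1.1.1 W.1.2).hom h) :=
      away_map_of_awayMap RingHom.Flat.respectsIso _ _ _ _ hPW.1
    rw [← CommRingCat.hom_ofHom (IsLocalization.Away.map Γ(S, S.basicOpen h)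
        Γ(X, X.basicOpen (f.appLE V.1 W.1.1.1 W.1.2 h)) (f.appLE V.1 W.1.1.1 W.1.2).hom h),
      ← key] at h3
    exact h3
  · have h3 : RingHom.FinitePresentation (IsLocalization.Away.map Γ(S, S.basicOpen h)
        Γ(X, X.basicOpen (f.appLE V.1 W.1.1.1 W.1.2 h)) (f.appLE V.1 W.1.1.1 W.1.2).hom h) :=
      away_map_of_awayMap RingHom.finitePresentation_respectsIso _ _ _ _ hPW.2
    rw [← CommRingCat.hom_ofHom (IsLocalization.Away.map Γ(S, S.basicOpen h)
        Γ(X, X.basicOpen (f.appLE V.1 W.1.1.1 W.1.2 h)) (f.appLE V.1 W.1.1.1 W.1.2).hom h),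
      ← key] at h3
    exact h3

end Main

end Groth.Agent.Lib.Helper8.GenFlatSch
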