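import Groth.Agent.Lib.Helper8.GenFree2

/-!
# Generic freeness, part 3 (helper8): generic finite presentation
-/

set_option autoImplicit false
set_option maxHeartbeats 400000

universe u v w

namespace Groth.Agent.Lib.Helper8.GenFree

open TensorProduct MvPolynomial

section FP1

variable {A : Type*} [CommRing A] {F : Type*} [AddCommGroup F] [Module A F]

/-- If `N₀ ≤ N` with `N₀` finitely generated, `F` finitely presented, and every element of `N` is
moved into `N₀` by an element of `S₀`, then the localization of `F ⧸ N` is finitely presented. -/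
theorem fp_localizedModule_quotient [Module.FinitePresentation A F]
    (N₀ N : Submodule A F) (h0 : N₀ ≤ N) (hfg : N₀.FG) (S₀ : Submonoid A)
    (hkill : ∀ x ∈ N, ∃ s ∈ S₀, s • x ∈ N₀) :
    Module.FinitePresentation (Localization S₀) (LocalizedModule S₀ (F ⧸ N)) := by
  have hfp : Module.FinitePresentation A (F ⧸ N₀) :=
    Module.finitePresentation_of_surjective N₀.mkQ N₀.mkQ_surjective
      (by rw [Submodule.ker_mkQ]; exact hfg)
  let θ : (F ⧸ N₀) →ₗ[A] (F ⧸ N) := N₀.mapQ N LinearMap.id (by simpa using h0)
  have hθsurj : Function.Surjective θ := by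
    intro y
    obtain ⟨z, rfl⟩ := N.mkQ_surjective y
    exact ⟨N₀.mkQ z, rfl⟩
  have hsurj := LocalizedModule.map_surjective S₀ θ hθsurj
  have hinj : Function.Injective (LocalizedModule.map S₀ θ) := by
    rw [injective_iff_map_eq_zero]
    intro x hx
    induction x using LocalizedModule.induction_on with
    | h y s =>
      obtain ⟨z, rfl⟩ := N₀.mkQ_surjective y
      rw [LocalizedModule.map_mk, ← LocalizedModule.zero_mk 1, LocalizedModule.mk_eq] at hx
      obtain ⟨u, hu⟩ := hx
      rw [smul_zero, smul_zero, one_smul] at hu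
      have hz : (u : A) • z ∈ N := by
        have : N.mkQ ((u : A) • z) = 0 := by
          rw [map_smul]
          exact hu
        rwa [Submodule.mkQ_apply, Submodule.Quotient.mk_eq_zero] at this
      obtain ⟨s', hs', hs'z⟩ := hkill _ hz
      rw [← LocalizedModule.zero_mk 1, LocalizedModule.mk_eq]
      refine ⟨⟨s', hs'⟩ * u, ?_⟩
      rw [smul_zero, smul_zero, one_smul]
      show (s' * (u : A)) • N₀.mkQ z = 0
      rw [← map_smul, mul_smul, Submodule.mkQ_apply, Submodule.Quotient.mk_eq_zero]
      exact hs'z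
  exact Module.FinitePresentation.of_equiv
    (LinearEquiv.ofBijective (LocalizedModule.map S₀ θ) ⟨hinj, hsurj⟩)

end FP1

section FPG

variable (R : Type u) [CommRing R] (S : Type w) [CommRing S] [Algebra R S]

/-- Generic finite presentation of an `S`-module (localizing at elements of the base `R`). -/
def FPG (M : Type v) [AddCommGroup M] [Module S M] : Prop :=
  ∃ f : R, f ≠ 0 ∧ ∀ g : R, f ∣ g →
    Module.FinitePresentation (Localization (Submonoid.powers (algebraMap R S g)))
      (LocalizedModule (Submonoid.powers (algebraMap R S g)) M)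

variable {R S}

theorem FPG.of_equiv {M : Type*} {M' : Type*} [AddCommGroup M] [Module S M] [AddCommGroup M']
    [Module S M'] (e : M ≃ₗ[S] M') (h : FPG R S M) : FPG R S M' := by
  obtain ⟨f, hf0, hf⟩ := h
  refine ⟨f, hf0, fun g hg => ?_⟩
  have := hf g hg
  exact Module.FinitePresentation.of_equiv
    (IsLocalizedModule.mapEquiv (Submonoid.powers (algebraMap R S g))
      (LocalizedModule.mkLinearMap (Submonoid.powers (algebraMap R S g)) M)
      (LocalizedModule.mkLinearMap (Submonoid.powers (algebraMap R S g)) M')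
      (Localization (Submonoid.powers (algebraMap R S g))) e)

theorem FPG.of_subsingleton [Nontrivial R] (M : Type*) [AddCommGroup M] [Module S M]
    [Subsingleton M] : FPG R S M := by
  refine ⟨1, one_ne_zero, fun g _ => ?_⟩
  have : Subsingleton (LocalizedModule (Submonoid.powers (algebraMap R S g)) M) := by
    refine ⟨fun a b => ?_⟩
    induction a using LocalizedModule.induction_on with
    | h x s =>
      induction b using LocalizedModule.induction_on with
      | h y t =>
        rw [Subsingleton.elim x 0, Subsingleton.elim y 0, LocalizedModule.zero_mk,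
          LocalizedModule.zero_mk]
  infer_instance

theorem fpg_quotient [IsDomain R] {n : ℕ} (φ : MvPolynomial (Fin n) R →ₐ[R] S)
    (hφ : Function.Surjective φ) (J : Ideal S) : FPG R S (S ⧸ J) := by
  obtain ⟨f, B, hf0, hBI, hkill, -⟩ := gf_quotient n (J.comap φ.toRingHom)
  refine ⟨f, hf0, fun g hfg => ?_⟩
  let N₀ : Ideal S := Ideal.span (φ '' (B : Set (MvPolynomial (Fin n) R)))
  have h0 : N₀ ≤ J := by
    refine Ideal.span_le.mpr ?_
    rintro _ ⟨b, hb, rfl⟩
    exact hBI hb
  have hfgN : N₀.FG := by
    classical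
    exact ⟨B.image φ, by rw [Finset.coe_image]⟩
  refine fp_localizedModule_quotient N₀ J h0 hfgN _ ?_
  intro x hx
  obtain ⟨p, rfl⟩ := hφ x
  have hp : p ∈ J.comap φ.toRingHom := hx
  obtain ⟨k, hk⟩ := hkill p hp
  obtain ⟨h, rfl⟩ := hfg
  refine ⟨(algebraMap R S (f * h)) ^ k, ⟨k, rfl⟩, ?_⟩
  have h1 : (algebraMap R S (f * h)) ^ k • φ p = algebraMap R S h ^ k * φ (C (f ^ k) * p) := by
    rw [map_mul φ, ← MvPolynomial.algebraMap_eq, φ.commutes, smul_eq_mul, map_mul, map_pow,
      mul_pow]
    ring
  rw [h1]
  refine N₀.mul_mem_left _ ?_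
  have h2 : φ (C (f ^ k) * p) ∈ Ideal.map φ.toRingHom
      (Ideal.span (B : Set (MvPolynomial (Fin n) R))) := Ideal.mem_map_of_mem _ hk
  rw [Ideal.map_span] at h2
  exact h2

theorem fpg_of_cyclic [IsDomain R] {n : ℕ} (φ : MvPolynomial (Fin n) R →ₐ[R] S)
    (hφ : Function.Surjective φ) (M : Type v) [AddCommGroup M] [Module S M] (x : M)
    (hx : Submodule.span S {x} = ⊤) : FPG R S M := by
  let ψ : S →ₗ[S] M := LinearMap.toSpanSingleton S M x
  have hψ : Function.Surjective ψ := by
    rw [← LinearMap.range_eq_top, LinearMap.range_toSpanSingleton, hx]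
  let J : Ideal S := LinearMap.ker ψ
  exact FPG.of_equiv (ψ.quotKerEquivOfSurjective hψ) (fpg_quotient φ hφ J)

theorem FPG.of_exact [IsDomain R] {M' : Type*} {M : Type*} {M'' : Type*}
    [AddCommGroup M'] [Module S M'] [AddCommGroup M] [Module S M] [AddCommGroup M''] [Module S M'']
    (i : M' →ₗ[S] M) (p : M →ₗ[S] M'') (hi : Function.Injective i)
    (hp : Function.Surjective p) (hex : Function.Exact i p) (h' : FPG R S M') (h'' : FPG R S M'') :
    FPG R S M := by
  obtain ⟨f', hf'0, hf'⟩ := h'
  obtain ⟨f'', hf''0, hf''⟩ := h''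
  refine ⟨f' * f'', mul_ne_zero hf'0 hf''0, fun g hg => ?_⟩
  have h1 := hf' g ((dvd_mul_right f' f'').trans hg)
  have h2 := hf'' g ((dvd_mul_left f'' f').trans hg)
  let S₀ := Submonoid.powers (algebraMap R S g)
  have hinj := LocalizedModule.map_injective S₀ i hi
  have hsurj := LocalizedModule.map_surjective S₀ p hp
  have hexact : Function.Exact (LocalizedModule.map S₀ i) (LocalizedModule.map S₀ p) :=
    LocalizedModule.map_exact S₀ i p hex
  have hker : LinearMap.range (LocalizedModule.map S₀ i) = LinearMap.ker (LocalizedModule.map S₀ p) :=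
    (LinearMap.exact_iff.mp hexact).symm
  have : Module.FinitePresentation (Localization S₀) (LinearMap.ker (LocalizedModule.map S₀ p)) :=
    Module.FinitePresentation.of_equiv
      ((LinearEquiv.ofInjective (LocalizedModule.map S₀ i) hinj).trans (LinearEquiv.ofEq _ _ hker))
  exact Module.finitePresentation_of_ker (LocalizedModule.map S₀ p) hsurj

theorem fpg_of_span_finset [IsDomain R] {n : ℕ} (φ : MvPolynomial (Fin n) R →ₐ[R] S)
    (hφ : Function.Surjective φ) : ∀ (k : ℕ) (M : Type v) [AddCommGroup M] [Module S M]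
    (s : Finset M), s.card ≤ k → Submodule.span S (s : Set M) = ⊤ → FPG R S M := by
  classical
  intro k
  induction k with
  | zero =>
    intro M _ _ s hs hspan
    have : s = ∅ := Finset.card_eq_zero.mp (Nat.le_zero.mp hs)
    rw [this, Finset.coe_empty, Submodule.span_empty] at hspan
    have : Subsingleton M := by
      have := (Submodule.subsingleton_iff S).mp (subsingleton_of_bot_eq_top hspan)
      exact this
    exact FPG.of_subsingleton M
  | succ k ih =>
    intro M _ _ s hs hspan
    by_cases hne : s = ∅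
    · exact ih M s (by rw [hne]; simp) hspan
    obtain ⟨x, hxs⟩ := Finset.nonempty_iff_ne_empty.mpr hne
    let N : Submodule S M := Submodule.span S {x}
    have hN : FPG R S N := by
      refine fpg_of_cyclic φ hφ N ⟨x, Submodule.mem_span_singleton_self x⟩ ?_
      rw [eq_top_iff]
      rintro ⟨y, hy⟩ -
      obtain ⟨a, rfl⟩ := Submodule.mem_span_singleton.mp hy
      exact Submodule.mem_span_singleton.mpr ⟨a, rfl⟩
    have hQ : FPG R S (M ⧸ N) := by
      refine ih (M ⧸ N) ((s.erase x).image N.mkQ) ?_ ?_
      · refine Finset.card_image_le.trans ?_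
        rw [Finset.card_erase_of_mem hxs]
        omega
      · rw [Finset.coe_image, ← Submodule.map_span, eq_top_iff]
        rintro y -
        obtain ⟨z, rfl⟩ := N.mkQ_surjective y
        have hz : z ∈ Submodule.span S (s : Set M) := by rw [hspan]; trivial
        have hs' : (s : Set M) = insert x ((s.erase x : Finset M) : Set M) := by
          rw [← Finset.coe_insert, Finset.insert_erase hxs]
        rw [hs', Submodule.mem_span_insert] at hz
        obtain ⟨a, w, hw, rfl⟩ := hz
        rw [map_add]
        have h0 : N.mkQ (a • x) = 0 := by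
          rw [Submodule.mkQ_apply, Submodule.Quotient.mk_eq_zero]
          exact Submodule.smul_mem _ _ (Submodule.mem_span_singleton_self x)
        rw [h0, zero_add]
        exact Submodule.mem_map_of_mem hw
    exact FPG.of_exact N.subtype N.mkQ N.injective_subtype N.mkQ_surjective
      (LinearMap.exact_subtype_mkQ N) hN hQ

/-- **Generic finite presentation**: a finite module over a finite type algebra over a domain
becomes finitely presented after inverting one non-zero element of the base. -/
theorem fpg_of_finite [IsDomain R] [Algebra.FiniteType R S] (M : Type v) [AddCommGroup M]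
    [Module S M] [Module.Finite S M] : FPG R S M := by
  obtain ⟨n, φ, hφ⟩ := Algebra.FiniteType.iff_quotient_mvPolynomial''.mp
    (inferInstance : Algebra.FiniteType R S)
  obtain ⟨s, hs⟩ := (Module.finite_def.mp ‹_› : (⊤ : Submodule S M).FG)
  exact fpg_of_span_finset φ hφ s.card M s le_rfl hs

end FPG

section AlgFP

variable {R : Type u} [CommRing R] [IsDomain R]

/-- surjective version of `baseChange_bijective` -/
theorem baseChange_bijective_of_surjective {N : Type*} {M : Type*} [AddCommGroup N] [Module R N]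
    [AddCommGroup M] [Module R M] (θ : N →ₗ[R] M) (hsurj : Function.Surjective θ) (f : R)
    (hkill : ∀ x : N, θ x = 0 → ∃ k : ℕ, f ^ k • x = 0)
    (R' : Type*) [CommRing R'] [Algebra R R'] [Module.Flat R R']
    (hf : IsUnit (algebraMap R R' f)) : Function.Bijective (θ.baseChange R') := by
  constructor
  · rw [LinearMap.baseChange_eq_ltensor, injective_iff_map_eq_zero]
    intro y hy
    have hex : Function.Exact ((LinearMap.ker θ).subtype.lTensor R') (θ.lTensor R') :=
      lTensor_exact R' (LinearMap.exact_subtype_ker_map θ) hsurj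
    obtain ⟨z, rfl⟩ := (hex y).mp hy
    clear hy
    have hz : z = 0 := by
      induction z using TensorProduct.induction_on with
      | zero => rfl
      | tmul r x =>
        obtain ⟨k, hk⟩ := hkill x.1 x.2
        obtain ⟨u, hu⟩ := hf
        have h1 : r ⊗ₜ[R] x = (r * ((u⁻¹ : R'ˣ) : R') ^ k) ⊗ₜ[R] (f ^ k • x) := by
          rw [TensorProduct.tmul_smul, TensorProduct.smul_tmul', Algebra.smul_def, map_pow, ← hu]
          congr 1
          rw [mul_comm, mul_assoc, ← mul_pow, Units.inv_mul, one_pow, mul_one]
        have h2 : f ^ k • x = 0 := Subtype.ext (by simpa using hk)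
        rw [h1, h2, TensorProduct.tmul_zero]
      | add a b ha hb => rw [ha, hb, add_zero]
    rw [hz, map_zero]
  · rw [LinearMap.baseChange_eq_ltensor]
    exact LinearMap.lTensor_surjective R' hsurj

/-- A finite type algebra over a domain is generically finitely presented. -/
theorem exists_fp_algebra (S : Type u) [CommRing S] [Algebra R S] [Algebra.FiniteType R S] :
    ∃ f : R, f ≠ 0 ∧ ∀ (R' : Type u) [CommRing R'] [Algebra R R'] [Module.Flat R R'],
      IsUnit (algebraMap R R' f) → Algebra.FinitePresentation R' (R' ⊗[R] S) := by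
  obtain ⟨n, φ, hφ⟩ := Algebra.FiniteType.iff_quotient_mvPolynomial''.mp
    (inferInstance : Algebra.FiniteType R S)
  obtain ⟨f, B, hf0, hBI, hkill, -⟩ := gf_quotient n (RingHom.ker φ.toRingHom)
  refine ⟨f, hf0, fun R' _ _ _ hu => ?_⟩
  let I₀ : Ideal (MvPolynomial (Fin n) R) := Ideal.span (B : Set (MvPolynomial (Fin n) R))
  have hI₀ : ∀ a ∈ I₀, φ a = 0 := by
    intro a ha
    have : a ∈ RingHom.ker φ.toRingHom := (Ideal.span_le.mpr hBI) ha
    exact this
  have hfp : Algebra.FinitePresentation R (MvPolynomial (Fin n) R ⧸ I₀) :=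
    Algebra.FinitePresentation.quotient ⟨B, rfl⟩
  let θ : (MvPolynomial (Fin n) R ⧸ I₀) →ₐ[R] S := Ideal.Quotient.liftₐ I₀ φ hI₀
  have hθsurj : Function.Surjective θ := by
    intro y
    obtain ⟨p, rfl⟩ := hφ y
    exact ⟨Ideal.Quotient.mk I₀ p, rfl⟩
  have hθkill : ∀ x, θ.toLinearMap x = 0 → ∃ k : ℕ, f ^ k • x = 0 := by
    intro x hx
    obtain ⟨p, rfl⟩ := Ideal.Quotient.mk_surjective x
    have hp : p ∈ RingHom.ker φ.toRingHom := hx
    obtain ⟨k, hk⟩ := hkill p hp
    refine ⟨k, ?_⟩
    have : f ^ k • Ideal.Quotient.mk I₀ p = Ideal.Quotient.mk I₀ (C (f ^ k) * p) := by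
      rw [← smul_eq_C_mul]
      rfl
    rw [this]
    exact Ideal.Quotient.eq_zero_iff_mem.mpr hk
  have hbij := baseChange_bijective_of_surjective θ.toLinearMap hθsurj f hθkill R' hu
  let Θ : (R' ⊗[R] (MvPolynomial (Fin n) R ⧸ I₀)) →ₐ[R'] (R' ⊗[R] S) :=
    Algebra.TensorProduct.map (AlgHom.id R' R') θ
  have hΘ : Function.Bijective Θ := by
    have : (Θ : (R' ⊗[R] (MvPolynomial (Fin n) R ⧸ I₀)) → (R' ⊗[R] S)) =
        θ.toLinearMap.baseChange R' := by
      ext z
      induction z using TensorProduct.induction_on with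
      | zero => simp
      | tmul r x => simp [Θ]
      | add a b ha hb => rw [map_add, map_add, ha, hb]
    rw [this]
    exact hbij
  have eΘ : (R' ⊗[R] (MvPolynomial (Fin n) R ⧸ I₀)) ≃ₐ[R'] (R' ⊗[R] S) :=
    AlgEquiv.ofBijective Θ hΘ
  exact Algebra.FinitePresentation.equiv (A := R' ⊗[R] (MvPolynomial (Fin n) R ⧸ I₀)) eΘ

end AlgFP

end Groth.Agent.Lib.Helper8.GenFree
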