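import Groth.Agent.Lib.Helper8.GenFree1

/-!
# Generic freeness, part 2 (helper8): modules

`GF R M`: there is a non-zero `f : R` such that `R' ⊗[R] M` is free over every flat `R`-algebra
`R'` in which `f` is invertible.  We prove `GF R M` for every finite module `M` over a finite type
algebra over a domain `R`.
-/

set_option autoImplicit false
set_option maxHeartbeats 400000

universe u v w

namespace Groth.Agent.Lib.Helper8.GenFree

open TensorProduct MvPolynomial

/-- Generic freeness predicate. -/
def GF (R : Type u) [CommRing R] (M : Type v) [AddCommGroup M] [Module R M] : Prop :=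
  ∃ f : R, f ≠ 0 ∧ ∀ (R' : Type u) [CommRing R'] [Algebra R R'] [Module.Flat R R'],
    IsUnit (algebraMap R R' f) → Module.Free R' (R' ⊗[R] M)

section General

variable {R : Type u} [CommRing R] {N : Type*} {M : Type*} [AddCommGroup N] [Module R N]
  [AddCommGroup M] [Module R M]

theorem baseChange_bijective (ψ : N →ₗ[R] M) (hinj : Function.Injective ψ) (f : R)
    (hsurj : ∀ x : M, ∃ k : ℕ, f ^ k • x ∈ LinearMap.range ψ)
    (R' : Type*) [CommRing R'] [Algebra R R'] [Module.Flat R R']
    (hf : IsUnit (algebraMap R R' f)) : Function.Bijective (ψ.baseChange R') := by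
  constructor
  · rw [LinearMap.baseChange_eq_ltensor]
    exact Module.Flat.lTensor_preserves_injective_linearMap ψ hinj
  · intro y
    induction y using TensorProduct.induction_on with
    | zero => exact ⟨0, map_zero _⟩
    | tmul r x =>
      obtain ⟨k, n, hn⟩ := hsurj x
      obtain ⟨u, hu⟩ := hf
      refine ⟨(r * ((u⁻¹ : R'ˣ) : R') ^ k) ⊗ₜ n, ?_⟩
      rw [LinearMap.baseChange_tmul, hn, TensorProduct.tmul_smul, TensorProduct.smul_tmul',
        Algebra.smul_def, map_pow, ← hu]
      congr 1
      rw [mul_comm, mul_assoc, ← mul_pow, Units.inv_mul, one_pow, mul_one]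
    | add a b ha hb =>
      obtain ⟨a', rfl⟩ := ha
      obtain ⟨b', rfl⟩ := hb
      exact ⟨a' + b', map_add _ _ _⟩

theorem GF.of_equiv {M' : Type*} [AddCommGroup M'] [Module R M'] (e : M ≃ₗ[R] M') (h : GF R M) :
    GF R M' := by
  obtain ⟨f, hf0, hf⟩ := h
  refine ⟨f, hf0, fun R' _ _ _ hu => ?_⟩
  have := hf R' hu
  exact Module.Free.of_equiv (LinearEquiv.baseChange R R' M M' e)

theorem GF.of_subsingleton [Nontrivial R] [Subsingleton M] : GF R M :=
  ⟨1, one_ne_zero, fun R' _ _ _ _ => Module.Free.of_subsingleton _ _⟩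

end General

section Quotient

variable {R : Type u} [CommRing R] [IsDomain R]

/-- Generic freeness of a quotient of a polynomial ring, together with generic finite generation of
the ideal. -/
theorem gf_quotient (n : ℕ) (I : Ideal (MvPolynomial (Fin n) R)) :
    ∃ (f : R) (B : Finset (MvPolynomial (Fin n) R)), f ≠ 0 ∧
      (B : Set (MvPolynomial (Fin n) R)) ⊆ I ∧
      (∀ p ∈ I, ∃ k : ℕ, C (f ^ k) * p ∈ Ideal.span (B : Set (MvPolynomial (Fin n) R))) ∧
      ∀ (R' : Type u) [CommRing R'] [Algebra R R'] [Module.Flat R R'],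
        IsUnit (algebraMap R R' f) → Module.Free R' (R' ⊗[R] (MvPolynomial (Fin n) R ⧸ I)) := by
  obtain ⟨f, Std, B, hf0, hBI, hA, hB⟩ := exists_standard n I
  have hspanI : Ideal.span (B : Set (MvPolynomial (Fin n) R)) ≤ I := Ideal.span_le.mpr hBI
  refine ⟨f, B, hf0, hBI, ?_, ?_⟩
  · intro p hp
    obtain ⟨k, q, r, h1, h2, h3⟩ := hA p
    refine ⟨k, ?_⟩
    have hr : r ∈ I := by
      have : r = C (f ^ k) * p - q := by rw [h1]; ring
      rw [this]
      exact I.sub_mem (I.mul_mem_left _ hp) (hspanI h2)
    rw [h1, hB r h3 hr, add_zero]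
    exact h2
  · intro R' _ _ _ hu
    let π : MvPolynomial (Fin n) R →ₗ[R] (MvPolynomial (Fin n) R ⧸ I) :=
      (Ideal.Quotient.mkₐ R I).toLinearMap
    let ψ : restrictSupport R Std →ₗ[R] (MvPolynomial (Fin n) R ⧸ I) :=
      π ∘ₗ (restrictSupport R Std).subtype
    have hinj : Function.Injective ψ := by
      rw [injective_iff_map_eq_zero]
      intro r hr
      have : (r : MvPolynomial (Fin n) R) ∈ I := Ideal.Quotient.eq_zero_iff_mem.mp hr
      exact Subtype.ext (hB r.1 r.2 this)
    have hsurj : ∀ x : MvPolynomial (Fin n) R ⧸ I, ∃ k : ℕ, f ^ k • x ∈ LinearMap.range ψ := by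
      intro x
      obtain ⟨p, rfl⟩ := Ideal.Quotient.mk_surjective x
      obtain ⟨k, q, r, h1, h2, h3⟩ := hA p
      refine ⟨k, ⟨⟨r, h3⟩, ?_⟩⟩
      show Ideal.Quotient.mk I r = f ^ k • Ideal.Quotient.mk I p
      have hq : Ideal.Quotient.mk I q = 0 := Ideal.Quotient.eq_zero_iff_mem.mpr (hspanI h2)
      have : Ideal.Quotient.mk I (C (f ^ k) * p) = f ^ k • Ideal.Quotient.mk I p := by
        rw [← smul_eq_C_mul]
        rfl
      rw [← this, h1, map_add, hq, zero_add]
    have hbij := baseChange_bijective ψ hinj f hsurj R' hu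
    have : Module.Free R (restrictSupport R Std) := Module.Free.of_basis (basisRestrictSupport R Std)
    exact Module.Free.of_equiv (LinearEquiv.ofBijective (ψ.baseChange R') hbij)

end Quotient

section Exact

variable {R : Type u} [CommRing R] [IsDomain R] {M' : Type*} {M : Type*} {M'' : Type*}
  [AddCommGroup M'] [Module R M'] [AddCommGroup M] [Module R M] [AddCommGroup M''] [Module R M'']

theorem GF.of_exact (i : M' →ₗ[R] M) (p : M →ₗ[R] M'') (hi : Function.Injective i)
    (hp : Function.Surjective p) (hex : Function.Exact i p) (h' : GF R M') (h'' : GF R M'') :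
    GF R M := by
  obtain ⟨f', hf'0, hf'⟩ := h'
  obtain ⟨f'', hf''0, hf''⟩ := h''
  refine ⟨f' * f'', mul_ne_zero hf'0 hf''0, fun R' _ _ _ hu => ?_⟩
  rw [map_mul] at hu
  have h1 := hf' R' (isUnit_of_mul_isUnit_left hu)
  have h2 := hf'' R' (isUnit_of_mul_isUnit_right hu)
  have hinj : Function.Injective (i.baseChange R') := by
    rw [LinearMap.baseChange_eq_ltensor]
    exact Module.Flat.lTensor_preserves_injective_linearMap i hi
  have hsurj : Function.Surjective (p.baseChange R') := by
    rw [LinearMap.baseChange_eq_ltensor]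
    exact LinearMap.lTensor_surjective R' hp
  have hexact : Function.Exact (i.baseChange R') (p.baseChange R') := by
    rw [LinearMap.baseChange_eq_ltensor, LinearMap.baseChange_eq_ltensor]
    exact lTensor_exact R' hex hp
  obtain ⟨l, hl⟩ := Module.projective_lifting_property (p.baseChange R') LinearMap.id hsurj
  obtain ⟨e, -⟩ := hexact.splitSurjectiveEquiv hinj ⟨l, hl⟩
  exact Module.Free.of_equiv e.symm

end Exact

section Devissage

variable {R : Type u} [CommRing R] [IsDomain R] (n : ℕ)

theorem gf_of_cyclic (M : Type v) [AddCommGroup M] [Module (MvPolynomial (Fin n) R) M]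
    [Module R M] [IsScalarTower R (MvPolynomial (Fin n) R) M] (x : M)
    (hx : Submodule.span (MvPolynomial (Fin n) R) {x} = ⊤) : GF R M := by
  let φ : MvPolynomial (Fin n) R →ₗ[MvPolynomial (Fin n) R] M :=
    LinearMap.toSpanSingleton (MvPolynomial (Fin n) R) M x
  have hφ : Function.Surjective φ := by
    rw [← LinearMap.range_eq_top, LinearMap.range_toSpanSingleton, hx]
  let I : Ideal (MvPolynomial (Fin n) R) := LinearMap.ker φ
  obtain ⟨f, B, hf0, -, -, hfree⟩ := gf_quotient n I
  let e : (MvPolynomial (Fin n) R ⧸ I) ≃ₗ[MvPolynomial (Fin n) R] M :=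
    φ.quotKerEquivOfSurjective hφ
  exact GF.of_equiv (e.restrictScalars R) ⟨f, hf0, hfree⟩

theorem gf_of_span_finset : ∀ (k : ℕ) (M : Type v) [AddCommGroup M]
    [Module (MvPolynomial (Fin n) R) M] [Module R M] [IsScalarTower R (MvPolynomial (Fin n) R) M]
    (s : Finset M), s.card ≤ k → Submodule.span (MvPolynomial (Fin n) R) (s : Set M) = ⊤ →
    GF R M := by
  classical
  intro k
  induction k with
  | zero =>
    intro M _ _ _ _ s hs hspan
    have : s = ∅ := Finset.card_eq_zero.mp (Nat.le_zero.mp hs)
    rw [this, Finset.coe_empty, Submodule.span_empty] at hspan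
    have : Subsingleton M := by
      have := (Submodule.subsingleton_iff (MvPolynomial (Fin n) R)).mp
        (subsingleton_of_bot_eq_top hspan)
      exact this
    exact GF.of_subsingleton
  | succ k ih =>
    intro M _ _ _ _ s hs hspan
    by_cases hne : s = ∅
    · exact ih M s (by rw [hne]; simp) hspan
    obtain ⟨x, hxs⟩ := Finset.nonempty_iff_ne_empty.mpr hne
    let N : Submodule (MvPolynomial (Fin n) R) M := Submodule.span (MvPolynomial (Fin n) R) {x}
    have hN : GF R N := by
      refine gf_of_cyclic n N ⟨x, Submodule.mem_span_singleton_self x⟩ ?_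
      rw [eq_top_iff]
      rintro ⟨y, hy⟩ -
      obtain ⟨a, rfl⟩ := Submodule.mem_span_singleton.mp hy
      exact Submodule.mem_span_singleton.mpr ⟨a, rfl⟩
    have hQ : GF R (M ⧸ N) := by
      refine ih (M ⧸ N) ((s.erase x).image N.mkQ) ?_ ?_
      · refine Finset.card_image_le.trans ?_
        rw [Finset.card_erase_of_mem hxs]
        omega
      · rw [Finset.coe_image, ← Submodule.map_span, eq_top_iff]
        rintro y -
        obtain ⟨z, rfl⟩ := N.mkQ_surjective y
        have hz : z ∈ Submodule.span (MvPolynomial (Fin n) R) (s : Set M) := by rw [hspan]; trivial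
        have hs' : (s : Set M) = insert x ((s.erase x : Finset M) : Set M) := by
          rw [← Finset.coe_insert, Finset.insert_erase hxs]
        rw [hs', Submodule.mem_span_insert] at hz
        obtain ⟨a, w, hw, rfl⟩ := hz
        rw [map_add]
        have h0 : N.mkQ (a • x) = 0 := by
          rw [Submodule.mkQ_apply, Submodule.Quotient.mk_eq_zero]
          exact Submodule.smul_mem _ _ (Submodule.mem_span_singleton_self x)
        rw [h0, zero_add]
        exact Submodule.mem_map_of_mem hw
    exact GF.of_exact (N.subtype.restrictScalars R) (N.mkQ.restrictScalars R)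
      N.injective_subtype N.mkQ_surjective (LinearMap.exact_subtype_mkQ N) hN hQ

theorem gf_of_finite_mvPolynomial (M : Type v) [AddCommGroup M]
    [Module (MvPolynomial (Fin n) R) M] [Module R M] [IsScalarTower R (MvPolynomial (Fin n) R) M]
    [Module.Finite (MvPolynomial (Fin n) R) M] : GF R M := by
  obtain ⟨s, hs⟩ := (Module.finite_def.mp ‹_› : (⊤ : Submodule (MvPolynomial (Fin n) R) M).FG)
  exact gf_of_span_finset n s.card M s le_rfl hs

/-- **Generic freeness** (freeness part): a finite module over a finite type algebra over a domain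
is generically free. -/
theorem gf_of_finiteType (S : Type w) [CommRing S] [Algebra R S] [Algebra.FiniteType R S]
    (M : Type v) [AddCommGroup M] [Module S M] [Module R M] [IsScalarTower R S M]
    [Module.Finite S M] : GF R M := by
  obtain ⟨n, φ, hφ⟩ := Algebra.FiniteType.iff_quotient_mvPolynomial''.mp
    (inferInstance : Algebra.FiniteType R S)
  let _ : Module (MvPolynomial (Fin n) R) M := Module.compHom M φ.toRingHom
  have hsm : ∀ (p : MvPolynomial (Fin n) R) (x : M), p • x = φ p • x := fun _ _ => rfl
  have : IsScalarTower R (MvPolynomial (Fin n) R) M := by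
    refine ⟨fun r p x => ?_⟩
    rw [hsm, hsm, map_smul, smul_assoc]
  have : Module.Finite (MvPolynomial (Fin n) R) M := by
    obtain ⟨s, hs⟩ := (Module.finite_def.mp ‹Module.Finite S M› : (⊤ : Submodule S M).FG)
    refine Module.finite_def.mpr ⟨s, ?_⟩
    rw [eq_top_iff]
    rintro x -
    have hx : x ∈ Submodule.span S (s : Set M) := by rw [hs]; trivial
    induction hx using Submodule.span_induction with
    | mem y hy => exact Submodule.subset_span hy
    | zero => exact Submodule.zero_mem _
    | add y z _ _ hy hz => exact Submodule.add_mem _ hy hz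
    | smul a y _ hy =>
      obtain ⟨p, rfl⟩ := hφ a
      rw [← hsm]
      exact Submodule.smul_mem _ _ hy
  exact gf_of_finite_mvPolynomial n M

end Devissage

end Groth.Agent.Lib.Helper8.GenFree
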