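import Mathlib.Topology.Constructible
import Mathlib.Topology.NoetherianSpace
import Mathlib.Topology.Sober
import Mathlib.Topology.Irreducible
import Mathlib.Topology.Semicontinuity.Basic
import Mathlib.Data.Set.Finite.Basic

/-!
# Constructible sets in Noetherian spaces (helper library, helper8)
-/

set_option autoImplicit false
open Topology TopologicalSpace Set

namespace Groth.Agent.Lib.Helper8.ConstrTop

variable {X : Type*} [TopologicalSpace X]

/-- `E` contains a nonempty relatively open subset of `Y`. -/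
def HasOpenIn (Y E : Set X) : Prop := ∃ U : Set X, IsOpen U ∧ (U ∩ Y).Nonempty ∧ U ∩ Y ⊆ E

theorem HasOpenIn.mono {Y E E' : Set X} (h : HasOpenIn Y E) (hE : E ⊆ E') : HasOpenIn Y E' := by
  obtain ⟨U, hU, hne, hsub⟩ := h
  exact ⟨U, hU, hne, hsub.trans hE⟩

/-- two relatively open nonempty subsets of an irreducible set meet -/
theorem HasOpenIn.inter {Y E E' : Set X} (hY : IsIrreducible Y) (h : HasOpenIn Y E)
    (h' : HasOpenIn Y E') : HasOpenIn Y (E ∩ E') := by
  obtain ⟨U, hU, hne, hsub⟩ := h
  obtain ⟨V, hV, hne', hsub'⟩ := h'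
  refine ⟨U ∩ V, hU.inter hV, ?_, ?_⟩
  · have := hY.isPreirreducible U V hU hV (by rwa [inter_comm]) (by rwa [inter_comm])
    rwa [inter_comm]
  · intro x hx
    exact ⟨hsub ⟨hx.1.1, hx.2⟩, hsub' ⟨hx.1.2, hx.2⟩⟩

theorem not_hasOpenIn_compl {Y E : Set X} (hY : IsIrreducible Y) (h : HasOpenIn Y E) :
    ¬ HasOpenIn Y Eᶜ := by
  intro h'
  obtain ⟨U, -, ⟨x, hx⟩, hsub⟩ := h.inter hY h'
  have := hsub hx
  exact this.2 this.1

/-- The dichotomy: a constructible set or its complement contains a nonempty open subset of any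
irreducible set. -/
theorem dichotomy {E : Set X} (hE : IsConstructible E) {Y : Set X} (hY : IsIrreducible Y) :
    HasOpenIn Y E ∨ HasOpenIn Y Eᶜ := by
  induction hE using IsConstructible.empty_union_induction with
  | open_retrocompact U hU _ =>
    by_cases h : (U ∩ Y).Nonempty
    · exact Or.inl ⟨U, hU, h, inter_subset_left⟩
    · refine Or.inr ⟨univ, isOpen_univ, by simpa using hY.nonempty, ?_⟩
      intro x hx hxU
      exact h ⟨x, hxU, hx.2⟩
  | union s hs t ht ihs iht =>
    rcases ihs with h1 | h1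
    · exact Or.inl (h1.mono subset_union_left)
    · rcases iht with h2 | h2
      · exact Or.inl (h2.mono subset_union_right)
      · refine Or.inr ?_
        rw [compl_union]
        exact h1.inter hY h2
  | compl s hs ih =>
    rw [compl_compl]
    exact ih.symm

/-- In a Noetherian space every set is retrocompact. -/
theorem isRetrocompact_of_noetherian [NoetherianSpace X] (s : Set X) : IsRetrocompact s :=
  fun _ _ _ => NoetherianSpace.isCompact _

theorem isConstructible_of_isOpen [NoetherianSpace X] {s : Set X} (hs : IsOpen s) :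
    IsConstructible s :=
  (isRetrocompact_of_noetherian s).isConstructible hs

theorem isConstructible_of_isClosed [NoetherianSpace X] {s : Set X} (hs : IsClosed s) :
    IsConstructible s := by
  rw [← isConstructible_compl]
  exact isConstructible_of_isOpen hs.isOpen_compl

/-- Noetherian induction on closed subsets. -/
theorem closed_induction [NoetherianSpace X] (P : Set X → Prop)
    (h : ∀ Z, IsClosed Z → (∀ Z', IsClosed Z' → Z' ⊂ Z → P Z') → P Z) :
    ∀ Z, IsClosed Z → P Z := by
  intro Z hZ
  have key : ∀ Z : Closeds X, P Z := by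
    intro Z
    induction Z using WellFoundedLT.induction with
    | ind Z ih =>
      exact h Z Z.isClosed (fun Z' hZ' hlt => ih ⟨Z', hZ'⟩ (by
        rw [← SetLike.coe_ssubset_coe]; exact hlt))
  exact key ⟨Z, hZ⟩

/-- Noetherian induction, split into empty / reducible / irreducible cases. -/
theorem closed_irred_induction [NoetherianSpace X] (P : Set X → Prop)
    (hempty : P ∅)
    (hunion : ∀ Z₁ Z₂, IsClosed Z₁ → IsClosed Z₂ → P Z₁ → P Z₂ → P (Z₁ ∪ Z₂))
    (hirr : ∀ Z, IsClosed Z → IsIrreducible Z → (∀ Z', IsClosed Z' → Z' ⊂ Z → P Z') → P Z) :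
    ∀ Z, IsClosed Z → P Z := by
  apply closed_induction
  intro Z hZ ih
  by_cases hne : Z.Nonempty
  · by_cases hpre : IsPreirreducible Z
    · exact hirr Z hZ ⟨hne, hpre⟩ ih
    · rw [isPreirreducible_iff_isClosed_union_isClosed] at hpre
      push Not at hpre
      obtain ⟨z₁, z₂, hz₁, hz₂, hsub, hn1, hn2⟩ := hpre
      have e : Z = (Z ∩ z₁) ∪ (Z ∩ z₂) := by
        rw [← inter_union_distrib_left]
        exact (inter_eq_left.2 hsub).symm
      rw [e]
      refine hunion _ _ (hZ.inter hz₁) (hZ.inter hz₂) (ih _ (hZ.inter hz₁) ?_) (ih _ (hZ.inter hz₂) ?_)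
      · refine ⟨inter_subset_left, fun h => hn1 (fun x hx => (h hx).2)⟩
      · refine ⟨inter_subset_left, fun h => hn2 (fun x hx => (h hx).2)⟩
  · rw [not_nonempty_iff_eq_empty] at hne
    rw [hne]
    exact hempty

/-- Openness criterion (EGA 0_III 9.2.5/9.2.6): in a Noetherian space, a set `E` is open as soon as
for every irreducible closed `Y` meeting `E`, `E ∩ Y` contains a nonempty open subset of `Y`. -/
theorem isOpen_of_forall_hasOpenIn [NoetherianSpace X] {E : Set X}
    (h : ∀ Y : Set X, IsClosed Y → IsIrreducible Y → (E ∩ Y).Nonempty → HasOpenIn Y E) :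
    IsOpen E := by
  rw [← isClosed_compl_iff]
  have key : ∀ Z, IsClosed Z → IsClosed (Eᶜ ∩ Z) := by
    apply closed_irred_induction
    · simp
    · intro Z₁ Z₂ _ _ h1 h2
      rw [inter_union_distrib_left]
      exact h1.union h2
    · intro Z hZ hirr ih
      by_cases hmeet : (E ∩ Z).Nonempty
      · obtain ⟨U, hU, hne, hsub⟩ := h Z hZ hirr hmeet
        have hZ' : IsClosed (Z \ U) := hZ.sdiff hU
        have hlt : Z \ U ⊂ Z := by
          refine ⟨sdiff_subset, fun hh => ?_⟩
          obtain ⟨x, hxU, hxZ⟩ := hne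
          exact (hh hxZ).2 hxU
        have e : Eᶜ ∩ Z = Eᶜ ∩ (Z \ U) := by
          ext x
          constructor
          · rintro ⟨hxE, hxZ⟩
            exact ⟨hxE, hxZ, fun hxU => hxE (hsub ⟨hxU, hxZ⟩)⟩
          · rintro ⟨hxE, hxZ, -⟩
            exact ⟨hxE, hxZ⟩
        rw [e]
        exact ih _ hZ' hlt
      · have e : Eᶜ ∩ Z = Z := by
          rw [inter_eq_right]
          intro x hxZ hxE
          exact hmeet ⟨x, hxE, hxZ⟩
        rw [e]
        exact hZ
  simpa using key univ isClosed_univ

end Groth.Agent.Lib.Helper8.ConstrTop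

namespace Groth.Agent.Lib.Helper8.ConstrTop

variable {X : Type*} [TopologicalSpace X]

theorem hasOpenIn_univ {Y : Set X} (hY : IsIrreducible Y) : HasOpenIn Y univ :=
  ⟨univ, isOpen_univ, by simpa using hY.nonempty, subset_univ _⟩

theorem not_hasOpenIn_empty {Y : Set X} : ¬ HasOpenIn Y (∅ : Set X) := by
  rintro ⟨U, -, ⟨x, hx⟩, hsub⟩
  exact hsub hx

theorem HasOpenIn.biInter {Y : Set X} (hY : IsIrreducible Y) {ι : Type*} (s : Finset ι)
    (E : ι → Set X) (h : ∀ i ∈ s, HasOpenIn Y (E i)) : HasOpenIn Y (⋂ i ∈ s, E i) := by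
  classical
  induction s using Finset.induction_on with
  | empty => simpa using hasOpenIn_univ hY
  | insert a s _ ih =>
    rw [Finset.set_biInter_insert]
    exact (h a (Finset.mem_insert_self a s)).inter hY
      (ih (fun i hi => h i (Finset.mem_insert_of_mem hi)))

/-- A function with constructible fibres and finite range is constant on a nonempty open subset of
every irreducible set. -/
theorem exists_hasOpenIn_fibre {T : Type*} (h : X → T)
    (hc : ∀ t, IsConstructible (h ⁻¹' {t})) (hfin : (Set.range h).Finite)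
    {Y : Set X} (hY : IsIrreducible Y) : ∃ t, HasOpenIn Y (h ⁻¹' {t}) := by
  classical
  by_contra hcon
  push Not at hcon
  have h1 : ∀ t ∈ hfin.toFinset, HasOpenIn Y (h ⁻¹' {t})ᶜ := fun t _ =>
    (dichotomy (hc t) hY).resolve_left (hcon t)
  have h2 := HasOpenIn.biInter hY hfin.toFinset (fun t => (h ⁻¹' {t})ᶜ) h1
  have h3 : (⋂ t ∈ hfin.toFinset, (h ⁻¹' {t})ᶜ) = (∅ : Set X) := by
    ext x
    simp only [mem_iInter, mem_compl_iff, mem_preimage, mem_singleton_iff, mem_empty_iff_false,
      iff_false, not_forall]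
    exact ⟨h x, by simp, by simp⟩
  rw [h3] at h2
  exact not_hasOpenIn_empty h2

/-- Converse (Noetherian): if a function is constant on a nonempty open subset of every irreducible
closed set, then it has constructible fibres and finite range. -/
theorem constructible_of_locally_constant [NoetherianSpace X] {T : Type*} (h : X → T)
    (H : ∀ Y : Set X, IsClosed Y → IsIrreducible Y →
        ∃ U : Set X, IsOpen U ∧ (U ∩ Y).Nonempty ∧ ∀ a ∈ U ∩ Y, ∀ b ∈ U ∩ Y, h a = h b) :
    (∀ t, IsConstructible (h ⁻¹' {t})) ∧ (Set.range h).Finite := by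
  classical
  have key : ∀ Z, IsClosed Z → (h '' Z).Finite ∧ ∀ t, IsConstructible (h ⁻¹' {t} ∩ Z) := by
    apply closed_irred_induction
    · simp
    · rintro Z₁ Z₂ _ _ ⟨f1, c1⟩ ⟨f2, c2⟩
      refine ⟨by rw [image_union]; exact f1.union f2, fun t => ?_⟩
      rw [inter_union_distrib_left]
      exact (c1 t).union (c2 t)
    · intro Z hZ hZirr ih
      obtain ⟨U, hU, ⟨a₀, ha₀U, ha₀Z⟩, hconst⟩ := H Z hZ hZirr
      have hlt : Z \ U ⊂ Z := by
        refine ⟨sdiff_subset, fun hh => ?_⟩
        exact (hh ha₀Z).2 ha₀U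
      obtain ⟨f', c'⟩ := ih _ (hZ.sdiff hU) hlt
      have hZsplit : Z = (Z \ U) ∪ (U ∩ Z) := by
        ext x
        constructor
        · intro hx
          by_cases hxU : x ∈ U
          · exact Or.inr ⟨hxU, hx⟩
          · exact Or.inl ⟨hx, hxU⟩
        · rintro (hx | hx)
          · exact hx.1
          · exact hx.2
      have hUZ : IsConstructible (U ∩ Z) :=
        (isConstructible_of_isOpen hU).inter (isConstructible_of_isClosed hZ)
      constructor
      · have : h '' Z ⊆ h '' (Z \ U) ∪ {h a₀} := by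
          rintro _ ⟨x, hx, rfl⟩
          by_cases hxU : x ∈ U
          · right
            exact hconst x ⟨hxU, hx⟩ a₀ ⟨ha₀U, ha₀Z⟩
          · left
            exact ⟨x, ⟨hx, hxU⟩, rfl⟩
        exact (f'.union (finite_singleton _)).subset this
      · intro t
        have e : h ⁻¹' {t} ∩ Z = (h ⁻¹' {t} ∩ (Z \ U)) ∪ (h ⁻¹' {t} ∩ (U ∩ Z)) := by
          rw [← inter_union_distrib_left, ← hZsplit]
        rw [e]
        refine (c' t).union ?_
        by_cases ht : t = h a₀
        · have : h ⁻¹' {t} ∩ (U ∩ Z) = U ∩ Z := by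
            rw [inter_eq_right]
            intro x hx
            rw [ht]
            exact hconst x hx a₀ ⟨ha₀U, ha₀Z⟩
          rw [this]
          exact hUZ
        · have : h ⁻¹' {t} ∩ (U ∩ Z) = ∅ := by
            rw [eq_empty_iff_forall_notMem]
            rintro x ⟨hxt, hx⟩
            apply ht
            rw [← hconst x hx a₀ ⟨ha₀U, ha₀Z⟩]
            exact hxt.symm
          rw [this]
          exact IsConstructible.empty
  obtain ⟨f, c⟩ := key univ isClosed_univ
  refine ⟨fun t => by simpa using c t, by simpa using f⟩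

end Groth.Agent.Lib.Helper8.ConstrTop
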