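import Groth.Agent.Lib.Helper8.MatSeq
import Mathlib.Algebra.Module.Projective
import Mathlib.Algebra.MvPolynomial.Basic
import Mathlib.RingTheory.Adjoin.FG

/-!
# Realising sequences of finitely presented modules by matrices; descent to subrings (helper8)
-/

set_option autoImplicit false
set_option maxHeartbeats 400000

namespace Groth.Agent.Lib.Helper8.MatCok

open Matrix

section Realize

variable {A : Type*} [CommRing A]

/-- A finitely presented module is presented by a matrix. -/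
theorem exists_matrix_presentation (M : Type*) [AddCommGroup M] [Module A M]
    [Module.FinitePresentation A M] :
    ∃ (m n : ℕ) (K : Matrix (Fin m) (Fin n) A) (π : (Fin n → A) →ₗ[A] M),
      Function.Surjective π ∧ Function.Exact (Matrix.vecMulLinear K) π := by
  classical
  obtain ⟨n, m, f, g, hf, hgf⟩ := Module.FinitePresentation.exists_fin' A M
  refine ⟨m, n, LinearMap.toMatrixRight' g, f, hf, ?_⟩
  have : Matrix.vecMulLinear (LinearMap.toMatrixRight' g) = g :=
    LinearMap.toMatrixRight'.symm_apply_apply g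
  rwa [this]

/-- A linear map between modules presented by matrices is induced by a pair of matrices. -/
theorem exists_matrix_map {F G : Type*} [AddCommGroup F] [Module A F] [AddCommGroup G] [Module A G]
    {mF nF mG nG : ℕ} (KF : Matrix (Fin mF) (Fin nF) A) (πF : (Fin nF → A) →ₗ[A] F)
    (hF : Function.Exact (Matrix.vecMulLinear KF) πF)
    (KG : Matrix (Fin mG) (Fin nG) A) (πG : (Fin nG → A) →ₗ[A] G)
    (hGs : Function.Surjective πG) (hG : Function.Exact (Matrix.vecMulLinear KG) πG)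
    (u : F →ₗ[A] G) :
    ∃ (U : Matrix (Fin nF) (Fin nG) A) (C : Matrix (Fin mF) (Fin mG) A),
      KF * U = C * KG ∧ ∀ x, u (πF x) = πG (x ᵥ* U) := by
  classical
  obtain ⟨ψ, hψ⟩ := Module.projective_lifting_property πG (u ∘ₗ πF) hGs
  have hψ' : ∀ x, πG (ψ x) = u (πF x) := fun x => LinearMap.congr_fun hψ x
  have hmem : ∀ y, ψ (Matrix.vecMulLinear KF y) ∈ LinearMap.range (Matrix.vecMulLinear KG) := by
    intro y
    rw [← hG.linearMap_ker_eq, LinearMap.mem_ker, hψ', hF.apply_apply_eq_zero, map_zero]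
  obtain ⟨χ, hχ⟩ := Module.projective_lifting_property (Matrix.vecMulLinear KG).rangeRestrict
    ((ψ ∘ₗ Matrix.vecMulLinear KF).codRestrict _ hmem) (LinearMap.surjective_rangeRestrict _)
  have hχ' : ∀ y, Matrix.vecMulLinear KG (χ y) = ψ (Matrix.vecMulLinear KF y) := by
    intro y
    have := congrArg Subtype.val (LinearMap.congr_fun hχ y)
    simpa using this
  refine ⟨LinearMap.toMatrixRight' ψ, LinearMap.toMatrixRight' χ, ?_, ?_⟩
  · apply Matrix.toLinearMapRight'.injective
    rw [Matrix.toLinearMapRight'_mul, Matrix.toLinearMapRight'_mul]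
    apply LinearMap.ext
    intro y
    have e1 : Matrix.toLinearMapRight' (LinearMap.toMatrixRight' ψ) = ψ :=
      LinearMap.toMatrixRight'.symm_apply_apply ψ
    have e2 : Matrix.toLinearMapRight' (LinearMap.toMatrixRight' χ) = χ :=
      LinearMap.toMatrixRight'.symm_apply_apply χ
    rw [LinearMap.comp_apply, LinearMap.comp_apply, e1, e2]
    exact (hχ' y).symm
  · intro x
    have e1 : Matrix.vecMulLinear (LinearMap.toMatrixRight' ψ) = ψ :=
      LinearMap.toMatrixRight'.symm_apply_apply ψ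
    rw [← Matrix.vecMulLinear_apply, e1, hψ']

/-- **Realisation**: a pair of composable maps of finitely presented modules is isomorphic to
the pair attached to matrix data. -/
theorem exists_matSeq {F G H : Type*} [AddCommGroup F] [Module A F] [AddCommGroup G] [Module A G]
    [AddCommGroup H] [Module A H] [Module.FinitePresentation A F] [Module.FinitePresentation A G]
    [Module.FinitePresentation A H] (u : F →ₗ[A] G) (v : G →ₗ[A] H) :
    ∃ (mF nF mG nG mH nH : ℕ) (D : MatSeq A mF nF mG nG mH nH) (eF : Cok D.KF ≃ₗ[A] F)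
      (eG : Cok D.KG ≃ₗ[A] G) (eH : Cok D.KH ≃ₗ[A] H),
      (∀ z, u (eF z) = eG (D.u z)) ∧ ∀ z, v (eG z) = eH (D.v z) := by
  obtain ⟨mF, nF, KF, πF, hFs, hF⟩ := exists_matrix_presentation (A := A) F
  obtain ⟨mG, nG, KG, πG, hGs, hG⟩ := exists_matrix_presentation (A := A) G
  obtain ⟨mH, nH, KH, πH, hHs, hH⟩ := exists_matrix_presentation (A := A) H
  obtain ⟨U, CU, hU, hu⟩ := exists_matrix_map KF πF hF KG πG hGs hG u
  obtain ⟨V, CV, hV, hv⟩ := exists_matrix_map KG πG hG KH πH hHs hH v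
  refine ⟨mF, nF, mG, nG, mH, nH, ⟨KF, KG, KH, U, V, CU, CV, hU, hV⟩,
    hF.linearEquivOfSurjective hFs, hG.linearEquivOfSurjective hGs,
    hH.linearEquivOfSurjective hHs, ?_, ?_⟩
  · intro z
    obtain ⟨x, rfl⟩ := cokMk_surjective KF z
    exact hu x
  · intro z
    obtain ⟨x, rfl⟩ := cokMk_surjective KG z
    exact hv x

end Realize

section Descent

variable {A₀ A : Type*} [CommRing A₀] [CommRing A] (φ : A₀ →+* A)

theorem exists_matrix_map_eq {m n : ℕ} (K : Matrix (Fin m) (Fin n) A)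
    (h : ∀ i j, K i j ∈ Set.range φ) : ∃ K₀ : Matrix (Fin m) (Fin n) A₀, K₀.map φ = K := by
  choose K₀ hK₀ using h
  exact ⟨Matrix.of K₀, by ext i j; simp [hK₀]⟩

variable {mF nF mG nG mH nH : ℕ}

/-- Matrix data whose entries all lie in the range of an injective ring map descend. -/
theorem MatSeq.exists_map_eq (hφ : Function.Injective φ) (D : MatSeq A mF nF mG nG mH nH)
    (h1 : ∀ i j, D.KF i j ∈ Set.range φ) (h2 : ∀ i j, D.KG i j ∈ Set.range φ)
    (h3 : ∀ i j, D.KH i j ∈ Set.range φ) (h4 : ∀ i j, D.U i j ∈ Set.range φ)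
    (h5 : ∀ i j, D.V i j ∈ Set.range φ) (h6 : ∀ i j, D.CU i j ∈ Set.range φ)
    (h7 : ∀ i j, D.CV i j ∈ Set.range φ) :
    ∃ D₀ : MatSeq A₀ mF nF mG nG mH nH, D₀.map φ = D := by
  obtain ⟨KF, hKF⟩ := exists_matrix_map_eq φ D.KF h1
  obtain ⟨KG, hKG⟩ := exists_matrix_map_eq φ D.KG h2
  obtain ⟨KH, hKH⟩ := exists_matrix_map_eq φ D.KH h3
  obtain ⟨U, hU⟩ := exists_matrix_map_eq φ D.U h4
  obtain ⟨V, hV⟩ := exists_matrix_map_eq φ D.V h5
  obtain ⟨CU, hCU⟩ := exists_matrix_map_eq φ D.CU h6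
  obtain ⟨CV, hCV⟩ := exists_matrix_map_eq φ D.CV h7
  have hinj : ∀ {a b : ℕ}, Function.Injective
      (fun M : Matrix (Fin a) (Fin b) A₀ => M.map φ) := fun {a b} => Matrix.map_injective hφ
  refine ⟨⟨KF, KG, KH, U, V, CU, CV, ?_, ?_⟩, ?_⟩
  · apply hinj
    simp only [Matrix.map_mul, hKF, hU, hCU, hKG, D.hU]
  · apply hinj
    simp only [Matrix.map_mul, hKG, hV, hCV, hKH, D.hV]
  · exact MatSeq.ext' hKF hKG hKH hU hV hCU hCV

end Descent

section Poly

variable {R : Type*} [CommRing R] {d : ℕ} {mF nF mG nG mH nH : ℕ}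

/-- **Descent to a finitely generated subring**: matrix data over a polynomial ring comes from a
finitely generated `ℤ`-subalgebra of the coefficient ring. -/
theorem MatSeq.exists_subalgebra (D : MatSeq (MvPolynomial (Fin d) R) mF nF mG nG mH nH) :
    ∃ (R₀ : Subalgebra ℤ R) (D₀ : MatSeq (MvPolynomial (Fin d) R₀) mF nF mG nG mH nH),
      R₀.FG ∧ D₀.map (MvPolynomial.map (algebraMap R₀ R)) = D := by
  classical
  let W : Set (MvPolynomial (Fin d) R) :=
    (Set.range fun ij : Fin mF × Fin nF => D.KF ij.1 ij.2) ∪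
    (Set.range fun ij : Fin mG × Fin nG => D.KG ij.1 ij.2) ∪
    (Set.range fun ij : Fin mH × Fin nH => D.KH ij.1 ij.2) ∪
    (Set.range fun ij : Fin nF × Fin nG => D.U ij.1 ij.2) ∪
    (Set.range fun ij : Fin nG × Fin nH => D.V ij.1 ij.2) ∪
    (Set.range fun ij : Fin mF × Fin mG => D.CU ij.1 ij.2) ∪
    (Set.range fun ij : Fin mG × Fin mH => D.CV ij.1 ij.2)
  have hW : W.Finite := by
    refine Set.Finite.union (Set.Finite.union (Set.Finite.union (Set.Finite.union
      (Set.Finite.union (Set.Finite.union ?_ ?_) ?_) ?_) ?_) ?_) ?_ <;> exact Set.finite_range _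
  let R₀ : Subalgebra ℤ R := Algebra.adjoin ℤ (⋃ w ∈ W, (w.coeffs : Set R))
  have hfg : R₀.FG := by
    refine Subalgebra.fg_def.mpr ⟨_, ?_, rfl⟩
    exact hW.biUnion fun w _ => Finset.finite_toSet _
  have hmem : ∀ w ∈ W, w ∈ Set.range (MvPolynomial.map (σ := Fin d) (algebraMap R₀ R)) := by
    intro w hw
    rw [MvPolynomial.mem_range_map_iff_coeffs_subset, Subalgebra.setRange_algebraMap]
    exact subset_trans (Set.subset_biUnion_of_mem (u := fun w => (w.coeffs : Set R)) hw)
      Algebra.subset_adjoin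
  have hinj : Function.Injective (MvPolynomial.map (σ := Fin d) (algebraMap R₀ R)) :=
    MvPolynomial.map_injective _ (FaithfulSMul.algebraMap_injective _ _)
  obtain ⟨D₀, hD₀⟩ := MatSeq.exists_map_eq (MvPolynomial.map (σ := Fin d) (algebraMap R₀ R)) hinj D
    (fun i j => hmem _ (Or.inl (Or.inl (Or.inl (Or.inl (Or.inl (Or.inl (⟨(i, j), rfl⟩))))))))
    (fun i j => hmem _ (Or.inl (Or.inl (Or.inl (Or.inl (Or.inl (Or.inr ⟨(i, j), rfl⟩)))))))
    (fun i j => hmem _ (Or.inl (Or.inl (Or.inl (Or.inl (Or.inr ⟨(i, j), rfl⟩))))))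
    (fun i j => hmem _ (Or.inl (Or.inl (Or.inl (Or.inr ⟨(i, j), rfl⟩)))))
    (fun i j => hmem _ (Or.inl (Or.inl (Or.inr ⟨(i, j), rfl⟩))))
    (fun i j => hmem _ (Or.inl (Or.inr ⟨(i, j), rfl⟩)))
    (fun i j => hmem _ (Or.inr ⟨(i, j), rfl⟩))
  exact ⟨R₀, D₀, hfg, hD₀⟩

end Poly

end Groth.Agent.Lib.Helper8.MatCok
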