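import Mathlib

/-!
# Maps and homotopies between two-term complexes `HomologicalComplex.double` (helper8)
-/

set_option autoImplicit false

namespace Groth.Agent.Lib.Helper8.DoubleCx

open CategoryTheory CategoryTheory.Limits HomologicalComplex

variable {C : Type*} [Category C] [Preadditive C] [HasZeroObject C] {ι : Type*}
  {c : ComplexShape ι} {i₀ i₁ : ι} (hrel : c.Rel i₀ i₁) (hne : i₀ ≠ i₁)
  {X₀ X₁ Y₀ Y₁ Z₀ Z₁ : C} {f : X₀ ⟶ X₁} {g : Y₀ ⟶ Y₁} {k : Z₀ ⟶ Z₁}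

/-- the map of two-term complexes induced by a commutative square -/
noncomputable def doubleMap (a₀ : X₀ ⟶ Y₀) (a₁ : X₁ ⟶ Y₁) (comm : a₀ ≫ g = f ≫ a₁) :
    double f hrel ⟶ double g hrel :=
  mkHomFromDouble hrel hne (a₀ ≫ (doubleXIso₀ g hrel).inv) (a₁ ≫ (doubleXIso₁ g hrel hne).inv)
    (by
      rw [Category.assoc, double_d g hrel hne, Iso.inv_hom_id_assoc, ← Category.assoc, comm,
        Category.assoc])
    (fun j _ => by
      rw [Category.assoc, double_d_eq_zero₀ _ _ _ _ hne.symm, comp_zero, comp_zero])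

@[simp]
lemma doubleMap_f₀ (a₀ : X₀ ⟶ Y₀) (a₁ : X₁ ⟶ Y₁) (comm : a₀ ≫ g = f ≫ a₁) :
    (doubleMap hrel hne a₀ a₁ comm).f i₀ =
      (doubleXIso₀ f hrel).hom ≫ a₀ ≫ (doubleXIso₀ g hrel).inv :=
  mkHomFromDouble_f₀ _ _ _ _ _ _

@[simp]
lemma doubleMap_f₁ (a₀ : X₀ ⟶ Y₀) (a₁ : X₁ ⟶ Y₁) (comm : a₀ ≫ g = f ≫ a₁) :
    (doubleMap hrel hne a₀ a₁ comm).f i₁ =
      (doubleXIso₁ f hrel hne).hom ≫ a₁ ≫ (doubleXIso₁ g hrel hne).inv :=
  mkHomFromDouble_f₁ _ _ _ _ _ _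

lemma doubleMap_comp (a₀ : X₀ ⟶ Y₀) (a₁ : X₁ ⟶ Y₁) (comm : a₀ ≫ g = f ≫ a₁)
    (b₀ : Y₀ ⟶ Z₀) (b₁ : Y₁ ⟶ Z₁) (comm' : b₀ ≫ k = g ≫ b₁) :
    doubleMap hrel hne a₀ a₁ comm ≫ doubleMap hrel hne b₀ b₁ comm' =
      doubleMap hrel hne (a₀ ≫ b₀) (a₁ ≫ b₁)
        (by rw [Category.assoc, comm', ← Category.assoc, comm, Category.assoc]) := by
  apply from_double_hom_ext
  · simp
  · simp

lemma doubleMap_id :
    doubleMap hrel hne (𝟙 X₀) (𝟙 X₁) (by rw [Category.id_comp, Category.comp_id]) =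
      𝟙 (double f hrel) := by
  apply from_double_hom_ext
  · simp
  · simp

open Classical in
/-- the homotopy data -/
noncomputable def hh (f : X₀ ⟶ X₁) (g : Y₀ ⟶ Y₁) (s : X₁ ⟶ Y₀) (i j : ι) :
    (double f hrel).X i ⟶ (double g hrel).X j :=
  if h : i = i₁ ∧ j = i₀ then
    eqToHom (by rw [h.1]) ≫ (doubleXIso₁ f hrel hne).hom ≫ s ≫ (doubleXIso₀ g hrel).inv ≫
      eqToHom (by rw [h.2])
  else 0

lemma hh_self (s : X₁ ⟶ Y₀) :
    hh hrel hne f g s i₁ i₀ = (doubleXIso₁ f hrel hne).hom ≫ s ≫ (doubleXIso₀ g hrel).inv := by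
  unfold hh
  rw [dif_pos ⟨rfl, rfl⟩, eqToHom_refl, eqToHom_refl, Category.id_comp, Category.comp_id]

lemma hh_of_ne_left (s : X₁ ⟶ Y₀) (i j : ι) (h : i ≠ i₁) : hh hrel hne f g s i j = 0 := by
  unfold hh
  rw [dif_neg (fun h' => h h'.1)]

lemma hh_of_ne_right (s : X₁ ⟶ Y₀) (i j : ι) (h : j ≠ i₀) : hh hrel hne f g s i j = 0 := by
  unfold hh
  rw [dif_neg (fun h' => h h'.2)]

/-- the homotopy between maps of two-term complexes -/
noncomputable def doubleHomotopy (a₀ : X₀ ⟶ Y₀) (a₁ : X₁ ⟶ Y₁) (comm : a₀ ≫ g = f ≫ a₁)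
    (b₀ : X₀ ⟶ Y₀) (b₁ : X₁ ⟶ Y₁) (comm' : b₀ ≫ g = f ≫ b₁) (s : X₁ ⟶ Y₀)
    (h₀ : a₀ = f ≫ s + b₀) (h₁ : a₁ = s ≫ g + b₁) :
    Homotopy (doubleMap hrel hne a₀ a₁ comm) (doubleMap hrel hne b₀ b₁ comm') where
  hom := hh hrel hne f g s
  zero i j hij := by
    by_cases h : i = i₁ ∧ j = i₀
    · obtain ⟨rfl, rfl⟩ := h
      exact absurd hrel hij
    · rw [not_and_or] at h
      rcases h with h | h
      · exact hh_of_ne_left hrel hne s i j h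
      · exact hh_of_ne_right hrel hne s i j h
  comm i := by
    by_cases hi₀ : i₀ = i
    · subst hi₀
      rw [dNext_eq _ hrel]
      have hp : prevD i₀ (hh hrel hne f g s) = 0 := by
        show hh hrel hne f g s i₀ (c.prev i₀) ≫ _ = 0
        rw [hh_of_ne_left hrel hne s _ _ hne, zero_comp]
      rw [hp, add_zero, hh_self, doubleMap_f₀, doubleMap_f₀, double_d f hrel hne, h₀]
      simp
    · by_cases hi₁ : i₁ = i
      · subst hi₁
        rw [prevD_eq _ hrel]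
        have hn : dNext i₁ (hh hrel hne f g s) = 0 := by
          show (double f hrel).d i₁ (c.next i₁) ≫ _ = 0
          rw [double_d_eq_zero₀ _ _ _ _ hne.symm, zero_comp]
        rw [hn, zero_add, hh_self, doubleMap_f₁, doubleMap_f₁, double_d g hrel hne, h₁]
        simp
      · exact (isZero_double_X f hrel i (Ne.symm hi₀) (Ne.symm hi₁)).eq_of_src _ _

end Groth.Agent.Lib.Helper8.DoubleCx
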