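import Groth.Agent.Lib.Helper8.DoubleCx
import Groth.Prelude.Def_LCI2

/-!
# The naive cotangent complex is independent of the presentation up to homotopy (helper8)
-/

set_option autoImplicit false
universe u

namespace Groth.Agent.Lib.Helper8.NLCompare

open CategoryTheory CategoryTheory.Limits Algebra

variable {A B : Type u} [CommRing A] [CommRing B] [Algebra A B]

theorem rel : (ComplexShape.up ℤ).Rel (-1) 0 := by simp

theorem ne : (-1 : ℤ) ≠ 0 := by decide

/-- the two-term cotangent complex of an extension -/
noncomputable abbrev nlCx (P : Extension.{u} A B) : DRing.Cx B :=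
  HomologicalComplex.double (ModuleCat.ofHom P.cotangentComplex) rel

theorem NLcx_eq : LCI.NLcx A B = nlCx (Generators.self A B).toExtension := rfl

variable {P P' : Extension.{u} A B}

/-- functoriality -/
noncomputable def nlMap (φ : P.Hom P') : nlCx P ⟶ nlCx P' :=
  DoubleCx.doubleMap rel ne (ModuleCat.ofHom (Extension.Cotangent.map φ))
    (ModuleCat.ofHom (Extension.CotangentSpace.map φ)) (by
      refine ModuleCat.hom_ext (LinearMap.ext fun x => ?_)
      exact (Extension.CotangentSpace.map_cotangentComplex φ x).symm)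

theorem nlMap_id : nlMap (Extension.Hom.id P) = 𝟙 (nlCx P) := by
  unfold nlMap
  rw [← DoubleCx.doubleMap_id rel ne]
  congr 1
  · rw [Extension.Cotangent.map_id]; rfl
  · rw [Extension.CotangentSpace.map_id]; rfl

theorem nlMap_comp {P'' : Extension.{u} A B} (φ : P.Hom P') (ψ : P'.Hom P'') :
    nlMap φ ≫ nlMap ψ = nlMap (ψ.comp φ) := by
  unfold nlMap
  rw [DoubleCx.doubleMap_comp]
  congr 1
  · rw [Extension.Cotangent.map_comp]; rfl
  · rw [Extension.CotangentSpace.map_comp]; rfl

/-- two maps of extensions induce homotopic maps -/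
noncomputable def nlHomotopy (φ ψ : P.Hom P') : Homotopy (nlMap φ) (nlMap ψ) :=
  DoubleCx.doubleHomotopy rel ne _ _ _ _ _ _ (ModuleCat.ofHom (φ.sub ψ))
    (by
      refine ModuleCat.hom_ext (LinearMap.ext fun x => ?_)
      have := LinearMap.congr_fun (Extension.Cotangent.map_sub_map φ ψ) x
      rw [LinearMap.sub_apply, sub_eq_iff_eq_add] at this
      exact this)
    (by
      refine ModuleCat.hom_ext (LinearMap.ext fun x => ?_)
      have := LinearMap.congr_fun (Extension.CotangentSpace.map_sub_map φ ψ) x
      rw [LinearMap.sub_apply, sub_eq_iff_eq_add] at this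
      exact this)

/-- homotopy equivalence of the cotangent complexes of two extensions -/
noncomputable def nlHomotopyEquiv (φ : P.Hom P') (ψ : P'.Hom P) :
    HomotopyEquiv (nlCx P) (nlCx P') where
  hom := nlMap φ
  inv := nlMap ψ
  homotopyHomInvId :=
    (Homotopy.ofEq (nlMap_comp φ ψ)).trans
      ((nlHomotopy (ψ.comp φ) (Extension.Hom.id P)).trans (Homotopy.ofEq nlMap_id))
  homotopyInvHomId :=
    (Homotopy.ofEq (nlMap_comp ψ φ)).trans
      ((nlHomotopy (φ.comp ψ) (Extension.Hom.id P')).trans (Homotopy.ofEq nlMap_id))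

attribute [local instance] HasDerivedCategory.standard

/-- the induced isomorphism in the derived category -/
noncomputable def nlIso (φ : P.Hom P') (ψ : P'.Hom P) :
    DRing.toD (nlCx P) ≅ DRing.toD (nlCx P') :=
  haveI : QuasiIso (nlHomotopyEquiv φ ψ).hom := inferInstance
  asIso (DerivedCategory.Q.map (nlHomotopyEquiv φ ψ).hom)

end Groth.Agent.Lib.Helper8.NLCompare
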