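import Mathlib
import Groth.Agent.Lib.Helper9.KoszulDesc
import Groth.Agent.Lib.Helper9.KoszulIndep
import Groth.Agent.Lib.Helper9.KoszulAppend
import Groth.Agent.Lib.Helper9.KoszulQuot

/-!
# Koszul-regular ideals: transport along ring isomorphisms and nested localizations (helper8)
-/

set_option autoImplicit false
set_option linter.style.haveILetI false
universe u

namespace Groth.Agent.Lib.Helper8.LCILocal

open Groth.Agent.Lib.Helper9

/-- a ring isomorphism is faithfully flat -/
theorem faithfullyFlat_of_ringEquiv {R₁ R₂ : Type u} [CommRing R₁] [CommRing R₂] (e : R₁ ≃+* R₂) :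
    @Module.FaithfullyFlat R₁ R₂ _ _ (e : R₁ →+* R₂).toAlgebra.toModule := by
  letI : Algebra R₁ R₂ := (e : R₁ →+* R₂).toAlgebra
  let f : R₂ ≃ₗ[R₁] R₁ :=
    { toFun := e.symm
      invFun := e
      map_add' := map_add _
      map_smul' := fun r x => by
        change e.symm ((e : R₁ →+* R₂) r * x) = r * e.symm x
        rw [map_mul]; simp
      left_inv := e.apply_symm_apply
      right_inv := e.symm_apply_apply }
  exact Module.FaithfullyFlat.of_linearEquiv R₁ R₁ f

/-- Koszul-regular lists are transported by ring isomorphisms -/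
theorem isKoszulRegularSeq_map_ringEquiv {R₁ R₂ : Type u} [CommRing R₁] [CommRing R₂]
    (e : R₁ ≃+* R₂) (l : List R₁) (h : LCI.IsKoszulRegularSeq R₁ l) :
    LCI.IsKoszulRegularSeq R₂ (l.map e) := by
  letI : Algebra R₁ R₂ := (e : R₁ →+* R₂).toAlgebra
  haveI : Module.FaithfullyFlat R₁ R₂ := faithfullyFlat_of_ringEquiv e
  exact KoszulLoc.isKoszulRegularSeq_map_of_flat R₂ l h

/-- **Lemma T**: Koszul-regular ideals are transported by ring isomorphisms -/
theorem isKoszulRegularIdeal_map_ringEquiv {R₁ R₂ : Type u} [CommRing R₁] [CommRing R₂]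
    (e : R₁ ≃+* R₂) (I : Ideal R₁) (h : LCI.IsKoszulRegularIdeal I) :
    LCI.IsKoszulRegularIdeal (I.map (e : R₁ →+* R₂)) := by
  letI : Algebra R₂ R₁ := (e.symm : R₂ →+* R₁).toAlgebra
  haveI : Module.FaithfullyFlat R₂ R₁ := faithfullyFlat_of_ringEquiv e.symm
  apply KoszulDesc.koszulRegularIdeal_descent R₂ R₁
  have : (I.map (e : R₁ →+* R₂)).map (algebraMap R₂ R₁) = I := by
    change (I.map (e : R₁ →+* R₂)).map (e.symm : R₂ →+* R₁) = I
    rw [Ideal.map_map]
    have : (e.symm : R₂ →+* R₁).comp (e : R₁ →+* R₂) = RingHom.id R₁ := by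
      ext x; simp
    rw [this, Ideal.map_id]
  rw [this]
  exact h

/-- transport of a Koszul-regular generating list from any model of the localization away from
`g` to `Localization.Away g` -/
theorem exists_list_of_isLocalizationAway {P : Type u} [CommRing P] (I : Ideal P) (g : P)
    (T : Type u) [CommRing T] [Algebra P T] [IsLocalization.Away g T] (l : List T)
    (hl : LCI.IsKoszulRegularSeq T l) (hI : I.map (algebraMap P T) = Ideal.span {x | x ∈ l}) :
    ∃ l' : List (Localization.Away g), LCI.IsKoszulRegularSeq (Localization.Away g) l' ∧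
      I.map (algebraMap P (Localization.Away g)) = Ideal.span {x | x ∈ l'} := by
  let e : T ≃ₐ[P] Localization.Away g :=
    IsLocalization.algEquiv (Submonoid.powers g) T (Localization.Away g)
  refine ⟨l.map e.toRingEquiv, isKoszulRegularSeq_map_ringEquiv e.toRingEquiv l hl, ?_⟩
  have h1 : algebraMap P (Localization.Away g) =
      (e.toRingEquiv : T →+* Localization.Away g).comp (algebraMap P T) := by
    ext x
    exact (e.commutes x).symm
  rw [h1, ← Ideal.map_map, hI, Ideal.map_span]
  congr 1
  ext x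
  simp

/-- **Unpacking a nested localization**: if `I P_G` is a Koszul-regular ideal of `P_G` and
`G ∉ 𝔭`, then `I` satisfies the defining condition of Koszul-regular ideals at `𝔭`. -/
theorem exists_of_away {P : Type u} [CommRing P] (I : Ideal P) (𝔭 : PrimeSpectrum P) (G : P)
    (hG : G ∉ 𝔭.asIdeal) (hI : I ≤ 𝔭.asIdeal)
    (h : LCI.IsKoszulRegularIdeal (I.map (algebraMap P (Localization.Away G)))) :
    ∃ g : P, g ∉ 𝔭.asIdeal ∧ ∃ l : List (Localization.Away g),
      LCI.IsKoszulRegularSeq (Localization.Away g) l ∧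
        I.map (algebraMap P (Localization.Away g)) = Ideal.span {x | x ∈ l} := by
  have hdisj : Disjoint (Submonoid.powers G : Set P) (𝔭.asIdeal : Set P) := by
    rw [Set.disjoint_left]
    rintro x ⟨n, rfl⟩ hx
    exact hG (𝔭.isPrime.mem_of_pow_mem n hx)
  haveI hprime : (𝔭.asIdeal.map (algebraMap P (Localization.Away G))).IsPrime :=
    IsLocalization.isPrime_of_isPrime_disjoint (Submonoid.powers G) _ _ 𝔭.isPrime hdisj
  obtain ⟨h', hh', l, hl, hIl⟩ := h ⟨_, hprime⟩ (Ideal.map_mono hI)
  obtain ⟨n, a, ha⟩ := IsLocalization.Away.surj G h'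
  have hunit : IsUnit (algebraMap P (Localization.Away G) G ^ n) :=
    IsLocalization.Away.algebraMap_pow_isUnit G n
  have haP : a ∉ 𝔭.asIdeal := by
    intro haP
    have h1 : algebraMap P (Localization.Away G) a ∈
        𝔭.asIdeal.map (algebraMap P (Localization.Away G)) := Ideal.mem_map_of_mem _ haP
    rw [← ha] at h1
    rcases hprime.mem_or_mem h1 with h2 | h2
    · exact hh' h2
    · exact hprime.ne_top (Ideal.eq_top_of_isUnit_mem _ h2 hunit)
  have hassoc : Associated (algebraMap P (Localization.Away G) a) h' := by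
    refine Associated.symm ⟨hunit.unit, ?_⟩
    rw [IsUnit.unit_spec]; exact ha
  haveI : IsLocalization.Away (G * a) (Localization.Away h') :=
    IsLocalization.Away.mul_of_associated G a h' hassoc
  have hGa : G * a ∉ 𝔭.asIdeal := fun hmem =>
    (𝔭.isPrime.mem_or_mem hmem).elim hG haP
  refine ⟨G * a, hGa, ?_⟩
  apply exists_list_of_isLocalizationAway I (G * a) (Localization.Away h') l hl
  rw [IsScalarTower.algebraMap_eq P (Localization.Away G) (Localization.Away h'),
    ← Ideal.map_map]
  exact hIl


section poly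

open Polynomial

variable {P : Type u} [CommRing P] (G : P)

/-- `C G * X - 1` is a regular element of the polynomial ring -/
theorem isSMulRegular_z : IsSMulRegular P[X] (C G * X - 1 : P[X]) := by
  rw [isSMulRegular_iff_right_eq_zero_of_smul]
  intro f hf
  have h1 : ((C G * X - 1 : P[X]) : PowerSeries P) * (f : PowerSeries P) = 0 := by
    rw [← Polynomial.coe_mul, ← smul_eq_mul, hf, Polynomial.coe_zero]
  have hu : IsUnit ((C G * X - 1 : P[X]) : PowerSeries P) := by
    rw [PowerSeries.isUnit_iff_constantCoeff]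
    simp
  have := hu.mul_right_eq_zero.mp h1
  exact Polynomial.coe_eq_zero_iff.mp this

/-- the surjection `P[X] → P_G`, `X ↦ 1/G` -/
noncomputable def piHom : P[X] →+* Localization.Away G :=
  ((Localization.awayEquivAdjoin G).symm.toRingEquiv :
    AdjoinRoot (C G * X - 1) →+* Localization.Away G).comp (AdjoinRoot.mk (C G * X - 1))

theorem piHom_surjective : Function.Surjective (piHom G) := by
  intro y
  obtain ⟨x, hx⟩ := AdjoinRoot.mk_surjective (g := C G * X - 1) (Localization.awayEquivAdjoin G y)
  refine ⟨x, ?_⟩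
  simp [piHom, hx]

theorem ker_piHom : RingHom.ker (piHom G) = Ideal.ofList [C G * X - 1] := by
  ext x
  rw [RingHom.mem_ker]
  simp only [piHom, RingHom.comp_apply]
  rw [Ideal.ofList_singleton, Ideal.mem_span_singleton, ← AdjoinRoot.mk_eq_zero]
  constructor
  · intro h
    simpa using h
  · intro h
    rw [h]; simp

theorem piHom_C (a : P) : piHom G (C a) = algebraMap P (Localization.Away G) a := by
  simp only [piHom, RingHom.comp_apply, AdjoinRoot.mk_C]
  rw [← AdjoinRoot.algebraMap_eq]
  exact (Localization.awayEquivAdjoin G).symm.commutes a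

/-- the derivative of `𝔮 * K` lies in `𝔮` when `K ≤ 𝔮` -/
theorem derivative_mem_of_mem_mul (K 𝔮 : Ideal P[X]) (hK : K ≤ 𝔮) (y : P[X])
    (hy : y ∈ 𝔮 * K) : derivative y ∈ 𝔮 := by
  refine Submodule.mul_induction_on hy ?_ ?_
  · intro a ha b hb
    rw [derivative_mul]
    exact 𝔮.add_mem (𝔮.mul_mem_left _ (hK hb)) (𝔮.mul_mem_right _ ha)
  · intro a b ha hb
    rw [map_add]; exact 𝔮.add_mem ha hb

theorem indepAt_z (K 𝔮 : Ideal P[X]) [𝔮.IsPrime] (hz : (C G * X - 1 : P[X]) ∈ K) (hK : K ≤ 𝔮) :
    KoszulIndep.IndepAt K 𝔮 [] [C G * X - 1] := by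
  refine KoszulIndep.IndepAt.cons _ _ _ ?_ (KoszulIndep.IndepAt.nil _)
  intro u hu hmem
  rw [Ideal.ofList_nil, bot_sup_eq] at hmem
  have h1 := derivative_mem_of_mem_mul K 𝔮 hK _ hmem
  rw [derivative_mul] at h1
  have h2 : derivative (C G * X - 1 : P[X]) = C G := by
    simp
  rw [h2] at h1
  have h3 : u * C G ∈ 𝔮 := by
    have := 𝔮.sub_mem h1 (𝔮.mul_mem_left (derivative u) (hK hz))
    simpa using this
  rcases Ideal.IsPrime.mem_or_mem inferInstance h3 with h4 | h4
  · exact hu h4
  · have h5 : (1 : P[X]) ∈ 𝔮 := by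
      have := 𝔮.sub_mem (𝔮.mul_mem_right X h4) (hK hz)
      simpa using this
    exact Ideal.IsPrime.ne_top inferInstance ((Ideal.eq_top_iff_one _).mpr h5)

end poly


section claim

open Polynomial

/-- independence of the presentation (statement S9269, taken as an input here) -/
def Indep9269 : Prop :=
  ∀ (A B : Type u) [CommRing A] [CommRing B] [Algebra A B] (n m : ℕ)
    (α : MvPolynomial (Fin n) A →ₐ[A] B) (_ : Function.Surjective α)
    (β : MvPolynomial (Fin m) A →ₐ[A] B) (_ : Function.Surjective β)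
    (_ : LCI.IsKoszulRegularIdeal (RingHom.ker α.toRingHom)),
    LCI.IsKoszulRegularIdeal (RingHom.ker β.toRingHom)

variable {R S : Type u} [CommRing R] [CommRing S] [Algebra R S] {N : ℕ}

theorem claim (h9 : Indep9269.{u})
    (γ : MvPolynomial (Fin N) R →ₐ[R] S) (hγ : Function.Surjective γ)
    (G : MvPolynomial (Fin N) R) (hlci : LCI.IsLCI R (Localization.Away (γ G))) :
    LCI.IsKoszulRegularIdeal
      ((RingHom.ker γ.toRingHom).map (algebraMap _ (Localization.Away G))) := by
  obtain ⟨-, n, α, hα, hKα⟩ := hlci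
  -- the maps
  let ρ : Localization.Away G →+* Localization.Away (γ G) := Localization.awayMap γ.toRingHom G
  have hρ : Function.Surjective ρ := KoszulIndep.awayMap_surjective γ.toRingHom hγ G
  have hkerρ : RingHom.ker ρ = (RingHom.ker γ.toRingHom).map (algebraMap _ (Localization.Away G)) :=
    KoszulIndep.ker_awayMap γ.toRingHom G
  let γ' : (MvPolynomial (Fin N) R)[X] →+* Localization.Away (γ G) := ρ.comp (piHom G)
  have hγ' : Function.Surjective γ' := hρ.comp (piHom_surjective G)
  let e := MvPolynomial.finSuccEquiv R N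
  let β : MvPolynomial (Fin (N + 1)) R →ₐ[R] Localization.Away (γ G) :=
    { toRingHom := γ'.comp (e : MvPolynomial (Fin (N + 1)) R →+* (MvPolynomial (Fin N) R)[X])
      commutes' := by
        intro r
        change ρ (piHom G (e (algebraMap R _ r))) = _
        rw [e.commutes, Polynomial.algebraMap_apply, piHom_C]
        change Localization.awayMap γ.toRingHom G (algebraMap _ _ (algebraMap R _ r)) = _
        rw [Localization.awayMap, IsLocalization.Away.map, IsLocalization.map_eq]
        change algebraMap S _ (γ (algebraMap R _ r)) = _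
        rw [γ.commutes, ← IsScalarTower.algebraMap_apply]
        rfl }
  have hβ : Function.Surjective β := hγ'.comp e.surjective
  have hKβ := h9 R (Localization.Away (γ G)) n (N + 1) α hα β hβ hKα
  -- transport to `P[X]`
  have hK : LCI.IsKoszulRegularIdeal (RingHom.ker γ') := by
    have h1 := isKoszulRegularIdeal_map_ringEquiv e.toRingEquiv _ hKβ
    have h2 : (RingHom.ker β.toRingHom).map
        (e.toRingEquiv : MvPolynomial (Fin (N + 1)) R →+* (MvPolynomial (Fin N) R)[X]) =
        RingHom.ker γ' := by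
      have h3 : RingHom.ker β.toRingHom = (RingHom.ker γ').comap
          (e.toRingEquiv : MvPolynomial (Fin (N + 1)) R →+* (MvPolynomial (Fin N) R)[X]) := by
        rw [RingHom.comap_ker]; rfl
      rw [h3]
      exact Ideal.map_comap_of_surjective _ e.toRingEquiv.surjective _
    rwa [h2] at h1
  have hz : (C G * X - 1 : (MvPolynomial (Fin N) R)[X]) ∈ RingHom.ker γ' := by
    have : (C G * X - 1 : (MvPolynomial (Fin N) R)[X]) ∈ RingHom.ker (piHom G) := by
      rw [ker_piHom]; exact Ideal.subset_span (List.mem_singleton.mpr rfl)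
    rw [RingHom.mem_ker] at this ⊢
    change ρ (piHom G _) = 0
    rw [this, map_zero]
  have hmain := KoszulQuot.quotient_koszulRegularIdeal (piHom G) (piHom_surjective G)
    [C G * X - 1] (ker_piHom G)
    ((RingTheory.Sequence.isWeaklyRegular_singleton_iff _ _).mpr (isSMulRegular_z G))
    (RingHom.ker γ') (by
      intro a ha
      rw [List.mem_singleton] at ha
      rw [ha]; exact hz) hK
    (fun 𝔮 h𝔮p h𝔮 => by
      haveI := h𝔮p
      exact indepAt_z G _ 𝔮 hz h𝔮)
  have h4 : (RingHom.ker γ').map (piHom G) = RingHom.ker ρ := by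
    have h5 : RingHom.ker γ' = (RingHom.ker ρ).comap (piHom G) := by
      rw [RingHom.comap_ker]
    rw [h5]
    exact Ideal.map_comap_of_surjective _ (piHom_surjective G) _
  rw [h4, hkerρ] at hmain
  exact hmain

/-- **Local complete intersection is local on the source**, given the two inputs. -/
theorem main (h9 : Indep9269.{u})
    (m : ℕ) (g : Fin m → S) (hg : Ideal.span (Set.range g) = ⊤)
    (h : ∀ j, LCI.IsLCI R (Localization.Away (g j))) : LCI.IsLCI R S := by
  have hft : Algebra.FiniteType R S := by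
    have h1 : (algebraMap R S).FiniteType := by
      refine RingHom.finiteType_ofLocalizationSpanTarget _ (Set.range g) hg ?_
      rintro ⟨_, j, rfl⟩
      rw [← IsScalarTower.algebraMap_eq]
      exact RingHom.finiteType_algebraMap.mpr (h j).1
    exact RingHom.finiteType_algebraMap.mp h1
  obtain ⟨N, γ, hγ⟩ := Algebra.FiniteType.iff_quotient_mvPolynomial''.mp hft
  refine ⟨hft, N, γ, hγ, ?_⟩
  intro 𝔭 h𝔭
  -- find `j` with `g j ∉ γ(𝔭)`
  have hprime : (𝔭.asIdeal.map γ.toRingHom).IsPrime :=
    Ideal.map_isPrime_of_surjective hγ h𝔭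
  obtain ⟨j, hj⟩ : ∃ j, g j ∉ 𝔭.asIdeal.map γ.toRingHom := by
    by_contra hcon
    simp only [not_exists, not_not] at hcon
    have : Ideal.span (Set.range g) ≤ 𝔭.asIdeal.map γ.toRingHom := by
      rw [Ideal.span_le]; rintro _ ⟨j, rfl⟩; exact hcon j
    rw [hg, top_le_iff] at this
    exact hprime.ne_top this
  obtain ⟨G, hG⟩ := hγ (g j)
  have hG𝔭 : G ∉ 𝔭.asIdeal := by
    intro hmem
    apply hj
    rw [← hG]
    exact Ideal.mem_map_of_mem γ.toRingHom hmem
  have hl : LCI.IsLCI R (Localization.Away (γ G)) := by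
    rw [hG]; exact h j
  exact exists_of_away _ 𝔭 G hG𝔭 h𝔭 (claim h9 γ hγ G hl)

end claim

end Groth.Agent.Lib.Helper8.LCILocal
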