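import Mathlib
import Groth.Agent.Lib.Helper9.KoszulLoc
import Groth.Agent.Lib.Helper9.KoszulGen
import Groth.Agent.Lib.Helper8.LCILocal
import Groth.Agent.S9269
import Groth.Agent.Lib.Helper35.FlatQuotNak

/-!
# Fibrewise criterion for local complete intersections: basic tools (helper8)

The fibre local ring `S_q / 𝔪_p S_q` as a localization of the fibre ring, Koszul-regular ideals
in localizations at primes, Koszul-regularity of the kernel of a base-changed presentation,
lifting generators, a Nakayama lemma for ideals with flat quotient.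
-/

set_option autoImplicit false
set_option linter.style.haveILetI false
universe u

namespace Groth.Agent.Lib.Helper8.HD

open TensorProduct IsLocalRing


section FibLoc

variable {A S : Type u} [CommRing A] [CommRing S] [Algebra A S] (p : Ideal A) [p.IsPrime]
  (q : Ideal S) [q.IsPrime] [q.LiesOver p]

/-- the local homomorphism `A_p → S_q` -/
noncomputable def sig : Localization.AtPrime p →+* Localization.AtPrime q :=
  Localization.localRingHom p q (algebraMap A S) (q.over_def p)

theorem sig_comp :
    (sig p q).comp (algebraMap A (Localization.AtPrime p)) =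
      (algebraMap S (Localization.AtPrime q)).comp (algebraMap A S) := by
  ext a
  exact Localization.localRingHom_to_map p q (algebraMap A S) (q.over_def p) a

/-- the fibre local ring `S_q / 𝔪_p S_q` -/
abbrev FF : Type u := Localization.AtPrime q ⧸ (maximalIdeal (Localization.AtPrime p)).map (sig p q)

theorem map_sig_eq :
    (maximalIdeal (Localization.AtPrime p)).map (sig p q) =
      (p.map (algebraMap A S)).map (algebraMap S (Localization.AtPrime q)) := by
  rw [← IsLocalization.AtPrime.map_eq_maximalIdeal p (Localization.AtPrime p), Ideal.map_map,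
    Ideal.map_map, sig_comp]

theorem map_sig_le : (maximalIdeal (Localization.AtPrime p)).map (sig p q) ≤
    maximalIdeal (Localization.AtPrime q) := by
  rw [map_sig_eq, ← IsLocalization.AtPrime.map_eq_maximalIdeal q (Localization.AtPrime q)]
  apply Ideal.map_mono
  rw [Ideal.map_le_iff_le_comap]
  exact le_of_eq (q.over_def p)

instance : Nontrivial (FF p q) := by
  rw [Ideal.Quotient.nontrivial_iff]
  intro h
  have := map_sig_le p q
  rw [h] at this
  exact (maximalIdeal.isMaximal _).ne_top (top_le_iff.mp this)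

instance : IsLocalRing (FF p q) :=
  IsLocalRing.of_surjective' (Ideal.Quotient.mk _) Ideal.Quotient.mk_surjective

/-- the map from the residue field -/
noncomputable def kapHom : p.ResidueField →ₐ[A] FF p q :=
  Ideal.Quotient.liftₐ (maximalIdeal (Localization.AtPrime p))
    ({ toRingHom := (Ideal.Quotient.mk _).comp (sig p q)
       commutes' := fun a => by
        show (Ideal.Quotient.mk _) ((sig p q) (algebraMap A (Localization.AtPrime p) a)) = _
        have := RingHom.congr_fun (sig_comp p q) a
        simp only [RingHom.comp_apply] at this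
        rw [this]
        rfl } : Localization.AtPrime p →ₐ[A] FF p q)
    (fun a ha => by
      show (Ideal.Quotient.mk _) ((sig p q) a) = 0
      rw [Ideal.Quotient.eq_zero_iff_mem]
      exact Ideal.mem_map_of_mem _ ha)

/-- the map from the fibre ring to the fibre local ring -/
noncomputable def phi : p.Fiber S →ₐ[A] FF p q :=
  Algebra.TensorProduct.lift (kapHom p q)
    ((Ideal.Quotient.mkₐ A _).comp (IsScalarTower.toAlgHom A S (Localization.AtPrime q)))
    (fun _ _ => Commute.all _ _)

theorem phi_one_tmul (s : S) :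
    phi p q (1 ⊗ₜ s) = Ideal.Quotient.mk _ (algebraMap S (Localization.AtPrime q) s) := by
  simp [phi]

/-- the prime of the fibre ring -/
noncomputable def QQ : Ideal (p.Fiber S) := (maximalIdeal (FF p q)).comap (phi p q).toRingHom

instance : (QQ p q).IsPrime := Ideal.comap_isPrime _ _

theorem isUnit_mk_of_notMem (s : S) (hs : s ∉ q) :
    IsUnit (Ideal.Quotient.mk ((maximalIdeal (Localization.AtPrime p)).map (sig p q))
      (algebraMap S (Localization.AtPrime q) s)) :=
  (IsLocalization.map_units (Localization.AtPrime q) (⟨s, hs⟩ : q.primeCompl)).map _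

theorem one_tmul_notMem (s : S) (hs : s ∉ q) : (1 : p.ResidueField) ⊗ₜ[A] s ∉ QQ p q := by
  intro h
  have h1 : phi p q (1 ⊗ₜ s) ∈ maximalIdeal (FF p q) := h
  rw [phi_one_tmul] at h1
  exact h1 (isUnit_mk_of_notMem p q s hs)

theorem one_tmul_eq_zero (b : S) (hb : b ∈ p.map (algebraMap A S)) :
    (1 : p.ResidueField) ⊗ₜ[A] b = 0 := by
  refine Submodule.span_induction ?_ ?_ ?_ ?_ hb
  · rintro _ ⟨a, ha, rfl⟩
    rw [Algebra.algebraMap_eq_smul_one, ← TensorProduct.smul_tmul, Algebra.smul_def, mul_one]
    have : algebraMap A p.ResidueField a = 0 := by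
      rw [Ideal.algebraMap_residueField_eq_zero]
      exact ha
    rw [this, TensorProduct.zero_tmul]
  · exact TensorProduct.tmul_zero _ _
  · intro x y _ _ hx hy
    rw [TensorProduct.tmul_add, hx, hy, add_zero]
  · intro c x _ hx
    have : (1 : p.ResidueField) ⊗ₜ[A] (c • x) = ((1 : p.ResidueField) ⊗ₜ[A] c) * (1 ⊗ₜ x) := by
      rw [Algebra.TensorProduct.tmul_mul_tmul, one_mul, smul_eq_mul]
    rw [this, hx, mul_zero]

theorem phi_smul (r : A) (x : p.Fiber S) : phi p q (r • x) = r • phi p q x := map_smul _ _ _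

theorem isUnit_algebraMap_FF (r : A) (hr : r ∉ p) : IsUnit (algebraMap A (FF p q) r) := by
  have h1 : algebraMap A (FF p q) r = Ideal.Quotient.mk _
      (algebraMap S (Localization.AtPrime q) (algebraMap A S r)) := by
    rw [← IsScalarTower.algebraMap_apply A S (Localization.AtPrime q)]
    rfl
  rw [h1]
  apply isUnit_mk_of_notMem
  intro h
  apply hr
  rw [q.over_def p]
  exact h

/-- the fibre local ring is the localization of the fibre ring at the corresponding prime -/
theorem isLocalization_FF :
    letI := (phi p q).toRingHom.toAlgebra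
    IsLocalization.AtPrime (FF p q) (QQ p q) := by
  letI := (phi p q).toRingHom.toAlgebra
  have halg : ∀ x : p.Fiber S, algebraMap (p.Fiber S) (FF p q) x = phi p q x := fun _ => rfl
  show IsLocalization (QQ p q).primeCompl (FF p q)
  rw [isLocalization_iff]
  refine ⟨?_, ?_, ?_⟩
  · rintro ⟨y, hy⟩
    rw [halg]
    by_contra h
    exact hy h
  · intro z
    obtain ⟨w, rfl⟩ := Ideal.Quotient.mk_surjective z
    obtain ⟨⟨b, s⟩, hbs⟩ := IsLocalization.surj q.primeCompl w
    refine ⟨⟨1 ⊗ₜ b, ⟨1 ⊗ₜ (s : S), one_tmul_notMem p q s s.2⟩⟩, ?_⟩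
    simp only [halg, phi_one_tmul]
    rw [← map_mul, hbs]
  · intro x y hxy
    rw [halg, halg] at hxy
    have h0 : phi p q (x - y) = 0 := by rw [map_sub, hxy, sub_self]
    obtain ⟨r, hr, b, hb⟩ := Ideal.Fiber.exists_smul_eq_one_tmul p (x - y)
    have h1 : Ideal.Quotient.mk ((maximalIdeal (Localization.AtPrime p)).map (sig p q))
        (algebraMap S (Localization.AtPrime q) b) = 0 := by
      rw [← phi_one_tmul, ← hb, phi_smul, h0, smul_zero]
    rw [Ideal.Quotient.eq_zero_iff_mem, map_sig_eq,
      IsLocalization.mem_map_algebraMap_iff q.primeCompl] at h1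
    obtain ⟨⟨a, s⟩, has⟩ := h1
    obtain ⟨t, ht⟩ := (IsLocalization.eq_iff_exists q.primeCompl (Localization.AtPrime q)).1
      (show algebraMap S (Localization.AtPrime q) (b * s) = algebraMap S _ (a : S) by
        rw [map_mul]; exact has)
    have h2 : (t : S) * (s : S) * b ∈ p.map (algebraMap A S) := by
      have : (t : S) * (s : S) * b = t * (b * s) := by ring
      rw [this, ht]
      exact Ideal.mul_mem_left _ _ a.2
    have h3 := one_tmul_eq_zero p _ h2
    have hc : algebraMap A (p.Fiber S) r * (1 ⊗ₜ ((t : S) * (s : S))) ∉ QQ p q := by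
      intro h
      have h4 : phi p q (algebraMap A (p.Fiber S) r * (1 ⊗ₜ ((t : S) * (s : S)))) ∈
          maximalIdeal (FF p q) := h
      rw [map_mul, phi_one_tmul, AlgHom.commutes] at h4
      exact h4 ((isUnit_algebraMap_FF p q r hr).mul
        (isUnit_mk_of_notMem p q _ (q.primeCompl.mul_mem t.2 s.2)))
    refine ⟨⟨_, hc⟩, ?_⟩
    show algebraMap A (p.Fiber S) r * (1 ⊗ₜ ((t : S) * (s : S))) * x =
      algebraMap A (p.Fiber S) r * (1 ⊗ₜ ((t : S) * (s : S))) * y
    rw [← sub_eq_zero, ← mul_sub]
    have h5 : algebraMap A (p.Fiber S) r * (x - y) = 1 ⊗ₜ b := by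
      rw [← Algebra.smul_def]; exact hb
    calc algebraMap A (p.Fiber S) r * (1 ⊗ₜ ((t : S) * (s : S))) * (x - y)
        = (1 ⊗ₜ ((t : S) * (s : S))) * (algebraMap A (p.Fiber S) r * (x - y)) := by ring
      _ = (1 : p.ResidueField) ⊗ₜ[A] ((t : S) * (s : S) * b) := by
        rw [h5, Algebra.TensorProduct.tmul_mul_tmul, one_mul]
      _ = 0 := h3

end FibLoc



section C1

/-- a Koszul-regular ideal is generated by a Koszul-regular sequence in the localization at a
prime containing it -/
theorem exists_list_of_isKoszulRegularIdeal {R : Type u} [CommRing R] (J : Ideal R)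
    (hJ : LCI.IsKoszulRegularIdeal J) (Q : Ideal R) [Q.IsPrime] (hJQ : J ≤ Q)
    (F : Type u) [CommRing F] [Algebra R F] [IsLocalization.AtPrime F Q] :
    ∃ l : List F, LCI.IsKoszulRegularSeq F l ∧ J.map (algebraMap R F) = Ideal.ofList l := by
  obtain ⟨g, hg, l₀, hl₀, hspan⟩ := hJ ⟨Q, inferInstance⟩ hJQ
  have hgu : IsUnit (algebraMap R F g) :=
    IsLocalization.map_units F (⟨g, hg⟩ : Q.primeCompl)
  letI : Algebra (Localization.Away g) F := (IsLocalization.Away.lift g hgu).toAlgebra
  haveI : IsScalarTower R (Localization.Away g) F :=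
    IsScalarTower.of_algebraMap_eq (fun r => (IsLocalization.Away.lift_eq g hgu r).symm)
  have hle : Submonoid.powers g ≤ Q.primeCompl := by
    rintro _ ⟨n, rfl⟩
    exact Q.primeCompl.pow_mem hg n
  haveI : IsLocalization ((Q.primeCompl).map (algebraMap R (Localization.Away g))) F :=
    IsLocalization.isLocalization_of_submonoid_le (Localization.Away g) F
      (Submonoid.powers g) Q.primeCompl hle
  haveI : Module.Flat (Localization.Away g) F :=
    IsLocalization.flat F ((Q.primeCompl).map (algebraMap R (Localization.Away g)))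
  refine ⟨l₀.map (algebraMap (Localization.Away g) F),
    Groth.Agent.Lib.Helper9.KoszulLoc.isKoszulRegularSeq_map_of_flat F l₀ hl₀, ?_⟩
  rw [IsScalarTower.algebraMap_eq R (Localization.Away g) F, ← Ideal.map_map, hspan,
    ← Ideal.map_ofList]

end C1



section Fib

/-- if the base change of `B` is a local complete intersection, then the base change of the kernel
of any presentation is Koszul-regular -/
theorem isKoszulRegularIdeal_fibre {A B : Type u} [CommRing A] [CommRing B] [Algebra A B]
    (κ : Type u) [CommRing κ] [Algebra A κ] (n : ℕ) (f : MvPolynomial (Fin n) A →ₐ[A] B)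
    (hf : Function.Surjective f) (h : LCI.IsLCI κ (κ ⊗[A] B)) :
    LCI.IsKoszulRegularIdeal ((RingHom.ker f.toRingHom).map
      (Algebra.TensorProduct.includeRight (R := A) (A := κ) (B := MvPolynomial (Fin n) A))) := by
  obtain ⟨-, m, α, hα, hKα⟩ := h
  let g : κ ⊗[A] MvPolynomial (Fin n) A →ₐ[κ] κ ⊗[A] B :=
    Algebra.TensorProduct.map (AlgHom.id κ κ) f
  have hg : Function.Surjective g := by
    have : Function.Surjective (Algebra.TensorProduct.map (AlgHom.id A κ) f) :=
      LinearMap.lTensor_surjective κ hf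
    exact this
  have hkerg : RingHom.ker g.toRingHom =
      (RingHom.ker f.toRingHom).map
        (Algebra.TensorProduct.includeRight (R := A) (A := κ) (B := MvPolynomial (Fin n) A)) := by
    have := Algebra.TensorProduct.lTensor_ker (A := κ) f hf
    exact this
  let θ : κ ⊗[A] MvPolynomial (Fin n) A ≃ₐ[κ] MvPolynomial (Fin n) κ :=
    MvPolynomial.algebraTensorAlgEquiv A κ
  have hβ := Groth.Agent.S9269.result κ (κ ⊗[A] B) m n α hα (g.comp θ.symm.toAlgHom)
    (hg.comp θ.symm.surjective) hKα
  have h2 : (g.comp θ.symm.toAlgHom).toRingHom =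
      g.toRingHom.comp (θ.symm.toRingEquiv : _ →+* _) := rfl
  rw [h2, ← RingHom.comap_ker, hkerg] at hβ
  have h1 := Groth.Agent.Lib.Helper8.LCILocal.isKoszulRegularIdeal_map_ringEquiv
    θ.symm.toRingEquiv _ hβ
  have h3 : Ideal.map (θ.symm.toRingEquiv : MvPolynomial (Fin n) κ →+* κ ⊗[A] MvPolynomial (Fin n) A)
      (Ideal.comap (θ.symm.toRingEquiv : MvPolynomial (Fin n) κ →+* κ ⊗[A] MvPolynomial (Fin n) A)
      ((RingHom.ker f.toRingHom).map
        (Algebra.TensorProduct.includeRight (R := A) (A := κ) (B := MvPolynomial (Fin n) A)))) =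
      ((RingHom.ker f.toRingHom).map
        (Algebra.TensorProduct.includeRight (R := A) (A := κ) (B := MvPolynomial (Fin n) A))) :=
    Ideal.map_comap_of_surjective _ θ.symm.toRingEquiv.surjective _
  rw [h3] at h1
  exact h1

end Fib



section Small

/-- lifting generators up to units -/
theorem lift_list {P F : Type*} [CommRing P] [CommRing F] (ψ : P →+* F) (I : Ideal P)
    (hyp : ∀ y ∈ I.map ψ, ∃ i ∈ I, ∃ u : F, IsUnit u ∧ ψ i = y * u) :
    ∀ (l' : List F), (∀ y ∈ l', y ∈ I.map ψ) →
      ∃ f : List P, f.length = l'.length ∧ (∀ x ∈ f, x ∈ I) ∧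
        Ideal.ofList (f.map ψ) = Ideal.ofList l' := by
  intro l'
  induction l' with
  | nil =>
    intro _
    exact ⟨[], rfl, by simp, rfl⟩
  | cons y t ih =>
    intro h
    obtain ⟨ft, hlen, hmem, hspan⟩ := ih (fun z hz => h z (by simp [hz]))
    obtain ⟨i, hi, u, hu, hiu⟩ := hyp y (h y (by simp))
    refine ⟨i :: ft, by simp [hlen], ?_, ?_⟩
    · intro x hx
      rcases List.mem_cons.1 hx with rfl | hx
      · exact hi
      · exact hmem x hx
    · rw [List.map_cons, Ideal.ofList_cons, Ideal.ofList_cons, hspan, hiu,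
        Ideal.span_singleton_mul_right_unit hu]

/-- Nakayama for ideals with flat quotient -/
theorem eq_of_le_sup {Λ O : Type*} [CommRing Λ] [CommRing O] [IsLocalRing O]
    [Algebra Λ O] (𝔭 : Ideal Λ) (h𝔭 : 𝔭.map (algebraMap Λ O) ≤ maximalIdeal O)
    (J : Ideal O) (hJ : J.FG) [Module.Flat Λ (O ⧸ J)] (N : Ideal O) (hN : N ≤ J)
    (h : J ≤ N ⊔ 𝔭.map (algebraMap Λ O)) : J = N := by
  refine le_antisymm ?_ hN
  refine Submodule.le_of_le_smul_of_le_jacobson_bot (I := IsLocalRing.maximalIdeal O) hJ
    (IsLocalRing.maximalIdeal_le_jacobson ⊥) ?_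
  intro y hy
  obtain ⟨a, ha, z, hz, rfl⟩ := Submodule.mem_sup.1 (h hy)
  have hzJ : z ∈ J := by
    have : z = (a + z) - a := by ring
    rw [this]
    exact J.sub_mem hy (hN ha)
  have hz2 := Groth.Agent.Lib.Helper35.FlatQuotNak.mem_mul_of_mem_inf 𝔭 J z hzJ hz
  refine Submodule.add_mem_sup ha ?_
  rw [smul_eq_mul]
  exact Ideal.mul_mono_left h𝔭 hz2

end Small

end Groth.Agent.Lib.Helper8.HD
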