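import Groth.Agent.Lib.Helper8.NLCompare
import Groth.Agent.Lib.Helper22.KoszulH1
import Groth.Agent.Lib.Helper9.QRegLocalA
import Groth.Agent.S2103

/-!
# The naive cotangent complex of an lci ring map (helper8)

For `f : A[x_1..x_n] → B` surjective with Koszul-regular kernel, `NL_{B/A}` is isomorphic in `D(B)`
to the two-term complex `I/I² → B ⊗ Ω` of finite projective modules.
-/

set_option autoImplicit false
set_option linter.style.haveILetI false
universe u

namespace Groth.Agent.Lib.Helper8.NLPerfect

open CategoryTheory CategoryTheory.Limits Algebra NLCompare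

attribute [local instance] HasDerivedCategory.standard

theorem range_get' {R : Type u} (l : List R) : Set.range l.get = {x | x ∈ l} := by
  ext x
  simp only [Set.mem_range, Set.mem_ofPred_eq, List.mem_iff_get]

/-- Koszul-regular ideals are locally quasi-regular -/
theorem isLocallyQuasiRegular_of_isKoszulRegularIdeal {R : Type u} [CommRing R] (J : Ideal R)
    (h : LCI.IsKoszulRegularIdeal J) : PP16.IsLocallyQuasiRegular R J := by
  intro P _ hJP
  obtain ⟨g, hg, l, hl, hmap⟩ := h ⟨P, inferInstance⟩ hJP
  refine ⟨g, hg, l.length, l.get, ?_, ?_⟩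
  · exact Groth.Agent.S2103.result _
      (Groth.Agent.Lib.Helper22.KoszulH1.isH1Regular_of_isKoszulRegularSeq l hl)
  · rw [range_get', hmap]

variable {A B : Type u} [CommRing A] [CommRing B] [Algebra A B]

attribute [local instance] RingHomInvPair.of_ringEquiv in
/-- projectivity of the conormal module over the quotient transfers to the extension -/
theorem projective_cotangent (P : Extension.{u} A B)
    [Module.Projective (P.Ring ⧸ P.ker) P.ker.Cotangent] : Module.Projective B P.Cotangent := by
  let σ : (P.Ring ⧸ P.ker) ≃+* B :=
    RingHom.quotientKerEquivOfSurjective (f := algebraMap P.Ring B) P.algebraMap_surjective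
  let e : P.ker.Cotangent ≃ₛₗ[(σ : (P.Ring ⧸ P.ker) →+* B)] P.Cotangent :=
    { toFun := Extension.Cotangent.of
      invFun := Extension.Cotangent.val
      left_inv := fun _ => rfl
      right_inv := fun _ => rfl
      map_add' := fun _ _ => rfl
      map_smul' := fun r x => by
        obtain ⟨r, rfl⟩ := Ideal.Quotient.mk_surjective r
        apply Extension.Cotangent.ext
        have h1 : σ (Ideal.Quotient.mk P.ker r) = algebraMap P.Ring B r := rfl
        show (Extension.Cotangent.of ((Ideal.Quotient.mk P.ker r) • x)).val =
          ((σ (Ideal.Quotient.mk P.ker r)) • Extension.Cotangent.of x).val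
        rw [h1, algebraMap_smul, Extension.Cotangent.val_smul']
        rfl }
  exact Module.Projective.of_equiv e

/-- the main statement at the level of an extension -/
theorem main (P : Extension.{u} A B) (hK : LCI.IsKoszulRegularIdeal P.ker)
    [Module.Finite B P.CotangentSpace] [Module.Projective B P.CotangentSpace]
    (ψ : P.Hom (Generators.self A B).toExtension) :
    DRing.IsPerfect B (LCI.NL A B) ∧ DRing.HasTorAmplitudeIn B (-1) 0 (LCI.NL A B) := by
  have hq := isLocallyQuasiRegular_of_isKoszulRegularIdeal P.ker hK
  haveI : Module.Projective (P.Ring ⧸ P.ker) P.ker.Cotangent :=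
    Groth.Agent.Lib.Helper9.QRegLocalA.projective_of_locallyQuasiRegular P.ker hq
  haveI : Module.Projective B P.Cotangent := projective_cotangent P
  haveI : Module.Finite B P.Cotangent :=
    Extension.Cotangent.finite (Groth.Agent.Lib.Helper9.QRegLocalA.fg_of_locallyQuasiRegular P.ker hq)
  have e : DRing.toD (nlCx P) ≅ LCI.NL A B := (nlIso (Extension.defaultHom A B P) ψ).symm
  have hv : DRing.VanishesOutside (nlCx P) (-1) 0 := by
    intro i hi
    exact HomologicalComplex.isZero_double_X _ _ i (by omega) (by omega)
  have hterm : ∀ i : ℤ, Module.Finite B ((nlCx P).X i) ∧ Module.Projective B ((nlCx P).X i) := by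
    intro i
    by_cases h0 : i = -1
    · subst h0
      let e0 := (HomologicalComplex.doubleXIso₀ (ModuleCat.ofHom P.cotangentComplex) rel).toLinearEquiv
      exact ⟨Module.Finite.equiv e0.symm, Module.Projective.of_equiv' e0.symm⟩
    · by_cases h1 : i = 0
      · subst h1
        let e1 := (HomologicalComplex.doubleXIso₁ (ModuleCat.ofHom P.cotangentComplex) rel ne).toLinearEquiv
        exact ⟨Module.Finite.equiv e1.symm, Module.Projective.of_equiv' e1.symm⟩
      · have hz := HomologicalComplex.isZero_double_X (ModuleCat.ofHom P.cotangentComplex) rel i h0 h1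
        haveI : Subsingleton ((nlCx P).X i) := ModuleCat.subsingleton_of_isZero hz
        exact ⟨inferInstance, inferInstance⟩
  refine ⟨⟨nlCx P, -1, 0, hv, hterm, ⟨e⟩⟩, ⟨nlCx P, hv, fun i => ?_, ⟨e⟩⟩⟩
  haveI := (hterm i).2
  infer_instance

end Groth.Agent.Lib.Helper8.NLPerfect
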