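import Groth.Agent.S9142
import Groth.Agent.S5807
import Groth.Agent.Lib.Helper9.KoszulLoc
import Groth.Agent.Lib.Helper9.KoszulIndep
import Groth.Agent.Lib.Helper8.NLPerfect
import Groth.Agent.Lib.Helper77.QuasiRegReg
import Groth.Agent.Lib.Helper29.CMRing

/-!
# A local complete intersection over a field is Cohen–Macaulay; vanishing of `H¹(L)` for
generically smooth local complete intersections over a field (helper8)
-/

set_option autoImplicit false
set_option linter.style.haveILetI false
universe u

namespace Groth.Agent.Lib.Helper8.LCICM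

open RingTheory.Sequence

/-- a Koszul-regular list inside the Jacobson radical of a Noetherian ring is weakly regular -/
theorem isWeaklyRegular_of_isKoszulRegularSeq {R : Type u} [CommRing R] [IsNoetherianRing R]
    (l : List R) (hl : LCI.IsKoszulRegularSeq R l)
    (hjac : ∀ x ∈ l, x ∈ (⊥ : Ideal R).jacobson) : IsWeaklyRegular R l := by
  have h1 := Groth.Agent.Lib.Helper22.KoszulH1.isH1Regular_of_isKoszulRegularSeq l hl
  have h2 := Groth.Agent.S2103.result _ h1
  have h3 := Groth.Agent.Lib.Helper77.QuasiReg.isWeaklyRegular_of_isQuasiRegular l.length R l.get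
    (fun i => hjac _ (List.get_mem _ _)) h2
  rwa [List.ofFn_get] at h3

/-- quotient of a Cohen–Macaulay ring by an ideal generated by a Koszul-regular list -/
theorem isCM_at_of_koszul {P : Type u} [CommRing P] (hP : LocCoh.IsCohenMacaulayRing P)
    (l : List P) (hl : LCI.IsKoszulRegularSeq P l) (Q : Ideal P) [Q.IsPrime]
    (hlQ : Ideal.ofList l ≤ Q) [(Q.map (Ideal.Quotient.mk (Ideal.ofList l))).IsPrime] :
    LocCoh.IsCohenMacaulayLocalRing
      (Localization.AtPrime (Q.map (Ideal.Quotient.mk (Ideal.ofList l)))) := by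
  haveI : IsNoetherianRing P := hP.toIsNoetherian
  haveI : IsNoetherianRing (Localization.AtPrime Q) :=
    IsLocalization.isNoetherianRing Q.primeCompl _ inferInstance
  have hK : LCI.IsKoszulRegularSeq (Localization.AtPrime Q)
      (l.map (algebraMap P (Localization.AtPrime Q))) :=
    Groth.Agent.Lib.Helper9.KoszulLoc.isKoszulRegularSeq_map_of_flat _ l hl
  refine Groth.Agent.S9142.isCM_of_regular Q (hP.isCohenMacaulayLocalRing_localization Q) l hlQ ?_
  refine isWeaklyRegular_of_isKoszulRegularSeq _ hK ?_
  intro x hx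
  obtain ⟨y, hy, rfl⟩ := List.mem_map.1 hx
  rw [IsLocalRing.jacobson_eq_maximalIdeal _ bot_ne_top,
    IsLocalization.AtPrime.to_map_mem_maximal_iff (Localization.AtPrime Q) Q]
  exact hlQ (Ideal.subset_span hy)

/-- a local complete intersection over a field is Cohen–Macaulay -/
theorem isCohenMacaulayRing_of_isLCI (k : Type u) [Field k] (A : Type u) [CommRing A] [Algebra k A]
    (h : LCI.IsLCI k A) : LocCoh.IsCohenMacaulayRing A := by
  obtain ⟨hft, n, f, hsurj, hK⟩ := h
  haveI := hft
  haveI : IsNoetherianRing A := Algebra.FiniteType.isNoetherianRing k A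
  refine ⟨fun p hp => ?_⟩
  obtain ⟨π, hπ⟩ : ∃ π : MvPolynomial (Fin n) k →+* A, π = f.toRingHom := ⟨_, rfl⟩
  rw [← hπ] at hK
  have hπsurj : Function.Surjective π := by rw [hπ]; exact hsurj
  haveI : (p.comap π).IsPrime := Ideal.comap_isPrime _ _
  have hI𝔭 : RingHom.ker π ≤ p.comap π := by
    intro x hx
    rw [Ideal.mem_comap, (RingHom.mem_ker).1 hx]
    exact zero_mem _
  obtain ⟨g, hg, l, hl, hmap⟩ := hK ⟨p.comap π, inferInstance⟩ hI𝔭
  have hg' : π g ∉ p := hg
  have hdisj : Disjoint (Submonoid.powers (π g) : Set A) (p : Set A) := by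
    rw [Set.disjoint_left]
    rintro x ⟨m, rfl⟩ hx
    exact hg' (hp.mem_of_pow_mem m hx)
  have hp'prime := IsLocalization.isPrime_of_isPrime_disjoint (Submonoid.powers (π g))
    (Localization.Away (π g)) p hp hdisj
  have hcomap := IsLocalization.under_map_of_isPrime_disjoint (Submonoid.powers (π g))
    (Localization.Away (π g)) hp hdisj
  obtain ⟨p', hp', hpp'⟩ : ∃ p' : Ideal (Localization.Away (π g)), p'.IsPrime ∧
      p'.comap (algebraMap A (Localization.Away (π g))) = p := ⟨_, hp'prime, hcomap⟩
  subst hpp'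
  haveI := hp'
  refine Groth.Agent.Lib.Helper49.StalkLoc.isCohenMacaulayLocalRing_of_ringEquiv
    (IsLocalization.localizationLocalizationAtPrimeIsoLocalization (Submonoid.powers (π g))
      p').toRingEquiv.symm ?_
  -- the localized polynomial ring is Cohen–Macaulay
  haveI : IsRegularRing (MvPolynomial (Fin n) k) := inferInstance
  haveI : IsRegularRing (Localization.Away g) :=
    Groth.Agent.S5807.isRegularRing_localization _ (Submonoid.powers g)
  have hPCM : LocCoh.IsCohenMacaulayRing (Localization.Away g) :=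
    Groth.Agent.S18865.isCohenMacaulayRing_of_isRegularRing _
  -- the presentation of the localization
  set φ : Localization.Away g →+* Localization.Away (π g) := Localization.awayMap π g with hφ
  have hφsurj : Function.Surjective φ :=
    Groth.Agent.Lib.Helper9.KoszulIndep.awayMap_surjective π hπsurj g
  have hI : RingHom.ker φ = Ideal.ofList l := by
    rw [hφ, Groth.Agent.Lib.Helper9.KoszulIndep.ker_awayMap, hmap]
  let e : (Localization.Away g ⧸ RingHom.ker φ) ≃+* Localization.Away (π g) :=
    RingHom.quotientKerEquivOfSurjective hφsurj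
  obtain ⟨Q, hQ⟩ : ∃ Q : Ideal (Localization.Away g), Q = p'.comap φ := ⟨_, rfl⟩
  haveI hQprime : Q.IsPrime := by rw [hQ]; exact Ideal.comap_isPrime _ _
  have hlQ : Ideal.ofList l ≤ Q := by
    rw [← hI, hQ]
    intro x hx
    rw [Ideal.mem_comap, (RingHom.mem_ker).1 hx]
    exact zero_mem _
  haveI hQI : (Q.map (Ideal.Quotient.mk (Ideal.ofList l))).IsPrime :=
    Groth.Agent.Lib.Helper28.CMAux.isPrime_map_mk Q _ hlQ
  have hCM1 := isCM_at_of_koszul hPCM l hl Q hlQ
  let e' : (Localization.Away g ⧸ Ideal.ofList l) ≃+* Localization.Away (π g) :=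
    (Ideal.quotEquivOfEq hI.symm).trans e
  have he' : ∀ y : Localization.Away g, e' (Ideal.Quotient.mk _ y) = φ y := by
    intro y
    show RingHom.quotientKerEquivOfSurjective hφsurj
      (Ideal.quotEquivOfEq hI.symm (Ideal.Quotient.mk _ y)) = φ y
    rw [Ideal.quotEquivOfEq_mk]
    exact RingHom.quotientKerEquivOfSurjective_apply_mk hφsurj y
  have hEq : Q.map (Ideal.Quotient.mk (Ideal.ofList l)) =
      p'.comap (e' : (Localization.Away g ⧸ Ideal.ofList l) →+* Localization.Away (π g)) := by
    ext x
    obtain ⟨y, rfl⟩ := Ideal.Quotient.mk_surjective x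
    rw [Ideal.mem_quotient_iff_mem hlQ, Ideal.mem_comap, hQ, Ideal.mem_comap]
    show φ y ∈ p' ↔ e' (Ideal.Quotient.mk _ y) ∈ p'
    rw [he']
  have hCM2 : LocCoh.IsCohenMacaulayLocalRing (Localization.AtPrime
      (p'.comap (e' : (Localization.Away g ⧸ Ideal.ofList l) →+* Localization.Away (π g)))) :=
    Groth.Agent.S9142.cm_congr _ _ hEq hCM1
  exact Groth.Agent.Lib.Helper49.StalkLoc.isCohenMacaulayLocalRing_of_ringEquiv
    (Groth.Agent.S9142.locEquiv e' p') hCM2



/-- in a Cohen–Macaulay ring every associated prime is minimal -/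
theorem mem_minimalPrimes_of_mem_associatedPrimes {R : Type u} [CommRing R]
    (hR : LocCoh.IsCohenMacaulayRing R) {q : Ideal R} (hq : q ∈ associatedPrimes R R) :
    q ∈ minimalPrimes R := by
  haveI : IsNoetherianRing R := hR.toIsNoetherian
  haveI hqp : q.IsPrime := hq.isPrime
  have hbot : (Ideal.ofList ([] : List R) • (⊤ : Submodule R R)) = ⊥ := by
    rw [Ideal.ofList_nil, Submodule.bot_smul]
  let e : (R ⧸ (Ideal.ofList ([] : List R) • (⊤ : Submodule R R))) ≃ₗ[R] R :=
    Submodule.quotEquivOfEqBot _ hbot
  have hq' : q ∈ associatedPrimes R (R ⧸ (Ideal.ofList ([] : List R) • (⊤ : Submodule R R))) := by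
    rw [LinearEquiv.AssociatedPrimes.eq e]
    exact hq
  have h := Groth.Agent.Lib.Helper29.CMRing.height_eq_length_of_mem_ass R
    (hR.isCohenMacaulayLocalRing_localization q) (IsWeaklyRegular.nil R R) (by simp) hq'
  rw [List.length_nil, Nat.cast_zero] at h
  exact Ideal.height_eq_zero_iff.1 h


/-- over a Noetherian ring without embedded primes, a submodule of a flat module which vanishes
at all minimal primes is zero -/
theorem subsingleton_of_support {A : Type u} [CommRing A] [IsNoetherianRing A]
    (hAss : ∀ q ∈ associatedPrimes A A, q ∈ minimalPrimes A)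
    {M N : Type*} [AddCommGroup M] [Module A M] [Module.Flat A M] [AddCommGroup N] [Module A N]
    (ι : N →ₗ[A] M) (hι : Function.Injective ι)
    (hsupp : ∀ (p : PrimeSpectrum A), p.asIdeal ∈ minimalPrimes A → p ∉ Module.support A N) :
    Subsingleton N := by
  suffices h0 : ∀ x : N, x = 0 from ⟨fun x y => (h0 x).trans (h0 y).symm⟩
  intro x
  let I : Ideal A := LinearMap.ker (LinearMap.toSpanSingleton A N x)
  have hfin : (minimalPrimes A).Finite := minimalPrimes.finite_of_isNoetherianRing A
  have hnot : ¬ ((I : Set A) ⊆ ⋃ p ∈ (hfin.toFinset : Set (Ideal A)), (p : Set A)) := by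
    rw [Ideal.subset_union_prime (f := fun p : Ideal A => p) ⊥ ⊥
      (fun p hp _ _ => (hfin.mem_toFinset.1 hp).1.1)]
    rintro ⟨p, hp, hIp⟩
    have hp' := hfin.mem_toFinset.1 hp
    haveI := hp'.1.1
    have h1 := hsupp ⟨p, inferInstance⟩ hp'
    rw [Module.notMem_support_iff'] at h1
    obtain ⟨r, hr, hrx⟩ := h1 x
    exact hr (hIp (by simpa [I] using hrx))
  obtain ⟨s, hsI, hs⟩ := Set.not_subset.1 hnot
  have hsreg : s ∈ nonZeroDivisors A := by
    by_contra h
    have h2 : s ∈ ⋃ p ∈ associatedPrimes A A, (p : Set A) := by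
      rw [biUnion_associatedPrimes_eq_compl_nonZeroDivisors]
      exact h
    obtain ⟨q, hq, hsq⟩ := Set.mem_iUnion₂.1 h2
    apply hs
    exact Set.mem_iUnion₂.2 ⟨q, hfin.mem_toFinset.2 (hAss q hq), hsq⟩
  have hM := Module.Flat.isSMulRegular_of_nonZeroDivisors (M := M) hsreg
  apply hι
  apply hM
  have hsx : s • x = 0 := by simpa [I] using hsI
  show s • ι x = s • ι 0
  rw [← map_smul, hsx, map_zero, smul_zero]


/-- vanishing of `H¹` of the naive cotangent complex of a generically smooth local complete
intersection over a field -/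
theorem subsingleton_h1Cotangent (k : Type u) [Field k]
    (A : Type u) [CommRing A] [Algebra k A] (hlci : LCI.IsLCI k A)
    (hgs : ∀ (p : Ideal A) [p.IsPrime], p ∈ minimalPrimes A →
      Algebra.FormallySmooth k (Localization.AtPrime p)) :
    Subsingleton (Algebra.H1Cotangent k A) := by
  have hCM := isCohenMacaulayRing_of_isLCI k A hlci
  obtain ⟨hft, n, f, hsurj, hI⟩ := hlci
  haveI := hft
  haveI : IsNoetherianRing A := hCM.toIsNoetherian
  let P : Algebra.Extension.{u} k A := Algebra.Extension.ofSurjective f hsurj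
  have hK : LCI.IsKoszulRegularIdeal P.ker := hI
  let ψ : P.Hom (Algebra.Generators.self k A).toExtension :=
    Algebra.Extension.Hom.ofAlgHom
      (MvPolynomial.aeval (fun i : Fin n => (MvPolynomial.X (f (MvPolynomial.X i)) : MvPolynomial A k)))
      (by
        apply MvPolynomial.algHom_ext
        intro i
        show algebraMap (Algebra.Generators.self k A).toExtension.Ring A
            (MvPolynomial.aeval (fun i : Fin n => (MvPolynomial.X (f (MvPolynomial.X i)) :
              MvPolynomial A k)) (MvPolynomial.X i)) =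
          f (MvPolynomial.X i)
        have h1 : (MvPolynomial.aeval (fun i : Fin n => (MvPolynomial.X (f (MvPolynomial.X i)) :
            MvPolynomial A k))) (MvPolynomial.X i : MvPolynomial (Fin n) k) =
            (MvPolynomial.X (f (MvPolynomial.X i)) : MvPolynomial A k) :=
          MvPolynomial.aeval_X _ _
        have h2 : algebraMap (Algebra.Generators.self k A).toExtension.Ring A
            (MvPolynomial.X (R := k) (f (MvPolynomial.X i))) = f (MvPolynomial.X i) := by
          have := (Algebra.Generators.self k A).algebraMap_apply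
            (MvPolynomial.X (R := k) (f (MvPolynomial.X i)))
          rw [MvPolynomial.aeval_X] at this
          exact this
        exact (congrArg _ h1).trans h2)
  have hq := Groth.Agent.Lib.Helper8.NLPerfect.isLocallyQuasiRegular_of_isKoszulRegularIdeal P.ker hK
  haveI : Module.Projective (P.Ring ⧸ P.ker) P.ker.Cotangent :=
    Groth.Agent.Lib.Helper9.QRegLocalA.projective_of_locallyQuasiRegular P.ker hq
  haveI : Module.Projective A P.Cotangent := Groth.Agent.Lib.Helper8.NLPerfect.projective_cotangent P
  let e : Algebra.H1Cotangent k A ≃ₗ[A] P.H1Cotangent :=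
    Algebra.Extension.H1Cotangent.equiv (Algebra.Extension.defaultHom k A P) ψ
  refine subsingleton_of_support
    (fun q hq => mem_minimalPrimes_of_mem_associatedPrimes hCM hq) (M := P.Cotangent)
    ((LinearMap.ker P.cotangentComplex).subtype ∘ₗ e.toLinearMap) ?_ ?_
  · exact (Submodule.injective_subtype _).comp e.injective
  · intro p hp
    haveI := hgs p.asIdeal hp
    have h1 : p ∈ Algebra.smoothLocus k A := hgs p.asIdeal hp
    rw [Algebra.smoothLocus_eq_compl_support_inter] at h1
    exact h1.1

end Groth.Agent.Lib.Helper8.LCICM
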