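import Mathlib
import Groth.Agent.Lib.Helper8.HDBase
import Groth.Agent.Lib.Helper8.LCICM
import Groth.Agent.Lib.Helper35.RegSlice8
import Groth.Agent.Lib.Helper54.FlatOpenA
import Groth.Agent.Lib.Helper9.KoszulIndep
import Groth.Agent.S15821

/-!
# Fibrewise criterion for local complete intersections (helper8)

`isLCI_of_fibres`: a flat finitely presented `A`-algebra `B` (`A` arbitrary) all of whose fibre
rings are local complete intersections over the residue fields is a local complete intersection
over `A`.  `local_main`: the local form, producing a regular sequence of elements of the kernel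
with flat partial quotients on a basic open neighbourhood.
-/

set_option autoImplicit false
set_option linter.style.haveILetI false
set_option maxHeartbeats 400000
universe u

namespace Groth.Agent.Lib.Helper8.HD

open TensorProduct IsLocalRing RingTheory.Sequence

section Main

variable {A : Type u} [CommRing A] (n : ℕ)

local notation "P" => MvPolynomial (Fin n) A

/-- first half: a list of elements of `I` which is a regular sequence in the fibre local ring and
generates the image of `I` there -/
theorem exists_list_fibre (I : Ideal P) (p : Ideal A) [p.IsPrime] (𝔮 : Ideal P) [𝔮.IsPrime]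
    [𝔮.LiesOver p] (hI𝔮 : I ≤ 𝔮)
    (hfib : LCI.IsKoszulRegularIdeal (I.map
      (Algebra.TensorProduct.includeRight (R := A) (A := p.ResidueField) (B := P)))) :
    ∃ f : List P, (∀ x ∈ f, x ∈ I) ∧
      IsWeaklyRegular (FF p 𝔮) (f.map (algebraMap P (Localization.AtPrime 𝔮))) ∧
      I.map ((Ideal.Quotient.mk ((maximalIdeal (Localization.AtPrime p)).map (sig p 𝔮))).comp
          (algebraMap P (Localization.AtPrime 𝔮))) =
        Ideal.ofList (f.map ((Ideal.Quotient.mk
          ((maximalIdeal (Localization.AtPrime p)).map (sig p 𝔮))).comp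
          (algebraMap P (Localization.AtPrime 𝔮)))) := by
  letI alg : Algebra (p.Fiber P) (FF p 𝔮) := (phi p 𝔮).toRingHom.toAlgebra
  haveI hloc : IsLocalization.AtPrime (FF p 𝔮) (QQ p 𝔮) := isLocalization_FF p 𝔮
  set ψ : P →+* FF p 𝔮 := (Ideal.Quotient.mk ((maximalIdeal (Localization.AtPrime p)).map
    (sig p 𝔮))).comp (algebraMap P (Localization.AtPrime 𝔮)) with hψ
  have hψmem : ∀ i ∈ 𝔮, ψ i ∈ maximalIdeal (FF p 𝔮) := by
    intro i hi
    have h1 : algebraMap P (Localization.AtPrime 𝔮) i ∈ maximalIdeal (Localization.AtPrime 𝔮) := by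
      rw [← IsLocalization.AtPrime.map_eq_maximalIdeal 𝔮 (Localization.AtPrime 𝔮)]
      exact Ideal.mem_map_of_mem _ hi
    intro hu
    have hu' : IsUnit ((Ideal.Quotient.mk ((maximalIdeal (Localization.AtPrime p)).map
        (sig p 𝔮))) (algebraMap P (Localization.AtPrime 𝔮) i)) := hu
    haveI : IsLocalHom (Ideal.Quotient.mk ((maximalIdeal (Localization.AtPrime p)).map
        (sig p 𝔮))) := IsLocalHom.of_surjective _ Ideal.Quotient.mk_surjective
    exact h1 (isUnit_of_map_unit _ _ hu')
  set J : Ideal (p.Fiber P) := I.map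
      (Algebra.TensorProduct.includeRight (R := A) (A := p.ResidueField) (B := P)) with hJ
  have hcomp : (algebraMap (p.Fiber P) (FF p 𝔮)).comp
      (Algebra.TensorProduct.includeRight (R := A) (A := p.ResidueField) (B := P)).toRingHom = ψ := by
    refine RingHom.ext fun x => ?_
    exact phi_one_tmul p 𝔮 x
  have hJQ : J ≤ QQ p 𝔮 := by
    rw [hJ, Ideal.map_le_iff_le_comap]
    intro i hi
    show phi p 𝔮 (1 ⊗ₜ i) ∈ maximalIdeal (FF p 𝔮)
    rw [phi_one_tmul]
    exact hψmem i (hI𝔮 hi)
  obtain ⟨l', hl'K, hl'J⟩ := exists_list_of_isKoszulRegularIdeal J hfib (QQ p 𝔮) hJQ (FF p 𝔮)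
  have hJψ : J.map (algebraMap (p.Fiber P) (FF p 𝔮)) = I.map ψ := by
    rw [hJ]
    have := Ideal.map_map (I := I)
      (Algebra.TensorProduct.includeRight (R := A) (A := p.ResidueField) (B := P)).toRingHom
      (algebraMap (p.Fiber P) (FF p 𝔮))
    rw [hcomp] at this
    exact this
  rw [hJψ] at hl'J
  -- lifting
  have hyp : ∀ y ∈ I.map ψ, ∃ i ∈ I, ∃ u : FF p 𝔮, IsUnit u ∧ ψ i = y * u := by
    intro y hy
    rw [hψ, ← Ideal.map_map] at hy
    obtain ⟨w, hw, rfl⟩ := (Ideal.mem_map_iff_of_surjective _ Ideal.Quotient.mk_surjective).1 hy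
    obtain ⟨⟨i, s⟩, his⟩ := (IsLocalization.mem_map_algebraMap_iff 𝔮.primeCompl
      (Localization.AtPrime 𝔮)).1 hw
    refine ⟨i, i.2, _, isUnit_mk_of_notMem p 𝔮 (s : P) s.2, ?_⟩
    show Ideal.Quotient.mk _ (algebraMap P (Localization.AtPrime 𝔮) i) = _
    rw [← map_mul, his]
  obtain ⟨f, hlen, hfI, hfspan⟩ := lift_list ψ I hyp l' (by
    intro y hy
    rw [hl'J]
    exact Ideal.subset_span hy)
  refine ⟨f, hfI, ?_, ?_⟩
  · have hK : LCI.IsKoszulRegularSeq (FF p 𝔮) (f.map ψ) :=
      Groth.Agent.Lib.Helper9.KoszulGen.isKoszulRegularSeq_of_length_eq l' (f.map ψ) hl'K rfl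
        hfspan (by rw [List.length_map, hlen])
    haveI : IsNoetherianRing (p.Fiber P) :=
      isNoetherianRing_of_ringEquiv _
        (MvPolynomial.algebraTensorAlgEquiv (σ := Fin n) A p.ResidueField).symm.toRingEquiv
    haveI : IsNoetherianRing (FF p 𝔮) :=
      IsLocalization.isNoetherianRing (QQ p 𝔮).primeCompl (FF p 𝔮) inferInstance
    have hW := Groth.Agent.Lib.Helper8.LCICM.isWeaklyRegular_of_isKoszulRegularSeq (f.map ψ) hK (by
      intro x hx
      rw [IsLocalRing.jacobson_eq_maximalIdeal ⊥ bot_ne_top]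
      obtain ⟨i, hi, rfl⟩ := List.mem_map.1 hx
      exact hψmem i (hI𝔮 (hfI i hi)))
    have h2 : f.map ψ = (f.map (algebraMap P (Localization.AtPrime 𝔮))).map
        (algebraMap (Localization.AtPrime 𝔮) (FF p 𝔮)) := by
      rw [List.map_map]
      rfl
    rw [h2] at hW
    exact (isWeaklyRegular_map_algebraMap_iff (FF p 𝔮) (FF p 𝔮) _).1 hW
  · rw [hfspan, hl'J]

/-- the local statement: around a prime of the polynomial ring at which the fibre ideal is
Koszul-regular, the ideal `I` (with `P/I` flat) is generated by a regular sequence of elements of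
`I`, with flat partial quotients -/
theorem local_main (I : Ideal P) (hIfg : I.FG) [Module.Flat A (P ⧸ I)]
    (p : Ideal A) [p.IsPrime] (𝔮 : Ideal P) [𝔮.IsPrime] [𝔮.LiesOver p] (hI𝔮 : I ≤ 𝔮)
    (hfib : LCI.IsKoszulRegularIdeal (I.map
      (Algebra.TensorProduct.includeRight (R := A) (A := p.ResidueField) (B := P)))) :
    ∃ (f : List P) (g : P), g ∉ 𝔮 ∧ (∀ x ∈ f, x ∈ I) ∧
      IsWeaklyRegular (Localization.Away g) (f.map (algebraMap P (Localization.Away g))) ∧
      I.map (algebraMap P (Localization.Away g)) =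
        Ideal.ofList (f.map (algebraMap P (Localization.Away g))) ∧
      ∀ j : ℕ, Module.Flat A (Localization.Away g ⧸
        Ideal.ofList ((f.map (algebraMap P (Localization.Away g))).take j)) := by
  obtain ⟨f, hfI, hreg, hspan⟩ := exists_list_fibre n I p 𝔮 hI𝔮 hfib
  have hflat : (sig p 𝔮).Flat :=
    RingHom.Flat.localRingHom (f := algebraMap A P) (RingHom.flat_algebraMap_iff.2 inferInstance)
      𝔮 p (𝔮.over_def p)
  obtain ⟨w, hw, hGood⟩ := Groth.Agent.Lib.Helper35.RegSlice8.iter_slice p (Localization.AtPrime p)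
    f.length P 𝔮 (Localization.AtPrime 𝔮) (sig p 𝔮) (sig_comp p 𝔮) hflat f rfl
    (fun g hg => hI𝔮 (hfI g hg)) hreg
  -- generation in the local ring
  set O := Localization.AtPrime 𝔮 with hO
  set J : Ideal O := I.map (algebraMap P O) with hJ
  haveI : Module.Flat A (O ⧸ J) := by
    obtain ⟨ℓ, hℓ⟩ := Groth.Agent.Lib.Helper35.FlatQuotNak.exists_isLocalizedModule_quot
      (B' := O) 𝔮.primeCompl I
    exact Groth.Agent.Lib.Helper54.FlatOpenA.flat_of_isLocalizedModule (A := A) P 𝔮.primeCompl ℓ
  set N : Ideal O := Ideal.ofList (f.map (algebraMap P O)) with hN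
  have hNJ : N ≤ J := by
    rw [hN, ← Ideal.map_ofList]
    exact Ideal.map_mono (Ideal.span_le.2 hfI)
  have hpO : p.map (algebraMap A O) = (maximalIdeal (Localization.AtPrime p)).map (sig p 𝔮) := by
    rw [map_sig_eq, Ideal.map_map, ← IsScalarTower.algebraMap_eq]
  have h𝔭 : p.map (algebraMap A O) ≤ maximalIdeal O := by
    rw [hpO]
    exact map_sig_le p 𝔮
  have hle : J ≤ N ⊔ p.map (algebraMap A O) := by
    intro z hz
    have h1 : Ideal.Quotient.mk ((maximalIdeal (Localization.AtPrime p)).map (sig p 𝔮)) z ∈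
        N.map (Ideal.Quotient.mk ((maximalIdeal (Localization.AtPrime p)).map (sig p 𝔮))) := by
      have hspan' : I.map ((Ideal.Quotient.mk ((maximalIdeal (Localization.AtPrime p)).map
          (sig p 𝔮))).comp (algebraMap P (Localization.AtPrime 𝔮))) =
          Ideal.ofList ((f.map (algebraMap P O)).map
            (Ideal.Quotient.mk ((maximalIdeal (Localization.AtPrime p)).map (sig p 𝔮)))) := by
        rw [hspan, List.map_map, RingHom.coe_comp]
      rw [hN, Ideal.map_ofList, ← hspan', ← Ideal.map_map]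
      exact Ideal.mem_map_of_mem _ hz
    obtain ⟨a, ha, hza⟩ := (Ideal.mem_map_iff_of_surjective _ Ideal.Quotient.mk_surjective).1 h1
    have h2 : z - a ∈ (maximalIdeal (Localization.AtPrime p)).map (sig p 𝔮) := by
      rw [← Ideal.Quotient.eq_zero_iff_mem, map_sub, hza, sub_self]
    have : z = a + (z - a) := by ring
    rw [this]
    exact Submodule.add_mem_sup ha (by rw [hpO]; exact h2)
  have hJN : J = N := eq_of_le_sup p h𝔭 J (hIfg.map _) N hNJ hle
  obtain ⟨s, hs, hsI⟩ := Groth.Agent.Lib.Helper9.KoszulIndep.exists_mul_mem_of_map_le I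
    (Ideal.ofList f) hIfg 𝔮 (by rw [Ideal.map_ofList]; exact le_of_eq hJN)
  have hws : w * s ∉ 𝔮 := fun h => (Ideal.IsPrime.mem_or_mem inferInstance h).elim hw hs
  obtain ⟨hWR, hFl⟩ := hGood (w * s) (dvd_mul_right w s) (Localization.Away (w * s))
  refine ⟨f, w * s, hws, hfI, hWR, ?_, hFl⟩
  apply le_antisymm
  · rw [Ideal.map_le_iff_le_comap]
    intro x hx
    have h1 : algebraMap P (Localization.Away (w * s)) (s * x) ∈
        (Ideal.ofList f).map (algebraMap P (Localization.Away (w * s))) :=
      Ideal.mem_map_of_mem _ (hsI x hx)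
    rw [Ideal.map_ofList, map_mul] at h1
    have hu : IsUnit (algebraMap P (Localization.Away (w * s)) s) := by
      have h2 : IsUnit (algebraMap P (Localization.Away (w * s)) (w * s)) :=
        IsLocalization.Away.algebraMap_isUnit (w * s)
      rw [map_mul] at h2
      exact isUnit_of_mul_isUnit_right h2
    exact (Ideal.unit_mul_mem_iff_mem _ hu).1 h1
  · rw [← Ideal.map_ofList]
    exact Ideal.map_mono (Ideal.span_le.2 hfI)

/-- **Fibrewise criterion**, presentation form. -/
theorem isKoszulRegularIdeal_ker_of_fibres {B : Type u} [CommRing B] [Algebra A B]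
    [Module.Flat A B] (f : P →ₐ[A] B) (hf : Function.Surjective f)
    (hfg : (RingHom.ker f.toRingHom).FG)
    (h : ∀ p : PrimeSpectrum A, LCI.IsLCI p.asIdeal.ResidueField (p.asIdeal.Fiber B)) :
    LCI.IsKoszulRegularIdeal (RingHom.ker f.toRingHom) := by
  haveI : Module.Flat A (P ⧸ RingHom.ker f.toRingHom) :=
    Module.Flat.of_linearEquiv (Ideal.quotientKerAlgEquivOfSurjective hf).toLinearEquiv
  intro 𝔮 h𝔮
  haveI : (𝔮.asIdeal.under A).IsPrime := Ideal.comap_isPrime _ _
  have hfib := isKoszulRegularIdeal_fibre (A := A) (B := B) (𝔮.asIdeal.under A).ResidueField n f hf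
    (h ⟨𝔮.asIdeal.under A, inferInstance⟩)
  obtain ⟨l, g, hg, -, hWR, hspan, -⟩ := local_main n (RingHom.ker f.toRingHom) hfg
    (𝔮.asIdeal.under A) 𝔮.asIdeal h𝔮 hfib
  exact ⟨g, hg, _, (Groth.Agent.S15821.result _ _ hWR).1, hspan⟩

end Main

/-- **Fibrewise criterion**: a flat, finitely presented algebra all of whose fibres are local
complete intersections over the residue fields is a local complete intersection. -/
theorem isLCI_of_fibres {A B : Type u} [CommRing A] [CommRing B] [Algebra A B] [Module.Flat A B]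
    [Algebra.FinitePresentation A B]
    (h : ∀ p : PrimeSpectrum A, LCI.IsLCI p.asIdeal.ResidueField (p.asIdeal.Fiber B)) :
    LCI.IsLCI A B := by
  obtain ⟨n, f, hf, hfg⟩ := Algebra.FinitePresentation.out (R := A) (A := B)
  exact ⟨inferInstance, n, f, hf, isKoszulRegularIdeal_ker_of_fibres n f hf hfg h⟩

end Groth.Agent.Lib.Helper8.HD
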