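import Groth.Agent.Lib.Helper8.LCICM
import Groth.Agent.Lib.Helper8.LCILocal
import Groth.Agent.Lib.Helper33.GorFibreLCI
import Groth.Agent.Lib.Helper49.FibreSk
import Groth.Agent.Lib.Helper29.DepthZero

/-!
# Flat local complete intersections with generically smooth fibres (helper8)

Base change of flat lci ring maps, associated primes of flat algebras with Cohen–Macaulay
fibres, vanishing of `H¹` of the naive cotangent complex.
-/

set_option autoImplicit false
set_option linter.style.haveILetI false
universe u

namespace Groth.Agent.Lib.Helper8.LCIFib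

open TensorProduct IsLocalRing Groth.Agent.Lib.Helper49.FibreSk

/-- base change of a flat local complete intersection -/
theorem isLCI_baseChange (A P : Type u) [CommRing A] [CommRing P] [Algebra A P] [Module.Flat A P]
    (hl : LCI.IsLCI A P) (κ : Type u) [CommRing κ] [Algebra A κ] : LCI.IsLCI κ (κ ⊗[A] P) := by
  obtain ⟨hft, n, f, hf, hI⟩ := hl
  haveI := hft
  refine ⟨inferInstance, n, ?_⟩
  haveI : Module.Flat A (MvPolynomial (Fin n) A ⧸ RingHom.ker f.toRingHom) :=
    Module.Flat.of_linearEquiv (Ideal.quotientKerAlgEquivOfSurjective hf).toLinearEquiv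
  have hI' := Groth.Agent.Lib.Helper33.GorFibreLCI.isKoszulRegularIdeal_baseChange (A := A) κ
    (RingHom.ker f.toRingHom) hI
  let g : κ ⊗[A] MvPolynomial (Fin n) A →ₐ[κ] κ ⊗[A] P :=
    Algebra.TensorProduct.map (AlgHom.id κ κ) f
  have hg : Function.Surjective g := by
    have : Function.Surjective (Algebra.TensorProduct.map (AlgHom.id A κ) f) :=
      LinearMap.lTensor_surjective κ hf
    exact this
  have hkerg : RingHom.ker g.toRingHom =
      (RingHom.ker f.toRingHom).map
        (Algebra.TensorProduct.includeRight (R := A) (A := κ) (B := MvPolynomial (Fin n) A)) := by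
    have := Algebra.TensorProduct.lTensor_ker (A := κ) f hf
    exact this
  let θ : κ ⊗[A] MvPolynomial (Fin n) A ≃ₐ[κ] MvPolynomial (Fin n) κ :=
    MvPolynomial.algebraTensorAlgEquiv A κ
  refine ⟨g.comp θ.symm.toAlgHom, hg.comp θ.symm.surjective, ?_⟩
  have h1 := Groth.Agent.Lib.Helper8.LCILocal.isKoszulRegularIdeal_map_ringEquiv θ.toRingEquiv _ hI'
  have h2 : (g.comp θ.symm.toAlgHom).toRingHom = g.toRingHom.comp (θ.symm.toRingEquiv : _ →+* _) := rfl
  rw [h2, ← RingHom.comap_ker, hkerg]
  have h3 : Ideal.comap (θ.symm.toRingEquiv : MvPolynomial (Fin n) κ →+* κ ⊗[A] MvPolynomial (Fin n) A)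
      ((RingHom.ker f.toRingHom).map
        (Algebra.TensorProduct.includeRight (R := A) (A := κ) (B := MvPolynomial (Fin n) A))) =
      Ideal.map (θ.toRingEquiv : κ ⊗[A] MvPolynomial (Fin n) A →+* MvPolynomial (Fin n) κ)
      ((RingHom.ker f.toRingHom).map
        (Algebra.TensorProduct.includeRight (R := A) (A := κ) (B := MvPolynomial (Fin n) A))) :=
    Ideal.comap_symm θ.toRingEquiv
  rw [h3]
  exact h1



/-- in a flat Noetherian algebra with Cohen–Macaulay fibres, associated primes are minimal in
their fibres -/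
theorem eq_of_le_of_mem_ass {R S : Type u} [CommRing R] [CommRing S] [IsNoetherianRing R]
    [IsNoetherianRing S] [Algebra R S] [Module.Flat R S]
    (hCM : ∀ (p : Ideal R) [p.IsPrime], LocCoh.IsCohenMacaulayRing (p.Fiber S))
    (q : Ideal S) [q.IsPrime] (hq : q ∈ associatedPrimes S S)
    (q' : Ideal S) [q'.IsPrime] (hle : q' ≤ q)
    (hcomap : q'.comap (algebraMap R S) = q.comap (algebraMap R S)) : q' = q := by
  obtain ⟨p, hp⟩ : ∃ p : Ideal R, p = q.comap (algebraMap R S) := ⟨_, rfl⟩
  haveI : p.IsPrime := by rw [hp]; exact Ideal.comap_isPrime _ _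
  haveI : q.LiesOver p := ⟨hp⟩
  haveI : q'.LiesOver p := ⟨hp.trans hcomap.symm⟩
  -- depth zero
  have hass : maximalIdeal (Localization.AtPrime q) ∈
      associatedPrimes (Localization.AtPrime q) (Localization.AtPrime q) := by
    apply Module.associatedPrimes.mem_associatedPrimes_of_comap_mem_associatedPrimes_of_isLocalizedModule
      q.primeCompl (Algebra.linearMap S (Localization.AtPrime q))
    have hu : (maximalIdeal (Localization.AtPrime q)).comap
        (algebraMap S (Localization.AtPrime q)) = q :=
      IsLocalization.AtPrime.under_maximalIdeal (Localization.AtPrime q) q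
    rw [hu]
    exact hq
  have h0 : LocCoh.depth (Localization.AtPrime q) (Localization.AtPrime q) = 0 :=
    (Groth.Agent.Lib.Helper29.depth_eq_zero_iff_maximalIdeal_mem_ass _ _).2 hass
  have h1 := depth_localization_eq_add p q
  rw [h0] at h1
  have h2 : fibDepth p q = 0 := by
    have := h1.symm
    exact (add_eq_zero.1 this).2
  have h3 : fibDim p q = 0 := by
    rw [(isCM_fiber_iff p).1 (hCM p) q, h2]
  have h4 := height_eq_add' p q
  rw [h3, add_zero] at h4
  have h5 := height_eq_add' p q'
  by_contra hne
  have hlt : q' < q := lt_of_le_of_ne hle hne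
  have h6 := Ideal.height_strict_mono_of_isPrime hlt
  rw [h4, h5] at h6
  exact absurd h6 (not_lt.2 le_self_add)


/-- over a Noetherian ring, a submodule of a flat module which vanishes at all associated primes of
the ring is zero -/
theorem subsingleton_of_support_ass {A : Type u} [CommRing A] [IsNoetherianRing A]
    {M N : Type*} [AddCommGroup M] [Module A M] [Module.Flat A M] [AddCommGroup N] [Module A N]
    (ι : N →ₗ[A] M) (hι : Function.Injective ι)
    (hsupp : ∀ (p : PrimeSpectrum A), p.asIdeal ∈ associatedPrimes A A → p ∉ Module.support A N) :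
    Subsingleton N := by
  suffices h0 : ∀ x : N, x = 0 from ⟨fun x y => (h0 x).trans (h0 y).symm⟩
  intro x
  let I : Ideal A := LinearMap.ker (LinearMap.toSpanSingleton A N x)
  have hfin : (associatedPrimes A A).Finite := associatedPrimes.finite A A
  have hnot : ¬ ((I : Set A) ⊆ ⋃ p ∈ (hfin.toFinset : Set (Ideal A)), (p : Set A)) := by
    rw [Ideal.subset_union_prime (f := fun p : Ideal A => p) ⊥ ⊥
      (fun p hp _ _ => (hfin.mem_toFinset.1 hp).isPrime)]
    rintro ⟨p, hp, hIp⟩
    have hp' := hfin.mem_toFinset.1 hp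
    haveI := hp'.isPrime
    have h1 := hsupp ⟨p, inferInstance⟩ hp'
    rw [Module.notMem_support_iff'] at h1
    obtain ⟨r, hr, hrx⟩ := h1 x
    exact hr (hIp (by simpa [I] using hrx))
  obtain ⟨s, hsI, hs⟩ := Set.not_subset.1 hnot
  have hsreg : s ∈ nonZeroDivisors A := by
    by_contra h
    have h2 : s ∈ ⋃ p ∈ associatedPrimes A A, (p : Set A) := by
      rw [biUnion_associatedPrimes_eq_compl_nonZeroDivisors]
      exact h
    obtain ⟨q, hq, hsq⟩ := Set.mem_iUnion₂.1 h2
    apply hs
    exact Set.mem_iUnion₂.2 ⟨q, hfin.mem_toFinset.2 hq, hsq⟩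
  have hM := Module.Flat.isSMulRegular_of_nonZeroDivisors (M := M) hsreg
  apply hι
  apply hM
  have hsx : s • x = 0 := by simpa [I] using hsI
  show s • ι x = s • ι 0
  rw [← map_smul, hsx, map_zero, smul_zero]

/-- `H¹` of the naive cotangent complex of a local complete intersection embeds into a projective
module -/
theorem exists_embedding (A P : Type u) [CommRing A] [CommRing P] [Algebra A P]
    (hlci : LCI.IsLCI A P) :
    ∃ (M : Type u) (_ : AddCommGroup M) (_ : Module P M) (_ : Module.Projective P M)
      (ι : Algebra.H1Cotangent A P →ₗ[P] M), Function.Injective ι := by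
  obtain ⟨hft, n, f, hsurj, hI⟩ := hlci
  let E : Algebra.Extension.{u} A P := Algebra.Extension.ofSurjective f hsurj
  have hK : LCI.IsKoszulRegularIdeal E.ker := hI
  let ψ : E.Hom (Algebra.Generators.self A P).toExtension :=
    Algebra.Extension.Hom.ofAlgHom
      (MvPolynomial.aeval (fun i : Fin n => (MvPolynomial.X (f (MvPolynomial.X i)) : MvPolynomial P A)))
      (by
        apply MvPolynomial.algHom_ext
        intro i
        show algebraMap (Algebra.Generators.self A P).toExtension.Ring P
            (MvPolynomial.aeval (fun i : Fin n => (MvPolynomial.X (f (MvPolynomial.X i)) :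
              MvPolynomial P A)) (MvPolynomial.X i)) =
          f (MvPolynomial.X i)
        have h1 : (MvPolynomial.aeval (fun i : Fin n => (MvPolynomial.X (f (MvPolynomial.X i)) :
            MvPolynomial P A))) (MvPolynomial.X i : MvPolynomial (Fin n) A) =
            (MvPolynomial.X (f (MvPolynomial.X i)) : MvPolynomial P A) :=
          MvPolynomial.aeval_X _ _
        have h2 : algebraMap (Algebra.Generators.self A P).toExtension.Ring P
            (MvPolynomial.X (R := A) (f (MvPolynomial.X i))) = f (MvPolynomial.X i) := by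
          have := (Algebra.Generators.self A P).algebraMap_apply
            (MvPolynomial.X (R := A) (f (MvPolynomial.X i)))
          rw [MvPolynomial.aeval_X] at this
          exact this
        exact (congrArg _ h1).trans h2)
  have hq := Groth.Agent.Lib.Helper8.NLPerfect.isLocallyQuasiRegular_of_isKoszulRegularIdeal E.ker hK
  haveI : Module.Projective (E.Ring ⧸ E.ker) E.ker.Cotangent :=
    Groth.Agent.Lib.Helper9.QRegLocalA.projective_of_locallyQuasiRegular E.ker hq
  haveI : Module.Projective P E.Cotangent := Groth.Agent.Lib.Helper8.NLPerfect.projective_cotangent E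
  let e : Algebra.H1Cotangent A P ≃ₗ[P] E.H1Cotangent :=
    Algebra.Extension.H1Cotangent.equiv (Algebra.Extension.defaultHom A P E) ψ
  exact ⟨E.Cotangent, inferInstance, inferInstance, inferInstance,
    (LinearMap.ker E.cotangentComplex).subtype ∘ₗ e.toLinearMap,
    (Submodule.injective_subtype _).comp e.injective⟩

/-- vanishing of `H¹` of the naive cotangent complex of a flat local complete intersection over a
Noetherian ring whose fibres are generically smooth -/
theorem subsingleton_h1Cotangent_rel
    (A : Type u) [CommRing A] [IsNoetherianRing A]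
    (P : Type u) [CommRing P] [Algebra A P] [Module.Flat A P] (hlci : LCI.IsLCI A P)
    (hgs : ∀ 𝔓 : PrimeSpectrum P,
      (∀ 𝔔 : PrimeSpectrum P, 𝔔 ≤ 𝔓 →
          𝔔.asIdeal.comap (algebraMap A P) = 𝔓.asIdeal.comap (algebraMap A P) → 𝔔 = 𝔓) →
        𝔓 ∈ Algebra.smoothLocus A P) :
    Subsingleton (Algebra.H1Cotangent A P) := by
  have hCM : ∀ (p : Ideal A) [p.IsPrime], LocCoh.IsCohenMacaulayRing (p.Fiber P) := fun p _ =>
    Groth.Agent.Lib.Helper8.LCICM.isCohenMacaulayRing_of_isLCI p.ResidueField (p.Fiber P)
      (isLCI_baseChange A P hlci p.ResidueField)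
  obtain ⟨M, _, _, _, ι, hι⟩ := exists_embedding A P hlci
  haveI := hlci.1
  haveI : IsNoetherianRing P := Algebra.FiniteType.isNoetherianRing A P
  refine subsingleton_of_support_ass (M := M) ι hι ?_
  intro 𝔓 hass
  have hmin : ∀ 𝔔 : PrimeSpectrum P, 𝔔 ≤ 𝔓 →
      𝔔.asIdeal.comap (algebraMap A P) = 𝔓.asIdeal.comap (algebraMap A P) → 𝔔 = 𝔓 :=
    fun 𝔔 hle hc => PrimeSpectrum.ext (eq_of_le_of_mem_ass hCM 𝔓.asIdeal hass 𝔔.asIdeal hle hc)
  have h1 := hgs 𝔓 hmin
  rw [Algebra.smoothLocus_eq_compl_support_inter] at h1
  exact h1.1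

end Groth.Agent.Lib.Helper8.LCIFib
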