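import Mathlib
import Groth.Agent.S9272
import Groth.Agent.S2586
import Groth.Agent.Lib.Helper91.QRegFlat1
import Groth.Agent.Lib.Helper77.QuasiRegReg
import Groth.Agent.Lib.Helper24.FlatColim

/-!
# Lifting quasi-regular sequences across a locally nilpotent ideal: flatness (helper8)
-/

set_option autoImplicit false
set_option linter.style.haveILetI false
universe u

namespace Groth.Agent.Lib.Helper8.QRegLift

open TensorProduct

section fibre

variable {A₁ B₁ : Type u} [CommRing A₁] [CommRing B₁] [Algebra A₁ B₁]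
  (I : Ideal A₁) (q : Ideal B₁) [q.IsPrime]

/-- the residue field of the contraction of `q`, as an algebra over `A₁ ⧸ I` when `I ≤ p` -/
noncomputable abbrev algQuot (hI : I ≤ q.comap (algebraMap A₁ B₁)) :
    Algebra (A₁ ⧸ I) (q.comap (algebraMap A₁ B₁)).ResidueField :=
  (Ideal.Quotient.lift I (algebraMap A₁ (q.comap (algebraMap A₁ B₁)).ResidueField)
    (fun _ ha => Ideal.algebraMap_residueField_eq_zero.mpr (hI ha))).toAlgebra

/-- the ring isomorphism `κ(p) ⊗_{A₁/I} (B₁/IB₁) ≅ B₁ ⊗_{A₁} κ(p)` -/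
noncomputable def sigma (hI : I ≤ q.comap (algebraMap A₁ B₁)) :
    letI := algQuot I q hI
    ((q.comap (algebraMap A₁ B₁)).ResidueField ⊗[A₁ ⧸ I] (B₁ ⧸ I.map (algebraMap A₁ B₁))) ≃+*
      (B₁ ⊗[A₁] (q.comap (algebraMap A₁ B₁)).ResidueField) := by
  letI := algQuot I q hI
  haveI : IsScalarTower A₁ (A₁ ⧸ I) (q.comap (algebraMap A₁ B₁)).ResidueField :=
    IsScalarTower.of_algebraMap_eq (fun x => rfl)
  exact ((Algebra.TensorProduct.congr
      (AlgEquiv.refl : (q.comap (algebraMap A₁ B₁)).ResidueField ≃ₐ[A₁ ⧸ I] _)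
      (Algebra.TensorProduct.quotIdealMapEquivQuotTensor B₁ I)).toRingEquiv.trans
    ((Algebra.TensorProduct.cancelBaseChange A₁ (A₁ ⧸ I)
      (q.comap (algebraMap A₁ B₁)).ResidueField (q.comap (algebraMap A₁ B₁)).ResidueField
      B₁).toRingEquiv.trans
      (Algebra.TensorProduct.comm A₁ (q.comap (algebraMap A₁ B₁)).ResidueField B₁).toRingEquiv))

theorem sigma_apply (hI : I ≤ q.comap (algebraMap A₁ B₁)) (b : B₁) :
    letI := algQuot I q hI
    sigma I q hI ((1 : (q.comap (algebraMap A₁ B₁)).ResidueField) ⊗ₜ[A₁ ⧸ I]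
      (Ideal.Quotient.mk (I.map (algebraMap A₁ B₁)) b)) = b ⊗ₜ[A₁] 1 := by
  letI := algQuot I q hI
  haveI : IsScalarTower A₁ (A₁ ⧸ I) (q.comap (algebraMap A₁ B₁)).ResidueField :=
    IsScalarTower.of_algebraMap_eq (fun x => rfl)
  simp [sigma]

end fibre

section localFibre

variable {A₁ B₁ : Type u} [CommRing A₁] [CommRing B₁] [Algebra A₁ B₁]
  (q : Ideal B₁) [q.IsPrime]

/-- the residue field at the contraction of `q` -/
abbrev KK : Type u := (q.comap (algebraMap A₁ B₁)).ResidueField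

/-- the fibre ring -/
abbrev NN : Type u := B₁ ⊗[A₁] KK (A₁ := A₁) q

/-- the multiplicative set: image of the complement of `q` in the fibre ring -/
noncomputable abbrev TT : Submonoid (NN (A₁ := A₁) q) := Algebra.algebraMapSubmonoid (NN (A₁ := A₁) q) q.primeCompl

/-- the localized fibre ring -/
abbrev LL : Type u := Localization (TT (A₁ := A₁) q)

theorem isNoetherianRing_NN [Algebra.FiniteType A₁ B₁] : IsNoetherianRing (NN (A₁ := A₁) q) := by
  haveI : IsNoetherianRing (KK (A₁ := A₁) q ⊗[A₁] B₁) :=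
    Algebra.FiniteType.isNoetherianRing (KK (A₁ := A₁) q) _
  exact isNoetherianRing_of_ringEquiv _
    (Algebra.TensorProduct.comm A₁ (KK (A₁ := A₁) q) B₁).toRingEquiv

theorem isUnit_algebraMap_LL (w : B₁) (hw : w ∉ q) :
    IsUnit (algebraMap B₁ (LL (A₁ := A₁) q) w) := by
  rw [IsScalarTower.algebraMap_apply B₁ (NN (A₁ := A₁) q) (LL (A₁ := A₁) q)]
  exact IsLocalization.map_units (LL (A₁ := A₁) q)
    (⟨algebraMap B₁ (NN (A₁ := A₁) q) w, Algebra.mem_algebraMapSubmonoid_of_mem ⟨w, hw⟩⟩ :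
      TT (A₁ := A₁) q)

theorem mem_jacobson_LL (b : B₁) (hb : b ∈ q) :
    algebraMap B₁ (LL (A₁ := A₁) q) b ∈ Ideal.jacobson (⊥ : Ideal (LL (A₁ := A₁) q)) := by
  rw [Ideal.mem_jacobson_bot]
  intro y
  obtain ⟨n, ⟨t, ht⟩, rfl⟩ := IsLocalization.exists_mk'_eq (TT (A₁ := A₁) q) y
  obtain ⟨w, hw, rfl⟩ := ht
  obtain ⟨a, ha, s, hs⟩ := Ideal.ResidueField.exists_smul_eq_tmul_one
    (q.comap (algebraMap A₁ B₁)) n
  have haq : algebraMap A₁ B₁ a ∉ q := ha
  have hu := isUnit_algebraMap_LL (A₁ := A₁) q _ haq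
  have hv := isUnit_algebraMap_LL (A₁ := A₁) q w hw
  have hsum : b * s + algebraMap A₁ B₁ a * w ∉ q := by
    intro hmem
    have h1 : algebraMap A₁ B₁ a * w ∈ q := by
      have := q.sub_mem hmem (q.mul_mem_right s hb)
      simpa using this
    rcases Ideal.IsPrime.mem_or_mem inferInstance h1 with h2 | h2
    · exact haq h2
    · exact hw h2
  have hsu := isUnit_algebraMap_LL (A₁ := A₁) q _ hsum
  -- key identity
  have hkey : (algebraMap B₁ (LL (A₁ := A₁) q) b *
      IsLocalization.mk' (LL (A₁ := A₁) q) n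
        (⟨algebraMap B₁ (NN (A₁ := A₁) q) w, Algebra.mem_algebraMapSubmonoid_of_mem ⟨w, hw⟩⟩ :
          TT (A₁ := A₁) q) + 1) *
      (algebraMap B₁ (LL (A₁ := A₁) q) (algebraMap A₁ B₁ a) * algebraMap B₁ (LL (A₁ := A₁) q) w) =
      algebraMap B₁ (LL (A₁ := A₁) q) (b * s + algebraMap A₁ B₁ a * w) := by
    have h1 : IsLocalization.mk' (LL (A₁ := A₁) q) n
        (⟨algebraMap B₁ (NN (A₁ := A₁) q) w, Algebra.mem_algebraMapSubmonoid_of_mem ⟨w, hw⟩⟩ :
          TT (A₁ := A₁) q) * algebraMap B₁ (LL (A₁ := A₁) q) w =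
        algebraMap (NN (A₁ := A₁) q) (LL (A₁ := A₁) q) n := by
      rw [IsScalarTower.algebraMap_apply B₁ (NN (A₁ := A₁) q) (LL (A₁ := A₁) q)]
      exact IsLocalization.mk'_spec _ _ _
    have h2 : algebraMap B₁ (LL (A₁ := A₁) q) (algebraMap A₁ B₁ a) *
        algebraMap (NN (A₁ := A₁) q) (LL (A₁ := A₁) q) n =
        algebraMap B₁ (LL (A₁ := A₁) q) s := by
      rw [IsScalarTower.algebraMap_apply B₁ (NN (A₁ := A₁) q) (LL (A₁ := A₁) q),
        IsScalarTower.algebraMap_apply B₁ (NN (A₁ := A₁) q) (LL (A₁ := A₁) q) s, ← map_mul]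
      congr 1
      rw [← Algebra.smul_def, algebraMap_smul, hs, Algebra.TensorProduct.algebraMap_apply]
      rfl
    calc _ = algebraMap B₁ (LL (A₁ := A₁) q) b *
          (algebraMap B₁ (LL (A₁ := A₁) q) (algebraMap A₁ B₁ a) *
            (IsLocalization.mk' (LL (A₁ := A₁) q) n
              (⟨algebraMap B₁ (NN (A₁ := A₁) q) w, Algebra.mem_algebraMapSubmonoid_of_mem ⟨w, hw⟩⟩ :
                TT (A₁ := A₁) q) * algebraMap B₁ (LL (A₁ := A₁) q) w)) +
          algebraMap B₁ (LL (A₁ := A₁) q) (algebraMap A₁ B₁ a) *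
            algebraMap B₁ (LL (A₁ := A₁) q) w := by ring
      _ = _ := by
        rw [h1, h2, map_add, map_mul, map_mul]
  have h3 : IsUnit ((algebraMap B₁ (LL (A₁ := A₁) q) b *
      IsLocalization.mk' (LL (A₁ := A₁) q) n
        (⟨algebraMap B₁ (NN (A₁ := A₁) q) w, Algebra.mem_algebraMapSubmonoid_of_mem ⟨w, hw⟩⟩ :
          TT (A₁ := A₁) q) + 1) *
      (algebraMap B₁ (LL (A₁ := A₁) q) (algebraMap A₁ B₁ a) *
        algebraMap B₁ (LL (A₁ := A₁) q) w)) := by
    rw [hkey]; exact hsu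
  exact isUnit_of_mul_isUnit_left h3

theorem nontrivial_LL : Nontrivial (LL (A₁ := A₁) q) := by
  let ψ : NN (A₁ := A₁) q →ₐ[A₁] q.ResidueField :=
    Algebra.TensorProduct.lift (IsScalarTower.toAlgHom A₁ B₁ q.ResidueField)
      (Ideal.ResidueField.mapₐ (q.comap (algebraMap A₁ B₁)) q (Algebra.ofId A₁ B₁) rfl)
      (fun _ _ => Commute.all _ _)
  have hψ : ∀ t : TT (A₁ := A₁) q, IsUnit (ψ.toRingHom t) := by
    rintro ⟨_, w, hw, rfl⟩
    have : ψ (algebraMap B₁ (NN (A₁ := A₁) q) w) = algebraMap B₁ q.ResidueField w := by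
      rw [Algebra.TensorProduct.algebraMap_apply]
      simp [ψ]
    change IsUnit (ψ (algebraMap B₁ (NN (A₁ := A₁) q) w))
    rw [this, isUnit_iff_ne_zero, Ne, Ideal.algebraMap_residueField_eq_zero]
    exact hw
  exact RingHom.domain_nontrivial (IsLocalization.lift hψ : LL (A₁ := A₁) q →+* q.ResidueField)


variable (I : Ideal A₁)

/-- the images of a lifted quasi-regular sequence are quasi-regular in the localized fibre -/
theorem isQuasiRegular_LL (hI : I ≤ q.comap (algebraMap A₁ B₁)) (r : ℕ) (f' : Fin r → B₁)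
    (hq : CAlgX.IsQuasiRegular
      (fun i => Ideal.Quotient.mk (Ideal.map (algebraMap A₁ B₁) I) (f' i)))
    (hflat : Module.Flat (A₁ ⧸ I)
      ((B₁ ⧸ Ideal.map (algebraMap A₁ B₁) I) ⧸
        Ideal.span (Set.range (fun i => Ideal.Quotient.mk (Ideal.map (algebraMap A₁ B₁) I) (f' i))))) :
    CAlgX.IsQuasiRegular (fun i => algebraMap B₁ (LL (A₁ := A₁) q) (f' i)) := by
  letI := algQuot I q hI
  have h1 := Groth.Agent.S9272.result (A₁ ⧸ I) (B₁ ⧸ Ideal.map (algebraMap A₁ B₁) I)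
    (KK (A₁ := A₁) q) r _ hflat hq
  letI : Algebra (KK (A₁ := A₁) q ⊗[A₁ ⧸ I] (B₁ ⧸ Ideal.map (algebraMap A₁ B₁) I))
      (LL (A₁ := A₁) q) :=
    ((algebraMap (NN (A₁ := A₁) q) (LL (A₁ := A₁) q)).comp
      ((sigma I q hI).symm.symm.toRingHom)).toAlgebra
  haveI : IsLocalization ((TT (A₁ := A₁) q).map (sigma I q hI).symm) (LL (A₁ := A₁) q) :=
    IsLocalization.isLocalization_of_base_ringEquiv (TT (A₁ := A₁) q) (LL (A₁ := A₁) q)
      (sigma I q hI).symm
  have h2 := Groth.Agent.Lib.Helper91.QRegFlat.isQuasiRegular_of_isLocalization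
    (B := LL (A₁ := A₁) q) ((TT (A₁ := A₁) q).map (sigma I q hI).symm) _ h1
  have h3 : (fun i => algebraMap (KK (A₁ := A₁) q ⊗[A₁ ⧸ I] (B₁ ⧸ Ideal.map (algebraMap A₁ B₁) I))
      (LL (A₁ := A₁) q) ((1 : KK (A₁ := A₁) q) ⊗ₜ[A₁ ⧸ I]
        (Ideal.Quotient.mk (Ideal.map (algebraMap A₁ B₁) I) (f' i)))) =
      (fun i => algebraMap B₁ (LL (A₁ := A₁) q) (f' i)) := by
    funext i
    change algebraMap (NN (A₁ := A₁) q) (LL (A₁ := A₁) q)
      ((sigma I q hI).symm.symm _) = _
    rw [RingEquiv.symm_symm, sigma_apply,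
      IsScalarTower.algebraMap_apply B₁ (NN (A₁ := A₁) q) (LL (A₁ := A₁) q),
      Algebra.TensorProduct.algebraMap_apply]
    rfl
  rw [← h3]
  exact h2

/-- **the fibre regularity**: the lifted sequence is regular on the localized fibre -/
theorem isRegular_localizedFibre [Algebra.FiniteType A₁ B₁]
    (hI : I ≤ q.comap (algebraMap A₁ B₁)) (r : ℕ) (f' : Fin r → B₁)
    (hfq : ∀ i, f' i ∈ q)
    (hq : CAlgX.IsQuasiRegular
      (fun i => Ideal.Quotient.mk (Ideal.map (algebraMap A₁ B₁) I) (f' i)))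
    (hflat : Module.Flat (A₁ ⧸ I)
      ((B₁ ⧸ Ideal.map (algebraMap A₁ B₁) I) ⧸
        Ideal.span (Set.range (fun i => Ideal.Quotient.mk (Ideal.map (algebraMap A₁ B₁) I) (f' i))))) :
    RingTheory.Sequence.IsRegular
      (LocalizedModule q.primeCompl (B₁ ⊗[A₁] (q.comap (algebraMap A₁ B₁)).ResidueField))
      (List.ofFn f') := by
  haveI := isNoetherianRing_NN (A₁ := A₁) q
  haveI : IsNoetherianRing (LL (A₁ := A₁) q) :=
    IsLocalization.isNoetherianRing (TT (A₁ := A₁) q) _ inferInstance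
  haveI := nontrivial_LL (A₁ := A₁) q
  have hqr := isQuasiRegular_LL q I hI r f' hq hflat
  have hjac : ∀ i, algebraMap B₁ (LL (A₁ := A₁) q) (f' i) ∈
      (⊥ : Ideal (LL (A₁ := A₁) q)).jacobson := fun i => mem_jacobson_LL q _ (hfq i)
  have hw := Groth.Agent.Lib.Helper77.QuasiReg.isWeaklyRegular_of_isQuasiRegular r
    (LL (A₁ := A₁) q) _ hjac hqr
  have hreg : RingTheory.Sequence.IsRegular (LL (A₁ := A₁) q)
      (List.ofFn (fun i => algebraMap B₁ (LL (A₁ := A₁) q) (f' i))) := by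
    rw [RingTheory.Sequence.isRegular_iff_isWeaklyRegular_of_subset_jacobson_annihilator]
    · exact hw
    · intro x hx
      rw [List.mem_ofFn] at hx
      obtain ⟨i, rfl⟩ := hx
      have : Module.annihilator (LL (A₁ := A₁) q) (LL (A₁ := A₁) q) = ⊥ := by
        rw [eq_bot_iff]
        intro a ha
        rw [Module.mem_annihilator] at ha
        simpa using ha 1
      rw [this]
      exact hjac i
  -- transport to the localized module
  haveI : IsLocalizedModule q.primeCompl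
      (IsScalarTower.toAlgHom B₁ (NN (A₁ := A₁) q) (LL (A₁ := A₁) q)).toLinearMap :=
    (isLocalizedModule_iff_isLocalization).mpr inferInstance
  let e : LocalizedModule q.primeCompl (NN (A₁ := A₁) q) ≃ₗ[B₁] LL (A₁ := A₁) q :=
    IsLocalizedModule.iso q.primeCompl
      (IsScalarTower.toAlgHom B₁ (NN (A₁ := A₁) q) (LL (A₁ := A₁) q)).toLinearMap
  refine (AddEquiv.isRegular_congr (e := e.toAddEquiv) ?_).mpr hreg
  have hmap : (List.ofFn fun i => algebraMap B₁ (LL (A₁ := A₁) q) (f' i)) =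
      (List.ofFn f').map (algebraMap B₁ (LL (A₁ := A₁) q)) := by
    rw [List.map_ofFn]; rfl
  rw [hmap, List.forall₂_map_right_iff, List.forall₂_same]
  intro b _ x
  change e (b • x) = algebraMap B₁ (LL (A₁ := A₁) q) b • e x
  rw [map_smul, Algebra.smul_def]
  rfl

end localFibre

section main

open Groth.Agent.Lib.Helper54

/-- **Flatness of the quotient by a lift of a quasi-regular sequence.** -/
theorem flat_quot (A₁ B₁ : Type u) [CommRing A₁] [CommRing B₁] [Algebra A₁ B₁]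
    [Module.Flat A₁ B₁] [Algebra.FinitePresentation A₁ B₁]
    (I : Ideal A₁) (hI : ∀ x ∈ I, IsNilpotent x) (r : ℕ) (f' : Fin r → B₁)
    (hq : CAlgX.IsQuasiRegular
      (fun i => Ideal.Quotient.mk (Ideal.map (algebraMap A₁ B₁) I) (f' i)))
    (hflat : Module.Flat (A₁ ⧸ I)
      ((B₁ ⧸ Ideal.map (algebraMap A₁ B₁) I) ⧸
        Ideal.span (Set.range (fun i => Ideal.Quotient.mk (Ideal.map (algebraMap A₁ B₁) I) (f' i))))) :
    Module.Flat A₁ (B₁ ⧸ Ideal.span (Set.range f')) := by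
  apply Groth.Agent.Lib.Helper24.FlatColim.flat_of_forall_localized B₁
  intro q
  haveI := q.isPrime
  by_cases hfq : ∀ i, f' i ∈ q.asIdeal
  · have hIq : I ≤ q.asIdeal.comap (algebraMap A₁ B₁) := fun x hx => by
      obtain ⟨n, hn⟩ := hI x hx
      have : (algebraMap A₁ B₁ x) ^ n ∈ q.asIdeal := by
        rw [← map_pow, hn, map_zero]; exact zero_mem _
      exact q.isPrime.mem_of_pow_mem n this
    have hreg := isRegular_localizedFibre q.asIdeal I hIq r f' hfq hq hflat
    have hfl0 : Module.Flat A₁ (LocalizedModule q.asIdeal.primeCompl B₁) :=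
      FlatOpenA.flat_of_isLocalizedModule B₁ q.asIdeal.primeCompl
        (LocalizedModule.mkLinearMap q.asIdeal.primeCompl B₁)
    obtain ⟨-, h2⟩ := Groth.Agent.S2586.result (A := A₁) (M := B₁) q.asIdeal (List.ofFn f')
      (by
        intro b hb
        rw [List.mem_ofFn] at hb
        obtain ⟨i, rfl⟩ := hb
        exact hfq i) hfl0 hreg
    have h3 := h2 (List.ofFn f').length le_rfl
    rw [List.take_length] at h3
    have hJ : (Ideal.span {b | b ∈ List.ofFn f'} • (⊤ : Submodule B₁ B₁)) =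
        Ideal.span (Set.range f') := by
      rw [smul_eq_mul, Ideal.mul_top]
      congr 1
      ext x
      simp [List.mem_ofFn]
    let Θ : (B₁ ⧸ (Ideal.span {b | b ∈ List.ofFn f'} • (⊤ : Submodule B₁ B₁))) ≃ₗ[B₁]
        (B₁ ⧸ Ideal.span (Set.range f')) := Submodule.quotEquivOfEq _ _ hJ
    exact FlatDescent.flat_localized_of_semilinearEquiv (RingEquiv.refl B₁) (fun _ => rfl)
      Θ.toAddEquiv (fun b m => Θ.map_smul b m) q.asIdeal q.asIdeal (fun _ => Iff.rfl) h3
  · simp only [not_forall] at hfq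
    obtain ⟨i, hi⟩ := hfq
    haveI : Subsingleton (LocalizedModule q.asIdeal.primeCompl
        (B₁ ⧸ Ideal.span (Set.range f'))) := by
      refine ⟨fun x y => ?_⟩
      have hz : ∀ z : LocalizedModule q.asIdeal.primeCompl (B₁ ⧸ Ideal.span (Set.range f')),
          z = 0 := by
        intro z
        induction z using LocalizedModule.induction_on with
        | h m s =>
          rw [← LocalizedModule.zero_mk s, LocalizedModule.mk_eq]
          refine ⟨⟨f' i, hi⟩, ?_⟩
          obtain ⟨b, rfl⟩ := Ideal.Quotient.mk_surjective m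
          simp only [Submonoid.smul_def, smul_zero]
          rw [← smul_assoc, smul_eq_mul]
          change Ideal.Quotient.mk _ ((f' i * s) * b) = 0
          rw [Ideal.Quotient.eq_zero_iff_mem, mul_assoc]
          exact Ideal.mul_mem_right _ _ (Ideal.subset_span ⟨i, rfl⟩)
      rw [hz x, hz y]
    infer_instance

end main

end Groth.Agent.Lib.Helper8.QRegLift
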