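import Groth.Agent.S9142
import Groth.Agent.S15821
import Groth.Agent.Lib.Helper9.KoszulLoc
import Groth.Agent.Lib.Helper8.QRegLift
import Groth.Agent.Lib.Helper8.LCICM
import Groth.Agent.Lib.Helper8.LCILocal

set_option autoImplicit false
set_option linter.style.haveILetI false
universe u

/-!
# Relative global complete intersections are regular sequences (helper8)
-/

namespace Groth.Agent.Lib.Helper8.RelGCI

open RingTheory.Sequence TensorProduct

variable (R : Type u) [CommRing R] (n c : ℕ) (F : Fin c → MvPolynomial (Fin n) R)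

/-- the fibre ring of a presented algebra is the algebra presented by the reduced equations -/
theorem nonempty_fibre_ringEquiv (κ : Type u) [CommRing κ] [Algebra R κ] :
    Nonempty (κ ⊗[R] (MvPolynomial (Fin n) R ⧸ Ideal.span (Set.range F)) ≃+*
      (MvPolynomial (Fin n) κ ⧸
        Ideal.span (Set.range fun i => MvPolynomial.map (algebraMap R κ) (F i)))) := by
  let e1 := Algebra.TensorProduct.tensorQuotientEquiv (R := R) κ (MvPolynomial (Fin n) R) κ
    (Ideal.span (Set.range F))
  let θ : κ ⊗[R] MvPolynomial (Fin n) R ≃ₐ[κ] MvPolynomial (Fin n) κ :=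
    MvPolynomial.algebraTensorAlgEquiv R κ
  have h : Ideal.span (Set.range fun i => MvPolynomial.map (algebraMap R κ) (F i)) =
      ((Ideal.span (Set.range F)).map (Algebra.TensorProduct.includeRight (R := R) (A := κ)
        (B := MvPolynomial (Fin n) R))).map (θ.toRingEquiv : _ →+* _) := by
    rw [Ideal.map_span, Ideal.map_span]
    congr 1
    ext x
    simp only [Set.mem_range, Set.mem_image, exists_exists_eq_and]
    constructor
    · rintro ⟨i, rfl⟩
      exact ⟨i, by simp [θ]⟩
    · rintro ⟨i, rfl⟩
      exact ⟨i, by simp [θ]⟩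
  exact ⟨e1.toRingEquiv.trans (Ideal.quotientEquiv _ _ θ.toRingEquiv h)⟩

/-- field case: polynomials cutting out a quotient of the expected dimension form a
Koszul-regular sequence -/
theorem isKoszulRegularSeq_field (k : Type u) [Field k] (n c : ℕ)
    (G : Fin c → MvPolynomial (Fin n) k)
    (h : Nontrivial (MvPolynomial (Fin n) k ⧸ Ideal.span (Set.range G)) →
      c ≤ n ∧ ringKrullDim (MvPolynomial (Fin n) k ⧸ Ideal.span (Set.range G)) =
        ((n - c : ℕ) : WithBot ℕ∞)) :
    LCI.IsKoszulRegularSeq (MvPolynomial (Fin n) k) (List.ofFn G) := by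
  apply Groth.Agent.Lib.Helper9.KoszulLoc.isKoszulRegularSeq_of_localization
  intro Q _ hQ
  have hI : Ideal.ofList (List.ofFn G) = Ideal.span (Set.range G) :=
    Groth.Agent.S9142.ofList_ofFn G
  have hfQ : Ideal.ofList (List.ofFn G) ≤ Q := by
    unfold Ideal.ofList
    rw [Ideal.span_le]
    exact fun x hx => hQ x hx
  have hnt : Nontrivial (MvPolynomial (Fin n) k ⧸ Ideal.span (Set.range G)) := by
    rw [Ideal.Quotient.nontrivial_iff]
    intro htop
    rw [← hI] at htop
    exact (Ideal.IsPrime.ne_top inferInstance) (top_le_iff.1 (htop ▸ hfQ))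
  obtain ⟨hcn, hdim⟩ := h hnt
  haveI : IsRegularRing (MvPolynomial (Fin n) k) := inferInstance
  haveI hPCM : LocCoh.IsCohenMacaulayRing (MvPolynomial (Fin n) k) :=
    Groth.Agent.S18865.isCohenMacaulayRing_of_isRegularRing _
  have heq : ∀ q ∈ minimalPrimes (MvPolynomial (Fin n) k),
      ringKrullDim (MvPolynomial (Fin n) k ⧸ q) = n := by
    intro q hq
    rw [IsDomain.minimalPrimes_eq_singleton_bot, Set.mem_singleton_iff] at hq
    subst hq
    rw [ringKrullDim_eq_of_ringEquiv (RingEquiv.quotientBot _),
      MvPolynomial.ringKrullDim_of_isNoetherianRing, ringKrullDim_eq_zero_of_field, zero_add,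
      Nat.card_fin]
  have hlen : (List.ofFn G).length = c := List.length_ofFn
  have hle : ringKrullDim (MvPolynomial (Fin n) k ⧸ Ideal.ofList (List.ofFn G)) ≤
      ((n - (List.ofFn G).length : ℕ) : WithBot ℕ∞) := by
    rw [hlen, ringKrullDim_eq_of_ringEquiv (Ideal.quotEquivOfEq hI), hdim]
  have hreg := (Groth.Agent.S9154.key k (MvPolynomial (Fin n) k) n heq (List.ofFn G)
    (by omega) hle Q hfQ).1
  exact (Groth.Agent.S15821.result _ _ hreg.toIsWeaklyRegular).1


open Groth.Agent.Lib.Helper8.QRegLift in
/-- weak regularity on the localized fibre ring gives regularity on the localized fibre module -/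
theorem isRegular_localizedFibre_of_LL {A₁ B₁ : Type u} [CommRing A₁] [CommRing B₁] [Algebra A₁ B₁]
    (q : Ideal B₁) [q.IsPrime] (l : List B₁) (hlq : ∀ b ∈ l, b ∈ q)
    (hw : IsWeaklyRegular (LL (A₁ := A₁) q) (l.map (algebraMap B₁ (LL (A₁ := A₁) q)))) :
    IsRegular (LocalizedModule q.primeCompl (B₁ ⊗[A₁] (q.comap (algebraMap A₁ B₁)).ResidueField))
      l := by
  haveI := nontrivial_LL (A₁ := A₁) q
  have hreg : IsRegular (LL (A₁ := A₁) q) (l.map (algebraMap B₁ (LL (A₁ := A₁) q))) := by
    rw [isRegular_iff_isWeaklyRegular_of_subset_jacobson_annihilator]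
    · exact hw
    · intro x hx
      obtain ⟨b, hb, rfl⟩ := List.mem_map.1 hx
      have : Module.annihilator (LL (A₁ := A₁) q) (LL (A₁ := A₁) q) = ⊥ := by
        rw [eq_bot_iff]
        intro a ha
        rw [Module.mem_annihilator] at ha
        simpa using ha 1
      rw [this]
      exact mem_jacobson_LL q _ (hlq b hb)
  haveI : IsLocalizedModule q.primeCompl
      (IsScalarTower.toAlgHom B₁ (NN (A₁ := A₁) q) (LL (A₁ := A₁) q)).toLinearMap :=
    (isLocalizedModule_iff_isLocalization).mpr inferInstance
  let e : LocalizedModule q.primeCompl (NN (A₁ := A₁) q) ≃ₗ[B₁] LL (A₁ := A₁) q :=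
    IsLocalizedModule.iso q.primeCompl
      (IsScalarTower.toAlgHom B₁ (NN (A₁ := A₁) q) (LL (A₁ := A₁) q)).toLinearMap
  refine (AddEquiv.isRegular_congr (e := e.toAddEquiv) ?_).mpr hreg
  rw [List.forall₂_map_right_iff, List.forall₂_same]
  intro b _ x
  change e (b • x) = algebraMap B₁ (LL (A₁ := A₁) q) b • e x
  rw [map_smul, Algebra.smul_def]
  rfl

open Groth.Agent.Lib.Helper8.QRegLift in
/-- **core**: a relative global complete intersection is a regular sequence in every localization
of the polynomial ring at a prime containing it, with flat successive quotients -/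
theorem core (h : Synt.IsRelGCI R n c F) (q : Ideal (MvPolynomial (Fin n) R)) [q.IsPrime]
    (hq : ∀ b ∈ List.ofFn F, b ∈ q) :
    IsRegular (LocalizedModule q.primeCompl (MvPolynomial (Fin n) R)) (List.ofFn F) ∧
      ∀ i ≤ (List.ofFn F).length, Module.Flat R
        (LocalizedModule q.primeCompl (MvPolynomial (Fin n) R ⧸
          (Ideal.span {b | b ∈ (List.ofFn F).take i} •
            (⊤ : Submodule (MvPolynomial (Fin n) R) (MvPolynomial (Fin n) R))))) := by
  obtain ⟨p, hp⟩ : ∃ p : Ideal R, p = q.comap (algebraMap R (MvPolynomial (Fin n) R)) := ⟨_, rfl⟩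
  haveI : p.IsPrime := by rw [hp]; exact Ideal.comap_isPrime _ _
  -- the fibre is nontrivial, of the right dimension
  obtain ⟨Φ⟩ := nonempty_fibre_ringEquiv R n c F p.ResidueField
  have hfib : Nontrivial (MvPolynomial (Fin n) p.ResidueField ⧸
      Ideal.span (Set.range fun i => MvPolynomial.map (algebraMap R p.ResidueField) (F i))) →
      c ≤ n ∧ ringKrullDim (MvPolynomial (Fin n) p.ResidueField ⧸
        Ideal.span (Set.range fun i => MvPolynomial.map (algebraMap R p.ResidueField) (F i))) =
        ((n - c : ℕ) : WithBot ℕ∞) := by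
    intro hnt
    have hnt' : Nontrivial (p.Fiber (Synt.RelGCIRing R n c F)) := Φ.toEquiv.nontrivial
    obtain ⟨h1, h2⟩ := h ⟨p, inferInstance⟩ hnt'
    refine ⟨h1, ?_⟩
    have h3 := ringKrullDim_eq_of_ringEquiv (R := p.Fiber (Synt.RelGCIRing R n c F)) Φ
    rw [← h3]
    exact h2
  have hK := isKoszulRegularSeq_field p.ResidueField n c _ hfib
  -- transport to the fibre ring `P ⊗ κ`
  subst hp
  let θ : (q.comap (algebraMap R (MvPolynomial (Fin n) R))).ResidueField ⊗[R] MvPolynomial (Fin n) R ≃ₐ[_]
      MvPolynomial (Fin n) (q.comap (algebraMap R (MvPolynomial (Fin n) R))).ResidueField :=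
    MvPolynomial.algebraTensorAlgEquiv R _
  let ε : MvPolynomial (Fin n) (q.comap (algebraMap R (MvPolynomial (Fin n) R))).ResidueField ≃+*
      NN (A₁ := R) q :=
    θ.symm.toRingEquiv.trans (Algebra.TensorProduct.comm R _ _).toRingEquiv
  have hK2 := Groth.Agent.Lib.Helper8.LCILocal.isKoszulRegularSeq_map_ringEquiv ε _ hK
  have hl2 : (List.ofFn fun i => MvPolynomial.map
      (algebraMap R (q.comap (algebraMap R (MvPolynomial (Fin n) R))).ResidueField) (F i)).map ε =
      (List.ofFn F).map (algebraMap (MvPolynomial (Fin n) R) (NN (A₁ := R) q)) := by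
    rw [List.map_ofFn, List.map_ofFn]
    congr 1
    funext i
    simp only [Function.comp_apply]
    change (Algebra.TensorProduct.comm R _ _) (θ.symm _) = _
    rw [MvPolynomial.algebraTensorAlgEquiv_symm_map, Algebra.TensorProduct.comm_tmul,
      Algebra.TensorProduct.algebraMap_apply]
    rfl
  rw [hl2] at hK2
  have hK3 := Groth.Agent.Lib.Helper9.KoszulLoc.isKoszulRegularSeq_map_of_flat
    (LL (A₁ := R) q) _ hK2
  rw [List.map_map] at hK3
  have hcomp : (algebraMap (NN (A₁ := R) q) (LL (A₁ := R) q)) ∘
      (algebraMap (MvPolynomial (Fin n) R) (NN (A₁ := R) q)) =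
      algebraMap (MvPolynomial (Fin n) R) (LL (A₁ := R) q) := by
    funext x
    exact (IsScalarTower.algebraMap_apply _ _ _ x).symm
  rw [hcomp] at hK3
  haveI := isNoetherianRing_NN (A₁ := R) q
  haveI : IsNoetherianRing (LL (A₁ := R) q) :=
    IsLocalization.isNoetherianRing (TT (A₁ := R) q) _ inferInstance
  have hw := Groth.Agent.Lib.Helper8.LCICM.isWeaklyRegular_of_isKoszulRegularSeq _ hK3 (by
    intro x hx
    obtain ⟨b, hb, rfl⟩ := List.mem_map.1 hx
    exact mem_jacobson_LL q _ (hq b hb))
  have hreg := isRegular_localizedFibre_of_LL (A₁ := R) q (List.ofFn F) hq hw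
  have hfl0 : Module.Flat R (LocalizedModule q.primeCompl (MvPolynomial (Fin n) R)) :=
    Groth.Agent.Lib.Helper54.FlatOpenA.flat_of_isLocalizedModule (MvPolynomial (Fin n) R)
      q.primeCompl (LocalizedModule.mkLinearMap q.primeCompl (MvPolynomial (Fin n) R))
  exact Groth.Agent.S2586.result (A := R) (M := MvPolynomial (Fin n) R) q (List.ofFn F) hq hfl0 hreg


/-- conversion: regularity on the localized module versus regularity in the local ring -/
theorem isWeaklyRegular_atPrime_of_localizedModule {P : Type u} [CommRing P] (q : Ideal P)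
    [q.IsPrime] (l : List P) (hreg : IsWeaklyRegular (LocalizedModule q.primeCompl P) l) :
    IsWeaklyRegular (Localization.AtPrime q) (l.map (algebraMap P (Localization.AtPrime q))) := by
  rw [isWeaklyRegular_map_algebraMap_iff]
  let e : LocalizedModule q.primeCompl P ≃ₗ[P] Localization.AtPrime q :=
    IsLocalizedModule.iso q.primeCompl (Algebra.linearMap P (Localization.AtPrime q))
  exact (e.isWeaklyRegular_congr _).1 hreg

/-- a relative global complete intersection is a Koszul-regular sequence in the polynomial ring -/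
theorem isKoszulRegularSeq_of_isRelGCI (h : Synt.IsRelGCI R n c F) :
    LCI.IsKoszulRegularSeq (MvPolynomial (Fin n) R) (List.ofFn F) := by
  apply Groth.Agent.Lib.Helper9.KoszulLoc.isKoszulRegularSeq_of_localization
  intro q _ hq
  obtain ⟨hreg, -⟩ := core R n c F h q hq
  have hw := isWeaklyRegular_atPrime_of_localizedModule q _ hreg.toIsWeaklyRegular
  exact (Groth.Agent.S15821.result _ _ hw).1

end Groth.Agent.Lib.Helper8.RelGCI
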