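import Mathlib
import Groth.Agent.Lib.Helper8.HD
import Groth.Agent.Lib.Helper8.RelGCI
import Groth.Agent.Lib.Helper8.LCIFib
import Groth.Agent.Lib.Helper65.CIPres6
import Groth.Agent.Lib.Helper9.SmoothLCI0
import Groth.Agent.Lib.Helper9.LCIFinPres
import Groth.Agent.S9253
import Groth.Agent.S9142

/-!
# Syntomic = flat + local complete intersection (helper8)

Comparison over a field of `Synt.IsLCIOver` (locally a global complete intersection of the
expected dimension) and `LCI.IsLCI` (some presentation has Koszul-regular kernel), and the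
resulting characterisation of syntomic ring maps.
-/

set_option autoImplicit false
set_option linter.style.haveILetI false
universe u

namespace Groth.Agent.Lib.Helper8.SyntLCI

open TensorProduct IsLocalRing RingTheory.Sequence Groth.Agent.Lib.Helper65.CIPres

section Field

variable (k : Type u) [Field k]

/-- a global complete intersection over a field is a local complete intersection (Koszul sense) -/
theorem isLCI_of_isGlobalCI (S : Type u) [CommRing S] [Algebra k S] (h : Synt.IsGlobalCI k S) :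
    LCI.IsLCI k S := by
  rcases h with h | ⟨n, c, hc, φ, r, hφ, hker, hdim⟩
  · have hsurj : Function.Surjective (MvPolynomial.aeval (R := k) (fun _ : Fin 0 => (0 : S))) :=
      Function.surjective_to_subsingleton _
    refine ⟨Algebra.FiniteType.of_surjective _ hsurj, 0, _, hsurj, ?_⟩
    intro 𝔭 h𝔭
    exfalso
    apply 𝔭.isPrime.ne_top
    rw [Ideal.eq_top_iff_one]
    apply h𝔭
    rw [RingHom.mem_ker]
    exact Subsingleton.elim _ _
  · refine ⟨Algebra.FiniteType.of_surjective φ hφ, n, φ, hφ, ?_⟩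
    rw [hker, ← Groth.Agent.S9142.ofList_ofFn r]
    apply Groth.Agent.Lib.Helper9.SmoothLCI0.isKoszulRegularIdeal_ofList
    apply Groth.Agent.Lib.Helper8.RelGCI.isKoszulRegularSeq_field k n c r
    intro _
    refine ⟨hc, ?_⟩
    rw [← hdim, ← hker]
    exact ringKrullDim_eq_of_ringEquiv (Ideal.quotientKerAlgEquivOfSurjective hφ).toRingEquiv

/-- `Synt.IsLCIOver` implies `LCI.IsLCI` over a field -/
theorem isLCI_of_isLCIOver (T : Type u) [CommRing T] [Algebra k T] (h : Synt.IsLCIOver k T) :
    LCI.IsLCI k T := by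
  classical
  obtain ⟨hft, hloc⟩ := h
  choose g hg hG using hloc
  have hspan : Ideal.span (Set.range g) = ⊤ := by
    by_contra hne
    obtain ⟨M, hM, hle⟩ := Ideal.exists_le_maximal _ hne
    exact hg ⟨M, hM.isPrime⟩ (hle (Ideal.subset_span ⟨⟨M, hM.isPrime⟩, rfl⟩))
  obtain ⟨s, hs, hs'⟩ := (Ideal.span_eq_top_iff_finite _).1 hspan
  refine Groth.Agent.S9253.result k T s.card (fun i => (s.equivFin.symm i : T)) ?_ ?_
  · rw [← hs']
    congr 1
    ext x
    constructor
    · rintro ⟨i, rfl⟩
      exact (s.equivFin.symm i).2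
    · intro hx
      exact ⟨s.equivFin ⟨x, hx⟩, by simp⟩
  · intro j
    obtain ⟨𝔭, h𝔭⟩ := hs (s.equivFin.symm j).2
    have : Synt.IsGlobalCI k (Localization.Away ((s.equivFin.symm j : T))) := by
      rw [← h𝔭]
      exact hG 𝔭
    exact isLCI_of_isGlobalCI k _ this

/-- `LCI.IsLCI` implies `Synt.IsLCIOver` over a field -/
theorem isLCIOver_of_isLCI (T : Type u) [CommRing T] [Algebra k T] (h : LCI.IsLCI k T) :
    Synt.IsLCIOver k T := by
  obtain ⟨hft, n, ψ, hψ, hK⟩ := h
  haveI := hft
  refine ⟨hft, fun 𝔭 => ?_⟩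
  haveI : IsRegularRing (MvPolynomial (Fin n) k) := inferInstance
  rw [← isCIOver_atPrime_iff k T 𝔭.asIdeal]
  apply isCIOver_of_isCI_ker k (localAlgHom k ψ 𝔭.asIdeal) (localAlgHom_surjective k ψ hψ 𝔭.asIdeal)
  rw [ker_localAlgHom k ψ hψ 𝔭.asIdeal]
  set R := Localization.AtPrime (𝔭.asIdeal.comap ψ.toRingHom) with hR
  have hle : RingHom.ker ψ.toRingHom ≤ 𝔭.asIdeal.comap ψ.toRingHom := by
    intro x hx
    rw [Ideal.mem_comap, RingHom.mem_ker.1 hx]
    exact Ideal.zero_mem _
  have hJm : (RingHom.ker ψ.toRingHom).map (algebraMap (MvPolynomial (Fin n) k) R) ≤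
      maximalIdeal R := by
    rw [← IsLocalization.AtPrime.map_eq_maximalIdeal (𝔭.asIdeal.comap ψ.toRingHom) R]
    exact Ideal.map_mono hle
  have hne : (RingHom.ker ψ.toRingHom).map (algebraMap (MvPolynomial (Fin n) k) R) ≠ ⊤ := by
    intro h
    rw [h] at hJm
    exact (maximalIdeal.isMaximal R).ne_top (top_le_iff.1 hJm)
  haveI := isCM_of_isRegularLocalRing R
  rw [isCI_iff R _ hne]
  obtain ⟨l, hlK, hl⟩ := Groth.Agent.Lib.Helper8.HD.exists_list_of_isKoszulRegularIdeal
    (RingHom.ker ψ.toRingHom) hK (𝔭.asIdeal.comap ψ.toRingHom) hle R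
  have hmem : ∀ x ∈ l, x ∈ maximalIdeal R := by
    intro x hx
    apply hJm
    rw [hl]
    exact Ideal.subset_span hx
  have hW := Groth.Agent.Lib.Helper8.LCICM.isWeaklyRegular_of_isKoszulRegularSeq l hlK (by
    intro x hx
    rw [IsLocalRing.jacobson_eq_maximalIdeal ⊥ bot_ne_top]
    exact hmem x hx)
  exact ⟨l, IsRegular.of_isWeaklyRegular_of_mem_maximalIdeal R hmem hW, hl.symm⟩

end Field

/-- **syntomic = flat + local complete intersection** -/
theorem isSyntomic_iff (R S : Type u) [CommRing R] [CommRing S] [Algebra R S] :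
    Synt.IsSyntomic R S ↔ Module.Flat R S ∧ LCI.IsLCI R S := by
  constructor
  · rintro ⟨hflat, hfp, hfib⟩
    haveI := hflat
    haveI := hfp
    exact ⟨hflat, Groth.Agent.Lib.Helper8.HD.isLCI_of_fibres
      (fun p => isLCI_of_isLCIOver _ _ (hfib p))⟩
  · rintro ⟨hflat, hl⟩
    haveI := hflat
    refine ⟨hflat, Groth.Agent.Lib.Helper9.LCIFinPres.finitePresentation_of_isLCI R S hl, ?_⟩
    intro p
    exact isLCIOver_of_isLCI _ _
      (Groth.Agent.Lib.Helper8.LCIFib.isLCI_baseChange R S hl p.asIdeal.ResidueField)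

end Groth.Agent.Lib.Helper8.SyntLCI
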