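import Groth.Agent.Lib.Helper8.UEE
import Mathlib.CategoryTheory.Sites.Sheafification
import Mathlib.CategoryTheory.Sites.Limits
import Mathlib.CategoryTheory.Sites.LocallySurjective
import Mathlib.CategoryTheory.Sites.RegularEpi
import Mathlib.CategoryTheory.Limits.Types.Pullbacks

/-!
# Sheaves of types: epimorphisms are universally effective (helper library, helper8)
-/

set_option autoImplicit false
open CategoryTheory CategoryTheory.Limits Opposite
universe w v₁ u₁

namespace Groth.Agent.Lib.Helper8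

variable {C : Type u₁} [Category.{v₁} C] (J : GrothendieckTopology C)

/-- evaluation of sheaves of types at an object -/
noncomputable abbrev evSh (V : C) : Sheaf J (Type w) ⥤ Type w :=
  sheafToPresheaf J (Type w) ⋙ (evaluation Cᵒᵖ (Type w)).obj (op V)

theorem isPullback_ev {X' Y' X Y : Sheaf J (Type w)} {f' : X' ⟶ Y'} {i₁ : X' ⟶ X}
    {i₂ : Y' ⟶ Y} {f : X ⟶ Y} (sq : IsPullback f' i₁ i₂ f) (V : C) :
    IsPullback (f'.hom.app (op V)) (i₁.hom.app (op V)) (i₂.hom.app (op V)) (f.hom.app (op V)) :=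
  sq.map (evSh J V)

theorem epi_of_isPullback_of_epi [HasSheafify J (Type w)] {X' Y' X Y : Sheaf J (Type w)}
    {f' : X' ⟶ Y'} {i₁ : X' ⟶ X} {i₂ : Y' ⟶ Y} {f : X ⟶ Y} (sq : IsPullback f' i₁ i₂ f)
    [Epi f] : Epi f' := by
  have hf : Sheaf.IsLocallySurjective f := (Sheaf.isLocallySurjective_iff_epi f).2 inferInstance
  have : Sheaf.IsLocallySurjective f' := by
    constructor
    intro U y'
    refine J.superset_covering ?_ (Presheaf.imageSieve_mem J f.hom (i₂.hom.app (op U) y'))
    intro V g hg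
    obtain ⟨x, hx⟩ := hg
    have hnat : Y.obj.map g.op (i₂.hom.app (op U) y') = i₂.hom.app (op V) (Y'.obj.map g.op y') :=
      (NatTrans.naturality_apply i₂.hom g.op y').symm
    obtain ⟨x', hx'1, hx'2⟩ := Limits.Types.exists_of_isPullback (isPullback_ev J sq V)
      (Y'.obj.map g.op y') x (by rw [hx, hnat])
    exact ⟨x', hx'1⟩
  infer_instance

theorem UEE_of_epi [HasSheafify J (Type w)] {X Y : Sheaf J (Type w)} (f : X ⟶ Y) [Epi f] :
    UEE (Sheaf J (Type w)) f := by
  intro X' Y' i₁ i₂ f' sq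
  have : Epi f' := epi_of_isPullback_of_epi J sq
  have : IsRegularEpi f' := IsRegularEpiCategory.regularEpiOfEpi f'
  exact (isRegularEpi_iff_effectiveEpi f').1 this

end Groth.Agent.Lib.Helper8
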