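import Mathlib
import Groth.Prelude.Def_LCI2
import Groth.Agent.Lib.Helper33.GorFibreLCI
import Groth.Agent.Lib.Helper8.LCILocal

/-!
# Base change of presentations (helper8)

For `A → B → C`, a presentation `ψ : B[y] ↠ C` and an `A`-algebra `A'`, the induced presentation
`ψ' : B'[y] ↠ C'` of `C' = A' ⊗ C` over `B' = A' ⊗ B`, with kernel generated by the kernel of `ψ`.
-/

set_option autoImplicit false
set_option linter.style.haveILetI false
universe u

namespace Groth.Agent.Lib.Helper8.BK1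

open TensorProduct

variable (A : Type u) {B C : Type u} [CommRing A] [CommRing B] [CommRing C] [Algebra A B] [Algebra B C]
  [Algebra A C] [IsScalarTower A B C]
variable (A' : Type u) [CommRing A'] [Algebra A A']

/-- the base-changed map `A' ⊗ B → A' ⊗ C` -/
noncomputable def bcHom : A' ⊗[A] B →ₐ[A'] A' ⊗[A] C :=
  Algebra.TensorProduct.map (AlgHom.id A' A') (IsScalarTower.toAlgHom A B C)

theorem bcHom_tmul (a : A') (b : B) : bcHom (C := C) A A' (a ⊗ₜ b) = a ⊗ₜ algebraMap B C b := by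
  simp [bcHom]

variable {m : ℕ} (ψ : MvPolynomial (Fin m) B →ₐ[B] C)

/-- the comparison isomorphism -/
noncomputable def Θ : A' ⊗[A] MvPolynomial (Fin m) B ≃ₐ[A'] MvPolynomial (Fin m) (A' ⊗[A] B) :=
  MvPolynomial.rTensorAlgEquiv

/-- the map of polynomial rings -/
noncomputable def μ : MvPolynomial (Fin m) B →+* MvPolynomial (Fin m) (A' ⊗[A] B) :=
  MvPolynomial.map (Algebra.TensorProduct.includeRight (R := A) (A := A') (B := B)).toRingHom

theorem Θ_one_tmul (q : MvPolynomial (Fin m) B) :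
    Θ A A' (1 ⊗ₜ q) = μ A A' q := by
  ext d
  rw [Θ, MvPolynomial.coeff_rTensorAlgEquiv_tmul, μ, MvPolynomial.coeff_map]
  rfl

theorem Θ_tmul_C (a : A') (b : B) :
    Θ (B := B) (m := m) A A' (a ⊗ₜ MvPolynomial.C b) = MvPolynomial.C (a ⊗ₜ b) := by
  classical
  ext d
  rw [Θ, MvPolynomial.coeff_rTensorAlgEquiv_tmul, MvPolynomial.coeff_C, MvPolynomial.coeff_C]
  split_ifs
  · rfl
  · exact TensorProduct.tmul_zero _ _

/-- the base change of the presentation, as a map from `A' ⊗ B[y]` -/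
noncomputable def ψt : A' ⊗[A] MvPolynomial (Fin m) B →ₐ[A'] A' ⊗[A] C :=
  Algebra.TensorProduct.map (AlgHom.id A' A') (ψ.restrictScalars A)

theorem ψt_surjective (hψ : Function.Surjective ψ) : Function.Surjective (ψt A A' ψ) := by
  have : Function.Surjective (Algebra.TensorProduct.map (AlgHom.id A A') (ψ.restrictScalars A)) :=
    LinearMap.lTensor_surjective A' hψ
  exact this

theorem ker_ψt (hψ : Function.Surjective ψ) :
    RingHom.ker (ψt A A' ψ).toRingHom = (RingHom.ker ψ.toRingHom).map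
      (Algebra.TensorProduct.includeRight (R := A) (A := A') (B := MvPolynomial (Fin m) B)) := by
  have := Algebra.TensorProduct.lTensor_ker (A := A') (ψ.restrictScalars A) hψ
  exact this

/-- the base-changed presentation as a ring map -/
noncomputable def ψr : MvPolynomial (Fin m) (A' ⊗[A] B) →+* A' ⊗[A] C :=
  (ψt A A' ψ).toRingHom.comp (Θ (B := B) (m := m) A A').symm.toRingEquiv.toRingHom

theorem ψr_surjective (hψ : Function.Surjective ψ) : Function.Surjective (ψr A A' ψ) :=
  (ψt_surjective A A' ψ hψ).comp (Θ (B := B) (m := m) A A').symm.surjective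

theorem ψr_Θ (x : A' ⊗[A] MvPolynomial (Fin m) B) : ψr A A' ψ (Θ A A' x) = ψt A A' ψ x := by
  show (ψt A A' ψ) ((Θ (B := B) (m := m) A A').symm (Θ A A' x)) = _
  rw [AlgEquiv.symm_apply_apply]

theorem ψr_μ (q : MvPolynomial (Fin m) B) : ψr A A' ψ (μ A A' q) = 1 ⊗ₜ ψ q := by
  rw [← Θ_one_tmul, ψr_Θ]
  simp [ψt]

theorem ψr_C (b' : A' ⊗[A] B) : ψr A A' ψ (MvPolynomial.C b') = bcHom A A' b' := by
  induction b' using TensorProduct.induction_on with
  | zero => simp
  | tmul a b =>
    rw [← Θ_tmul_C, ψr_Θ, bcHom_tmul]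
    simp [ψt]
  | add x y hx hy => rw [map_add, map_add, map_add, hx, hy]

theorem ker_ψr' (hψ : Function.Surjective ψ) :
    RingHom.ker (ψr A A' ψ) = ((RingHom.ker ψ.toRingHom).map
      (Algebra.TensorProduct.includeRight (R := A) (A := A')
        (B := MvPolynomial (Fin m) B))).map
      ((Θ (B := B) (m := m) A A').toRingEquiv :
        A' ⊗[A] MvPolynomial (Fin m) B →+* MvPolynomial (Fin m) (A' ⊗[A] B)) := by
  have h1 : RingHom.ker (ψr A A' ψ) = (RingHom.ker (ψt A A' ψ).toRingHom).map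
      ((Θ (B := B) (m := m) A A').toRingEquiv : _ →+* _) := by
    rw [ψr, ← RingHom.comap_ker]
    exact Ideal.comap_symm (Θ (B := B) (m := m) A A').toRingEquiv
  rw [h1, ker_ψt A A' ψ hψ]

theorem ker_ψr (hψ : Function.Surjective ψ) :
    RingHom.ker (ψr A A' ψ) = (RingHom.ker ψ.toRingHom).map (μ A A') := by
  rw [ker_ψr' A A' ψ hψ]
  have h2 := Ideal.map_map (I := RingHom.ker ψ.toRingHom)
    (Algebra.TensorProduct.includeRight (R := A) (A := A') (B := MvPolynomial (Fin m) B)).toRingHom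
    ((Θ (B := B) (m := m) A A').toRingEquiv :
      A' ⊗[A] MvPolynomial (Fin m) B →+* MvPolynomial (Fin m) (A' ⊗[A] B))
  refine h2.trans ?_
  congr 1
  refine RingHom.ext fun q => ?_
  exact Θ_one_tmul A A' q

/-- the base-changed presentation as an algebra map -/
noncomputable def ψa :
    letI := (bcHom (B := B) (C := C) A A').toRingHom.toAlgebra
    MvPolynomial (Fin m) (A' ⊗[A] B) →ₐ[A' ⊗[A] B] A' ⊗[A] C :=
  letI := (bcHom (B := B) (C := C) A A').toRingHom.toAlgebra
  { toRingHom := ψr A A' ψ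
    commutes' := fun b' => ψr_C A A' ψ b' }

/-- base change of a local complete intersection `B → C` along `A → A'`, for `B`, `C` flat over `A` -/
theorem isLCI_bc [Module.Flat A B] [Module.Flat A C] (h : LCI.IsLCI B C) :
    @LCI.IsLCI (A' ⊗[A] B) _ (A' ⊗[A] C) _ (bcHom (B := B) (C := C) A A').toRingHom.toAlgebra := by
  letI := (bcHom (B := B) (C := C) A A').toRingHom.toAlgebra
  obtain ⟨hft, m, ψ, hψ, hK⟩ := h
  refine ⟨Algebra.FiniteType.of_surjective (ψa A A' ψ) (ψr_surjective A A' ψ hψ), m, ψa A A' ψ,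
    ψr_surjective A A' ψ hψ, ?_⟩
  haveI hQflat : Module.Flat A (MvPolynomial (Fin m) B) := Module.Flat.trans A B _
  haveI : Module.Flat A (MvPolynomial (Fin m) B ⧸ RingHom.ker ψ.toRingHom) :=
    Module.Flat.of_linearEquiv
      ((Ideal.quotientKerAlgEquivOfSurjective hψ).restrictScalars A).toLinearEquiv
  have h1 := Groth.Agent.Lib.Helper33.GorFibreLCI.isKoszulRegularIdeal_baseChange (A := A) A'
    (RingHom.ker ψ.toRingHom) hK
  have h2 := Groth.Agent.Lib.Helper8.LCILocal.isKoszulRegularIdeal_map_ringEquiv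
    (Θ (B := B) (m := m) A A').toRingEquiv _ h1
  have h3 : RingHom.ker (ψa A A' ψ).toRingHom = RingHom.ker (ψr A A' ψ) := rfl
  rw [h3, ker_ψr' A A' ψ hψ]
  exact h2

end Groth.Agent.Lib.Helper8.BK1
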