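import Mathlib
import Groth.Agent.Lib.Helper8.HDBase
import Groth.Agent.Lib.Helper9.KoszulDesc

/-!
# Descent of Koszul-regular generation to the fibre local ring (helper8)
-/

set_option autoImplicit false
set_option linter.style.haveILetI false
universe u

namespace Groth.Agent.Lib.Helper8.BK2

open TensorProduct IsLocalRing Groth.Agent.Lib.Helper8.HD

/-- in a local ring, a Koszul-regular ideal contained in the maximal ideal is generated by a
Koszul-regular sequence -/
theorem exists_list_of_local {R : Type u} [CommRing R] [IsLocalRing R] (J : Ideal R)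
    (hJ : LCI.IsKoszulRegularIdeal J) (hle : J ≤ maximalIdeal R) :
    ∃ l : List R, LCI.IsKoszulRegularSeq R l ∧ J = Ideal.ofList l := by
  obtain ⟨g, hg, l₀, hl₀, hspan⟩ := hJ ⟨maximalIdeal R, inferInstance⟩ hle
  have hgu : IsUnit g := by
    by_contra h
    exact hg ((IsLocalRing.mem_maximalIdeal g).2 h)
  have hle' : Submonoid.powers g ≤ IsUnit.submonoid R := by
    rintro _ ⟨n, rfl⟩
    exact hgu.pow n
  let e : R ≃ₐ[R] Localization.Away g := IsLocalization.atUnits R (Submonoid.powers g) hle'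
  refine ⟨l₀.map e.symm.toRingEquiv,
    Groth.Agent.Lib.Helper8.LCILocal.isKoszulRegularSeq_map_ringEquiv e.symm.toRingEquiv l₀ hl₀, ?_⟩
  have h1 : J = (J.map (algebraMap R (Localization.Away g))).map
      (e.symm.toRingEquiv : Localization.Away g →+* R) := by
    rw [Ideal.map_map]
    have : (e.symm.toRingEquiv : Localization.Away g →+* R).comp
        (algebraMap R (Localization.Away g)) = RingHom.id R := by
      ext x
      show e.symm (algebraMap R (Localization.Away g) x) = x
      rw [← e.commutes x, AlgEquiv.symm_apply_apply]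
      rfl
    rw [this, Ideal.map_id]
  rw [h1, hspan]
  change Ideal.map _ (Ideal.ofList l₀) = _
  rw [Ideal.map_ofList]
  rfl

section LocDesc

variable {A P : Type u} [CommRing A] [CommRing P] [Algebra A P] (p : Ideal A) [p.IsPrime]
  (𝔮 : Ideal P) [𝔮.IsPrime] [𝔮.LiesOver p]

/-- the canonical map to the fibre local ring -/
noncomputable abbrev psi : P →+* FF p 𝔮 :=
  (Ideal.Quotient.mk ((maximalIdeal (Localization.AtPrime p)).map (sig p 𝔮))).comp
    (algebraMap P (Localization.AtPrime 𝔮))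

theorem psi_mem (i : P) (hi : i ∈ 𝔮) : psi p 𝔮 i ∈ maximalIdeal (FF p 𝔮) := by
  have h1 : algebraMap P (Localization.AtPrime 𝔮) i ∈ maximalIdeal (Localization.AtPrime 𝔮) := by
    rw [← IsLocalization.AtPrime.map_eq_maximalIdeal 𝔮 (Localization.AtPrime 𝔮)]
    exact Ideal.mem_map_of_mem _ hi
  intro hu
  have hu' : IsUnit ((Ideal.Quotient.mk ((maximalIdeal (Localization.AtPrime p)).map
      (sig p 𝔮))) (algebraMap P (Localization.AtPrime 𝔮) i)) := hu
  haveI : IsLocalHom (Ideal.Quotient.mk ((maximalIdeal (Localization.AtPrime p)).map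
      (sig p 𝔮))) := IsLocalHom.of_surjective _ Ideal.Quotient.mk_surjective
  exact h1 (isUnit_of_map_unit _ _ hu')

theorem comap_QQ : (QQ p 𝔮).comap
    (Algebra.TensorProduct.includeRight (R := A) (A := p.ResidueField) (B := P)).toRingHom = 𝔮 := by
  ext x
  constructor
  · intro hx
    by_contra hn
    exact one_tmul_notMem p 𝔮 x hn hx
  · intro hx
    show phi p 𝔮 (1 ⊗ₜ x) ∈ maximalIdeal (FF p 𝔮)
    rw [phi_one_tmul]
    exact psi_mem p 𝔮 x hx

/-- a prime of the fibre ring is determined by its contraction -/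
theorem eq_QQ (Q₂ : Ideal (p.Fiber P)) [Q₂.IsPrime]
    (h : Q₂.comap (Algebra.TensorProduct.includeRight (R := A) (A := p.ResidueField)
      (B := P)).toRingHom = 𝔮) : Q₂ = QQ p 𝔮 := by
  have hinj := (PrimeSpectrum.primesOverOrderIsoFiber A P p).symm.injective
  have h1 : (PrimeSpectrum.primesOverOrderIsoFiber A P p).symm ⟨Q₂, inferInstance⟩ =
      (PrimeSpectrum.primesOverOrderIsoFiber A P p).symm ⟨QQ p 𝔮, inferInstance⟩ := by
    apply Subtype.ext
    rw [PrimeSpectrum.coe_primesOverOrderIsoFiber_symm_apply,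
      PrimeSpectrum.coe_primesOverOrderIsoFiber_symm_apply]
    exact h.trans (comap_QQ p 𝔮).symm
  exact congrArg PrimeSpectrum.asIdeal (hinj h1)

variable {R' : Type u} [CommRing R'] (𝔮' : Ideal R') [𝔮'.IsPrime]
  (ι : p.Fiber P →+* R') (hι : ι.Flat)

include hι in
/-- descent of Koszul-regular generation from the local ring upstairs to the fibre local ring -/
theorem exists_list_FF (hQ : 𝔮'.comap ι = QQ p 𝔮) (I : Ideal P) (hI : I ≤ 𝔮)
    (h : LCI.IsKoszulRegularIdeal (((I.map (Algebra.TensorProduct.includeRight (R := A)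
      (A := p.ResidueField) (B := P)).toRingHom).map ι).map
        (algebraMap R' (Localization.AtPrime 𝔮')))) :
    ∃ l' : List (FF p 𝔮), LCI.IsKoszulRegularSeq (FF p 𝔮) l' ∧
      I.map (psi p 𝔮) = Ideal.ofList l' := by
  letI alg : Algebra (p.Fiber P) (FF p 𝔮) := (phi p 𝔮).toRingHom.toAlgebra
  haveI hloc : IsLocalization.AtPrime (FF p 𝔮) (QQ p 𝔮) := isLocalization_FF p 𝔮
  have hle : (QQ p 𝔮).primeCompl ≤ 𝔮'.primeCompl.comap ι := by
    intro x hx
    show ι x ∉ 𝔮'
    intro hmem
    apply hx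
    rw [← hQ]
    exact hmem
  let lam : FF p 𝔮 →+* Localization.AtPrime 𝔮' := IsLocalization.map (Localization.AtPrime 𝔮') ι hle
  have hlam : ∀ x : p.Fiber P, lam (algebraMap (p.Fiber P) (FF p 𝔮) x) =
      algebraMap R' (Localization.AtPrime 𝔮') (ι x) := fun x => IsLocalization.map_eq hle x
  letI algL : Algebra (FF p 𝔮) (Localization.AtPrime 𝔮') := lam.toAlgebra
  letI algF : Algebra (p.Fiber P) (Localization.AtPrime 𝔮') :=
    ((algebraMap R' (Localization.AtPrime 𝔮')).comp ι).toAlgebra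
  haveI : IsScalarTower (p.Fiber P) (FF p 𝔮) (Localization.AtPrime 𝔮') :=
    IsScalarTower.of_algebraMap_eq (fun x => (hlam x).symm)
  haveI hflatF : Module.Flat (p.Fiber P) (Localization.AtPrime 𝔮') := by
    have h1 : (algebraMap R' (Localization.AtPrime 𝔮')).Flat :=
      RingHom.flat_algebraMap_iff.2 (IsLocalization.flat _ 𝔮'.primeCompl)
    exact RingHom.Flat.comp hι h1
  haveI hflat : Module.Flat (FF p 𝔮) (Localization.AtPrime 𝔮') :=
    (Module.flat_iff_of_isLocalization (FF p 𝔮) (QQ p 𝔮).primeCompl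
      (Localization.AtPrime 𝔮')).2 hflatF
  haveI hlocal : IsLocalHom (algebraMap (FF p 𝔮) (Localization.AtPrime 𝔮')) := by
    refine ((IsLocalRing.local_hom_TFAE (algebraMap (FF p 𝔮) (Localization.AtPrime 𝔮'))).out 0 1).2 ?_
    rintro _ ⟨x, hx, rfl⟩
    obtain ⟨a, s, rfl⟩ := IsLocalization.exists_mk'_eq (QQ p 𝔮).primeCompl x
    have ha : a ∈ QQ p 𝔮 := by
      have := (IsLocalization.AtPrime.mk'_mem_maximal_iff (FF p 𝔮) (QQ p 𝔮) a s).1 hx
      exact this
    show lam (IsLocalization.mk' (FF p 𝔮) a s) ∈ maximalIdeal (Localization.AtPrime 𝔮')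
    rw [IsLocalization.map_mk' hle]
    rw [IsLocalization.AtPrime.mk'_mem_maximal_iff (Localization.AtPrime 𝔮') 𝔮']
    have : a ∈ 𝔮'.comap ι := by rw [hQ]; exact ha
    exact this
  haveI : Module.FaithfullyFlat (FF p 𝔮) (Localization.AtPrime 𝔮') :=
    Module.FaithfullyFlat.of_flat_of_isLocalHom
  have hmap : (I.map (psi p 𝔮)).map (algebraMap (FF p 𝔮) (Localization.AtPrime 𝔮')) =
      ((I.map (Algebra.TensorProduct.includeRight (R := A)
      (A := p.ResidueField) (B := P)).toRingHom).map ι).map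
        (algebraMap R' (Localization.AtPrime 𝔮')) := by
    rw [Ideal.map_map, Ideal.map_map, Ideal.map_map]
    congr 1
    refine RingHom.ext fun x => ?_
    show lam (psi p 𝔮 x) = algebraMap R' (Localization.AtPrime 𝔮') (ι (1 ⊗ₜ x))
    rw [← hlam]
    congr 1
    exact (phi_one_tmul p 𝔮 x).symm
  have hK : LCI.IsKoszulRegularIdeal (I.map (psi p 𝔮)) := by
    apply Groth.Agent.Lib.Helper9.KoszulDesc.koszulRegularIdeal_descent (FF p 𝔮)
      (Localization.AtPrime 𝔮')
    rw [hmap]
    exact h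
  refine exists_list_of_local _ hK ?_
  rw [Ideal.map_le_iff_le_comap]
  intro i hi
  exact psi_mem p 𝔮 i (hI hi)

end LocDesc

end Groth.Agent.Lib.Helper8.BK2
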