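import Mathlib
import Groth.Agent.Lib.Helper8.BK1
import Groth.Agent.Lib.Helper8.BK2
import Groth.Agent.Lib.Helper8.HDGenPt
import Groth.Agent.Lib.Helper9.SmoothLCI
import Groth.Agent.Lib.Helper9.LciMor2
import Groth.Agent.Lib.Helper9.LCIComp
import Groth.Agent.Lib.Helper9.KoszulIndep
import Groth.Agent.S15821

/-!
# Pointwise descent of local complete intersections along base change to a field (helper8)

`A → B → C` with `B`, `C` flat of finite presentation over `A`; `k'` a field over `A`.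
If `k' ⊗ B → k' ⊗ C` is lci near a prime `r'`, then `B → C` is lci near the contraction of `r'`.
-/

set_option autoImplicit false
set_option linter.style.haveILetI false
set_option maxHeartbeats 1000000
universe u

namespace Groth.Agent.Lib.Helper8.BK3

open TensorProduct IsLocalRing Groth.Agent.Lib.Helper8.HD Groth.Agent.Lib.Helper8.BK1
  Groth.Agent.Lib.Helper8.BK2

theorem core {A B C : Type u} [CommRing A] [CommRing B] [CommRing C] [Algebra A B] [Algebra B C]
    [Algebra A C] [IsScalarTower A B C] [Module.Flat A B] [Algebra.FinitePresentation A B]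
    [Module.Flat A C] [Algebra.FinitePresentation A C]
    (k' : Type u) [CommRing k'] (hk : IsField k') [Algebra A k'] (r' : Ideal (k' ⊗[A] C)) [r'.IsPrime]
    (e' : k' ⊗[A] C) (he' : e' ∉ r')
    (hL : @LCI.IsLCI (k' ⊗[A] B) _ (Localization.Away e') _
      ((algebraMap (k' ⊗[A] C) (Localization.Away e')).comp
        (bcHom (B := B) (C := C) A k').toRingHom).toAlgebra) :
    ∃ e : C, (1 : k') ⊗ₜ[A] e ∉ r' ∧ LCI.IsLCI B (Localization.Away e) := by
  classical
  haveI : Algebra.FinitePresentation B C :=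
    Algebra.FinitePresentation.of_restrict_scalars_finitePresentation A B C
  obtain ⟨m, ψ, hψ, hKfg⟩ := Algebra.FinitePresentation.out (R := B) (A := C)
  have hψ' := ψr_surjective A k' ψ hψ
  have hker' := ker_ψr A k' ψ hψ
  obtain ⟨g', rfl⟩ := hψ' e'
  obtain ⟨𝔮', h𝔮'⟩ : ∃ 𝔮' : Ideal (MvPolynomial (Fin m) (k' ⊗[A] B)), 𝔮' = r'.comap (ψr A k' ψ) :=
    ⟨_, rfl⟩
  haveI : 𝔮'.IsPrime := by rw [h𝔮']; exact Ideal.comap_isPrime _ _
  have hg' : g' ∉ 𝔮' := by rw [h𝔮']; exact he'
  obtain ⟨𝔮, h𝔮⟩ : ∃ 𝔮 : Ideal (MvPolynomial (Fin m) B), 𝔮 = 𝔮'.comap (μ A k') := ⟨_, rfl⟩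
  haveI : 𝔮.IsPrime := by rw [h𝔮]; exact Ideal.comap_isPrime _ _
  have hmem𝔮 : ∀ x : MvPolynomial (Fin m) B, x ∈ 𝔮 ↔ (1 : k') ⊗ₜ[A] ψ x ∈ r' := by
    intro x
    rw [h𝔮, Ideal.mem_comap, h𝔮', Ideal.mem_comap, ψr_μ]
  obtain ⟨p, hp⟩ : ∃ p : Ideal A, p = 𝔮.under A := ⟨_, rfl⟩
  haveI : p.IsPrime := by rw [hp]; exact Ideal.comap_isPrime _ _
  haveI : 𝔮.LiesOver p := ⟨hp⟩
  have hK𝔮 : RingHom.ker ψ.toRingHom ≤ 𝔮 := by
    intro x hx
    rw [hmem𝔮]
    have : ψ x = 0 := hx
    rw [this, TensorProduct.tmul_zero]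
    exact zero_mem _
  -- step 5: Koszul-regularity upstairs
  obtain ⟨ρ', hρ'⟩ : ∃ ρ' : Localization.Away g' →+* Localization.Away (ψr A k' ψ g'),
      ρ' = Localization.awayMap (ψr A k' ψ) g' := ⟨_, rfl⟩
  have hρs : Function.Surjective ρ' := by
    rw [hρ']
    exact Groth.Agent.Lib.Helper9.KoszulIndep.awayMap_surjective _ hψ' g'
  have hρk : RingHom.ker ρ' =
      (RingHom.ker (ψr A k' ψ)).map (algebraMap _ (Localization.Away g')) := by
    rw [hρ']
    exact Groth.Agent.Lib.Helper9.KoszulIndep.ker_awayMap _ g'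
  have h2 : LCI.IsKoszulRegularIdeal (RingHom.ker ρ') := by
    letI algBL : Algebra (k' ⊗[A] B) (Localization.Away (ψr A k' ψ g')) :=
      ((algebraMap (k' ⊗[A] C) (Localization.Away (ψr A k' ψ g'))).comp
        (bcHom (B := B) (C := C) A k').toRingHom).toAlgebra
    letI algPL : Algebra (Localization.Away g') (Localization.Away (ψr A k' ψ g')) :=
      ρ'.toAlgebra
    haveI : IsScalarTower (k' ⊗[A] B) (Localization.Away g')
        (Localization.Away (ψr A k' ψ g')) := IsScalarTower.of_algebraMap_eq (fun b' => by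
      show algebraMap (k' ⊗[A] C) _ (bcHom A k' b') =
        ρ' (algebraMap (k' ⊗[A] B) (Localization.Away g') b')
      rw [IsScalarTower.algebraMap_apply (k' ⊗[A] B) (MvPolynomial (Fin m) (k' ⊗[A] B))
        (Localization.Away g'), MvPolynomial.algebraMap_eq, hρ', Localization.awayMap,
        IsLocalization.Away.map, IsLocalization.map_eq, ψr_C])
    haveI : Algebra.Smooth (k' ⊗[A] B) (MvPolynomial (Fin m) (k' ⊗[A] B)) :=
      ⟨inferInstance, inferInstance⟩
    haveI : Algebra.Smooth (MvPolynomial (Fin m) (k' ⊗[A] B)) (Localization.Away g') :=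
      Algebra.Smooth.of_isLocalization_Away g'
    haveI : Algebra.Smooth (k' ⊗[A] B) (Localization.Away g') :=
      Algebra.Smooth.comp _ (MvPolynomial (Fin m) (k' ⊗[A] B)) _
    have h1 := Groth.Agent.Lib.Helper9.SmoothLCI.isLCI_cancel_smooth (R := k' ⊗[A] B)
      (Localization.Away g') (Localization.Away (ψr A k' ψ g')) hL
    exact (Groth.Agent.Lib.Helper9.SmoothLCI0.isLCI_iff_ker (A := Localization.Away g')
      (C := Localization.Away (ψr A k' ψ g')) hρs).mp h1
  -- step 6: to the local ring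
  have h3 : LCI.IsKoszulRegularIdeal (((RingHom.ker ψ.toRingHom).map (μ A k')).map
      (algebraMap (MvPolynomial (Fin m) (k' ⊗[A] B)) (Localization.AtPrime 𝔮'))) := by
    have hgu : IsUnit (algebraMap (MvPolynomial (Fin m) (k' ⊗[A] B)) (Localization.AtPrime 𝔮') g') :=
      IsLocalization.map_units _ (⟨g', hg'⟩ : 𝔮'.primeCompl)
    letI : Algebra (Localization.Away g') (Localization.AtPrime 𝔮') :=
      (IsLocalization.Away.lift g' hgu).toAlgebra
    haveI : IsScalarTower (MvPolynomial (Fin m) (k' ⊗[A] B)) (Localization.Away g')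
        (Localization.AtPrime 𝔮') :=
      IsScalarTower.of_algebraMap_eq (fun r => (IsLocalization.Away.lift_eq g' hgu r).symm)
    have hle : Submonoid.powers g' ≤ 𝔮'.primeCompl := by
      rintro _ ⟨n, rfl⟩
      exact 𝔮'.primeCompl.pow_mem hg' n
    haveI : IsLocalization ((𝔮'.primeCompl).map (algebraMap (MvPolynomial (Fin m) (k' ⊗[A] B))
        (Localization.Away g'))) (Localization.AtPrime 𝔮') :=
      IsLocalization.isLocalization_of_submonoid_le (Localization.Away g') (Localization.AtPrime 𝔮')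
        (Submonoid.powers g') 𝔮'.primeCompl hle
    haveI : Module.Flat (Localization.Away g') (Localization.AtPrime 𝔮') :=
      IsLocalization.flat _ ((𝔮'.primeCompl).map (algebraMap (MvPolynomial (Fin m) (k' ⊗[A] B))
        (Localization.Away g')))
    have h := Groth.Agent.Lib.Helper9.LCIComp.map_koszulRegularIdeal_of_flat
      (Localization.AtPrime 𝔮') _ h2
    rw [hρk, hker', Ideal.map_map, ← IsScalarTower.algebraMap_eq] at h
    exact h
  -- step 7: the flat map from the fibre ring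
  let κ' : k' →+* MvPolynomial (Fin m) (k' ⊗[A] B) :=
    (MvPolynomial.C).comp (Algebra.TensorProduct.includeLeft (R := A) (S := A) (A := k') (B := B)).toRingHom
  have hμκ : ∀ a : A, μ A k' (algebraMap A (MvPolynomial (Fin m) B) a) = κ' (algebraMap A k' a) := by
    intro a
    rw [MvPolynomial.algebraMap_apply, μ, MvPolynomial.map_C]
    show MvPolynomial.C ((1 : k') ⊗ₜ[A] algebraMap A B a) = MvPolynomial.C (algebraMap A k' a ⊗ₜ[A] (1 : B))
    rw [Algebra.algebraMap_eq_smul_one, Algebra.algebraMap_eq_smul_one, TensorProduct.smul_tmul]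
  have hpker : p ≤ RingHom.ker (Algebra.ofId A k') := by
    intro a ha
    rw [RingHom.mem_ker]
    by_contra hne
    have hu : IsUnit (algebraMap A k' a) := by
      obtain ⟨b, hb⟩ := hk.mul_inv_cancel hne
      exact IsUnit.of_mul_eq_one _ hb
    have h1 : algebraMap A (MvPolynomial (Fin m) B) a ∈ 𝔮 := by
      rw [hp] at ha
      exact ha
    rw [h𝔮, Ideal.mem_comap, hμκ] at h1
    exact (inferInstance : 𝔮'.IsPrime).ne_top (Ideal.eq_top_of_isUnit_mem _ h1 (hu.map κ'))
  have hcompl : p.primeCompl ≤ (IsUnit.submonoid k').comap (Algebra.ofId A k') := by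
    intro a ha
    show IsUnit (algebraMap A k' a)
    by_contra hnu
    have h0 : algebraMap A k' a = 0 := by
      by_contra hne
      obtain ⟨b, hb⟩ := hk.mul_inv_cancel hne
      exact hnu (IsUnit.of_mul_eq_one _ hb)
    apply ha
    rw [hp]
    show algebraMap A (MvPolynomial (Fin m) B) a ∈ 𝔮
    rw [h𝔮, Ideal.mem_comap, hμκ, h0, map_zero]
    exact zero_mem _
  let f₀ : p.ResidueField →ₐ[A] k' := Ideal.ResidueField.liftₐ p (Algebra.ofId A k') hpker hcompl
  let ι₀ : p.Fiber (MvPolynomial (Fin m) B) →ₐ[A] k' ⊗[A] MvPolynomial (Fin m) B :=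
    Algebra.TensorProduct.map f₀ (AlgHom.id A (MvPolynomial (Fin m) B))
  have hι₀ : ι₀.toRingHom.Flat := by
    have hf : f₀.toRingHom.Flat := RingHom.Flat.of_isField (Field.toIsField p.ResidueField) f₀.toRingHom
    have hg : (AlgHom.id A (MvPolynomial (Fin m) B)).Flat := RingHom.Flat.id _
    exact RingHom.Flat.tensorProductMap hf hg
  let ι : p.Fiber (MvPolynomial (Fin m) B) →+* MvPolynomial (Fin m) (k' ⊗[A] B) :=
    ((Θ (B := B) (m := m) A k').toRingEquiv : _ →+* _).comp ι₀.toRingHom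
  have hι : ι.Flat := RingHom.Flat.comp hι₀ (RingHom.Flat.of_bijective (Θ (B := B) (m := m) A k').bijective)
  have hι1 : ∀ q : MvPolynomial (Fin m) B, ι ((1 : p.ResidueField) ⊗ₜ[A] q) = μ A k' q := by
    intro q
    show Θ A k' (ι₀ ((1 : p.ResidueField) ⊗ₜ[A] q)) = _
    have : ι₀ ((1 : p.ResidueField) ⊗ₜ[A] q) = (1 : k') ⊗ₜ[A] q := by
      simp [ι₀]
    rw [this, Θ_one_tmul]
  haveI : (𝔮'.comap ι).IsPrime := Ideal.comap_isPrime _ _
  have hQ : 𝔮'.comap ι = QQ p 𝔮 := by
    apply eq_QQ p 𝔮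
    ext x
    rw [Ideal.mem_comap, Ideal.mem_comap]
    show ι ((1 : p.ResidueField) ⊗ₜ[A] x) ∈ 𝔮' ↔ _
    rw [hι1, h𝔮, Ideal.mem_comap]
  -- step 8
  have hfib := exists_list_FF p 𝔮 𝔮' ι hι hQ (RingHom.ker ψ.toRingHom) hK𝔮 (by
    have : ((RingHom.ker ψ.toRingHom).map (Algebra.TensorProduct.includeRight (R := A)
        (A := p.ResidueField) (B := MvPolynomial (Fin m) B)).toRingHom).map ι =
        (RingHom.ker ψ.toRingHom).map (μ A k') := by
      rw [Ideal.map_map]
      congr 1
      exact RingHom.ext fun q => hι1 q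
    rw [this]
    exact h3)
  -- step 9
  haveI : Module.Flat A (MvPolynomial (Fin m) B) := Module.Flat.trans A B _
  haveI : Algebra.FinitePresentation A (MvPolynomial (Fin m) B) :=
    Algebra.FinitePresentation.trans A B _
  haveI : Module.Flat A (MvPolynomial (Fin m) B ⧸ RingHom.ker ψ.toRingHom) :=
    Module.Flat.of_linearEquiv
      ((Ideal.quotientKerAlgEquivOfSurjective hψ).restrictScalars A).toLinearEquiv
  obtain ⟨f, g, hg, hfI, hWR, hspan, -⟩ := Groth.Agent.Lib.Helper8.HDGenPt.local_main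
    (RingHom.ker ψ.toRingHom) hKfg p 𝔮 hK𝔮 hfib
  -- step 10
  refine ⟨ψ g, ?_, ?_⟩
  · rw [← hmem𝔮]
    exact hg
  · set Pa := Localization.Away g with hPa
    set b := ψ g with hbdef
    set ρ : Pa →+* Localization.Away b := Localization.awayMap ψ.toRingHom g with hρ
    have hρsurj : Function.Surjective ρ :=
      Groth.Agent.Lib.Helper9.KoszulIndep.awayMap_surjective _ hψ g
    have hρker : RingHom.ker ρ = (RingHom.ker ψ.toRingHom).map
        (algebraMap (MvPolynomial (Fin m) B) Pa) :=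
      Groth.Agent.Lib.Helper9.KoszulIndep.ker_awayMap _ g
    have hKa : LCI.IsKoszulRegularIdeal ((RingHom.ker ψ.toRingHom).map
        (algebraMap (MvPolynomial (Fin m) B) Pa)) := by
      rw [hspan]
      exact Groth.Agent.Lib.Helper9.SmoothLCI0.isKoszulRegularIdeal_ofList _
        (Groth.Agent.S15821.result _ _ hWR).1
    have h1 : @LCI.IsLCI Pa _ (Localization.Away b) _ ρ.toAlgebra :=
      Groth.Agent.Lib.Helper9.LciMor2.ringHomLCI_of_surjective ρ hρsurj (by rw [hρker]; exact hKa)
    haveI : Algebra.Smooth B (MvPolynomial (Fin m) B) := ⟨inferInstance, inferInstance⟩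
    haveI : Algebra.Smooth (MvPolynomial (Fin m) B) Pa := Algebra.Smooth.of_isLocalization_Away g
    haveI : Algebra.Smooth B Pa := Algebra.Smooth.comp B (MvPolynomial (Fin m) B) Pa
    have h2 : @LCI.IsLCI B _ Pa _ (algebraMap B Pa).toAlgebra :=
      Groth.Agent.Lib.Helper9.LciMor2.ringHomLCI_of_smooth (algebraMap B Pa)
        (RingHom.smooth_algebraMap.mpr inferInstance)
    have h3' := Groth.Agent.Lib.Helper9.LciMor2.ringHomLCI_comp _ _ h2 h1
    have heq : (ρ.comp (algebraMap B Pa)).toAlgebra =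
        (inferInstance : Algebra B (Localization.Away b)) := by
      apply Algebra.algebra_ext
      intro x
      change ρ (algebraMap B Pa x) = algebraMap B (Localization.Away b) x
      rw [IsScalarTower.algebraMap_apply B (MvPolynomial (Fin m) B) Pa, hρ, Localization.awayMap,
        IsLocalization.Away.map, IsLocalization.map_eq, MvPolynomial.algebraMap_eq]
      show algebraMap C (Localization.Away b) (ψ (MvPolynomial.C x)) = _
      rw [← MvPolynomial.algebraMap_eq, ψ.commutes]
      exact (IsScalarTower.algebraMap_apply B C (Localization.Away b) x).symm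
    rw [heq] at h3'
    exact h3'

end Groth.Agent.Lib.Helper8.BK3
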