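import Mathlib
import Groth.Prelude.Def_LCI2
import Groth.Agent.Lib.Helper9.LciMor2
import Groth.Agent.Lib.Helper9.SmoothLCI
import Groth.Agent.Lib.Helper9.SmoothLCI0
import Groth.Agent.Lib.Helper9.LCIDescent
import Groth.Agent.Lib.Helper8.BK1
import Groth.Agent.Lib.Helper8.BK3

/-!
# Transfer of the base change results for l.c.i. maps along pushout squares of rings (helper8)
-/

set_option autoImplicit false
set_option linter.style.haveILetI false
universe u

namespace Groth.Agent.Lib.Helper8.BK4

open TensorProduct CategoryTheory CategoryTheory.Limits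
open Groth.Agent.Lib.Helper9 Groth.Agent.Lib.Helper8.BK1

/-- a ring map is a local complete intersection -/
def RLCI {R T : Type u} [CommRing R] [CommRing T] (φ : R →+* T) : Prop :=
  @LCI.IsLCI R _ T _ φ.toAlgebra

section basic
variable {R T : Type u} [CommRing R] [CommRing T]

theorem rlci_of_bijective (φ : R →+* T) (h : Function.Bijective φ) : RLCI φ := by
  refine LciMor2.ringHomLCI_of_surjective φ h.2 ?_
  have hker : RingHom.ker φ = Ideal.ofList [] := by
    rw [(RingHom.injective_iff_ker_eq_bot φ).mp h.1]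
    simp [Ideal.ofList]
  rw [hker]
  exact SmoothLCI0.isKoszulRegularIdeal_ofList [] (LCIDescent.isKoszulRegularSeq_nil _)

theorem rlci_comp {U : Type u} [CommRing U] (φ : R →+* T) (ψ : T →+* U) (hφ : RLCI φ)
    (hψ : RLCI ψ) : RLCI (ψ.comp φ) :=
  LciMor2.ringHomLCI_comp φ ψ hφ hψ

theorem rlci_congr {R₁ T₁ R₂ T₂ : Type u} [CommRing R₁] [CommRing T₁] [CommRing R₂] [CommRing T₂]
    (φ₁ : R₁ →+* T₁) (φ₂ : R₂ →+* T₂) (ρ : R₁ ≃+* R₂) (τ : T₁ ≃+* T₂)
    (h : ∀ x, φ₂ (ρ x) = τ (φ₁ x)) (h₁ : RLCI φ₁) : RLCI φ₂ := by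
  have : φ₂ = ((τ : T₁ →+* T₂).comp φ₁).comp (ρ.symm : R₂ →+* R₁) := by
    ext x
    simp only [RingHom.comp_apply, RingEquiv.coe_toRingHom]
    rw [← h, RingEquiv.apply_symm_apply]
  rw [this]
  exact rlci_comp _ _ (rlci_of_bijective _ ρ.symm.bijective)
    (rlci_comp _ _ h₁ (rlci_of_bijective _ τ.bijective))

theorem rlci_algebraMap [inst : Algebra R T] (h : LCI.IsLCI R T) : RLCI (algebraMap R T) := by
  unfold RLCI
  have : (algebraMap R T).toAlgebra = inst := Algebra.algebra_ext _ _ (fun _ => rfl)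
  rw [this]
  exact h

theorem isLCI_of_rlci_algebraMap [inst : Algebra R T] (h : RLCI (algebraMap R T)) :
    LCI.IsLCI R T := by
  unfold RLCI at h
  have : (algebraMap R T).toAlgebra = inst := Algebra.algebra_ext _ _ (fun _ => rfl)
  rw [this] at h
  exact h

theorem rlci_away (e : R) (L : Type u) [CommRing L] (ρ : R →+* L)
    (hloc : @IsLocalization.Away R _ e L _ ρ.toAlgebra) : RLCI ρ := by
  letI := ρ.toAlgebra
  exact SmoothLCI.isLCI_of_isLocalizationAway e L

end basic

section main
variable {A A' B C B' C' : Type u} [CommRing A] [CommRing A'] [CommRing B] [CommRing C]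
  [CommRing B'] [CommRing C']
  [Algebra A A'] [Algebra A B] [Algebra B C] [Algebra A C] [IsScalarTower A B C]
  [Algebra A' B'] [Algebra B B'] [Algebra A B'] [IsScalarTower A A' B'] [IsScalarTower A B B']
  [Algebra A' C'] [Algebra C C'] [Algebra A C'] [IsScalarTower A A' C'] [IsScalarTower A C C']

/-- the comparison between the base-changed map and the tensor model -/
theorem compat [Algebra.IsPushout A A' B B'] [Algebra.IsPushout A A' C C']
    (φ' : B' →+* C') (h1 : ∀ b : B, φ' (algebraMap B B' b) = algebraMap C C' (algebraMap B C b))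
    (h2 : ∀ a : A', φ' (algebraMap A' B' a) = algebraMap A' C' a) (z : A' ⊗[A] B) :
    φ' (Algebra.IsPushout.equiv A A' B B' z) =
      Algebra.IsPushout.equiv A A' C C' (bcHom (B := B) (C := C) A A' z) := by
  induction z with
  | zero => simp
  | add x y hx hy => simp only [map_add, hx, hy]
  | tmul a b =>
    rw [bcHom_tmul, Algebra.IsPushout.equiv_tmul, Algebra.IsPushout.equiv_tmul, map_mul, h1, h2]

theorem main1 [Module.Flat A B] [Module.Flat A C] [Algebra.IsPushout A A' B B']
    [Algebra.IsPushout A A' C C']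
    (φ' : B' →+* C') (h1 : ∀ b : B, φ' (algebraMap B B' b) = algebraMap C C' (algebraMap B C b))
    (h2 : ∀ a : A', φ' (algebraMap A' B' a) = algebraMap A' C' a)
    (h : LCI.IsLCI B C) : RLCI φ' := by
  have h0 := isLCI_bc (B := B) (C := C) A A' h
  exact rlci_congr (bcHom (B := B) (C := C) A A').toRingHom φ'
    (Algebra.IsPushout.equiv A A' B B').toRingEquiv (Algebra.IsPushout.equiv A A' C C').toRingEquiv
    (fun z => compat φ' h1 h2 z) h0

theorem main2 [Module.Flat A B] [Module.Flat A C] [Algebra.FinitePresentation A B]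
    [Algebra.FinitePresentation A C] [Algebra.IsPushout A A' B B']
    [Algebra.IsPushout A A' C C'] (hk : IsField A')
    (φ' : B' →+* C') (h1 : ∀ b : B, φ' (algebraMap B B' b) = algebraMap C C' (algebraMap B C b))
    (h2 : ∀ a : A', φ' (algebraMap A' B' a) = algebraMap A' C' a)
    (r' : Ideal C') [r'.IsPrime] (b : C') (hb : b ∉ r')
    (L' : Type u) [CommRing L'] (ρ' : C' →+* L')
    (hloc : @IsLocalization.Away C' _ b L' _ ρ'.toAlgebra) (hL : RLCI (ρ'.comp φ')) :
    ∃ e : C, algebraMap C C' e ∉ r' ∧ ∀ (L : Type u) [CommRing L] (ρ : C →+* L),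
      @IsLocalization.Away C _ e L _ ρ.toAlgebra → RLCI (ρ.comp (algebraMap B C)) := by
  let eB := Algebra.IsPushout.equiv A A' B B'
  let eC := Algebra.IsPushout.equiv A A' C C'
  let r'' : Ideal (A' ⊗[A] C) := r'.comap (eC : A' ⊗[A] C →+* C')
  haveI : r''.IsPrime := Ideal.comap_isPrime _ _
  let e' : A' ⊗[A] C := eC.symm b
  have he' : e' ∉ r'' := by
    show eC (eC.symm b) ∉ r'
    rw [AlgEquiv.apply_symm_apply]
    exact hb
  -- the localization `L'` is also the localization of the tensor model
  letI algL' : Algebra (A' ⊗[A] C) L' := (ρ'.comp (eC : A' ⊗[A] C →+* C')).toAlgebra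
  have hloc' : IsLocalization.Away e' L' := by
    letI algρ : Algebra C' L' := ρ'.toAlgebra
    have h0 := @IsLocalization.isLocalization_of_base_ringEquiv C' _ (Submonoid.powers b) L' _
      algρ (A' ⊗[A] C) _ hloc eC.symm.toRingEquiv
    have hmap : (Submonoid.powers b).map (eC.symm.toRingEquiv : C' →* A' ⊗[A] C) =
        Submonoid.powers e' := by
      rw [Submonoid.map_powers]
      rfl
    have halg : ((algebraMap C' L').comp
        (eC.symm.toRingEquiv.symm.toRingHom : A' ⊗[A] C →+* C')).toAlgebra = algL' := by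
      apply Algebra.algebra_ext
      intro x
      rfl
    rw [halg] at h0
    show IsLocalization (Submonoid.powers e') L'
    rw [← hmap]
    exact h0
  let τ : Localization.Away e' ≃ₐ[A' ⊗[A] C] L' :=
    IsLocalization.algEquiv (Submonoid.powers e') _ _
  have hL0 : RLCI ((algebraMap (A' ⊗[A] C) (Localization.Away e')).comp
      (bcHom (B := B) (C := C) A A').toRingHom) := by
    refine rlci_congr (ρ'.comp φ') _ eB.symm.toRingEquiv τ.symm.toRingEquiv ?_ hL
    intro z
    obtain ⟨z, rfl⟩ := eB.surjective z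
    show algebraMap (A' ⊗[A] C) (Localization.Away e') (bcHom A A' (eB.symm (eB z))) =
      τ.symm (ρ' (φ' (eB z)))
    rw [AlgEquiv.symm_apply_apply, compat φ' h1 h2 z]
    have : ρ' (eC (bcHom (B := B) (C := C) A A' z)) =
        algebraMap (A' ⊗[A] C) L' (bcHom (B := B) (C := C) A A' z) := rfl
    rw [this, ← τ.commutes, AlgEquiv.symm_apply_apply]
  obtain ⟨e, he, hLe⟩ := BK3.core (A := A) (B := B) (C := C) A' hk r'' e' he' hL0
  refine ⟨e, ?_, ?_⟩
  · have : eC ((1 : A') ⊗ₜ[A] e) = algebraMap C C' e := by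
      rw [Algebra.IsPushout.equiv_tmul, map_one, one_mul]
    rw [← this]
    exact he
  · intro L _ ρ hρ
    letI := ρ.toAlgebra
    let σ : Localization.Away e ≃ₐ[C] L := IsLocalization.algEquiv (Submonoid.powers e) _ _
    refine rlci_congr (algebraMap B (Localization.Away e)) _ (RingEquiv.refl B) σ.toRingEquiv ?_
      (rlci_algebraMap hLe)
    intro x
    show ρ (algebraMap B C x) = σ (algebraMap B (Localization.Away e) x)
    rw [IsScalarTower.algebraMap_apply B C (Localization.Away e), σ.commutes]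
    rfl

end main

end Groth.Agent.Lib.Helper8.BK4
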