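import Mathlib
import Groth.Prelude.Def_LCI2
import Groth.Prelude.Def_RegImm
import Groth.Agent.Lib.Helper8.BK4

/-!
# Chart form of base change for l.c.i. ring maps of relative schemes (helper8)
-/

set_option autoImplicit false
set_option linter.style.haveILetI false
universe u

namespace Groth.Agent.Lib.Helper8.BK5

open TensorProduct CategoryTheory CategoryTheory.Limits AlgebraicGeometry
open Groth.Agent.Lib.Helper8.BK4

variable {X Y S X' Y' S' : Scheme.{u}} {f : X ⟶ Y} {g : Y ⟶ S} {h : S' ⟶ S} {gY : Y' ⟶ Y}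
  {g' : Y' ⟶ S'} (hY : IsPullback gY g' g h) {gX : X' ⟶ X} {f' : X' ⟶ Y'}
  (hX : IsPullback gX (f' ≫ g') (f ≫ g) h) (w : gX ≫ f = f' ≫ gY)
  {W : S.Opens} {W' : S'.Opens} {V : Y.Opens} {U : X.Opens}
  (hW : IsAffineOpen W) (hW' : IsAffineOpen W') (hV : IsAffineOpen V) (hU : IsAffineOpen U)
  (hW'W : W' ≤ h ⁻¹ᵁ W) (hVW : V ≤ g ⁻¹ᵁ W) (hUV : U ≤ f ⁻¹ᵁ V)
  {V' : Y'.Opens} (hV' : V' = gY ⁻¹ᵁ V ⊓ g' ⁻¹ᵁ W')
  {U' : X'.Opens} (hU' : U' = gX ⁻¹ᵁ U ⊓ (f' ≫ g') ⁻¹ᵁ W')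

include hY hW hW' hV hW'W hVW hV' in
theorem isAffineOpen_V' : IsAffineOpen V' := by
  haveI : IsAffine W := hW
  haveI : IsAffine W' := hW'
  haveI : IsAffine V := hV
  exact .of_isIso (Scheme.Hom.isPullback_resLE hY hW'W hVW hV').isoPullback.hom

include hVW hUV in
theorem hUW : U ≤ (f ≫ g) ⁻¹ᵁ W := by
  intro x hx
  exact hVW (hUV hx)

include hX hW hW' hU hW'W hVW hUV hU' in
theorem isAffineOpen_U' : IsAffineOpen U' := by
  haveI : IsAffine W := hW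
  haveI : IsAffine W' := hW'
  haveI : IsAffine U := hU
  exact .of_isIso (Scheme.Hom.isPullback_resLE hX hW'W (hUW hVW hUV) hU').isoPullback.hom

include w hUV hV' hU' in
theorem U'_le : U' ≤ f' ⁻¹ᵁ V' := by
  intro x hx
  rw [hU'] at hx
  rw [hV']
  refine ⟨?_, hx.2⟩
  show gY (f' x) ∈ V
  have : gY (f' x) = f (gX x) := by
    rw [← Scheme.Hom.comp_apply, ← Scheme.Hom.comp_apply, w]
  rw [this]
  exact hUV hx.1

theorem appLE_congr' {X Y : Scheme.{u}} {k₁ k₂ : X ⟶ Y} (hk : k₁ = k₂) (V : Y.Opens) (U : X.Opens)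
    (e₁ : U ≤ k₁ ⁻¹ᵁ V) (e₂ : U ≤ k₂ ⁻¹ᵁ V) : k₁.appLE V U e₁ = k₂.appLE V U e₂ := by
  subst hk
  rfl

include hY hX w hW hW' hV hU hW'W hVW hUV hV' hU' in
/-- the chart statement: both transfer results at once -/
theorem chart [Flat g] [Flat (f ≫ g)] :
    (RLCI (f.appLE V U hUV).hom → RLCI (f'.appLE V' U' (U'_le w hUV hV' hU')).hom) ∧
    (LocallyOfFinitePresentation g → LocallyOfFinitePresentation (f ≫ g) → IsField Γ(S', W') →
      ∀ (r' : Ideal Γ(X', U')) [r'.IsPrime] (b : Γ(X', U')), b ∉ r' →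
      ∀ (L' : Type u) [CommRing L'] (ρ' : Γ(X', U') →+* L'),
        @IsLocalization.Away Γ(X', U') _ b L' _ ρ'.toAlgebra →
        RLCI (ρ'.comp (f'.appLE V' U' (U'_le w hUV hV' hU')).hom) →
      ∃ e : Γ(X, U), (gX.appLE U U' (by rw [hU']; exact inf_le_left)).hom e ∉ r' ∧
        ∀ (L : Type u) [CommRing L] (ρ : Γ(X, U) →+* L),
          @IsLocalization.Away Γ(X, U) _ e L _ ρ.toAlgebra →
          RLCI (ρ.comp (f.appLE V U hUV).hom)) := by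
  have hUW' : U ≤ (f ≫ g) ⁻¹ᵁ W := hUW hVW hUV
  have hV'aff : IsAffineOpen V' := isAffineOpen_V' hY hW hW' hV hW'W hVW hV'
  have hU'aff : IsAffineOpen U' := isAffineOpen_U' hX hW hW' hU hW'W hVW hUV hU'
  have eV'V : V' ≤ gY ⁻¹ᵁ V := by rw [hV']; exact inf_le_left
  have eV'W' : V' ≤ g' ⁻¹ᵁ W' := by rw [hV']; exact inf_le_right
  have eU'U : U' ≤ gX ⁻¹ᵁ U := by rw [hU']; exact inf_le_left
  have eU'W' : U' ≤ (f' ≫ g') ⁻¹ᵁ W' := by rw [hU']; exact inf_le_right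
  have eU'V' : U' ≤ f' ⁻¹ᵁ V' := U'_le w hUV hV' hU'
  have HB := (isIso_pushoutSection_iff hY hW'W hVW hV').mp
    (isIso_pushoutSection_of_isAffineOpen hY hW'W hVW hV' hW hW' hV)
  have HC := (isIso_pushoutSection_iff hX hW'W hUW' hU').mp
    (isIso_pushoutSection_of_isAffineOpen hX hW'W hUW' hU' hW hW' hU)
  letI algAA' : Algebra Γ(S, W) Γ(S', W') := (h.appLE W W' hW'W).hom.toAlgebra
  letI algAB : Algebra Γ(S, W) Γ(Y, V) := (g.appLE W V hVW).hom.toAlgebra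
  letI algBC : Algebra Γ(Y, V) Γ(X, U) := (f.appLE V U hUV).hom.toAlgebra
  letI algAC : Algebra Γ(S, W) Γ(X, U) := ((f ≫ g).appLE W U hUW').hom.toAlgebra
  haveI towABC : IsScalarTower Γ(S, W) Γ(Y, V) Γ(X, U) := IsScalarTower.of_algebraMap_eq' (by
    show ((f ≫ g).appLE W U hUW').hom = (f.appLE V U hUV).hom.comp (g.appLE W V hVW).hom
    rw [← CommRingCat.hom_comp, Scheme.Hom.appLE_comp_appLE])
  letI algA'B' : Algebra Γ(S', W') Γ(Y', V') := (g'.appLE W' V' eV'W').hom.toAlgebra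
  letI algBB' : Algebra Γ(Y, V) Γ(Y', V') := (gY.appLE V V' eV'V).hom.toAlgebra
  letI algAB' : Algebra Γ(S, W) Γ(Y', V') :=
    ((gY.appLE V V' eV'V).hom.comp (g.appLE W V hVW).hom).toAlgebra
  haveI towABB' : IsScalarTower Γ(S, W) Γ(Y, V) Γ(Y', V') := IsScalarTower.of_algebraMap_eq' rfl
  haveI towAA'B' : IsScalarTower Γ(S, W) Γ(S', W') Γ(Y', V') := IsScalarTower.of_algebraMap_eq' (by
    show (gY.appLE V V' eV'V).hom.comp (g.appLE W V hVW).hom =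
      (g'.appLE W' V' eV'W').hom.comp (h.appLE W W' hW'W).hom
    rw [← CommRingCat.hom_comp, ← CommRingCat.hom_comp, HB.w])
  letI algA'C' : Algebra Γ(S', W') Γ(X', U') := ((f' ≫ g').appLE W' U' eU'W').hom.toAlgebra
  letI algCC' : Algebra Γ(X, U) Γ(X', U') := (gX.appLE U U' eU'U).hom.toAlgebra
  letI algAC' : Algebra Γ(S, W) Γ(X', U') :=
    ((gX.appLE U U' eU'U).hom.comp ((f ≫ g).appLE W U hUW').hom).toAlgebra
  haveI towACC' : IsScalarTower Γ(S, W) Γ(X, U) Γ(X', U') := IsScalarTower.of_algebraMap_eq' rfl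
  haveI towAA'C' : IsScalarTower Γ(S, W) Γ(S', W') Γ(X', U') := IsScalarTower.of_algebraMap_eq' (by
    show (gX.appLE U U' eU'U).hom.comp ((f ≫ g).appLE W U hUW').hom =
      ((f' ≫ g').appLE W' U' eU'W').hom.comp (h.appLE W W' hW'W).hom
    rw [← CommRingCat.hom_comp, ← CommRingCat.hom_comp, HC.w])
  haveI poB : Algebra.IsPushout Γ(S, W) Γ(S', W') Γ(Y, V) Γ(Y', V') :=
    (CommRingCat.isPushout_iff_isPushout.mp HB).symm
  haveI poC : Algebra.IsPushout Γ(S, W) Γ(S', W') Γ(X, U) Γ(X', U') :=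
    (CommRingCat.isPushout_iff_isPushout.mp HC).symm
  haveI flB : Module.Flat Γ(S, W) Γ(Y, V) :=
    HasRingHomProperty.appLE (P := @Flat) g inferInstance ⟨W, hW⟩ ⟨V, hV⟩ hVW
  haveI flC : Module.Flat Γ(S, W) Γ(X, U) :=
    HasRingHomProperty.appLE (P := @Flat) (f ≫ g) inferInstance ⟨W, hW⟩ ⟨U, hU⟩ hUW'
  have h1 : ∀ b : Γ(Y, V), (f'.appLE V' U' eU'V').hom (algebraMap Γ(Y, V) Γ(Y', V') b) =
      algebraMap Γ(X, U) Γ(X', U') (algebraMap Γ(Y, V) Γ(X, U) b) := by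
    intro b
    have e1 : gY.appLE V V' eV'V ≫ f'.appLE V' U' eU'V' =
        f.appLE V U hUV ≫ gX.appLE U U' eU'U := by
      rw [Scheme.Hom.appLE_comp_appLE, Scheme.Hom.appLE_comp_appLE]
      exact appLE_congr' w.symm _ _ _ _
    exact congr($(e1).hom b)
  have h2 : ∀ a : Γ(S', W'), (f'.appLE V' U' eU'V').hom (algebraMap Γ(S', W') Γ(Y', V') a) =
      algebraMap Γ(S', W') Γ(X', U') a := by
    intro a
    have e1 : g'.appLE W' V' eV'W' ≫ f'.appLE V' U' eU'V' = (f' ≫ g').appLE W' U' eU'W' := by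
      rw [Scheme.Hom.appLE_comp_appLE]
    exact congr($(e1).hom a)
  refine ⟨fun hL => main1 (A := Γ(S, W)) (A' := Γ(S', W')) (B := Γ(Y, V)) (C := Γ(X, U))
    (f'.appLE V' U' eU'V').hom h1 h2 hL, ?_⟩
  intro hfpg hfpfg hk r' _ b hb L' _ ρ' hloc hL
  haveI fpB : Algebra.FinitePresentation Γ(S, W) Γ(Y, V) :=
    HasRingHomProperty.appLE (P := @LocallyOfFinitePresentation) g hfpg ⟨W, hW⟩ ⟨V, hV⟩ hVW
  haveI fpC : Algebra.FinitePresentation Γ(S, W) Γ(X, U) :=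
    HasRingHomProperty.appLE (P := @LocallyOfFinitePresentation) (f ≫ g) hfpfg ⟨W, hW⟩ ⟨U, hU⟩ hUW'
  exact main2 (A := Γ(S, W)) (A' := Γ(S', W')) (B := Γ(Y, V)) (C := Γ(X, U)) hk
    (f'.appLE V' U' eU'V').hom h1 h2 r' b hb L' ρ' hloc hL

end Groth.Agent.Lib.Helper8.BK5
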