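/-
Helper library (helper8): transport of `LCI.IsLCI` / `Synt.IsSyntomic` along a bijective change of
base ring, and the comparison `IsSyntomic K B ↔ IsLCIOver k B` for `k ≅ K` a field.
-/
import Mathlib
import Groth.Agent.Lib.Helper8.LCIFib
import Groth.Agent.Lib.Helper8.SyntLCI
import Groth.Agent.Lib.Helper9.LCICover
import Groth.Agent.S9287

set_option autoImplicit false
set_option linter.style.haveILetI false
universe u

namespace Groth.Agent.Lib.Helper8.BaseIso

open TensorProduct

section

variable (A A' B : Type u) [CommRing A] [CommRing A'] [CommRing B] [Algebra A A'] [Algebra A B]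
  [Algebra A' B] [IsScalarTower A A' B]

/-- the multiplication map `A' ⊗[A] B → B` -/
noncomputable def mulMap : A' ⊗[A] B →ₐ[A'] B :=
  Algebra.TensorProduct.lift (Algebra.ofId A' B) (AlgHom.id A B) (fun _ _ => Commute.all _ _)

theorem mulMap_one_tmul (b : B) : mulMap A A' B (1 ⊗ₜ b) = b := by
  simp [mulMap]

omit [Algebra A' B] [IsScalarTower A A' B] in
theorem exists_one_tmul (h : Function.Surjective (algebraMap A A')) (x : A' ⊗[A] B) :
    ∃ b : B, x = 1 ⊗ₜ[A] b := by
  induction x using TensorProduct.induction_on with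
  | zero => exact ⟨0, by simp⟩
  | tmul c b =>
    obtain ⟨a, rfl⟩ := h c
    refine ⟨a • b, ?_⟩
    rw [TensorProduct.tmul_smul, TensorProduct.smul_tmul', Algebra.algebraMap_eq_smul_one]
  | add x y hx hy =>
    obtain ⟨b, rfl⟩ := hx
    obtain ⟨b', rfl⟩ := hy
    exact ⟨b + b', by rw [TensorProduct.tmul_add]⟩

theorem mulMap_bijective (h : Function.Surjective (algebraMap A A')) :
    Function.Bijective (mulMap A A' B) := by
  constructor
  · rw [injective_iff_map_eq_zero]
    intro x hx
    obtain ⟨b, rfl⟩ := exists_one_tmul A A' B h x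
    rw [mulMap_one_tmul] at hx
    rw [hx, TensorProduct.tmul_zero]
  · intro b
    exact ⟨1 ⊗ₜ b, mulMap_one_tmul A A' B b⟩

/-- `A' ⊗[A] B ≃ B` when `A → A'` is surjective -/
noncomputable def tensorEquiv (h : Function.Surjective (algebraMap A A')) : A' ⊗[A] B ≃ₐ[A'] B :=
  AlgEquiv.ofBijective (mulMap A A' B) (mulMap_bijective A A' B h)

theorem isLCI_of_bijective (h : Function.Surjective (algebraMap A A')) [Module.Flat A B]
    (hl : LCI.IsLCI A B) : LCI.IsLCI A' B :=
  Groth.Agent.Lib.Helper9.LCICover.isLCI_of_algEquiv (tensorEquiv A A' B h)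
    (Groth.Agent.Lib.Helper8.LCIFib.isLCI_baseChange A B hl A')

theorem flat_of_bijective (h : Function.Surjective (algebraMap A A')) [Module.Flat A B] :
    Module.Flat A' B :=
  Module.Flat.of_linearEquiv (tensorEquiv A A' B h).symm.toLinearEquiv

theorem isLCI_of_bijective' (h : Function.Bijective (algebraMap A A')) [Module.Flat A' B]
    (hl : LCI.IsLCI A' B) : LCI.IsLCI A B := by
  let e := RingEquiv.ofBijective (algebraMap A A') h
  letI : Algebra A' A := e.symm.toRingHom.toAlgebra
  haveI : IsScalarTower A' A B := IsScalarTower.of_algebraMap_eq (fun x => by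
    have h1 : algebraMap A' A x = e.symm x := rfl
    rw [h1, IsScalarTower.algebraMap_apply A A' B]
    congr 1
    exact (e.apply_symm_apply x).symm)
  exact isLCI_of_bijective A' A B e.symm.surjective hl

end

section Field

variable (k K B : Type u) [Field k] [CommRing K] [CommRing B] [Algebra k K] [Algebra k B]
  [Algebra K B] [IsScalarTower k K B]

theorem isSyntomic_iff_isLCIOver (h : Function.Bijective (algebraMap k K)) :
    Synt.IsSyntomic K B ↔ Synt.IsLCIOver k B := by
  rw [Groth.Agent.S9287.result]
  constructor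
  · rintro ⟨hfl, hl⟩
    haveI := hfl
    exact Groth.Agent.Lib.Helper8.SyntLCI.isLCIOver_of_isLCI k B
      (isLCI_of_bijective' k K B h hl)
  · intro hl
    have h1 := Groth.Agent.Lib.Helper8.SyntLCI.isLCI_of_isLCIOver k B hl
    exact ⟨flat_of_bijective k K B h.surjective, isLCI_of_bijective k K B h.surjective h1⟩

end Field

end Groth.Agent.Lib.Helper8.BaseIso
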