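import Mathlib
import Groth.Prelude
import Groth.Agent.Lib.Helper8.BaseIso
import Groth.Agent.Lib.Helper62.GCIField5

set_option autoImplicit false
set_option linter.style.haveILetI false
universe u

namespace Groth.Agent.Lib.Helper8.LCIFieldSch

open AlgebraicGeometry CategoryTheory Opposite TopologicalSpace

variable {k : Type u} [Field k] {X : Scheme.{u}} (p : X ⟶ Spec (CommRingCat.of k))

/-- the structure map `k → Γ(X, U)` -/
noncomputable def phi (U : X.Opens) : k →+* Γ(X, U) :=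
  ((Scheme.ΓSpecIso (CommRingCat.of k)).inv ≫ p.appLE ⊤ U le_top).hom

/-- the structure map `k → 𝒪_{X,x}` -/
noncomputable def psi (x : X) : k →+* X.presheaf.stalk x :=
  ((Scheme.ΓSpecIso (CommRingCat.of k)).inv ≫ p.appLE ⊤ ⊤ le_top ≫
    X.presheaf.germ ⊤ x trivial).hom

theorem phi_res {U U' : X.Opens} (h : U' ≤ U) :
    (X.presheaf.map (homOfLE h).op).hom.comp (phi p U) = phi p U' := by
  unfold phi
  rw [← CommRingCat.hom_comp, Category.assoc]
  congr 2
  exact Scheme.Hom.appLE_map p _ _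

theorem germ_phi {U : X.Opens} (x : X) (hx : x ∈ U) :
    (X.presheaf.germ U x hx).hom.comp (phi p U) = psi p x := by
  unfold phi psi
  rw [← CommRingCat.hom_comp, Category.assoc]
  congr 2
  have h1 : p.appLE ⊤ ⊤ le_top ≫ X.presheaf.map (homOfLE (le_top : U ≤ ⊤)).op =
      p.appLE ⊤ U le_top := Scheme.Hom.appLE_map p _ _
  have h2 : X.presheaf.map (homOfLE (le_top : U ≤ ⊤)).op ≫ X.presheaf.germ U x hx =
      X.presheaf.germ ⊤ x trivial := TopCat.Presheaf.germ_res _ _ _ _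
  rw [← h1, Category.assoc, h2]

theorem eq_top_of_mem (V : (Spec (CommRingCat.of k)).Opens) (y : Spec (CommRingCat.of k))
    (hy : y ∈ V) : V = ⊤ := by
  haveI : Subsingleton (Spec (CommRingCat.of k)) :=
    inferInstanceAs (Subsingleton (PrimeSpectrum k))
  ext z
  simp only [Opens.coe_top, Set.mem_univ, iff_true]
  rw [Subsingleton.elim z y]
  exact hy

theorem finiteType_phi [LocallyOfFiniteType p] {U : X.Opens} (hU : IsAffineOpen U) :
    (phi p U).FiniteType := by
  unfold phi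
  rw [CommRingCat.hom_comp]
  refine RingHom.FiniteType.comp ?_ ?_
  · exact HasRingHomProperty.appLE (P := @LocallyOfFiniteType) p inferInstance
      ⟨⊤, isAffineOpen_top _⟩ ⟨U, hU⟩ le_top
  · apply RingHom.FiniteType.of_surjective
    exact (ConcreteCategory.bijective_of_isIso (Scheme.ΓSpecIso (CommRingCat.of k)).inv).2

theorem mem_basicOpen_iff {U : X.Opens} (hU : IsAffineOpen U) {x : X} (hx : x ∈ U)
    (g : Γ(X, U)) : x ∈ X.basicOpen g ↔ g ∉ (hU.primeIdealOf ⟨x, hx⟩).asIdeal := by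
  rw [Scheme.mem_basicOpen _ _ x hx]
  letI : Algebra Γ(X, U) (X.presheaf.stalk x) :=
    TopCat.Presheaf.algebra_section_stalk X.presheaf ⟨x, hx⟩
  haveI : IsLocalization.AtPrime (X.presheaf.stalk x) (hU.primeIdealOf ⟨x, hx⟩).asIdeal :=
    hU.isLocalization_stalk ⟨x, hx⟩
  exact IsLocalization.AtPrime.isUnit_to_map_iff (X.presheaf.stalk x)
    (hU.primeIdealOf ⟨x, hx⟩).asIdeal g

theorem isCIOver_of_algEquiv {S S' : Type u} [CommRing S] [CommRing S'] [Algebra k S]
    [Algebra k S'] [IsLocalRing S] [IsLocalRing S'] (e : S ≃ₐ[k] S') (h : Synt.IsCIOver k S) :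
    Synt.IsCIOver k S' := by
  obtain ⟨R, i1, i2, i3, h1, rs, h2, h3, ⟨e'⟩⟩ := h
  exact ⟨R, i1, i2, i3, h1, rs, h2, h3, ⟨e.symm.trans e'⟩⟩

theorem isCIOver_stalk_iff {U : X.Opens} (hU : IsAffineOpen U) {x : X} (hx : x ∈ U) :
    letI := (phi p U).toAlgebra
    letI := (psi p x).toAlgebra
    Synt.IsCIOver k (X.presheaf.stalk x) ↔
      Synt.IsCIOver k (Localization.AtPrime (hU.primeIdealOf ⟨x, hx⟩).asIdeal) := by
  letI := (phi p U).toAlgebra
  letI := (psi p x).toAlgebra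
  letI : Algebra Γ(X, U) (X.presheaf.stalk x) :=
    TopCat.Presheaf.algebra_section_stalk X.presheaf ⟨x, hx⟩
  haveI : IsLocalization.AtPrime (X.presheaf.stalk x) (hU.primeIdealOf ⟨x, hx⟩).asIdeal :=
    hU.isLocalization_stalk ⟨x, hx⟩
  haveI : IsScalarTower k Γ(X, U) (X.presheaf.stalk x) :=
    IsScalarTower.of_algebraMap_eq' (germ_phi p x hx).symm
  let e : X.presheaf.stalk x ≃ₐ[k] Localization.AtPrime (hU.primeIdealOf ⟨x, hx⟩).asIdeal :=
    (IsLocalization.algEquiv (hU.primeIdealOf ⟨x, hx⟩).asIdeal.primeCompl _ _).restrictScalars k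
  exact ⟨isCIOver_of_algEquiv e, isCIOver_of_algEquiv e.symm⟩

theorem isGlobalCI_basicOpen {U : X.Opens} (hU : IsAffineOpen U) (g : Γ(X, U))
    (h : letI := (phi p U).toAlgebra; Synt.IsGlobalCI k (Localization.Away g)) :
    letI := (phi p (X.basicOpen g)).toAlgebra
    Synt.IsGlobalCI k Γ(X, X.basicOpen g) := by
  letI := (phi p U).toAlgebra
  letI := (phi p (X.basicOpen g)).toAlgebra
  haveI := hU.isLocalization_basicOpen g
  haveI : IsScalarTower k Γ(X, U) Γ(X, X.basicOpen g) :=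
    IsScalarTower.of_algebraMap_eq' (phi_res p (X.basicOpen_le g)).symm
  exact Groth.Agent.Lib.Helper62.GCIField.isGlobalCI_of_algEquiv
    ((IsLocalization.algEquiv (Submonoid.powers g) (Localization.Away g)
      Γ(X, X.basicOpen g)).restrictScalars k) h

theorem isSyntomic_iff {U : X.Opens} (e : U ≤ p ⁻¹ᵁ ⊤) :
    (letI := (p.appLE ⊤ U e).hom.toAlgebra
     Synt.IsSyntomic Γ(Spec (CommRingCat.of k), ⊤) Γ(X, U)) ↔
    (letI := (phi p U).toAlgebra; Synt.IsLCIOver k Γ(X, U)) := by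
  letI := (p.appLE ⊤ U e).hom.toAlgebra
  letI := (phi p U).toAlgebra
  letI : Algebra k Γ(Spec (CommRingCat.of k), ⊤) :=
    (Scheme.ΓSpecIso (CommRingCat.of k)).inv.hom.toAlgebra
  haveI : IsScalarTower k Γ(Spec (CommRingCat.of k), ⊤) Γ(X, U) :=
    IsScalarTower.of_algebraMap_eq' rfl
  exact Groth.Agent.Lib.Helper8.BaseIso.isSyntomic_iff_isLCIOver k _ _
    (ConcreteCategory.bijective_of_isIso (Scheme.ΓSpecIso (CommRingCat.of k)).inv)

end Groth.Agent.Lib.Helper8.LCIFieldSch
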