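import Mathlib
import Groth.Prelude.Def_LCI2
import Groth.Prelude.Def_RegImm
import Groth.Agent.Lib.Helper9.LciMor2
import Groth.Agent.Lib.Helper8.LCIFieldSch
import Groth.Agent.Lib.Helper8.BK5

/-!
# Base change of the Koszul locus for morphisms of flat, finitely presented schemes (helper8)
-/

set_option autoImplicit false
set_option linter.style.haveILetI false
set_option linter.unusedVariables false
universe u

namespace Groth.Agent.Lib.Helper8.BK6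

open TensorProduct CategoryTheory CategoryTheory.Limits AlgebraicGeometry
open Groth.Agent.Lib.Helper9 Groth.Agent.Lib.Helper8.BK4 Groth.Agent.Lib.Helper8.BK5

variable {X Y S X' Y' S' : Scheme.{u}} {f : X ⟶ Y} {g : Y ⟶ S} {h : S' ⟶ S} {gY : Y' ⟶ Y}
  {g' : Y' ⟶ S'} {gX : X' ⟶ X} {f' : X' ⟶ Y'}

/-- base change preserves the Koszul locus -/
theorem isKoszulAt_baseChange [Flat g] [Flat (f ≫ g)] (hY : IsPullback gY g' g h)
    (hX : IsPullback gX (f' ≫ g') (f ≫ g) h) (w : gX ≫ f = f' ≫ gY) (x' : X')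
    (hK : Synt.IsKoszulAt f (gX x')) : Synt.IsKoszulAt f' x' := by
  have hs : h ((f' ≫ g') x') = (f ≫ g) (gX x') := by
    rw [← Scheme.Hom.comp_apply, ← Scheme.Hom.comp_apply, hX.w]
  obtain ⟨W, hW, hsW, -⟩ := exists_isAffineOpen_mem_and_subset (x := (f ≫ g) (gX x'))
    (U := ⊤) trivial
  obtain ⟨W', hW', hs'W', hW'W⟩ := exists_isAffineOpen_mem_and_subset (x := (f' ≫ g') x')
    (U := h ⁻¹ᵁ W) (by show h ((f' ≫ g') x') ∈ W; rw [hs]; exact hsW)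
  obtain ⟨V, hV, hyV, hVW⟩ := exists_isAffineOpen_mem_and_subset (x := f (gX x'))
    (U := g ⁻¹ᵁ W) hsW
  obtain ⟨U, hUV, hxU, hL⟩ := LciMor2.exists_affine_isLCI_of_isKoszulAt f (gX x') hK ⟨V, hV⟩ hyV
  obtain ⟨V', hV'⟩ : ∃ V' : Y'.Opens, V' = gY ⁻¹ᵁ V ⊓ g' ⁻¹ᵁ W' := ⟨_, rfl⟩
  obtain ⟨U', hU'⟩ : ∃ U' : X'.Opens, U' = gX ⁻¹ᵁ U.1 ⊓ (f' ≫ g') ⁻¹ᵁ W' := ⟨_, rfl⟩
  have hV'aff : IsAffineOpen V' := isAffineOpen_V' hY hW hW' hV hW'W hVW hV'
  have hU'aff : IsAffineOpen U' := isAffineOpen_U' hX hW hW' U.2 hW'W hVW hUV hU'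
  have hL' := (chart hY hX w hW hW' hV U.2 hW'W hVW hUV hV' hU').1 hL
  refine LciMor2.isKoszulAt_of_affine_isLCI f' x' ⟨U', hU'aff⟩ ⟨V', hV'aff⟩
    (U'_le w hUV hV' hU') ?_ hL'
  show x' ∈ U'
  rw [hU']
  exact ⟨hxU, hs'W'⟩

/-- descent of the Koszul locus along a base change to the spectrum of a field -/
theorem isKoszulAt_of_baseChange_field [Flat g] [Flat (f ≫ g)] [LocallyOfFinitePresentation g]
    [LocallyOfFinitePresentation (f ≫ g)] {K : Type u} [Field K]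
    {X' Y' : Scheme.{u}} {h : Spec (CommRingCat.of K) ⟶ S} {gY : Y' ⟶ Y}
    {g' : Y' ⟶ Spec (CommRingCat.of K)} {gX : X' ⟶ X} {f' : X' ⟶ Y'}
    (hY : IsPullback gY g' g h)
    (hX : IsPullback gX (f' ≫ g') (f ≫ g) h) (w : gX ≫ f = f' ≫ gY) (x' : X')
    (hK : Synt.IsKoszulAt f' x') : Synt.IsKoszulAt f (gX x') := by
  have hs : h ((f' ≫ g') x') = (f ≫ g) (gX x') := by
    rw [← Scheme.Hom.comp_apply, ← Scheme.Hom.comp_apply, hX.w]
  obtain ⟨W, hW, hsW, -⟩ := exists_isAffineOpen_mem_and_subset (x := (f ≫ g) (gX x'))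
    (U := ⊤) trivial
  obtain ⟨W', hW'top⟩ : ∃ W' : (Spec (CommRingCat.of K)).Opens, W' = ⊤ := ⟨_, rfl⟩
  have hW' : IsAffineOpen W' := hW'top ▸ isAffineOpen_top _
  have hs'W' : (f' ≫ g') x' ∈ W' := by rw [hW'top]; trivial
  have hW'W : W' ≤ h ⁻¹ᵁ W := by
    have : h ⁻¹ᵁ W = ⊤ := LCIFieldSch.eq_top_of_mem (h ⁻¹ᵁ W) ((f' ≫ g') x')
      (by show h ((f' ≫ g') x') ∈ W; rw [hs]; exact hsW)
    rw [this]
    exact le_top
  obtain ⟨V, hV, hyV, hVW⟩ := exists_isAffineOpen_mem_and_subset (x := f (gX x'))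
    (U := g ⁻¹ᵁ W) hsW
  obtain ⟨U, hU, hxU, hUV⟩ := exists_isAffineOpen_mem_and_subset (x := gX x')
    (U := f ⁻¹ᵁ V) hyV
  obtain ⟨V', hV'⟩ : ∃ V' : Y'.Opens, V' = gY ⁻¹ᵁ V ⊓ g' ⁻¹ᵁ W' := ⟨_, rfl⟩
  obtain ⟨U', hU'⟩ : ∃ U' : X'.Opens, U' = gX ⁻¹ᵁ U ⊓ (f' ≫ g') ⁻¹ᵁ W' := ⟨_, rfl⟩
  have hV'aff : IsAffineOpen V' := isAffineOpen_V' hY hW hW' hV hW'W hVW hV'
  have hU'aff : IsAffineOpen U' := isAffineOpen_U' hX hW hW' hU hW'W hVW hUV hU'
  have hx'U' : x' ∈ U' := by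
    rw [hU']
    exact ⟨hxU, hs'W'⟩
  have eU'V' : U' ≤ f' ⁻¹ᵁ V' := U'_le w hUV hV' hU'
  have hy'V' : f' x' ∈ V' := eU'V' hx'U'
  obtain ⟨U'', e'', hx'U'', hL''⟩ :=
    LciMor2.exists_affine_isLCI_of_isKoszulAt f' x' hK ⟨V', hV'aff⟩ hy'V'
  obtain ⟨b, b'', hbb, hxb⟩ := exists_basicOpen_le_affine_inter hU'aff U''.2 x' ⟨hx'U', hx'U''⟩
  have hle'' : X'.basicOpen b'' ≤ U''.1 := X'.basicOpen_le b''
  have hle : X'.basicOpen b'' ≤ U' := hbb ▸ X'.basicOpen_le b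
  have hloc : @IsLocalization.Away _ _ b Γ(X', X'.basicOpen b'') _
      (X'.presheaf.map (homOfLE hle).op).hom.toAlgebra :=
    hU'aff.isLocalization_of_eq_basicOpen b (homOfLE hle) hbb.symm
  have hloc'' : @IsLocalization.Away _ _ b'' Γ(X', X'.basicOpen b'') _
      (X'.presheaf.map (homOfLE hle'').op).hom.toAlgebra :=
    U''.2.isLocalization_of_eq_basicOpen b'' (homOfLE hle'') rfl
  have hL : RLCI ((X'.presheaf.map (homOfLE hle).op).hom.comp (f'.appLE V' U' eU'V').hom) := by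
    have e1 : (X'.presheaf.map (homOfLE hle).op).hom.comp (f'.appLE V' U' eU'V').hom =
        (X'.presheaf.map (homOfLE hle'').op).hom.comp (f'.appLE V' U''.1 e'').hom := by
      rw [← CommRingCat.hom_comp, ← CommRingCat.hom_comp, Scheme.Hom.appLE_map,
        Scheme.Hom.appLE_map]
    rw [e1]
    exact rlci_comp _ _ hL'' (rlci_away b'' _ _ hloc'')
  have hb : b ∉ (hU'aff.primeIdealOf ⟨x', hx'U'⟩).asIdeal :=
    (LCIFieldSch.mem_basicOpen_iff hU'aff hx'U' b).mp hxb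
  have hk : IsField Γ(Spec (CommRingCat.of K), W') := by
    subst hW'top
    exact MulEquiv.isField (Field.toIsField K)
      (Scheme.ΓSpecIso (CommRingCat.of K)).commRingCatIsoToRingEquiv.toMulEquiv
  obtain ⟨e, he, hLe⟩ := (chart hY hX w hW hW' hV hU hW'W hVW hUV hV' hU').2 inferInstance
    inferInstance hk (hU'aff.primeIdealOf ⟨x', hx'U'⟩).asIdeal b hb _ _ hloc hL
  have eU'U : U' ≤ gX ⁻¹ᵁ U := by rw [hU']; exact inf_le_left
  have hxe : gX x' ∈ X.basicOpen e := by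
    have h1 : x' ∈ X'.basicOpen ((gX.appLE U U' eU'U).hom e) :=
      (LCIFieldSch.mem_basicOpen_iff hU'aff hx'U' _).mpr he
    have h2 : X'.basicOpen ((gX.appLE U U' eU'U).hom e) = U' ⊓ gX ⁻¹ᵁ (X.basicOpen e) :=
      Scheme.basicOpen_appLE gX U' U eU'U e
    rw [h2] at h1
    exact h1.2
  have hlee : X.basicOpen e ≤ U := X.basicOpen_le e
  have hloce : @IsLocalization.Away _ _ e Γ(X, X.basicOpen e) _
      (X.presheaf.map (homOfLE hlee).op).hom.toAlgebra :=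
    hU.isLocalization_of_eq_basicOpen e (homOfLE hlee) rfl
  have hfin := hLe _ _ hloce
  have e2 : (X.presheaf.map (homOfLE hlee).op).hom.comp (f.appLE V U hUV).hom =
      (f.appLE V (X.basicOpen e) (hlee.trans hUV)).hom := by
    rw [← CommRingCat.hom_comp, Scheme.Hom.appLE_map]
  rw [e2] at hfin
  exact LciMor2.isKoszulAt_of_affine_isLCI f (gX x') ⟨X.basicOpen e, hU.basicOpen e⟩ ⟨V, hV⟩
    (hlee.trans hUV) hxe hfin

/-- descent of the Koszul locus along an arbitrary base change -/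
theorem isKoszulAt_of_baseChange [Flat g] [Flat (f ≫ g)] [LocallyOfFinitePresentation g]
    [LocallyOfFinitePresentation (f ≫ g)] (hY : IsPullback gY g' g h)
    (hX : IsPullback gX (f' ≫ g') (f ≫ g) h) (w : gX ≫ f = f' ≫ gY) (x' : X')
    (hK : Synt.IsKoszulAt f' x') : Synt.IsKoszulAt f (gX x') := by
  haveI : Flat g' := MorphismProperty.of_isPullback hY inferInstance
  haveI : Flat (f' ≫ g') := MorphismProperty.of_isPullback hX inferInstance
  obtain ⟨s', hs'⟩ : ∃ s' : S', s' = (f' ≫ g') x' := ⟨_, rfl⟩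
  let t : Spec (CommRingCat.of (S'.residueField s')) ⟶ S' := S'.fromSpecResidueField s'
  let pX : pullback (f' ≫ g') t ⟶ X' := pullback.fst _ _
  let qX : pullback (f' ≫ g') t ⟶ Spec (CommRingCat.of (S'.residueField s')) := pullback.snd _ _
  let pY : pullback g' t ⟶ Y' := pullback.fst _ _
  let qY : pullback g' t ⟶ Spec (CommRingCat.of (S'.residueField s')) := pullback.snd _ _
  let f'' : pullback (f' ≫ g') t ⟶ pullback g' t :=
    pullback.lift (pX ≫ f') qX (by rw [Category.assoc]; exact pullback.condition)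
  have hf''1 : f'' ≫ pY = pX ≫ f' := pullback.lift_fst _ _ _
  have hf''2 : f'' ≫ qY = qX := pullback.lift_snd _ _ _
  have hY'' : IsPullback pY qY g' t := IsPullback.of_hasPullback _ _
  have hX'' : IsPullback pX (f'' ≫ qY) (f' ≫ g') t := by
    rw [hf''2]
    exact IsPullback.of_hasPullback _ _
  obtain ⟨x'', hx''1, -⟩ := Scheme.Pullback.exists_preimage_pullback (f := f' ≫ g') (g := t) x'
    (IsLocalRing.closedPoint (S'.residueField s'))
    (by rw [← hs']; exact (Scheme.fromSpecResidueField_apply s' _).symm)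
  have hK'' : Synt.IsKoszulAt f'' x'' := by
    refine isKoszulAt_baseChange hY'' hX'' hf''1.symm x'' ?_
    show Synt.IsKoszulAt f' (pullback.fst (f' ≫ g') t x'')
    rw [hx''1]
    exact hK
  have hYp : IsPullback (pY ≫ gY) qY g (t ≫ h) := hY''.paste_horiz hY
  have hXp : IsPullback (pX ≫ gX) (f'' ≫ qY) (f ≫ g) (t ≫ h) := hX''.paste_horiz hX
  have wp : (pX ≫ gX) ≫ f = f'' ≫ (pY ≫ gY) := by
    rw [Category.assoc, w, ← Category.assoc, ← hf''1, Category.assoc]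
  have hfin := isKoszulAt_of_baseChange_field (K := S'.residueField s') hYp hXp wp x'' hK''
  have : (pX ≫ gX) x'' = gX x' := by
    rw [Scheme.Hom.comp_apply]
    show gX (pullback.fst (f' ≫ g') t x'') = gX x'
    rw [hx''1]
  rw [this] at hfin
  exact hfin

/-- the Koszul locus in the affine-pair form -/
theorem mem_iff_isKoszulAt {X Y : Scheme.{u}} (f : X ⟶ Y) (x : X) :
    (∃ (U : X.Opens) (V : Y.Opens) (hU : IsAffineOpen U) (hV : IsAffineOpen V)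
      (hUV : U ≤ f ⁻¹ᵁ V), x ∈ U ∧
        @LCI.IsLCI Γ(Y, V) _ Γ(X, U) _ (f.appLE V U hUV).hom.toAlgebra) ↔
      Synt.IsKoszulAt f x := by
  constructor
  · rintro ⟨U, V, hU, hV, hUV, hx, hL⟩
    exact LciMor2.isKoszulAt_of_affine_isLCI f x ⟨U, hU⟩ ⟨V, hV⟩ hUV hx hL
  · intro hK
    obtain ⟨V, hV, hyV, -⟩ := exists_isAffineOpen_mem_and_subset (x := f x) (U := ⊤) trivial
    obtain ⟨U, hUV, hxU, hL⟩ := LciMor2.exists_affine_isLCI_of_isKoszulAt f x hK ⟨V, hV⟩ hyV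
    exact ⟨U.1, V, U.2, hV, hUV, hxU, hL⟩

/-- the main statement -/
theorem main {X Y S : Scheme.{u}} (f : X ⟶ Y) (g : Y ⟶ S)
    [Flat (f ≫ g)] [LocallyOfFinitePresentation (f ≫ g)] [Flat g] [LocallyOfFinitePresentation g] :
    IsOpen {x : ↑X | (∃ (U : X.Opens) (V : Y.Opens) (hU : IsAffineOpen U) (hV : IsAffineOpen V)
        (hUV : U ≤ f ⁻¹ᵁ V), x ∈ U ∧
          @LCI.IsLCI Γ(Y, V) _ Γ(X, U) _ (f.appLE V U hUV).hom.toAlgebra)} ∧
      ∀ {X' Y' S' : Scheme.{u}} (h : S' ⟶ S) (gY : Y' ⟶ Y) (g' : Y' ⟶ S')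
        (hY : IsPullback gY g' g h)
        (gX : X' ⟶ X) (f' : X' ⟶ Y') (hX : IsPullback gX (f' ≫ g') (f ≫ g) h)
        (w : gX ≫ f = f' ≫ gY),
        {x' : ↑X' | (∃ (U : X'.Opens) (V : Y'.Opens) (hU : IsAffineOpen U) (hV : IsAffineOpen V)
          (hUV : U ≤ f' ⁻¹ᵁ V), x' ∈ U ∧
            @LCI.IsLCI Γ(Y', V) _ Γ(X', U) _ (f'.appLE V U hUV).hom.toAlgebra)} =
          gX ⁻¹' {x : ↑X | (∃ (U : X.Opens) (V : Y.Opens) (hU : IsAffineOpen U)
            (hV : IsAffineOpen V) (hUV : U ≤ f ⁻¹ᵁ V), x ∈ U ∧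
            @LCI.IsLCI Γ(Y, V) _ Γ(X, U) _ (f.appLE V U hUV).hom.toAlgebra)} := by
  constructor
  · rw [isOpen_iff_forall_mem_open]
    rintro x ⟨U, V, hU, hV, hUV, hx, hL⟩
    exact ⟨U, fun z hz => ⟨U, V, hU, hV, hUV, hz, hL⟩, U.2, hx⟩
  · intro X' Y' S' h gY g' hY gX f' hX w
    ext x'
    exact ⟨fun hx => (mem_iff_isKoszulAt f (gX x')).mpr
        (isKoszulAt_of_baseChange hY hX w x' ((mem_iff_isKoszulAt f' x').mp hx)),
      fun hx => (mem_iff_isKoszulAt f' x').mpr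
        (isKoszulAt_baseChange hY hX w x' ((mem_iff_isKoszulAt f (gX x')).mp hx))⟩

end Groth.Agent.Lib.Helper8.BK6
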