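import Mathlib
import Groth.Agent.Lib.Helper8.HD

/-!
# Fibrewise criterion: variant with a given list (helper8)
-/

set_option autoImplicit false
set_option linter.style.haveILetI false
set_option maxHeartbeats 400000
universe u

namespace Groth.Agent.Lib.Helper8.HD

open TensorProduct IsLocalRing RingTheory.Sequence

section Main

variable {A : Type u} [CommRing A] (n : ℕ)

local notation "P" => MvPolynomial (Fin n) A

/-- the local statement: around a prime of the polynomial ring at which the fibre ideal is
Koszul-regular, the ideal `I` (with `P/I` flat) is generated by a regular sequence of elements of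
`I`, with flat partial quotients -/
theorem local_main_of_list (I : Ideal P) (hIfg : I.FG) [Module.Flat A (P ⧸ I)]
    (p : Ideal A) [p.IsPrime] (𝔮 : Ideal P) [𝔮.IsPrime] [𝔮.LiesOver p] (hI𝔮 : I ≤ 𝔮)
    (f : List P) (hfI : ∀ x ∈ f, x ∈ I)
    (hreg : IsWeaklyRegular (FF p 𝔮) (f.map (algebraMap P (Localization.AtPrime 𝔮))))
    (hspan : I.map ((Ideal.Quotient.mk ((maximalIdeal (Localization.AtPrime p)).map (sig p 𝔮))).comp
          (algebraMap P (Localization.AtPrime 𝔮))) =
        Ideal.ofList (f.map ((Ideal.Quotient.mk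
          ((maximalIdeal (Localization.AtPrime p)).map (sig p 𝔮))).comp
          (algebraMap P (Localization.AtPrime 𝔮))))) :
    ∃ (g : P), g ∉ 𝔮 ∧
      IsWeaklyRegular (Localization.Away g) (f.map (algebraMap P (Localization.Away g))) ∧
      I.map (algebraMap P (Localization.Away g)) =
        Ideal.ofList (f.map (algebraMap P (Localization.Away g))) ∧
      ∀ j : ℕ, Module.Flat A (Localization.Away g ⧸
        Ideal.ofList ((f.map (algebraMap P (Localization.Away g))).take j)) := by
  have hflat : (sig p 𝔮).Flat :=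
    RingHom.Flat.localRingHom (f := algebraMap A P) (RingHom.flat_algebraMap_iff.2 inferInstance)
      𝔮 p (𝔮.over_def p)
  obtain ⟨w, hw, hGood⟩ := Groth.Agent.Lib.Helper35.RegSlice8.iter_slice p (Localization.AtPrime p)
    f.length P 𝔮 (Localization.AtPrime 𝔮) (sig p 𝔮) (sig_comp p 𝔮) hflat f rfl
    (fun g hg => hI𝔮 (hfI g hg)) hreg
  -- generation in the local ring
  set O := Localization.AtPrime 𝔮 with hO
  set J : Ideal O := I.map (algebraMap P O) with hJ
  haveI : Module.Flat A (O ⧸ J) := by
    obtain ⟨ℓ, hℓ⟩ := Groth.Agent.Lib.Helper35.FlatQuotNak.exists_isLocalizedModule_quot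
      (B' := O) 𝔮.primeCompl I
    exact Groth.Agent.Lib.Helper54.FlatOpenA.flat_of_isLocalizedModule (A := A) P 𝔮.primeCompl ℓ
  set N : Ideal O := Ideal.ofList (f.map (algebraMap P O)) with hN
  have hNJ : N ≤ J := by
    rw [hN, ← Ideal.map_ofList]
    exact Ideal.map_mono (Ideal.span_le.2 hfI)
  have hpO : p.map (algebraMap A O) = (maximalIdeal (Localization.AtPrime p)).map (sig p 𝔮) := by
    rw [map_sig_eq, Ideal.map_map, ← IsScalarTower.algebraMap_eq]
  have h𝔭 : p.map (algebraMap A O) ≤ maximalIdeal O := by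
    rw [hpO]
    exact map_sig_le p 𝔮
  have hle : J ≤ N ⊔ p.map (algebraMap A O) := by
    intro z hz
    have h1 : Ideal.Quotient.mk ((maximalIdeal (Localization.AtPrime p)).map (sig p 𝔮)) z ∈
        N.map (Ideal.Quotient.mk ((maximalIdeal (Localization.AtPrime p)).map (sig p 𝔮))) := by
      have hspan' : I.map ((Ideal.Quotient.mk ((maximalIdeal (Localization.AtPrime p)).map
          (sig p 𝔮))).comp (algebraMap P (Localization.AtPrime 𝔮))) =
          Ideal.ofList ((f.map (algebraMap P O)).map
            (Ideal.Quotient.mk ((maximalIdeal (Localization.AtPrime p)).map (sig p 𝔮)))) := by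
        rw [hspan, List.map_map, RingHom.coe_comp]
      rw [hN, Ideal.map_ofList, ← hspan', ← Ideal.map_map]
      exact Ideal.mem_map_of_mem _ hz
    obtain ⟨a, ha, hza⟩ := (Ideal.mem_map_iff_of_surjective _ Ideal.Quotient.mk_surjective).1 h1
    have h2 : z - a ∈ (maximalIdeal (Localization.AtPrime p)).map (sig p 𝔮) := by
      rw [← Ideal.Quotient.eq_zero_iff_mem, map_sub, hza, sub_self]
    have : z = a + (z - a) := by ring
    rw [this]
    exact Submodule.add_mem_sup ha (by rw [hpO]; exact h2)
  have hJN : J = N := eq_of_le_sup p h𝔭 J (hIfg.map _) N hNJ hle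
  obtain ⟨s, hs, hsI⟩ := Groth.Agent.Lib.Helper9.KoszulIndep.exists_mul_mem_of_map_le I
    (Ideal.ofList f) hIfg 𝔮 (by rw [Ideal.map_ofList]; exact le_of_eq hJN)
  have hws : w * s ∉ 𝔮 := fun h => (Ideal.IsPrime.mem_or_mem inferInstance h).elim hw hs
  obtain ⟨hWR, hFl⟩ := hGood (w * s) (dvd_mul_right w s) (Localization.Away (w * s))
  refine ⟨w * s, hws, hWR, ?_, hFl⟩
  apply le_antisymm
  · rw [Ideal.map_le_iff_le_comap]
    intro x hx
    have h1 : algebraMap P (Localization.Away (w * s)) (s * x) ∈
        (Ideal.ofList f).map (algebraMap P (Localization.Away (w * s))) :=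
      Ideal.mem_map_of_mem _ (hsI x hx)
    rw [Ideal.map_ofList, map_mul] at h1
    have hu : IsUnit (algebraMap P (Localization.Away (w * s)) s) := by
      have h2 : IsUnit (algebraMap P (Localization.Away (w * s)) (w * s)) :=
        IsLocalization.Away.algebraMap_isUnit (w * s)
      rw [map_mul] at h2
      exact isUnit_of_mul_isUnit_right h2
    exact (Ideal.unit_mul_mem_iff_mem _ hu).1 h1
  · rw [← Ideal.map_ofList]
    exact Ideal.map_mono (Ideal.span_le.2 hfI)


end Main

end Groth.Agent.Lib.Helper8.HD
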