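/-
Helper library (helper8): transfer of weak regularity between the fibre local rings of
`P → R` and `B → Q` when `P ↠ B`, `R ↠ Q` are surjections with `ker (R → Q) = ker (P → B) · R`.
-/
import Mathlib
import Groth.Agent.Lib.Helper8.HDBase
import Groth.Agent.Lib.Helper62.JacMinor

set_option autoImplicit false
set_option linter.style.haveILetI false
set_option maxHeartbeats 400000
universe u

namespace Groth.Agent.Lib.Helper8.SD1

open IsLocalRing RingTheory.Sequence Groth.Agent.Lib.Helper8.HD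

variable {P B R Q : Type u} [CommRing P] [CommRing B] [CommRing R] [CommRing Q]
  [Algebra P B] [Algebra P R] [Algebra B Q] [Algebra R Q] [Algebra P Q]
  [IsScalarTower P R Q] [IsScalarTower P B Q]

/-- the map of local rings induced by `R → Q` -/
noncomputable def lam (𝔯 : Ideal Q) [𝔯.IsPrime] :
    Localization.AtPrime (𝔯.comap (algebraMap R Q)) →+* Localization.AtPrime 𝔯 :=
  Localization.localRingHom (𝔯.comap (algebraMap R Q)) 𝔯 (algebraMap R Q) rfl

theorem lam_algebraMap (𝔯 : Ideal Q) [𝔯.IsPrime] (x : R) :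
    lam (R := R) 𝔯 (algebraMap R _ x) = algebraMap Q _ (algebraMap R Q x) :=
  Localization.localRingHom_to_map _ _ _ rfl x

theorem lam_surjective (hRQ : Function.Surjective (algebraMap R Q)) (𝔯 : Ideal Q) [𝔯.IsPrime] :
    Function.Surjective (lam (R := R) 𝔯) := by
  intro y
  obtain ⟨⟨b, s⟩, rfl⟩ := IsLocalization.mk'_surjective 𝔯.primeCompl y
  obtain ⟨a, rfl⟩ := hRQ b
  obtain ⟨t, ht⟩ := hRQ s.1
  have htm : t ∈ (𝔯.comap (algebraMap R Q)).primeCompl := by
    intro h
    apply s.2
    rw [← ht]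
    exact h
  refine ⟨IsLocalization.mk' _ a (⟨t, htm⟩ : (𝔯.comap (algebraMap R Q)).primeCompl), ?_⟩
  unfold lam
  rw [Localization.localRingHom_mk']
  congr 1
  exact Subtype.ext ht

section transfer

variable (hPB : Function.Surjective (algebraMap P B)) (hRQ : Function.Surjective (algebraMap R Q))
  (hker : RingHom.ker (algebraMap R Q) = (RingHom.ker (algebraMap P B)).map (algebraMap P R))
  (𝔯 : Ideal Q) [𝔯.IsPrime]

/-- the fibre ideal upstairs -/
noncomputable abbrev MR : Ideal (Localization.AtPrime (𝔯.comap (algebraMap R Q))) :=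
  (maximalIdeal (Localization.AtPrime ((𝔯.comap (algebraMap R Q)).under P))).map
    (sig ((𝔯.comap (algebraMap R Q)).under P) (𝔯.comap (algebraMap R Q)))

/-- the fibre ideal downstairs -/
noncomputable abbrev MQ : Ideal (Localization.AtPrime 𝔯) :=
  (maximalIdeal (Localization.AtPrime (𝔯.under B))).map (sig (𝔯.under B) 𝔯)

omit [𝔯.IsPrime] in
theorem under_eq : (𝔯.comap (algebraMap R Q)).under P = (𝔯.under B).comap (algebraMap P B) := by
  unfold Ideal.under
  rw [Ideal.comap_comap, Ideal.comap_comap, ← IsScalarTower.algebraMap_eq,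
    ← IsScalarTower.algebraMap_eq]

include hPB in
theorem map_lam_MR : (MR (P := P) (R := R) 𝔯).map (lam (R := R) 𝔯) = MQ (B := B) 𝔯 := by
  unfold MR MQ
  rw [map_sig_eq, map_sig_eq, Ideal.map_map, Ideal.map_map]
  have h1 : (lam (R := R) 𝔯).comp (algebraMap R (Localization.AtPrime (𝔯.comap (algebraMap R Q)))) =
      (algebraMap Q (Localization.AtPrime 𝔯)).comp (algebraMap R Q) := by
    ext x
    exact lam_algebraMap 𝔯 x
  rw [← Ideal.map_map, ← Ideal.map_map, Ideal.map_map (algebraMap R _) (lam 𝔯), h1, ← Ideal.map_map,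
    Ideal.map_map (algebraMap P R) (algebraMap R Q), ← IsScalarTower.algebraMap_eq,
    IsScalarTower.algebraMap_eq P B Q, ← Ideal.map_map, under_eq (P := P) (B := B) 𝔯,
    Ideal.map_comap_of_surjective _ hPB]

include hPB hRQ hker in
theorem comap_lam_MQ : (MQ (B := B) 𝔯).comap (lam (R := R) 𝔯) = MR (P := P) (R := R) 𝔯 := by
  rw [← map_lam_MR (P := P) (R := R) hPB 𝔯,
    Ideal.comap_map_of_surjective _ (lam_surjective hRQ 𝔯)]
  apply le_antisymm _ le_sup_left
  refine sup_le le_rfl ?_
  have hk : Ideal.comap (lam (R := R) 𝔯) ⊥ = RingHom.ker (lam (R := R) 𝔯) := rfl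
  rw [hk]
  unfold lam
  rw [Groth.Agent.Lib.Helper62.JacMinor.ker_localRingHom_eq_map (algebraMap R Q) hRQ 𝔯, hker]
  unfold MR
  rw [map_sig_eq]
  apply Ideal.map_mono
  apply Ideal.map_mono
  rw [under_eq (P := P) (B := B) 𝔯]
  intro x hx
  rw [Ideal.mem_comap, (RingHom.mem_ker).mp hx]
  exact Ideal.zero_mem _

/-- the identification of the fibre local rings -/
noncomputable def ee : FF ((𝔯.comap (algebraMap R Q)).under P) (𝔯.comap (algebraMap R Q)) ≃+*
    FF (𝔯.under B) 𝔯 :=
  RingEquiv.ofBijective (Ideal.quotientMap (MQ (B := B) 𝔯) (lam (R := R) 𝔯)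
    (le_of_eq (comap_lam_MQ hPB hRQ hker 𝔯).symm))
    ⟨Ideal.quotientMap_injective' (le_of_eq (comap_lam_MQ hPB hRQ hker 𝔯)),
      Ideal.quotientMap_surjective (lam_surjective hRQ 𝔯)⟩

include hPB hRQ hker in
theorem weaklyRegular_transfer (g : List R)
    (h : IsWeaklyRegular (FF (𝔯.under B) 𝔯)
      ((g.map (algebraMap R Q)).map (algebraMap Q (Localization.AtPrime 𝔯)))) :
    IsWeaklyRegular (FF ((𝔯.comap (algebraMap R Q)).under P) (𝔯.comap (algebraMap R Q)))
      (g.map (algebraMap R (Localization.AtPrime (𝔯.comap (algebraMap R Q))))) := by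
  refine (AddEquiv.isWeaklyRegular_congr (e := (ee hPB hRQ hker 𝔯).toAddEquiv) ?_).mpr h
  rw [List.forall₂_map_left_iff, List.map_map, List.forall₂_map_right_iff]
  refine List.forall₂_same.mpr ?_
  intro r _ x
  obtain ⟨y, rfl⟩ := Ideal.Quotient.mk_surjective x
  change (ee hPB hRQ hker 𝔯) (Ideal.Quotient.mk _ (algebraMap R _ r * y)) =
    Ideal.Quotient.mk _ ((algebraMap Q (Localization.AtPrime 𝔯) (algebraMap R Q r)) *
      lam (R := R) 𝔯 y)
  change Ideal.Quotient.mk _ (lam (R := R) 𝔯 (algebraMap R _ r * y)) = _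
  rw [map_mul, lam_algebraMap]

end transfer

end Groth.Agent.Lib.Helper8.SD1
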