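/-
Helper library (helper8): independence of a weakly regular generating list modulo `𝔮 J`.
-/
import Mathlib
import Groth.Agent.Lib.Helper9.KoszulGen
import Groth.Agent.Lib.Helper9.KoszulIndep
import Groth.Agent.S15821

set_option autoImplicit false
set_option linter.style.haveILetI false
set_option maxHeartbeats 400000
universe u

namespace Groth.Agent.Lib.Helper8.SD2

open IsLocalRing RingTheory.Sequence

theorem indep_of_weaklyRegular {T : Type u} [CommRing T] (J 𝔮 : Ideal T) [𝔮.IsPrime]
    (hJ𝔮 : J ≤ 𝔮) (l : List T) (hl : IsWeaklyRegular T l) (hlJ : Ideal.ofList l = J)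
    (p rest : List T) (x : T) (hsplit : l = p ++ x :: rest) (u : T) (hu : u ∉ 𝔮) :
    u * x ∉ Ideal.ofList p ⊔ 𝔮 * J := by
  intro hmem
  set O := Localization.AtPrime 𝔮 with hO
  set ι := algebraMap T O with hι
  have hl' : LCI.IsKoszulRegularSeq O (l.map ι) :=
    (Groth.Agent.S15821.result O _
      (Groth.Agent.Lib.Helper9.KoszulIndep.isWeaklyRegular_map_of_flat l hl)).1
  set J' : Ideal O := J.map ι with hJ'
  have hlJ' : Ideal.ofList (l.map ι) = J' := by
    rw [hJ', ← hlJ, Ideal.map_ofList]
  have hJ'le : J' ≤ maximalIdeal O := by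
    rw [hJ', ← Localization.AtPrime.map_eq_maximalIdeal]
    exact Ideal.map_mono hJ𝔮
  have hJ'top : J' ≠ ⊤ := by
    intro h
    rw [h, top_le_iff] at hJ'le
    exact (maximalIdeal.isMaximal O).ne_top hJ'le
  have hux : ι (u * x) ∈ Ideal.ofList (p.map ι) ⊔ maximalIdeal O * J' := by
    have := Ideal.mem_map_of_mem ι hmem
    rw [Ideal.map_sup, Ideal.map_mul, Localization.AtPrime.map_eq_maximalIdeal,
      Ideal.map_ofList] at this
    exact this
  have huu : IsUnit (ι u) := IsLocalization.map_units O (⟨u, hu⟩ : 𝔮.primeCompl)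
  have hx : ι x ∈ Ideal.ofList (p.map ι) ⊔ maximalIdeal O * J' := by
    rw [map_mul] at hux
    exact (Ideal.unit_mul_mem_iff_mem _ huu).mp hux
  have hle : Ideal.ofList ((p ++ rest).map ι) ≤ J' := by
    rw [← hlJ']
    apply Ideal.span_mono
    intro z hz
    simp only [Set.mem_ofPred_eq, List.mem_map, hsplit, List.mem_append, List.mem_cons] at hz ⊢
    obtain ⟨a, ha, rfl⟩ := hz
    exact ⟨a, by tauto, rfl⟩
  have hJfg : J'.FG := by
    rw [← hlJ']
    classical
    exact ⟨(l.map ι).toFinset, by rw [List.coe_toFinset]⟩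
  have heq : J' ≤ Ideal.ofList ((p ++ rest).map ι) := by
    refine Submodule.le_of_le_smul_of_le_jacobson_bot (I := maximalIdeal O) hJfg
      (IsLocalRing.maximalIdeal_le_jacobson ⊥) ?_
    rw [← hlJ']
    apply Ideal.span_le.mpr
    intro z hz
    simp only [Set.mem_ofPred_eq, List.mem_map, hsplit, List.mem_append, List.mem_cons] at hz
    obtain ⟨a, ha, rfl⟩ := hz
    rw [hlJ', smul_eq_mul]
    rcases ha with ha | rfl | ha
    · refine Submodule.mem_sup_left (Ideal.subset_span ?_)
      simp only [Set.mem_ofPred_eq, List.mem_map, List.mem_append]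
      exact ⟨a, Or.inl ha, rfl⟩
    · obtain ⟨y, hy, z, hz, hyz⟩ := Submodule.mem_sup.mp hx
      rw [← hyz]
      refine Submodule.add_mem_sup ?_ hz
      refine (Ideal.span_mono ?_) hy
      intro t ht
      simp only [Set.mem_ofPred_eq, List.mem_map, List.mem_append] at ht ⊢
      obtain ⟨b, hb, rfl⟩ := ht
      exact ⟨b, Or.inl hb, rfl⟩
    · refine Submodule.mem_sup_left (Ideal.subset_span ?_)
      simp only [Set.mem_ofPred_eq, List.mem_map, List.mem_append]
      exact ⟨a, Or.inr ha, rfl⟩
  have hlen := Groth.Agent.Lib.Helper9.KoszulGen.length_le_of_isKoszulRegularSeq hJ'top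
    (l.map ι) hl' hlJ' ((p ++ rest).map ι) (le_antisymm hle heq)
  simp only [hsplit, List.length_map, List.length_append, List.length_cons] at hlen
  omega

end Groth.Agent.Lib.Helper8.SD2
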