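/-
Helper library (helper8): the flat slice.  Given surjections `P ↠ B`, `R ↠ Q` with
`ker (R → Q) = ker (P → B) · R`, `P → R` flat of finite presentation, an ideal `J` of `Q` whose
preimage in `R` is Koszul-regular, and a list of elements of `J` regular on the fibre local ring,
generating `J` near a prime and staying regular with flat quotients on small basic opens:
there is a flat finitely presented `P`-algebra `D`, with a prime over the given prime of `P`,
in which the extension of `ker (P → B)` is a Koszul-regular ideal.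
-/
import Mathlib
import Groth.Agent.Lib.Helper8.SD1
import Groth.Agent.Lib.Helper8.SD2
import Groth.Agent.Lib.Helper9.LCIComp
import Groth.Agent.Lib.Helper9.KoszulPres
import Groth.Agent.Lib.Helper35.RegSlice8

set_option autoImplicit false
set_option linter.style.haveILetI false
set_option maxHeartbeats 1000000
universe u

namespace Groth.Agent.Lib.Helper8.SD3

open IsLocalRing RingTheory.Sequence Groth.Agent.Lib.Helper8.HD
  Groth.Agent.Lib.Helper35.RegSlice8

variable {P B R Q : Type u} [CommRing P] [CommRing B] [CommRing R] [CommRing Q]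
  [Algebra P B] [Algebra P R] [Algebra B Q] [Algebra R Q] [Algebra P Q]
  [IsScalarTower P R Q] [IsScalarTower P B Q]
  [Algebra.FinitePresentation P R] [Module.Flat P R]

theorem slice (hPB : Function.Surjective (algebraMap P B))
    (hRQ : Function.Surjective (algebraMap R Q))
    (hker : RingHom.ker (algebraMap R Q) = (RingHom.ker (algebraMap P B)).map (algebraMap P R))
    (J : Ideal Q) (𝔯 : Ideal Q) [𝔯.IsPrime] (hJ𝔯 : J ≤ 𝔯)
    (hK : LCI.IsKoszulRegularIdeal (J.comap (algebraMap R Q)))
    (gb : List Q) (hgbJ : ∀ x ∈ gb, x ∈ J)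
    (hreg : IsWeaklyRegular (FF (𝔯.under B) 𝔯) (gb.map (algebraMap Q (Localization.AtPrime 𝔯))))
    (hb : Q) (hhb : hb ∉ 𝔯)
    (hgen : J.map (algebraMap Q (Localization.Away hb)) =
      Ideal.ofList (gb.map (algebraMap Q (Localization.Away hb))))
    (hGood : Good B Q 𝔯 gb) :
    ∃ (D : Type u) (_ : CommRing D) (_ : Algebra P D), Module.Flat P D ∧
      Algebra.FinitePresentation P D ∧
      (∃ 𝔡 : Ideal D, 𝔡.IsPrime ∧
        𝔡.comap (algebraMap P D) = (𝔯.comap (algebraMap R Q)).under P) ∧
      LCI.IsKoszulRegularIdeal ((RingHom.ker (algebraMap P B)).map (algebraMap P D)) := by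
  classical
  -- lift the list
  obtain ⟨g, hgmap⟩ : ∃ g : List R, g.map (algebraMap R Q) = gb := by
    refine ⟨gb.map (Function.surjInv hRQ), ?_⟩
    rw [List.map_map]
    conv_rhs => rw [← List.map_id gb]
    apply List.map_congr_left
    intro x _
    exact Function.surjInv_eq hRQ x
  set K : Ideal R := J.comap (algebraMap R Q) with hKdef
  have hgK : ∀ x ∈ g, x ∈ K := by
    intro x hx
    rw [hKdef, Ideal.mem_comap]
    apply hgbJ
    rw [← hgmap]
    exact List.mem_map_of_mem hx
  set 𝔯R : Ideal R := 𝔯.comap (algebraMap R Q) with h𝔯R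
  set 𝔭 : Ideal P := 𝔯R.under P with h𝔭
  have hK𝔯 : K ≤ 𝔯R := Ideal.comap_mono hJ𝔯
  have hregR : IsWeaklyRegular (FF 𝔭 𝔯R) (g.map (algebraMap R (Localization.AtPrime 𝔯R))) := by
    apply Groth.Agent.Lib.Helper8.SD1.weaklyRegular_transfer hPB hRQ hker 𝔯 g
    rw [hgmap]
    exact hreg
  have hflat : (sig 𝔭 𝔯R).Flat :=
    RingHom.Flat.localRingHom (f := algebraMap P R) (RingHom.flat_algebraMap_iff.2 inferInstance)
      𝔯R 𝔭 (𝔯R.over_def 𝔭)
  obtain ⟨w, hw, hGoodR⟩ := iter_slice 𝔭 (Localization.AtPrime 𝔭) g.length R 𝔯R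
    (Localization.AtPrime 𝔯R) (sig 𝔭 𝔯R) (sig_comp 𝔭 𝔯R) hflat g rfl
    (fun x hx => hK𝔯 (hgK x hx)) hregR
  obtain ⟨wb, hwb, hGoodB⟩ := hGood
  -- the element to invert
  obtain ⟨w', hw'⟩ : ∃ w' : R, w' = w * Function.surjInv hRQ wb * Function.surjInv hRQ hb :=
    ⟨_, rfl⟩
  have hΦw' : algebraMap R Q w' = algebraMap R Q w * wb * hb := by
    rw [hw', map_mul, map_mul, Function.surjInv_eq hRQ, Function.surjInv_eq hRQ]
  have hw'𝔯 : w' ∉ 𝔯R := by
    intro h
    rw [h𝔯R, Ideal.mem_comap, hΦw'] at h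
    rcases Ideal.IsPrime.mem_or_mem inferInstance h with h | h
    · rcases Ideal.IsPrime.mem_or_mem inferInstance h with h | h
      · exact hw h
      · exact hwb h
    · exact hhb h
  set S := Localization.Away w' with hS
  set T := Localization.Away (algebraMap R Q w') with hT
  set ΦS : S →+* T := Localization.awayMap (algebraMap R Q) w' with hΦS
  have hΦSsurj : Function.Surjective ΦS :=
    Groth.Agent.Lib.Helper9.KoszulIndep.awayMap_surjective _ hRQ w'
  have hΦSker : RingHom.ker ΦS = (RingHom.ker (algebraMap R Q)).map (algebraMap R S) :=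
    Groth.Agent.Lib.Helper9.KoszulIndep.ker_awayMap _ w'
  have hΦScomp : ΦS.comp (algebraMap R S) = (algebraMap Q T).comp (algebraMap R Q) := by
    ext x
    simp only [hΦS, Localization.awayMap, IsLocalization.Away.map, RingHom.coe_comp,
      Function.comp_apply, IsLocalization.map_eq]
    rfl
  -- regularity upstairs and downstairs
  obtain ⟨hwS, hflS⟩ := hGoodR w' ⟨Function.surjInv hRQ wb * Function.surjInv hRQ hb, by
    rw [hw']; ring⟩ S
  obtain ⟨hwT, -⟩ := hGoodB (algebraMap R Q w') ⟨algebraMap R Q w * hb, by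
    rw [hΦw']; ring⟩ T
  set gS : List S := g.map (algebraMap R S) with hgS
  set gT : List T := gb.map (algebraMap Q T) with hgT
  have hgST : gS.map ΦS = gT := by
    have h1 : gT = (g.map (algebraMap R Q)).map (algebraMap Q T) := by rw [hgmap]
    rw [h1, hgS, List.map_map, List.map_map]
    apply List.map_congr_left
    intro x _
    exact congrFun (congrArg DFunLike.coe hΦScomp) x
  -- generation downstairs
  have hhbT : IsUnit (algebraMap Q T hb) := by
    have h0 : IsUnit (algebraMap Q T (algebraMap R Q w')) :=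
      IsLocalization.Away.algebraMap_isUnit (S := T) (algebraMap R Q w')
    have h1 : algebraMap Q T (algebraMap R Q w') =
        algebraMap Q T (algebraMap R Q w * wb) * algebraMap Q T hb := by
      rw [← map_mul, ← hΦw']
    rw [h1] at h0
    exact isUnit_of_mul_isUnit_right h0
  have hJT : J.map (algebraMap Q T) = Ideal.ofList gT := by
    rw [Groth.Agent.Lib.Helper9.KoszulQuot.map_eq_of_away J (Ideal.ofList gb)
      (Ideal.span_le.mpr hgbJ) hb (by rw [hgen, Ideal.map_ofList]) T hhbT, Ideal.map_ofList]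
  -- the ideal upstairs
  set KS : Ideal S := K.map (algebraMap R S) with hKS
  have hKSmap : KS.map ΦS = J.map (algebraMap Q T) := by
    rw [hKS, Ideal.map_map, hΦScomp, ← Ideal.map_map, hKdef,
      Ideal.map_comap_of_surjective _ hRQ]
  have hgSK : ∀ x ∈ gS, x ∈ KS := by
    intro x hx
    rw [hgS, List.mem_map] at hx
    obtain ⟨a, ha, rfl⟩ := hx
    exact Ideal.mem_map_of_mem _ (hgK a ha)
  have hkerK : RingHom.ker (algebraMap R Q) ≤ K := by
    intro x hx
    rw [hKdef, Ideal.mem_comap, (RingHom.mem_ker).mp hx]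
    exact Ideal.zero_mem _
  have hKSeq : KS = Ideal.ofList gS ⊔ RingHom.ker ΦS := by
    apply le_antisymm
    · intro x hx
      have h1 : ΦS x ∈ (Ideal.ofList gS).map ΦS := by
        rw [Ideal.map_ofList, hgST, ← hJT, ← hKSmap]
        exact Ideal.mem_map_of_mem _ hx
      have h2 : x ∈ ((Ideal.ofList gS).map ΦS).comap ΦS := h1
      rw [Ideal.comap_map_of_surjective _ hΦSsurj] at h2
      exact h2
    · refine sup_le (Ideal.span_le.mpr hgSK) ?_
      rw [hΦSker, hKS]
      exact Ideal.map_mono hkerK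
  haveI : Module.Flat R S := IsLocalization.flat S (Submonoid.powers w')
  have hKSreg : LCI.IsKoszulRegularIdeal KS :=
    Groth.Agent.Lib.Helper9.LCIComp.map_koszulRegularIdeal_of_flat S K hK
  -- independence
  have hind : ∀ 𝔮 : Ideal S, 𝔮.IsPrime → KS ≤ 𝔮 →
      Groth.Agent.Lib.Helper9.KoszulIndep.IndepAt KS 𝔮 [] gS := by
    intro 𝔮 h𝔮 hKS𝔮
    apply Groth.Agent.Lib.Helper9.KoszulPres.indepAt_of_split
    intro p rest x hsplit u hu hmem
    have hker𝔮 : RingHom.ker ΦS ≤ 𝔮 := le_trans (by rw [hKSeq]; exact le_sup_right) hKS𝔮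
    haveI : (𝔮.map ΦS).IsPrime := Ideal.map_isPrime_of_surjective hΦSsurj hker𝔮
    have hu' : ΦS u ∉ 𝔮.map ΦS := by
      intro h
      rw [Ideal.mem_map_iff_of_surjective _ hΦSsurj] at h
      obtain ⟨v, hv, hvu⟩ := h
      have h1 : u - v ∈ RingHom.ker ΦS := by rw [RingHom.mem_ker, map_sub, hvu, sub_self]
      have h2 : u = (u - v) + v := by ring
      rw [h2] at hu
      exact hu (𝔮.add_mem (hker𝔮 h1) hv)
    have hmem' : ΦS u * ΦS x ∈
        Ideal.ofList (p.map ΦS) ⊔ (𝔮.map ΦS) * (J.map (algebraMap Q T)) := by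
      have := Ideal.mem_map_of_mem ΦS hmem
      rw [map_mul ΦS u x, Ideal.map_sup, Ideal.map_mul, Ideal.map_ofList, hKSmap] at this
      exact this
    refine Groth.Agent.Lib.Helper8.SD2.indep_of_weaklyRegular (J.map (algebraMap Q T)) (𝔮.map ΦS)
      ?_ gT hwT hJT.symm (p.map ΦS) (rest.map ΦS) (ΦS x) ?_ (ΦS u) hu' hmem'
    · rw [← hKSmap]
      exact Ideal.map_mono hKS𝔮
    · rw [← hgST, hsplit, List.map_append, List.map_cons]
  -- the quotient
  have hDreg := Groth.Agent.Lib.Helper9.KoszulQuot.quotient_koszulRegularIdeal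
    (Ideal.Quotient.mk (Ideal.ofList gS)) Ideal.Quotient.mk_surjective gS Ideal.mk_ker hwS KS
    hgSK hKSreg hind
  set π : S →+* S ⧸ Ideal.ofList gS := Ideal.Quotient.mk (Ideal.ofList gS) with hπ
  have hπsurj : Function.Surjective π := Ideal.Quotient.mk_surjective
  have hπker : RingHom.ker π = Ideal.ofList gS := Ideal.mk_ker
  refine ⟨S ⧸ Ideal.ofList gS, inferInstance, inferInstance, ?_, ?_, ?_, ?_⟩
  · have h0 := hflS gS.length
    rw [List.take_length] at h0
    exact h0
  · haveI : Algebra.FinitePresentation R S := IsLocalization.Away.finitePresentation w'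
    haveI : Algebra.FinitePresentation S (S ⧸ Ideal.ofList gS) :=
      Algebra.FinitePresentation.quotient
        (Groth.Agent.Lib.Helper9.KoszulQuot.fg_ofList gS)
    haveI : Algebra.FinitePresentation P S := Algebra.FinitePresentation.trans P R S
    exact Algebra.FinitePresentation.trans P S (S ⧸ Ideal.ofList gS)
  · have hdisj : Disjoint (Submonoid.powers w' : Set R) (𝔯R : Set R) :=
      (Ideal.disjoint_powers_iff_notMem w' (Ideal.IsPrime.isRadical inferInstance)).mpr hw'𝔯
    have h𝔯Sprime : (𝔯R.map (algebraMap R S)).IsPrime :=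
      IsLocalization.isPrime_of_isPrime_disjoint (Submonoid.powers w') S 𝔯R inferInstance hdisj
    have h𝔯Scomap : (𝔯R.map (algebraMap R S)).comap (algebraMap R S) = 𝔯R :=
      IsLocalization.under_map_of_isPrime_disjoint (Submonoid.powers w') S inferInstance hdisj
    have hle : RingHom.ker π ≤ 𝔯R.map (algebraMap R S) := by
      rw [hπker]
      apply Ideal.span_le.mpr
      intro x hx
      have hx' : x ∈ gS := hx
      rw [hgS, List.mem_map] at hx'
      obtain ⟨a, ha, rfl⟩ := hx'
      exact Ideal.mem_map_of_mem _ (hK𝔯 (hgK a ha))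
    refine ⟨(𝔯R.map (algebraMap R S)).map π, Ideal.map_isPrime_of_surjective hπsurj hle, ?_⟩
    rw [IsScalarTower.algebraMap_eq P S (S ⧸ Ideal.ofList gS),
      IsScalarTower.algebraMap_eq P R S, ← Ideal.comap_comap, ← Ideal.comap_comap]
    have h1 : ((𝔯R.map (algebraMap R S)).map π).comap
        (algebraMap S (S ⧸ Ideal.ofList gS)) = 𝔯R.map (algebraMap R S) := by
      change ((𝔯R.map (algebraMap R S)).map π).comap π = _
      rw [Ideal.comap_map_of_surjective _ hπsurj]
      exact sup_eq_left.mpr hle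
    rw [h1, h𝔯Scomap]
  · have h1 : (RingHom.ker (algebraMap P B)).map (algebraMap P (S ⧸ Ideal.ofList gS)) =
        KS.map π := by
      rw [hKSeq, Ideal.map_sup, hΦSker, hker, Ideal.map_map, Ideal.map_map]
      have h2 : (Ideal.ofList gS).map π = ⊥ := by
        rw [hπ, Ideal.map_quotient_self]
      rw [h2, bot_sup_eq]
      congr 1
    rw [h1]
    exact hDreg

end Groth.Agent.Lib.Helper8.SD3
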