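/-
Helper library (helper8): descent of Koszul-regularity of an ideal from a flat finitely presented
algebra to a basic open neighbourhood of a prime in the image.
-/
import Mathlib
import Groth.Agent.Lib.Helper9.KoszulDesc
import Groth.Agent.Lib.Helper9.LCIComp

set_option autoImplicit false
set_option linter.style.haveILetI false
set_option maxHeartbeats 400000
universe u

namespace Groth.Agent.Lib.Helper8.SD4

open PrimeSpectrum

theorem descend_near {P : Type u} [CommRing P] (I : Ideal P) (𝔭 : Ideal P) [𝔭.IsPrime]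
    (D : Type u) [CommRing D] [Algebra P D] [Module.Flat P D] [Algebra.FinitePresentation P D]
    (𝔡 : Ideal D) [𝔡.IsPrime] (h𝔡 : 𝔡.comap (algebraMap P D) = 𝔭)
    (hID : LCI.IsKoszulRegularIdeal (I.map (algebraMap P D))) :
    ∃ a : P, a ∉ 𝔭 ∧
      LCI.IsKoszulRegularIdeal (I.map (algebraMap P (Localization.Away a))) := by
  have hopen := PrimeSpectrum.isOpenMap_comap_of_hasGoingDown_of_finitePresentation
    (R := P) (S := D)
  have hU : IsOpen (Set.range (PrimeSpectrum.comap (algebraMap P D))) := hopen.isOpen_range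
  have hmem : (⟨𝔭, inferInstance⟩ : PrimeSpectrum P) ∈
      Set.range (PrimeSpectrum.comap (algebraMap P D)) :=
    ⟨⟨𝔡, inferInstance⟩, PrimeSpectrum.ext h𝔡⟩
  obtain ⟨_, ⟨a, rfl⟩, ha𝔭, haU⟩ :=
    PrimeSpectrum.isTopologicalBasis_basic_opens.exists_subset_of_mem_open hmem hU
  refine ⟨a, ha𝔭, ?_⟩
  set Pa := Localization.Away a with hPa
  set Da := Localization.Away (algebraMap P D a) with hDa
  letI : Algebra Pa Da := (Localization.awayMap (algebraMap P D) a).toAlgebra
  haveI : IsScalarTower P Pa Da := IsScalarTower.of_algebraMap_eq (fun x => by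
    have h1 : algebraMap Pa Da (algebraMap P Pa x) =
        Localization.awayMap (algebraMap P D) a (algebraMap P Pa x) := rfl
    rw [h1]
    unfold Localization.awayMap IsLocalization.Away.map
    erw [IsLocalization.map_eq]
    exact IsScalarTower.algebraMap_apply P D Da x)
  haveI : Module.Flat Pa Da :=
    (Module.flat_iff_of_isLocalization Pa (Submonoid.powers a) (M := Da)).mpr inferInstance
  haveI : Module.FaithfullyFlat Pa Da := by
    apply Module.FaithfullyFlat.of_comap_surjective
    intro 𝔭'
    have h1 : PrimeSpectrum.comap (algebraMap P Pa) 𝔭' ∈ (PrimeSpectrum.basicOpen a : Set _) := by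
      rw [← PrimeSpectrum.localization_away_comap_range Pa a]
      exact ⟨𝔭', rfl⟩
    obtain ⟨𝔡'', h𝔡''⟩ := haU h1
    have h2 : 𝔡'' ∈ (PrimeSpectrum.basicOpen (algebraMap P D a) : Set _) := by
      intro h
      apply h1
      rw [← h𝔡'']
      exact h
    rw [← PrimeSpectrum.localization_away_comap_range Da (algebraMap P D a)] at h2
    obtain ⟨𝔡', h𝔡'⟩ := h2
    refine ⟨𝔡', ?_⟩
    apply PrimeSpectrum.localization_comap_injective Pa (Submonoid.powers a)
    rw [← h𝔡'', ← h𝔡']
    ext1
    simp only [PrimeSpectrum.comap_asIdeal, Ideal.comap_comap]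
    rw [← IsScalarTower.algebraMap_eq, ← IsScalarTower.algebraMap_eq]
  apply Groth.Agent.Lib.Helper9.KoszulDesc.koszulRegularIdeal_descent Pa Da
  have h3 : (I.map (algebraMap P Pa)).map (algebraMap Pa Da) =
      (I.map (algebraMap P D)).map (algebraMap D Da) := by
    rw [Ideal.map_map, Ideal.map_map, ← IsScalarTower.algebraMap_eq,
      ← IsScalarTower.algebraMap_eq]
  rw [h3]
  exact Groth.Agent.Lib.Helper9.LCIComp.map_koszulRegularIdeal_of_flat Da _ hID

end Groth.Agent.Lib.Helper8.SD4
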