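/-
Helper library (helper8): local complete intersections descend along flat local complete
intersection maps on the source, locally at points in the image:
`A → B` of finite type, `B → C` flat lci, `A → C` lci, `r` a prime of `C`
⟹ some basic open `B_b` of `B` around `r ∩ B` is lci over `A`.
-/
import Mathlib
import Groth.Agent.Lib.Helper8.SD3
import Groth.Agent.Lib.Helper8.SD4
import Groth.Agent.Lib.Helper8.HD2
import Groth.Agent.Lib.Helper8.LCIFib
import Groth.Agent.Lib.Helper9.SmoothLCI
import Groth.Agent.Lib.Helper9.LCIFinPres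
import Groth.Agent.Lib.Helper9.LciMor2

set_option autoImplicit false
set_option linter.style.haveILetI false
set_option maxHeartbeats 1000000
universe u

namespace Groth.Agent.Lib.Helper8.SD5

open IsLocalRing RingTheory.Sequence Groth.Agent.Lib.Helper8.HD
  Groth.Agent.Lib.Helper35.RegSlice8 TensorProduct

theorem core {A B C : Type u} [CommRing A] [CommRing B] [CommRing C] [Algebra A B] [Algebra B C]
    [Algebra A C] [IsScalarTower A B C] [Algebra.FiniteType A B] [Module.Flat B C]
    (hBC : LCI.IsLCI B C) (hAC : LCI.IsLCI A C) (r : Ideal C) [r.IsPrime] :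
    ∃ b : B, b ∉ r.comap (algebraMap B C) ∧ LCI.IsLCI A (Localization.Away b) := by
  classical
  obtain ⟨n, φ, hφ⟩ := Algebra.FiniteType.iff_quotient_mvPolynomial''.mp
    (inferInstance : Algebra.FiniteType A B)
  obtain ⟨hftBC, m, ψ, hψ, hJ⟩ := hBC
  letI algPB : Algebra (MvPolynomial (Fin n) A) B := φ.toRingHom.toAlgebra
  haveI : IsScalarTower A (MvPolynomial (Fin n) A) B :=
    IsScalarTower.of_algebraMap_eq (fun x => (φ.commutes x).symm)
  have hPB : Function.Surjective (algebraMap (MvPolynomial (Fin n) A) B) := hφ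
  letI algRQ : Algebra (MvPolynomial (Fin m) (MvPolynomial (Fin n) A)) (MvPolynomial (Fin m) B) :=
    (MvPolynomial.map (algebraMap (MvPolynomial (Fin n) A) B)).toAlgebra
  haveI : IsScalarTower (MvPolynomial (Fin n) A) (MvPolynomial (Fin m) (MvPolynomial (Fin n) A))
      (MvPolynomial (Fin m) B) := IsScalarTower.of_algebraMap_eq (fun x => by
    rw [MvPolynomial.algebraMap_eq, MvPolynomial.algebraMap_apply]
    exact (MvPolynomial.map_C _ x).symm)
  have hRQ : Function.Surjective (algebraMap (MvPolynomial (Fin m) (MvPolynomial (Fin n) A))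
      (MvPolynomial (Fin m) B)) := MvPolynomial.map_surjective _ hPB
  have hker : RingHom.ker (algebraMap (MvPolynomial (Fin m) (MvPolynomial (Fin n) A))
      (MvPolynomial (Fin m) B)) = (RingHom.ker (algebraMap (MvPolynomial (Fin n) A) B)).map
        (algebraMap (MvPolynomial (Fin n) A) (MvPolynomial (Fin m) (MvPolynomial (Fin n) A))) :=
    MvPolynomial.ker_map _
  -- the ideal `J` and its preimage
  set J : Ideal (MvPolynomial (Fin m) B) := RingHom.ker ψ.toRingHom with hJdef
  letI algRC : Algebra (MvPolynomial (Fin m) (MvPolynomial (Fin n) A)) C :=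
    (ψ.toRingHom.comp (algebraMap (MvPolynomial (Fin m) (MvPolynomial (Fin n) A))
      (MvPolynomial (Fin m) B))).toAlgebra
  haveI : IsScalarTower A (MvPolynomial (Fin m) (MvPolynomial (Fin n) A)) C :=
    IsScalarTower.of_algebraMap_eq (fun x => by
      change algebraMap A C x = ψ (MvPolynomial.map (algebraMap (MvPolynomial (Fin n) A) B)
        (algebraMap A (MvPolynomial (Fin m) (MvPolynomial (Fin n) A)) x))
      rw [MvPolynomial.algebraMap_apply, MvPolynomial.map_C, ← MvPolynomial.algebraMap_eq,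
        ψ.commutes, ← IsScalarTower.algebraMap_apply A (MvPolynomial (Fin n) A) B,
        ← IsScalarTower.algebraMap_apply A B C])
  haveI : Algebra.Smooth A (MvPolynomial (Fin n) A) := ⟨inferInstance, inferInstance⟩
  haveI : Algebra.Smooth (MvPolynomial (Fin n) A)
      (MvPolynomial (Fin m) (MvPolynomial (Fin n) A)) := ⟨inferInstance, inferInstance⟩
  haveI : Algebra.Smooth A (MvPolynomial (Fin m) (MvPolynomial (Fin n) A)) :=
    Algebra.Smooth.comp A (MvPolynomial (Fin n) A) _
  have hRCsurj : Function.Surjective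
      (algebraMap (MvPolynomial (Fin m) (MvPolynomial (Fin n) A)) C) := hψ.comp hRQ
  have hK : LCI.IsKoszulRegularIdeal (J.comap (algebraMap
      (MvPolynomial (Fin m) (MvPolynomial (Fin n) A)) (MvPolynomial (Fin m) B))) := by
    have h1 := Groth.Agent.Lib.Helper9.SmoothLCI.isLCI_cancel_smooth (R := A)
      (MvPolynomial (Fin m) (MvPolynomial (Fin n) A)) C hAC
    have h2 := (Groth.Agent.Lib.Helper9.SmoothLCI0.isLCI_iff_ker
      (A := MvPolynomial (Fin m) (MvPolynomial (Fin n) A)) (C := C) hRCsurj).mp h1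
    rw [hJdef, RingHom.comap_ker]
    exact h2
  -- the prime downstairs
  set 𝔯 : Ideal (MvPolynomial (Fin m) B) := r.comap ψ.toRingHom with h𝔯
  have hJ𝔯 : J ≤ 𝔯 := by
    intro x hx
    rw [h𝔯, Ideal.mem_comap, (RingHom.mem_ker).mp hx]
    exact Ideal.zero_mem _
  set q : Ideal B := 𝔯.under B with hq
  have hfib : LCI.IsKoszulRegularIdeal (J.map
      (Algebra.TensorProduct.includeRight (R := B) (A := q.ResidueField)
        (B := MvPolynomial (Fin m) B))) :=
    isKoszulRegularIdeal_fibre (A := B) (B := C) q.ResidueField m ψ hψ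
      (Groth.Agent.Lib.Helper8.LCIFib.isLCI_baseChange B C ⟨hftBC, m, ψ, hψ, hJ⟩
        q.ResidueField)
  obtain ⟨gb, hgbJ, hreg, hspan⟩ := exists_list_fibre m J q 𝔯 hJ𝔯 hfib
  haveI : Module.Flat B (MvPolynomial (Fin m) B ⧸ J) :=
    Module.Flat.of_linearEquiv (Ideal.quotientKerAlgEquivOfSurjective hψ).toLinearEquiv
  have hJfg : J.FG := Groth.Agent.Lib.Helper9.LCIFinPres.fg_of_isKoszulRegularIdeal J hJ
  obtain ⟨hb, hhb, -, hgen, -⟩ := local_main_of_list m J hJfg q 𝔯 hJ𝔯 gb hgbJ hreg hspan
  have hflatB : (sig q 𝔯).Flat :=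
    RingHom.Flat.localRingHom (f := algebraMap B (MvPolynomial (Fin m) B))
      (RingHom.flat_algebraMap_iff.2 inferInstance) 𝔯 q (𝔯.over_def q)
  have hGood : Good B (MvPolynomial (Fin m) B) 𝔯 gb :=
    iter_slice q (Localization.AtPrime q) gb.length (MvPolynomial (Fin m) B) 𝔯
      (Localization.AtPrime 𝔯) (sig q 𝔯) (sig_comp q 𝔯) hflatB gb rfl
      (fun x hx => hJ𝔯 (hgbJ x hx)) hreg
  obtain ⟨D, _, _, hDflat, hDfp, ⟨𝔡, h𝔡prime, h𝔡⟩, hID⟩ :=
    Groth.Agent.Lib.Helper8.SD3.slice hPB hRQ hker J 𝔯 hJ𝔯 hK gb hgbJ hreg hb hhb hgen hGood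
  haveI := hDflat
  haveI := hDfp
  haveI := h𝔡prime
  obtain ⟨a, ha, hKa⟩ := Groth.Agent.Lib.Helper8.SD4.descend_near
    (RingHom.ker (algebraMap (MvPolynomial (Fin n) A) B)) _ D 𝔡 h𝔡 hID
  refine ⟨algebraMap (MvPolynomial (Fin n) A) B a, ?_, ?_⟩
  · intro hmem
    apply ha
    change algebraMap (MvPolynomial (Fin m) (MvPolynomial (Fin n) A)) (MvPolynomial (Fin m) B)
      (algebraMap (MvPolynomial (Fin n) A) (MvPolynomial (Fin m) (MvPolynomial (Fin n) A)) a) ∈ 𝔯
    rw [h𝔯, Ideal.mem_comap]
    change ψ (MvPolynomial.map (algebraMap (MvPolynomial (Fin n) A) B)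
      (algebraMap (MvPolynomial (Fin n) A) (MvPolynomial (Fin m) (MvPolynomial (Fin n) A)) a)) ∈ r
    rw [MvPolynomial.algebraMap_eq, MvPolynomial.map_C, ← MvPolynomial.algebraMap_eq, ψ.commutes]
    exact hmem
  · set Pa := Localization.Away a with hPa
    set b := algebraMap (MvPolynomial (Fin n) A) B a with hbdef
    set ρ : Pa →+* Localization.Away b :=
      Localization.awayMap (algebraMap (MvPolynomial (Fin n) A) B) a with hρ
    have hρsurj : Function.Surjective ρ :=
      Groth.Agent.Lib.Helper9.KoszulIndep.awayMap_surjective _ hPB a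
    have hρker : RingHom.ker ρ = (RingHom.ker (algebraMap (MvPolynomial (Fin n) A) B)).map
        (algebraMap (MvPolynomial (Fin n) A) Pa) :=
      Groth.Agent.Lib.Helper9.KoszulIndep.ker_awayMap _ a
    have h1 : @LCI.IsLCI Pa _ (Localization.Away b) _ ρ.toAlgebra :=
      Groth.Agent.Lib.Helper9.LciMor2.ringHomLCI_of_surjective ρ hρsurj (by rw [hρker]; exact hKa)
    haveI : Algebra.Smooth (MvPolynomial (Fin n) A) Pa := Algebra.Smooth.of_isLocalization_Away a
    haveI : Algebra.Smooth A Pa := Algebra.Smooth.comp A (MvPolynomial (Fin n) A) Pa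
    have h2 : @LCI.IsLCI A _ Pa _ (algebraMap A Pa).toAlgebra :=
      Groth.Agent.Lib.Helper9.LciMor2.ringHomLCI_of_smooth (algebraMap A Pa)
        (RingHom.smooth_algebraMap.mpr inferInstance)
    have h3 := Groth.Agent.Lib.Helper9.LciMor2.ringHomLCI_comp _ _ h2 h1
    have heq : (ρ.comp (algebraMap A Pa)).toAlgebra =
        (inferInstance : Algebra A (Localization.Away b)) := by
      apply Algebra.algebra_ext
      intro x
      change ρ (algebraMap A Pa x) = algebraMap A (Localization.Away b) x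
      rw [IsScalarTower.algebraMap_apply A (MvPolynomial (Fin n) A) Pa, hρ]
      unfold Localization.awayMap IsLocalization.Away.map
      erw [IsLocalization.map_eq]
      rw [← IsScalarTower.algebraMap_apply A (MvPolynomial (Fin n) A) B,
        ← IsScalarTower.algebraMap_apply A B (Localization.Away b)]
    rw [heq] at h3
    exact h3

end Groth.Agent.Lib.Helper8.SD5
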