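import Mathlib

/-!
# Descent of finite type / finite presentation along faithfully flat f.p. maps

Conditional on the "descent of faithfully flat finitely presented algebras" statement
(`Descent2144`), we prove that finite type and finite presentation of `R → A` can be tested
after a faithfully flat finitely presented extension `A → B`.
-/

set_option maxHeartbeats 400000
set_option autoImplicit false

open TensorProduct

namespace Groth.Agent.Lib.Helper8.FFDescentFT

universe u

/-- The descent statement for faithfully flat finitely presented algebras. -/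
def Descent2144 : Prop :=
  ∀ {R A B : Type u} [CommRing R] [CommRing A] [CommRing B] [Algebra R A]
    [Algebra A B] [Algebra.FinitePresentation A B] [Module.FaithfullyFlat A B],
    ∃ (A₀ B₀ : Type u) (_ : CommRing A₀) (_ : CommRing B₀) (_ : Algebra R A₀) (_ : Algebra A₀ A)
      (_ : IsScalarTower R A₀ A) (_ : Algebra A₀ B₀),
      Algebra.FinitePresentation R A₀ ∧ Algebra.FinitePresentation A₀ B₀ ∧
      Module.FaithfullyFlat A₀ B₀ ∧ Nonempty (B ≃ₐ[A] A ⊗[A₀] B₀)

section core

variable {A₀ A B₀ : Type u} [CommRing A₀] [CommRing A] [CommRing B₀]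
  [Algebra A₀ A] [Algebra A₀ B₀]

/-- the map `A₁ ⊗ B₀ → A ⊗ B₀` for a subalgebra `A₁ ⊆ A` -/
noncomputable def ψ (A₁ : Subalgebra A₀ A) : A₁ ⊗[A₀] B₀ →ₐ[A₀] A ⊗[A₀] B₀ :=
  Algebra.TensorProduct.map A₁.val (AlgHom.id A₀ B₀)

lemma ψ_range_mono {A₁ A₂ : Subalgebra A₀ A} (h : A₁ ≤ A₂) :
    (ψ (B₀ := B₀) A₁).range ≤ (ψ (B₀ := B₀) A₂).range := by
  rintro _ ⟨x, rfl⟩
  refine ⟨Algebra.TensorProduct.map (Subalgebra.inclusion h) (AlgHom.id A₀ B₀) x, ?_⟩
  change (ψ A₂).toRingHom.comp
    (Algebra.TensorProduct.map (Subalgebra.inclusion h) (AlgHom.id A₀ B₀)).toRingHom x = _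
  have : (ψ (B₀ := B₀) A₂).comp
      (Algebra.TensorProduct.map (Subalgebra.inclusion h) (AlgHom.id A₀ B₀)) = ψ A₁ := by
    ext a
    · simp [ψ]
    · simp [ψ]
  exact DFunLike.congr_fun this x

lemma exists_fg_mem_range (t : A ⊗[A₀] B₀) :
    ∃ A₁ : Subalgebra A₀ A, A₁.FG ∧ t ∈ (ψ (B₀ := B₀) A₁).range := by
  induction t using TensorProduct.induction_on with
  | zero => exact ⟨⊥, Subalgebra.fg_bot, Subalgebra.zero_mem _⟩
  | tmul a b =>
    refine ⟨Algebra.adjoin A₀ {a}, by simpa using Subalgebra.fg_adjoin_finset (R := A₀) ({a} : Finset A), ?_⟩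
    refine ⟨(⟨a, Algebra.subset_adjoin (Set.mem_singleton a)⟩ : Algebra.adjoin A₀ {a}) ⊗ₜ b, ?_⟩
    simp [ψ]
  | add x y hx hy =>
    obtain ⟨A₁, h₁, hx⟩ := hx
    obtain ⟨A₂, h₂, hy⟩ := hy
    exact ⟨A₁ ⊔ A₂, h₁.sup h₂,
      Subalgebra.add_mem _ (ψ_range_mono le_sup_left hx) (ψ_range_mono le_sup_right hy)⟩

lemma exists_fg_subset_range (s : Finset (A ⊗[A₀] B₀)) :
    ∃ A₁ : Subalgebra A₀ A, A₁.FG ∧ (s : Set (A ⊗[A₀] B₀)) ⊆ (ψ (B₀ := B₀) A₁).range := by
  classical
  induction s using Finset.induction_on with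
  | empty => exact ⟨⊥, Subalgebra.fg_bot, by simp⟩
  | insert t s _ ih =>
    obtain ⟨A₁, h₁, hs⟩ := ih
    obtain ⟨A₂, h₂, ht⟩ := exists_fg_mem_range (B₀ := B₀) t
    refine ⟨A₁ ⊔ A₂, h₁.sup h₂, ?_⟩
    intro x hx
    rw [Finset.coe_insert, Set.mem_insert_iff] at hx
    rcases hx with rfl | hx
    · exact ψ_range_mono le_sup_right ht
    · exact ψ_range_mono le_sup_left (hs hx)

end core

/-- Finite type descends along a faithfully flat base-changed algebra. -/
theorem finiteType_of_tensor {R A₀ A B₀ : Type u} [CommRing R] [CommRing A₀] [CommRing A]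
    [CommRing B₀] [Algebra R A₀] [Algebra R A] [Algebra A₀ A] [IsScalarTower R A₀ A]
    [Algebra A₀ B₀] [Algebra.FiniteType R A₀] [Module.FaithfullyFlat A₀ B₀]
    (hT : Algebra.FiniteType R (A ⊗[A₀] B₀)) : Algebra.FiniteType R A := by
  obtain ⟨s, hs⟩ := hT.out
  obtain ⟨A₁, hA₁, hsub⟩ := exists_fg_subset_range (A₀ := A₀) (A := A) (B₀ := B₀) s
  -- the range of ψ, as an `R`-subalgebra, is everything
  have htop : ((ψ (B₀ := B₀) A₁).range.restrictScalars R) = ⊤ := by
    rw [eq_top_iff, ← hs]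
    exact Algebra.adjoin_le hsub
  have hsurj : Function.Surjective (ψ (B₀ := B₀) A₁) := by
    intro t
    have : t ∈ (ψ (B₀ := B₀) A₁).range.restrictScalars R := by rw [htop]; trivial
    exact this
  -- hence `A₁.val` is surjective
  have hval : Function.Surjective A₁.val.toLinearMap := by
    rw [← Module.FaithfullyFlat.lTensor_surjective_iff_surjective A₀ B₀]
    have hcomm : ∀ y : A₁ ⊗[A₀] B₀, (A₁.val.toLinearMap.lTensor B₀) (TensorProduct.comm A₀ A₁ B₀ y) =
        TensorProduct.comm A₀ A B₀ (ψ (B₀ := B₀) A₁ y) := by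
      intro y
      induction y using TensorProduct.induction_on with
      | zero => simp
      | tmul a b => simp [ψ]
      | add x y hx hy => simp only [map_add, hx, hy]
    intro t
    obtain ⟨x, hx⟩ := hsurj ((TensorProduct.comm A₀ A B₀).symm t)
    refine ⟨TensorProduct.comm A₀ A₁ B₀ x, ?_⟩
    rw [hcomm, hx, LinearEquiv.apply_symm_apply]
  have hA₁top : A₁ = ⊤ := by
    rw [eq_top_iff]
    intro a _
    obtain ⟨x, hx⟩ := hval a
    rw [← hx]
    exact x.2
  have : Algebra.FiniteType A₀ A := ⟨hA₁top ▸ hA₁⟩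
  exact Algebra.FiniteType.trans (S := A₀) inferInstance inferInstance

/-- an ideal whose extension is finitely generated has a f.g. subideal with the same extension -/
lemma exists_fg_le_map_eq {P Q : Type*} [CommRing P] [CommRing Q] (f : P →+* Q) (I : Ideal P)
    (h : (I.map f).FG) : ∃ I' : Ideal P, I'.FG ∧ I' ≤ I ∧ I'.map f = I.map f := by
  classical
  obtain ⟨s', hs', heq⟩ := (Submodule.fg_span_iff_fg_span_finset_subset (R := Q) (f '' I)).mp h
  choose! g hg using fun q (hq : q ∈ (s' : Set Q)) => hs' hq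
  refine ⟨Ideal.span (s'.image g : Finset P), ⟨s'.image g, rfl⟩, ?_, ?_⟩
  · rw [Ideal.span_le]
    intro x hx
    simp only [Finset.coe_image, Set.mem_image, Finset.mem_coe] at hx
    obtain ⟨q, hq, rfl⟩ := hx
    exact (hg q hq).1
  · rw [Ideal.map_span]
    change _ = Ideal.span (f '' I)
    change Ideal.span _ = Submodule.span Q (f '' I)
    rw [heq]
    congr 1
    ext q
    simp only [Finset.coe_image, Set.mem_image, Finset.mem_coe]
    constructor
    · rintro ⟨x, ⟨q', hq', rfl⟩, rfl⟩
      rw [(hg q' hq').2]; exact hq'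
    · intro hq
      exact ⟨g q, ⟨q, hq, rfl⟩, (hg q hq).2⟩

/-- Finite presentation descends along a faithfully flat base-changed algebra. -/
theorem finitePresentation_of_tensor {R A₀ A B₀ : Type u} [CommRing R] [CommRing A₀] [CommRing A]
    [CommRing B₀] [Algebra R A₀] [Algebra R A] [Algebra A₀ A] [IsScalarTower R A₀ A]
    [Algebra A₀ B₀] [Algebra.FinitePresentation R A₀] [Algebra.FinitePresentation A₀ B₀]
    [Module.FaithfullyFlat A₀ B₀]
    (hT : Algebra.FinitePresentation R (A ⊗[A₀] B₀)) : Algebra.FinitePresentation R A := by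
  have hft : Algebra.FiniteType R A := finiteType_of_tensor (A₀ := A₀) (B₀ := B₀) inferInstance
  have hft₀ : Algebra.FiniteType A₀ A := Algebra.FiniteType.of_restrictScalars_finiteType R A₀ A
  obtain ⟨n, π, hπ⟩ := Algebra.FiniteType.iff_quotient_mvPolynomial''.mp hft₀
  let P := MvPolynomial (Fin n) A₀
  have hP : Algebra.FinitePresentation R P :=
    Algebra.FinitePresentation.trans (R := R) (A := A₀) (B := P)
  have hPB : Algebra.FinitePresentation R (P ⊗[A₀] B₀) :=
    Algebra.FinitePresentation.trans (R := R) (A := P) (B := P ⊗[A₀] B₀)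
  let Φ : P ⊗[A₀] B₀ →ₐ[A₀] A ⊗[A₀] B₀ := Algebra.TensorProduct.map π (AlgHom.id A₀ B₀)
  have hΦ : Function.Surjective Φ :=
    Algebra.TensorProduct.map_surjective π (AlgHom.id A₀ B₀) hπ Function.surjective_id
  have hker : RingHom.ker Φ =
      (RingHom.ker π).map (Algebra.TensorProduct.includeLeft : P →ₐ[A₀] P ⊗[A₀] B₀) :=
    Algebra.TensorProduct.rTensor_ker π hπ
  have hfg : (RingHom.ker (Φ.restrictScalars R).toRingHom).FG :=
    Algebra.FinitePresentation.ker_fG_of_surjective (Φ.restrictScalars R) hΦ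
  have hfg' : ((RingHom.ker π).map (algebraMap P (P ⊗[A₀] B₀))).FG := by
    have : RingHom.ker (Φ.restrictScalars R).toRingHom = RingHom.ker Φ := rfl
    rw [this, hker] at hfg
    exact hfg
  obtain ⟨I', hI'fg, hI'le, hI'map⟩ := exists_fg_le_map_eq _ _ hfg'
  have hI' : I' = RingHom.ker π := by
    rw [← Ideal.comap_map_eq_self_of_faithfullyFlat (B := P ⊗[A₀] B₀) I', hI'map,
      Ideal.comap_map_eq_self_of_faithfullyFlat]
  have hkerfg : (RingHom.ker (π.restrictScalars R).toRingHom).FG := by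
    have : RingHom.ker (π.restrictScalars R).toRingHom = RingHom.ker π := rfl
    rw [this, ← hI']
    exact hI'fg
  exact Algebra.FinitePresentation.of_surjective (f := π.restrictScalars R) hπ hkerfg

/-- S0113 from the descent statement. -/
theorem finiteType_of_descent (H : Descent2144.{u}) {R A B : Type u} [CommRing R] [CommRing A]
    [CommRing B] [Algebra R A] [Algebra A B] [Algebra R B] [IsScalarTower R A B]
    [Algebra.FiniteType R B] [Module.FaithfullyFlat A B] [Algebra.FinitePresentation A B] :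
    Algebra.FiniteType R A := by
  obtain ⟨A₀, B₀, _, _, _, _, _, _, h₁, h₂, h₃, ⟨e⟩⟩ := H (R := R) (A := A) (B := B)
  have : Algebra.FiniteType R (A ⊗[A₀] B₀) :=
    Algebra.FiniteType.equiv inferInstance (e.restrictScalars R)
  exact finiteType_of_tensor (A₀ := A₀) (B₀ := B₀) this

/-- S0112 from the descent statement. -/
theorem finitePresentation_of_descent (H : Descent2144.{u}) {R A B : Type u} [CommRing R]
    [CommRing A] [CommRing B] [Algebra R A] [Algebra A B] [Algebra R B] [IsScalarTower R A B]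
    [Algebra.FinitePresentation R B] [Module.FaithfullyFlat A B]
    [Algebra.FinitePresentation A B] : Algebra.FinitePresentation R A := by
  obtain ⟨A₀, B₀, _, _, _, _, _, _, h₁, h₂, h₃, ⟨e⟩⟩ := H (R := R) (A := A) (B := B)
  have : Algebra.FinitePresentation R (A ⊗[A₀] B₀) :=
    Algebra.FinitePresentation.equiv (e.restrictScalars R)
  exact finitePresentation_of_tensor (A₀ := A₀) (B₀ := B₀) this

end Groth.Agent.Lib.Helper8.FFDescentFT
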