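/-
Helper library (helper8): scheme-level glue for "Koszul (lci) is syntomic-local on the source".
-/
import Mathlib
import Groth.Prelude
import Groth.Agent.Lib.Helper8.SD5
import Groth.Agent.Lib.Helper8.LCIFieldSch
import Groth.Agent.Lib.Helper9.LciMor3
import Groth.Agent.Lib.Helper89.FppfSource
import Groth.Agent.S9287

set_option autoImplicit false
set_option linter.style.haveILetI false
set_option maxHeartbeats 1000000
universe u

namespace Groth.Agent.Lib.Helper8.SD6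

open AlgebraicGeometry CategoryTheory Opposite TopologicalSpace

variable {X' X Y : Scheme.{u}}

theorem isKoszulAt_of_isSyntomicMor (g : X' ⟶ X) (hg : Synt.IsSyntomicMor g) (x' : X') :
    Synt.IsKoszulAt g x' := by
  obtain ⟨U, V, e, hx, hs⟩ := hg x'
  refine Groth.Agent.Lib.Helper9.LciMor2.isKoszulAt_of_affine_isLCI g x' U V e hx ?_
  letI := (g.appLE V.1 U.1 e).hom.toAlgebra
  exact ((Groth.Agent.S9287.result Γ(X, V.1) Γ(X', U.1)).mp hs).2

theorem flat_of_isSyntomicMor (g : X' ⟶ X) (hg : Synt.IsSyntomicMor g) : Flat g := by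
  rw [HasRingHomProperty.iff_exists_appLE (P := @Flat)
    (RingHom.Flat.stableUnderComposition.stableUnderCompositionWithLocalizationAway
      RingHom.Flat.holdsForLocalizationAway).left]
  intro x
  obtain ⟨U, V, e, hx, hs⟩ := hg x
  exact ⟨V, U, hx, e, hs.1⟩

theorem lfp_of_isSyntomicMor (g : X' ⟶ X) (hg : Synt.IsSyntomicMor g) :
    LocallyOfFinitePresentation g := by
  rw [HasRingHomProperty.iff_exists_appLE (P := @LocallyOfFinitePresentation)
    (RingHom.finitePresentation_stableUnderComposition.stableUnderCompositionWithLocalizationAway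
      RingHom.finitePresentation_holdsForLocalizationAway).left]
  intro x
  obtain ⟨U, V, e, hx, hs⟩ := hg x
  exact ⟨V, U, hx, e, hs.2.1⟩

theorem lft_of_isKoszulAt (f : X ⟶ Y) (h : ∀ x : X, Synt.IsKoszulAt f x) :
    LocallyOfFiniteType f := by
  rw [HasRingHomProperty.iff_exists_appLE (P := @LocallyOfFiniteType)
    (RingHom.finiteType_stableUnderComposition.stableUnderCompositionWithLocalizationAway
      RingHom.finiteType_holdsForLocalizationAway).left]
  intro x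
  obtain ⟨W, hW, hxW, -⟩ := exists_isAffineOpen_mem_and_subset (x := f x) (U := ⊤) trivial
  obtain ⟨U, e, hx, hL⟩ :=
    Groth.Agent.Lib.Helper9.LciMor2.exists_affine_isLCI_of_isKoszulAt f x (h x) ⟨W, hW⟩ hxW
  exact ⟨⟨W, hW⟩, U, hx, e, hL.1⟩

theorem koszul_descent (g : X' ⟶ X) (hg : Synt.IsSyntomicMor g) [Surjective g] (f : X ⟶ Y)
    (h : ∀ x' : X', Synt.IsKoszulAt (g ≫ f) x') (x : X) : Synt.IsKoszulAt f x := by
  haveI : Flat g := flat_of_isSyntomicMor g hg
  haveI : LocallyOfFinitePresentation g := lfp_of_isSyntomicMor g hg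
  haveI : LocallyOfFiniteType (g ≫ f) := lft_of_isKoszulAt (g ≫ f) h
  haveI : LocallyOfFiniteType f :=
    Groth.Agent.Lib.Helper89.FppfSource.locallyOfFiniteType_of_fppf_comp g f
  have hgK : ∀ x' : X', Synt.IsKoszulAt g x' := isKoszulAt_of_isSyntomicMor g hg
  obtain ⟨x', rfl⟩ := g.surjective x
  obtain ⟨W, hW, hzW, -⟩ :=
    exists_isAffineOpen_mem_and_subset (x := f (g x')) (U := ⊤) trivial
  obtain ⟨V, hV, hxV, eV⟩ :=
    exists_isAffineOpen_mem_and_subset (x := g x') (U := f ⁻¹ᵁ W) hzW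
  obtain ⟨U, hU, hxU, eU⟩ :=
    exists_isAffineOpen_mem_and_subset (x := x') (U := g ⁻¹ᵁ V) hxV
  have eV' : V ≤ f ⁻¹ᵁ W := eV
  have eU' : U ≤ g ⁻¹ᵁ V := eU
  have eWU : U ≤ (g ≫ f) ⁻¹ᵁ W := fun y hy => eV' (eU' hy)
  letI algAB : Algebra Γ(Y, W) Γ(X, V) := (f.appLE W V eV').hom.toAlgebra
  letI algBC : Algebra Γ(X, V) Γ(X', U) := (g.appLE V U eU').hom.toAlgebra
  letI algAC : Algebra Γ(Y, W) Γ(X', U) := ((g ≫ f).appLE W U eWU).hom.toAlgebra
  haveI : IsScalarTower Γ(Y, W) Γ(X, V) Γ(X', U) := IsScalarTower.of_algebraMap_eq' (by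
    change ((g ≫ f).appLE W U eWU).hom = (g.appLE V U eU').hom.comp (f.appLE W V eV').hom
    rw [← CommRingCat.hom_comp, Scheme.Hom.appLE_comp_appLE])
  haveI : Algebra.FiniteType Γ(Y, W) Γ(X, V) :=
    HasRingHomProperty.appLE (P := @LocallyOfFiniteType) f inferInstance ⟨W, hW⟩ ⟨V, hV⟩ eV'
  haveI : Module.Flat Γ(X, V) Γ(X', U) :=
    HasRingHomProperty.appLE (P := @Flat) g inferInstance ⟨V, hV⟩ ⟨U, hU⟩ eU'
  have hBC : LCI.IsLCI Γ(X, V) Γ(X', U) :=
    Groth.Agent.Lib.Helper9.LciMor3.isLCI_appLE_of_isKoszulAt g hgK U V hU hV eU'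
  have hAC : LCI.IsLCI Γ(Y, W) Γ(X', U) :=
    Groth.Agent.Lib.Helper9.LciMor3.isLCI_appLE_of_isKoszulAt (g ≫ f) h U W hU hW eWU
  obtain ⟨b, hb, hLb⟩ := Groth.Agent.Lib.Helper8.SD5.core hBC hAC
    (hU.primeIdealOf ⟨x', hxU⟩).asIdeal
  have hcomap : (hU.primeIdealOf ⟨x', hxU⟩).asIdeal.comap (algebraMap Γ(X, V) Γ(X', U)) =
      (hV.primeIdealOf ⟨g x', hxV⟩).asIdeal :=
    congrArg PrimeSpectrum.asIdeal
      (IsAffineOpen.comap_primeIdealOf_appLE V hV U hU eU' hxU)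
  rw [hcomap] at hb
  have hxb : g x' ∈ X.basicOpen b :=
    (Groth.Agent.Lib.Helper8.LCIFieldSch.mem_basicOpen_iff hV hxV b).2 hb
  have eb : X.basicOpen b ≤ f ⁻¹ᵁ W := (X.basicOpen_le b).trans eV'
  refine Groth.Agent.Lib.Helper9.LciMor2.isKoszulAt_of_affine_isLCI f (g x')
    ⟨X.basicOpen b, hV.basicOpen b⟩ ⟨W, hW⟩ eb hxb ?_
  letI algAb : Algebra Γ(Y, W) Γ(X, X.basicOpen b) := (f.appLE W (X.basicOpen b) eb).hom.toAlgebra
  haveI := hV.isLocalization_basicOpen b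
  haveI : IsScalarTower Γ(Y, W) Γ(X, V) Γ(X, X.basicOpen b) := IsScalarTower.of_algebraMap_eq' (by
    change (f.appLE W (X.basicOpen b) eb).hom =
      (X.presheaf.map (homOfLE (X.basicOpen_le b)).op).hom.comp (f.appLE W V eV').hom
    rw [← CommRingCat.hom_comp, Scheme.Hom.appLE_map])
  exact Groth.Agent.Lib.Helper9.LCICover.isLCI_of_algEquiv
    ((IsLocalization.algEquiv (Submonoid.powers b) (Localization.Away b)
      Γ(X, X.basicOpen b)).restrictScalars Γ(Y, W)) hLb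

end Groth.Agent.Lib.Helper8.SD6
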