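import Mathlib.CategoryTheory.EffectiveEpi.Comp
import Mathlib.CategoryTheory.MorphismProperty.Limits
import Mathlib.CategoryTheory.Limits.Shapes.Pullback.HasPullback
import Mathlib.CategoryTheory.Comma.Over.Pullback

/-!
# Universally effective epimorphisms (helper library, helper8)
-/

set_option autoImplicit false
open CategoryTheory CategoryTheory.Limits
universe w v₁ u₁

namespace Groth.Agent.Lib.Helper8

variable {C : Type u₁} [Category.{v₁} C]

/-- Universally effective epimorphisms, in the exact shape used by the statements. -/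
abbrev UEE (C : Type u₁) [Category.{v₁} C] : MorphismProperty C :=
  MorphismProperty.universally (fun (A B : C) (p : A ⟶ B) => EffectiveEpi p)

theorem UEE.effectiveEpi {X Y : C} {f : X ⟶ Y} (hf : UEE C f) : EffectiveEpi f :=
  hf (𝟙 _) (𝟙 _) f (IsPullback.of_vert_isIso ⟨by simp⟩)

theorem UEE.epi {X Y : C} {f : X ⟶ Y} (hf : UEE C f) : Epi f :=
  have := hf.effectiveEpi
  inferInstance

/-- base change: in a pullback square with `f` on the right, the left map is UEE. -/
theorem UEE.of_isPullback {X Y X' Y' : C} {f : X ⟶ Y} {f' : X' ⟶ Y'} {i₁ : X' ⟶ X} {i₂ : Y' ⟶ Y}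
    (sq : IsPullback i₁ f' f i₂) (hf : UEE C f) : UEE C f' :=
  have : (UEE C).IsStableUnderBaseChange := MorphismProperty.universally_isStableUnderBaseChange _
  MorphismProperty.of_isPullback (P := UEE C) sq hf

theorem UEE.pullback_fst [HasPullbacks C] {X Y Z : C} (g : Z ⟶ Y) {f : X ⟶ Y} (hf : UEE C f) :
    UEE C (pullback.fst g f) :=
  UEE.of_isPullback (IsPullback.of_hasPullback g f).flip hf

theorem UEE.pullback_snd [HasPullbacks C] {X Y Z : C} (g : Z ⟶ Y) {f : X ⟶ Y} (hf : UEE C f) :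
    UEE C (pullback.snd f g) :=
  UEE.of_isPullback (IsPullback.of_hasPullback f g) hf

/-- Descent of monomorphisms along a UEE. -/
theorem mono_of_isPullback_of_UEE [HasPullbacks C] {X' X Y' Y : C} {h' : X' ⟶ X} {g' : X' ⟶ Y'}
    {g : X ⟶ Y} {h : Y' ⟶ Y} (sq : IsPullback h' g' g h) (hh : UEE C h) [Mono g'] : Mono g := by
  constructor
  intro T a b hab
  have ht : Epi (pullback.fst (a ≫ g) h) := (hh.pullback_fst (a ≫ g)).epi
  let t := pullback.fst (a ≫ g) h
  let s := pullback.snd (a ≫ g) h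
  have c1 : (t ≫ a) ≫ g = s ≫ h := by
    rw [Category.assoc]; exact pullback.condition
  have c2 : (t ≫ b) ≫ g = s ≫ h := by
    rw [Category.assoc, ← hab]; exact pullback.condition
  have e : sq.lift (t ≫ a) s c1 = sq.lift (t ≫ b) s c2 := by
    rw [← cancel_mono g']
    simp
  have : t ≫ a = t ≫ b := by
    have h1 := congrArg (· ≫ h') e
    simpa using h1
  exact (cancel_epi t).1 this

/-- Descent of isomorphisms along a UEE. -/
theorem isIso_of_isPullback_of_UEE [HasPullbacks C] {X' X Y' Y : C} {h' : X' ⟶ X} {g' : X' ⟶ Y'}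
    {g : X ⟶ Y} {h : Y' ⟶ Y} (sq : IsPullback h' g' g h) (hh : UEE C h) [IsIso g'] : IsIso g := by
  have hm : Mono g := mono_of_isPullback_of_UEE sq hh
  have := hh.effectiveEpi
  have hh' : Epi h' := (UEE.of_isPullback sq.flip hh).epi
  let k : Y ⟶ X := EffectiveEpi.desc h (inv g' ≫ h') (by
    intro Z g₁ g₂ hg
    rw [← cancel_mono g]
    simp only [Category.assoc, sq.w, IsIso.inv_hom_id_assoc, hg])
  have hk : h ≫ k = inv g' ≫ h' := EffectiveEpi.fac _ _ _
  refine ⟨k, ?_, ?_⟩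
  · rw [← cancel_epi h', ← Category.assoc, sq.w, Category.assoc, hk]
    simp
  · rw [← cancel_epi h, ← Category.assoc, hk]
    simp [sq.w]

/-- If `f` is UEE and `x ≫ f ≫ g = y ≫ f ≫ g → x ≫ f = y ≫ f` then `g` is mono. -/
theorem mono_of_UEE_of_forall [HasPullbacks C] {S' S T : C} {f : S' ⟶ S} (hf : UEE C f) (g : S ⟶ T)
    (H : ∀ ⦃W : C⦄ (x y : W ⟶ S'), x ≫ f ≫ g = y ≫ f ≫ g → x ≫ f = y ≫ f) : Mono g := by
  constructor
  intro W a b hab
  let t₁ := pullback.fst a f
  let a₁ := pullback.snd a f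
  have h1 : t₁ ≫ a = a₁ ≫ f := pullback.condition
  have : Epi t₁ := (hf.pullback_fst a).epi
  let t₂ := pullback.fst (t₁ ≫ b) f
  let b₂ := pullback.snd (t₁ ≫ b) f
  have h2 : t₂ ≫ t₁ ≫ b = b₂ ≫ f := pullback.condition
  have : Epi t₂ := (hf.pullback_fst (t₁ ≫ b)).epi
  have h3 := H (t₂ ≫ a₁) b₂ (by
    rw [Category.assoc, ← reassoc_of% h1, hab, ← reassoc_of% h2])
  rw [Category.assoc, ← h1, ← h2] at h3
  exact (cancel_epi t₁).1 ((cancel_epi t₂).1 h3)

/-- Composition of universally effective epimorphisms is an effective epimorphism. -/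
theorem UEE.effectiveEpi_comp [HasPullbacks C] {X Y Z : C} {u : X ⟶ Y} {v : Y ⟶ Z}
    (hu : UEE C u) (hv : UEE C v) : EffectiveEpi (u ≫ v) := by
  have := hu.effectiveEpi
  have := hv.effectiveEpi
  have : Epi u := hu.epi
  have : Epi v := hv.epi
  refine ⟨⟨?_⟩⟩
  have key : ∀ {W : C} (e : X ⟶ W), (∀ {T : C} (g₁ g₂ : T ⟶ X), g₁ ≫ u ≫ v = g₂ ≫ u ≫ v → g₁ ≫ e = g₂ ≫ e) →
      ∃ e₂ : Z ⟶ W, (u ≫ v) ≫ e₂ = e := by
    intro W e he
    let e₁ : Y ⟶ W := EffectiveEpi.desc u e (fun g₁ g₂ hg => he g₁ g₂ (by rw [reassoc_of% hg]))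
    have he₁ : u ≫ e₁ = e := EffectiveEpi.fac _ _ _
    have he₁' : ∀ {T : C} (h₁ h₂ : T ⟶ Y), h₁ ≫ v = h₂ ≫ v → h₁ ≫ e₁ = h₂ ≫ e₁ := by
      intro T h₁ h₂ hh
      let t₁ := pullback.fst h₁ u
      let k₁ := pullback.snd h₁ u
      have c1 : t₁ ≫ h₁ = k₁ ≫ u := pullback.condition
      have : Epi t₁ := (hu.pullback_fst h₁).epi
      let t₂ := pullback.fst (t₁ ≫ h₂) u
      let k₂ := pullback.snd (t₁ ≫ h₂) u
      have c2 : t₂ ≫ t₁ ≫ h₂ = k₂ ≫ u := pullback.condition
      have : Epi t₂ := (hu.pullback_fst (t₁ ≫ h₂)).epi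
      have h3 := he (t₂ ≫ k₁) k₂ (by
        rw [Category.assoc, ← reassoc_of% c1, hh, ← reassoc_of% c2])
      rw [← he₁, Category.assoc, ← reassoc_of% c1, ← reassoc_of% c2] at h3
      exact (cancel_epi t₁).1 ((cancel_epi t₂).1 h3)
    refine ⟨EffectiveEpi.desc v e₁ (fun g₁ g₂ hg => he₁' g₁ g₂ hg), ?_⟩
    rw [Category.assoc, EffectiveEpi.fac, he₁]
  exact
    { desc := fun e he => (key e (fun g₁ g₂ hg => he g₁ g₂ (by simpa using hg))).choose
      fac := fun e he => (key e (fun g₁ g₂ hg => he g₁ g₂ (by simpa using hg))).choose_spec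
      uniq := fun e he m hm => by
        rw [← cancel_epi (u ≫ v), hm]
        exact ((key e (fun g₁ g₂ hg => he g₁ g₂ (by simpa using hg))).choose_spec).symm }

/-- Universally effective epimorphisms are stable under composition. -/
theorem UEE.comp [HasPullbacks C] {X Y Z : C} {u : X ⟶ Y} {v : Y ⟶ Z}
    (hu : UEE C u) (hv : UEE C v) : UEE C (u ≫ v) := by
  intro A B i₁ i₂ w' sq
  -- factor w' through the pullback of v along i₂
  let v' := pullback.snd v i₂
  let u' : A ⟶ pullback v i₂ := pullback.lift (i₁ ≫ u) w' (by rw [Category.assoc, sq.w])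
  have hw : w' = u' ≫ v' := (pullback.lift_snd _ _ _).symm
  have sqv : IsPullback (pullback.fst v i₂) v' v i₂ := IsPullback.of_hasPullback v i₂
  have squ : IsPullback i₁ u' u (pullback.fst v i₂) := by
    refine IsPullback.of_bot ?_ (pullback.lift_fst _ _ _).symm sqv
    have : u' ≫ v' = w' := hw.symm
    rw [this]
    exact sq.flip
  have hu' : UEE C u' := UEE.of_isPullback squ hu
  have hv' : UEE C v' := UEE.of_isPullback sqv hv
  rw [hw]
  exact UEE.effectiveEpi_comp hu' hv'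

end Groth.Agent.Lib.Helper8
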