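import Groth.Agent.Lib.Helper8.FlatRes2

/-!
# A resolution by finite free modules (helper8)
-/

set_option maxHeartbeats 400000
set_option autoImplicit false
set_option linter.unusedSectionVars false

open TensorProduct Function CategoryTheory

namespace Groth.Agent.Lib.Helper8.FlatRes

universe u

variable {A B : Type u} [CommRing A] [CommRing B] [Algebra A B]
  [Algebra.FinitePresentation A B] [Module.Flat A B]
  (H : Descent9456.{u})

section general

variable (Y : FlatFP A B)

/-- the free module covering `Y` -/
abbrev FXt : Type u := Fin (rk H Y) → B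

/-- the differential, as a linear map -/
noncomputable def d1 : FXt H (next H Y) →ₗ[B] FXt H Y :=
  (incl H Y) ∘ₗ (proj H (next H Y))

theorem d1_comp : d1 H Y ∘ₗ d1 H (next H Y) = 0 := by
  apply LinearMap.ext
  intro x
  simp only [d1, LinearMap.comp_apply, LinearMap.zero_apply]
  rw [(exact_incl_proj H (next H Y)).apply_apply_eq_zero, map_zero]

theorem range_d1 : LinearMap.range (d1 H Y) = LinearMap.range (incl H Y) := by
  rw [d1, LinearMap.range_comp, LinearMap.range_eq_top.mpr (proj_surjective H _),
    Submodule.map_top]

theorem ker_d1 : LinearMap.ker (d1 H Y) = LinearMap.ker (proj H (next H Y)) := by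
  rw [d1, LinearMap.ker_comp, LinearMap.ker_eq_bot.mpr (incl_injective H _),
    Submodule.comap_bot]

theorem exact_d1 : Exact (d1 H (next H Y)) (d1 H Y) := by
  rw [LinearMap.exact_iff, ker_d1, range_d1]
  exact (LinearMap.exact_iff.mp (exact_incl_proj H (next H Y)))

theorem exact_d1_proj : Exact (d1 H Y) (proj H Y) := by
  rw [LinearMap.exact_iff, range_d1]
  exact (LinearMap.exact_iff.mp (exact_incl_proj H Y))

end general

variable (X : FlatFP A B)

/-- the `k`-th free module of the resolution -/
noncomputable abbrev FX (k : ℕ) : ModuleCat.{u} B :=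
  ModuleCat.of B (FXt H (syz H X k))

/-- the differential as a morphism -/
noncomputable def dX (k : ℕ) : FX H X (k + 1) ⟶ FX H X k :=
  ModuleCat.ofHom (d1 H (syz H X k))

theorem dX_comp (k : ℕ) : dX H X (k + 1) ≫ dX H X k = 0 := by
  have h := d1_comp H (syz H X k)
  change ModuleCat.ofHom (d1 H (next H (syz H X k))) ≫ ModuleCat.ofHom (d1 H (syz H X k)) = 0
  rw [← ModuleCat.ofHom_comp, h]; rfl

/-- the resolving complex -/
noncomputable def cx : ChainComplex (ModuleCat.{u} B) ℕ :=
  ChainComplex.of (FX H X) (dX H X) (dX_comp H X)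

theorem cx_exactAt_succ (k : ℕ) : (cx H X).ExactAt (k + 1) := by
  rw [HomologicalComplex.exactAt_iff' _ (k + 1 + 1) (k + 1) k (by simp) (by simp)]
  rw [ShortComplex.moduleCat_exact_iff_range_eq_ker]
  simp only [HomologicalComplex.sc', HomologicalComplex.shortComplexFunctor', cx,
    ChainComplex.of_d]
  exact (LinearMap.exact_iff.mp (exact_d1 H (syz H X k))).symm

theorem dX_proj : dX H X 0 ≫ ModuleCat.ofHom (proj H (syz H X 0)) = 0 := by
  change ModuleCat.ofHom (d1 H (syz H X 0)) ≫ ModuleCat.ofHom (proj H (syz H X 0)) = 0
  rw [← ModuleCat.ofHom_comp]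
  have : proj H (syz H X 0) ∘ₗ d1 H (syz H X 0) = 0 := by
    apply LinearMap.ext
    intro x
    exact (exact_d1_proj H (syz H X 0)).apply_apply_eq_zero x
  rw [this]; rfl

/-- the augmentation -/
noncomputable def aug : cx H X ⟶ (ChainComplex.single₀ (ModuleCat.{u} B)).obj
    (ModuleCat.of B (syz H X 0).carrier) :=
  (ChainComplex.toSingle₀Equiv _ _).symm ⟨ModuleCat.ofHom (proj H (syz H X 0)), by
    have hd : (cx H X).d 1 0 = dX H X 0 := ChainComplex.of_d (FX H X) (dX H X) 0
    rw [hd]
    exact dX_proj H X⟩

set_option backward.defeqAttrib.useBackward true in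
set_option backward.isDefEq.respectTransparency false in
theorem quasiIso_aug : QuasiIso (aug H X) where
  quasiIsoAt n := by
    cases n with
    | zero =>
      rw [ChainComplex.quasiIsoAt₀_iff, ShortComplex.quasiIso_iff_of_zeros' _ rfl rfl rfl]
      refine (ShortComplex.exact_and_epi_g_iff_of_iso
        (S₂ := ShortComplex.mk (dX H X 0) (ModuleCat.ofHom (proj H (syz H X 0)))
          (dX_proj H X)) ?_).2 ⟨?_, ?_⟩
      · refine ShortComplex.isoMk (Iso.refl _) (Iso.refl _) (Iso.refl _) ?_ ?_
        · have hd : (cx H X).d 1 0 = dX H X 0 := ChainComplex.of_d (FX H X) (dX H X) 0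
          simp [hd]
        · simp [aug]
      · rw [ShortComplex.moduleCat_exact_iff_range_eq_ker]
        exact (LinearMap.exact_iff.mp (exact_d1_proj H (syz H X 0))).symm
      · rw [ModuleCat.epi_iff_surjective]
        exact proj_surjective H (syz H X 0)
    | succ k =>
      rw [quasiIsoAt_iff_exactAt']
      · exact cx_exactAt_succ H X k
      · apply ChainComplex.exactAt_succ_single_obj

/-- the resolution by finite free modules -/
noncomputable def resolution : ProjectiveResolution (ModuleCat.of B X.carrier) :=
  show ProjectiveResolution (ModuleCat.of B (syz H X 0).carrier) from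
  { complex := cx H X
    projective := fun k => by
      change Projective (FX H X k)
      exact ModuleCat.projective_of_free (Pi.basisFun B (Fin (rk H (syz H X k))))
    π := aug H X
    quasiIso := quasiIso_aug H X }

theorem resolution_X (k : ℕ) : (resolution H X).complex.X k = FX H X k := rfl

end Groth.Agent.Lib.Helper8.FlatRes
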