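import Mathlib
import Groth.Prelude.Def_MoreMor
import Groth.Agent.Lib.Helper8.FlatRes3
import Groth.Agent.Lib.Helper46.TorShift

set_option autoImplicit false
set_option maxHeartbeats 400000
set_option linter.style.haveILetI false
universe u
attribute [local instance] HasDerivedCategory.standard
open CategoryTheory CategoryTheory.Limits

namespace Groth.Agent.Lib.Helper8.PCoh

/-- a module with a resolution by finite free modules is pseudo-coherent -/
theorem isPseudoCoherentModule'_of_resolution {R : Type u} [CommRing R] (M : Type u)
    [AddCommGroup M] [Module R M]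
    (Pr : ProjectiveResolution (ModuleCat.of R M))
    (h : ∀ n, Module.Finite R (Pr.complex.X n) ∧ Module.Free R (Pr.complex.X n)) :
    DRing.IsPseudoCoherentModule' R M := by
  refine ⟨Pr.cochainComplex, 0, ?_, ?_, ⟨?_⟩⟩
  · intro i hi
    exact CochainComplex.isZero_of_isStrictlyLE _ 0 _ hi
  · intro i
    by_cases hn : i ≤ 0
    · obtain ⟨k, rfl⟩ := Int.exists_eq_neg_ofNat hn
      let e := (Pr.cochainComplexXIso (-k) k).toLinearEquiv
      haveI := (h k).1
      haveI := (h k).2
      exact ⟨Module.Finite.equiv e.symm, Module.Free.of_equiv e.symm⟩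
    · have hz : IsZero (Pr.cochainComplex.X i) :=
        CochainComplex.isZero_of_isStrictlyLE _ 0 _ (by omega)
      haveI : Subsingleton (Pr.cochainComplex.X i) := ModuleCat.subsingleton_of_isZero hz
      exact ⟨inferInstance, inferInstance⟩
  · exact asIso (DerivedCategory.Q.map Pr.π') ≪≫
      ((DerivedCategory.singleFunctorIsoCompQ (ModuleCat.{u} R) 0).app (ModuleCat.of R M)).symm

open Groth.Agent.Lib.Helper8.FlatRes Groth.Agent.Lib.Helper46.TorShift in
/-- a flat ring map of finite presentation is perfect (conditional form of S7068) -/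
theorem isPerfectHom_of_flat_fp (H : Descent9456.{u}) (A B : Type u) [CommRing A] [CommRing B]
    [Algebra A B] [Module.Flat A B] [Algebra.FinitePresentation A B] :
    MoreMor.IsPerfectHom A B := by
  refine ⟨?_, ?_⟩
  · obtain ⟨n, φ, hφ, hker⟩ := Algebra.FinitePresentation.out (R := A) (A := B)
    refine ⟨n, φ, hφ, ?_⟩
    letI := φ.toRingHom.toAlgebra
    haveI : IsScalarTower A (MvPolynomial (Fin n) A) B :=
      IsScalarTower.of_algebraMap_eq (fun a => (φ.commutes a).symm)
    haveI : Module.FinitePresentation (MvPolynomial (Fin n) A) B := by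
      refine Module.finitePresentation_of_surjective
        (Algebra.linearMap (MvPolynomial (Fin n) A) B) hφ ?_
      have : LinearMap.ker (Algebra.linearMap (MvPolynomial (Fin n) A) B) =
          (RingHom.ker φ.toRingHom : Ideal (MvPolynomial (Fin n) A)) := by
        ext x
        simp [RingHom.mem_ker]
        rfl
      rw [this]
      exact hker
    let X : FlatFP A (MvPolynomial (Fin n) A) := { carrier := B }
    refine isPseudoCoherentModule'_of_resolution B (resolution H X) (fun k => ⟨?_, ?_⟩)
    · change Module.Finite (MvPolynomial (Fin n) A)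
        (Fin (rk H (syz H X k)) → MvPolynomial (Fin n) A)
      infer_instance
    · change Module.Free (MvPolynomial (Fin n) A)
        (Fin (rk H (syz H X k)) → MvPolynomial (Fin n) A)
      infer_instance
  · refine ⟨0, fun N _ _ p hp => ?_⟩
    obtain ⟨q, rfl⟩ : ∃ q, p = q + 1 := ⟨p - 1, by omega⟩
    exact ModuleCat.subsingleton_of_isZero (isZero_of_flat_left B N q)

end Groth.Agent.Lib.Helper8.PCoh

namespace Groth.Agent.Lib.Helper8.PCoh

open Groth.Agent.Lib.Helper8.FlatRes in
/-- flat finitely presented modules over flat finitely presented algebras are pseudo-coherent -/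
theorem isPseudoCoherentModule'_of_flatFP (H : Descent9456.{u}) {A B : Type u} [CommRing A]
    [CommRing B] [Algebra A B] [Algebra.FinitePresentation A B] [Module.Flat A B]
    (X : FlatFP A B) : DRing.IsPseudoCoherentModule' B X.carrier := by
  refine isPseudoCoherentModule'_of_resolution X.carrier (resolution H X) (fun k => ⟨?_, ?_⟩)
  · change Module.Finite B (Fin (rk H (syz H X k)) → B)
    infer_instance
  · change Module.Free B (Fin (rk H (syz H X k)) → B)
    infer_instance

end Groth.Agent.Lib.Helper8.PCoh
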