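import Mathlib
import Groth.Agent.S9456
import Groth.Agent.S6940
import Groth.Agent.S6983
import Groth.Agent.Lib.Helper8.PCoh
import Groth.Agent.Lib.Helper12.DerCAPCHom
import Groth.Agent.Lib.Helper12.DerCAPresentation
import Groth.Agent.Lib.Helper12.DerCARelAPI

set_option autoImplicit false
set_option maxHeartbeats 400000
universe u
attribute [local instance] HasDerivedCategory.standard
open CategoryTheory

namespace Groth.Agent.Lib.Helper8.PCoh

open Groth.Agent.Lib.Helper12 DRing

/-- `ResPC` in terms of relative pseudo-coherence via the map -/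
theorem resPC_iff_via {R C : Type u} [CommRing R] [CommRing C] [Algebra R C] {k : ℕ}
    (β : MvPolynomial (Fin k) R →ₐ[R] C) :
    ResPC (β : MvPolynomial (Fin k) R →+* C) ↔
      ∀ m : ℤ, DerCA.IsRelPseudoCoherentVia β m (Dual.inD C C) := by
  constructor
  · intro h m
    exact isPseudoCoherent_of_iso' (restrictD_inD (β : MvPolynomial (Fin k) R →+* C)
      (ModuleCat.of C C)).symm (h m)
  · intro h m
    exact isPseudoCoherent_of_iso' (restrictD_inD (β : MvPolynomial (Fin k) R →+* C)
      (ModuleCat.of C C)) (h m)

/-- a pseudo-coherent ring map is `ResPC` for every presentation -/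
theorem isPseudoCoherentHom_iff_resPC {R C : Type u} [CommRing R] [CommRing C] [Algebra R C]
    {k : ℕ} (ψ : MvPolynomial (Fin k) R →ₐ[R] C) (hψ : Function.Surjective ψ) :
    MoreMor.IsPseudoCoherentHom R C ↔ ResPC (ψ : MvPolynomial (Fin k) R →+* C) := by
  constructor
  · intro h
    obtain ⟨n, β, hβ, hres⟩ := exists_resPC_of_isPseudoCoherentHom h
    rw [resPC_iff_via] at hres ⊢
    intro m
    exact (isRelPseudoCoherent_iff_via ψ hψ m _).1 ⟨n, β, hβ, hres m⟩
  · intro h
    exact isPseudoCoherentHom_iff.2 ⟨k, ψ, hψ, h⟩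

/-- the quotient by an ideal is pseudo-coherent iff the ideal is -/
theorem isPseudoCoherent_quotient_iff {B : Type u} [CommRing B] (I : Ideal B) :
    (∀ m : ℤ, IsPseudoCoherent B m (Dual.inD B (B ⧸ I))) ↔
      (∀ m : ℤ, IsPseudoCoherent B m (Dual.inD B I)) := by
  let S : ShortComplex (ModuleCat.{u} B) :=
    ShortComplex.mk (ModuleCat.ofHom I.subtype) (ModuleCat.ofHom (Submodule.mkQ I)) (by
      ext x
      exact (Submodule.Quotient.mk_eq_zero I).2 x.2)
  have hS : S.ShortExact := by
    refine ShortComplex.ShortExact.mk' ?_ ?_ ?_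
    · rw [ShortComplex.ShortExact.moduleCat_exact_iff_function_exact]
      exact LinearMap.exact_subtype_mkQ I
    · exact (ModuleCat.mono_iff_injective _).mpr (Submodule.injective_subtype _)
    · exact (ModuleCat.epi_iff_surjective _).mpr (Submodule.mkQ_surjective I)
  have hT := hS.singleTriangle_distinguished
  have hB : ∀ m : ℤ, IsPseudoCoherent B m (Dual.inD B B) := fun m =>
    isPseudoCoherent_inD_of_finite_free (ModuleCat.of B B) m
  constructor
  · intro h m
    have := (isPseudoCoherent_two_out_of_three hS.singleTriangle hT (m - 1)).2.2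
      (by simpa using hB m) (h (m - 1))
    simpa using this
  · intro h m
    exact (isPseudoCoherent_two_out_of_three hS.singleTriangle hT m).1 (h (m + 1)) (hB m)

end Groth.Agent.Lib.Helper8.PCoh

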