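import Mathlib
import Groth.Agent.Lib.Helper8.PCoh2
import Groth.Agent.Lib.Helper12.DerCALocalizationZariski
import Groth.Agent.Lib.Helper12.DerCALocalizationBase
import Groth.Agent.Lib.Helper12.DerCAIntermediate
import Groth.Agent.Lib.Helper12.FlatExtendScalars
import Groth.Agent.Lib.Helper12.DRingSingle
import Groth.Agent.S6987

/-!
# Pseudo-coherent ring maps form a local property of ring homomorphisms (helper8)
-/

set_option autoImplicit false
set_option linter.style.haveILetI false
universe u
attribute [local instance] HasDerivedCategory.standard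
open CategoryTheory

namespace Groth.Agent.Lib.Helper8.PCL

open Groth.Agent.Lib.Helper12 DRing Groth.Agent.Lib.Helper8.PCoh

section basic
variable {R A : Type u} [CommRing R] [CommRing A] [Algebra R A]

theorem relPC_of_iso {K K' : Dual.D A} (e : K ≅ K') {m : ℤ}
    (h : DerCA.IsRelPseudoCoherent R A m K) : DerCA.IsRelPseudoCoherent R A m K' := by
  obtain ⟨n, α, hα, h⟩ := h
  exact ⟨n, α, hα, isPseudoCoherent_of_iso'
    ((restrictD (α : MvPolynomial (Fin n) R →+* A)).mapIso e) h⟩

/-- pseudo-coherent ring maps in terms of relative pseudo-coherence -/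
theorem pc_iff : MoreMor.IsPseudoCoherentHom R A ↔
    Algebra.FiniteType R A ∧ DerCA.IsRelPseudoCoherentModuleAll R A A := by
  constructor
  · intro h
    obtain ⟨n, β, hβ, hres⟩ := exists_resPC_of_isPseudoCoherentHom h
    refine ⟨Algebra.FiniteType.of_surjective β hβ, fun m => ?_⟩
    exact ⟨n, β, hβ, (resPC_iff_via β).1 hres m⟩
  · rintro ⟨hft, h⟩
    obtain ⟨n, α, hα⟩ := exists_presentation R A
    refine isPseudoCoherentHom_iff.2 ⟨n, α, hα, (resPC_iff_via α).2 fun m => ?_⟩
    exact (isRelPseudoCoherent_iff_via α hα m _).1 (h m)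

end basic

/-- the ring-hom form of pseudo-coherence -/
def PCH {R A : Type u} [CommRing R] [CommRing A] (φ : R →+* A) : Prop :=
  @MoreMor.IsPseudoCoherentHom R A _ _ φ.toAlgebra

section ringhom
variable {R A B : Type u} [CommRing R] [CommRing A] [CommRing B]

theorem pch_algebraMap [inst : Algebra R A] :
    PCH (algebraMap R A) ↔ MoreMor.IsPseudoCoherentHom R A := by
  unfold PCH
  have : (algebraMap R A).toAlgebra = inst := Algebra.algebra_ext _ _ (fun _ => rfl)
  rw [this]

theorem pch_finiteType (φ : R →+* A) (h : PCH φ) : φ.FiniteType := by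
  letI := φ.toAlgebra
  exact (pc_iff.1 h).1

theorem pch_comp (φ : R →+* A) (ψ : A →+* B) (hφ : PCH φ) (hψ : PCH ψ) : PCH (ψ.comp φ) := by
  letI := φ.toAlgebra
  letI := ψ.toAlgebra
  letI := (ψ.comp φ).toAlgebra
  haveI : IsScalarTower R A B := .of_algebraMap_eq' rfl
  obtain ⟨hft1, h1⟩ := pc_iff.1 hφ
  obtain ⟨hft2, h2⟩ := pc_iff.1 hψ
  haveI := hft1
  haveI := hft2
  refine pc_iff.2 ⟨Algebra.FiniteType.trans hft1 hft2, fun m => ?_⟩
  exact (isRelPseudoCoherent_iff_of_pseudoCoherent_intermediate h1 _ m).1 (h2 m)

theorem pch_of_bijective (σ : A →+* B) (hσ : Function.Bijective σ) : PCH σ := by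
  letI := σ.toAlgebra
  let α : MvPolynomial (Fin 0) A →ₐ[A] B :=
    (Algebra.ofId A B).comp (MvPolynomial.isEmptyAlgEquiv A (Fin 0)).toAlgHom
  have hbij : Function.Bijective (α : MvPolynomial (Fin 0) A →+* B) := by
    show Function.Bijective (fun x => σ ((MvPolynomial.isEmptyAlgEquiv A (Fin 0)) x))
    exact hσ.comp (MvPolynomial.isEmptyAlgEquiv A (Fin 0)).bijective
  exact isPseudoCoherentHom_iff.2 ⟨0, α, hbij.2, resPC_of_bijective _ hbij⟩

theorem pch_away (g : A) (L : Type u) [CommRing L] [Algebra A L] [IsLocalization.Away g L] :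
    PCH (algebraMap A L) := by
  have h0 : PCH (algebraMap A (Localization.Away g)) :=
    pch_algebraMap.2 (isPseudoCoherentHom_away g)
  let e : Localization.Away g ≃ₐ[A] L := IsLocalization.algEquiv (Submonoid.powers g) _ _
  have h1 := pch_comp _ _ h0 (pch_of_bijective (e : Localization.Away g →+* L) e.bijective)
  have : ((e : Localization.Away g →+* L)).comp (algebraMap A (Localization.Away g)) =
      algebraMap A L := by
    ext x
    exact e.commutes x
  rwa [this] at h1

/-- pseudo-coherence over `R_f` and over `R` agree -/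
theorem pch_base_away (f : R) (R' : Type u) [CommRing R'] [Algebra R R'] [IsLocalization.Away f R']
    (φ : R' →+* A) (h : PCH (φ.comp (algebraMap R R'))) : PCH φ := by
  -- first the case of the standard localization
  have key : ∀ (ψ : Localization.Away f →+* A),
      PCH (ψ.comp (algebraMap R (Localization.Away f))) → PCH ψ := by
    intro ψ hψ
    letI := ψ.toAlgebra
    letI := (ψ.comp (algebraMap R (Localization.Away f))).toAlgebra
    haveI : IsScalarTower R (Localization.Away f) A := .of_algebraMap_eq' rfl
    obtain ⟨hft, h1⟩ := pc_iff.1 hψ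
    haveI : Algebra.FiniteType (Localization.Away f) A :=
      Algebra.FiniteType.of_restrictScalars_finiteType R (Localization.Away f) A
    refine pc_iff.2 ⟨inferInstance, fun m => ?_⟩
    exact (isRelPseudoCoherent_away_base_iff f _ m).2 (h1 m)
  let e : Localization.Away f ≃ₐ[R] R' := IsLocalization.algEquiv (Submonoid.powers f) _ _
  have h2 : PCH (φ.comp (e : Localization.Away f →+* R')) := by
    apply key
    have : (φ.comp (e : Localization.Away f →+* R')).comp
        (algebraMap R (Localization.Away f)) = φ.comp (algebraMap R R') := by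
      ext x
      show φ (e (algebraMap R (Localization.Away f) x)) = φ (algebraMap R R' x)
      rw [e.commutes]
    rw [this]
    exact h
  have h3 := pch_comp _ _ (pch_of_bijective (e.symm : R' →+* Localization.Away f) e.symm.bijective) h2
  have : (φ.comp (e : Localization.Away f →+* R')).comp (e.symm : R' →+* Localization.Away f) =
      φ := by
    ext x
    show φ (e (e.symm x)) = φ x
    rw [AlgEquiv.apply_symm_apply]
  rwa [this] at h3

end ringhom

section glue
variable {R A : Type u} [CommRing R] [CommRing A]

/-- the module `A` in degree zero via the single complex -/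
noncomputable def toDSingleSelf (A : Type u) [CommRing A] :
    toD (singleCx 0 (ModuleCat.of A A)) ≅ Dual.inD A A :=
  toDSingleIso' 0 (ModuleCat.of A A)

/-- flat base change of the structure module -/
noncomputable def extSingleSelf (A L : Type u) [CommRing A] [CommRing L] [Algebra A L]
    [Module.Flat A L] :
    toD (((ModuleCat.extendScalars (algebraMap A L)).mapHomologicalComplex
      (ComplexShape.up ℤ)).obj (singleCx 0 (ModuleCat.of A A))) ≅ Dual.inD L L :=
  (extScD_toD (A := A) (B := L) (singleCx 0 (ModuleCat.of A A))).symm ≪≫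
    (extScD A L).mapIso (toDSingleSelf A) ≪≫ extScD_inD (A := A) (B := L) A ≪≫
    inDMapIso (TensorProduct.AlgebraTensorModule.rid A L L).toModuleIso

/-- gluing along a finite family spanning the unit ideal -/
theorem pc_of_family [Algebra R A] [Algebra.FiniteType R A] {r : ℕ} (f : Fin r → A)
    (hf : Ideal.span (Set.range f) = ⊤)
    (h : ∀ i, MoreMor.IsPseudoCoherentHom R (Localization.Away (f i))) :
    MoreMor.IsPseudoCoherentHom R A := by
  refine pc_iff.2 ⟨inferInstance, fun m => ?_⟩
  refine relPC_of_iso (toDSingleSelf A) ?_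
  rw [Groth.Agent.S6987.result (singleCx 0 (ModuleCat.of A A)) m f hf]
  intro i
  exact relPC_of_iso (extSingleSelf A (Localization.Away (f i))).symm ((pc_iff.1 (h i)).2 m)

end glue

section local_property

theorem pch_stableUnderComposition : RingHom.StableUnderComposition @PCH :=
  fun _ _ _ _ _ _ f g hf hg => pch_comp f g hf hg

theorem pch_stableAwayTarget : RingHom.StableUnderCompositionWithLocalizationAwayTarget @PCH := by
  intro R S T _ _ _ _ s _ f hf
  exact pch_comp f _ hf (pch_away s T)

theorem pch_localizationAwayPreserves : RingHom.LocalizationAwayPreserves @PCH := by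
  intro R S _ _ f r R' S' _ _ _ _ _ _ hf
  apply pch_base_away r R'
  have : (IsLocalization.Away.map R' S' f r).comp (algebraMap R R') = (algebraMap S S').comp f :=
    IsLocalization.map_comp _
  rw [this]
  exact pch_comp f _ hf (pch_away (f r) S')

theorem pch_ofLocalizationSpanTarget : RingHom.OfLocalizationSpanTarget @PCH := by
  intro R S _ _ f s hs h
  letI := f.toAlgebra
  have hft : Algebra.FiniteType R S := by
    have : f.FiniteType := RingHom.finiteType_ofLocalizationSpanTarget f s hs
      (fun r => pch_finiteType _ (h r))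
    exact this
  obtain ⟨s', hs's, hs'⟩ := (Ideal.span_eq_top_iff_finite s).1 hs
  let f' : Fin s'.card → S := fun i => (s'.equivFin.symm i).1
  have hrange : Set.range f' = (s' : Set S) := by
    ext x
    constructor
    · rintro ⟨i, rfl⟩
      exact (s'.equivFin.symm i).2
    · intro hx
      exact ⟨s'.equivFin ⟨x, hx⟩, by simp [f']⟩
  refine pc_of_family f' (by rw [hrange]; exact hs') (fun i => ?_)
  have hmem : f' i ∈ s := hs's (s'.equivFin.symm i).2
  have h0 := h ⟨f' i, hmem⟩
  unfold PCH at h0
  have heq : ((algebraMap S (Localization.Away (f' i))).comp f).toAlgebra =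
      (inferInstance : Algebra R (Localization.Away (f' i))) := by
    apply Algebra.algebra_ext
    intro x
    exact (IsScalarTower.algebraMap_apply R S (Localization.Away (f' i)) x).symm
  rw [heq] at h0
  exact h0

theorem pch_ofLocalizationSpan : RingHom.OfLocalizationSpan @PCH := by
  intro R S _ _ f s hs h
  apply pch_ofLocalizationSpanTarget f (f '' s)
  · rw [← Ideal.map_span, hs, Ideal.map_top]
  · rintro ⟨_, r, hr, rfl⟩
    have : (algebraMap S (Localization.Away (f r))).comp f =
        (Localization.awayMap f r).comp (algebraMap R (Localization.Away r)) :=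
      (IsLocalization.map_comp _).symm
    show PCH ((algebraMap S (Localization.Away (f r))).comp f)
    rw [this]
    exact pch_comp _ _ (pch_away r _) (h ⟨r, hr⟩)

theorem pch_isLocal : RingHom.PropertyIsLocal @PCH where
  localizationAwayPreserves := pch_localizationAwayPreserves
  ofLocalizationSpanTarget := pch_ofLocalizationSpanTarget
  ofLocalizationSpan := pch_ofLocalizationSpan
  StableUnderCompositionWithLocalizationAwayTarget := pch_stableAwayTarget

end local_property

end Groth.Agent.Lib.Helper8.PCL
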