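import Mathlib
import Groth.Prelude.Def_MoreMor
import Groth.Agent.Lib.Helper8.PCL1

/-!
# Pseudo-coherent morphisms of schemes as a `HasRingHomProperty` (helper8)
-/

set_option autoImplicit false
set_option linter.style.haveILetI false
universe u
attribute [local instance] HasDerivedCategory.standard
open CategoryTheory AlgebraicGeometry

namespace Groth.Agent.Lib.Helper8.PCL

/-- pseudo-coherent morphisms, via `affineLocally` -/
def pcMor : MorphismProperty Scheme.{u} := affineLocally @PCH

instance pcMor_hasRingHomProperty : HasRingHomProperty pcMor.{u} @PCH where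
  isLocal_ringHomProperty := pch_isLocal
  eq_affineLocally' := rfl

theorem pcMor_iff {X Y : Scheme.{u}} (f : X ⟶ Y) : pcMor f ↔ MoreMor.IsPseudoCoherentMor f := by
  rw [HasRingHomProperty.iff_appLE (P := pcMor)]
  constructor
  · intro h U V hU hV hUV
    exact h ⟨V, hV⟩ ⟨U, hU⟩ hUV
  · intro h V U e
    exact h U.1 V.1 U.2 V.2 e

theorem isPseudoCoherentMor_comp {X Y Z : Scheme.{u}} (f : X ⟶ Y) (g : Y ⟶ Z)
    (hf : MoreMor.IsPseudoCoherentMor f) (hg : MoreMor.IsPseudoCoherentMor g) :
    MoreMor.IsPseudoCoherentMor (f ≫ g) := by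
  rw [← pcMor_iff] at hf hg ⊢
  exact (HasRingHomProperty.stableUnderComposition (P := pcMor) pch_stableUnderComposition).comp_mem
    f g hf hg

end Groth.Agent.Lib.Helper8.PCL
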