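import Mathlib
import Groth.Agent.Lib.Helper8.PCL1
import Groth.Agent.Lib.Helper12.DRingFFDescent
import Groth.Agent.Lib.Helper68.RelPCBC

/-!
# Flat base change and faithfully flat descent of pseudo-coherent ring maps (helper8)
-/

set_option autoImplicit false
set_option linter.style.haveILetI false
universe u
attribute [local instance] HasDerivedCategory.standard
open CategoryTheory TensorProduct

namespace Groth.Agent.Lib.Helper8.PCL

open Groth.Agent.Lib.Helper12 DRing Groth.Agent.Lib.Helper8.PCoh Groth.Agent.Lib.Helper68.RelPCBC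

theorem pc'_of_iso {A : Type u} [CommRing A] {K K' : Dual.D A} (e : K ≅ K')
    (h : IsPseudoCoherent' A K) : IsPseudoCoherent' A K' := by
  obtain ⟨E, b, hE, hff, ⟨e'⟩⟩ := h
  exact ⟨E, b, hE, hff, ⟨e' ≪≫ e⟩⟩

section Main
variable {R A R' : Type u} [CommRing R] [CommRing A] [CommRing R'] [Algebra R A] [Algebra R R']

set_option maxHeartbeats 1600000 in
set_option synthInstance.maxHeartbeats 200000 in
/-- comparison of the two presentations -/
theorem resPC_baseChange_aux [Module.Flat R R'] {n : ℕ} (α : MvPolynomial (Fin n) R →ₐ[R] A) :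
    (ResPC (α : MvPolynomial (Fin n) R →+* A) →
      ResPC (α' (R' := R') α : MvPolynomial (Fin n) R' →+* R' ⊗[R] A)) ∧
    (Module.FaithfullyFlat R R' →
      ResPC (α' (R' := R') α : MvPolynomial (Fin n) R' →+* R' ⊗[R] A) →
      ResPC (α : MvPolynomial (Fin n) R →+* A)) := by
  letI iPA : Algebra (MvPolynomial (Fin n) R) A := (α : MvPolynomial (Fin n) R →+* A).toAlgebra
  letI iPP' : Algebra (MvPolynomial (Fin n) R) (MvPolynomial (Fin n) R') :=
    MvPolynomial.algebraMvPolynomial
  letI iAA' : Algebra A (R' ⊗[R] A) := Algebra.TensorProduct.rightAlgebra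
  letI iP'A' : Algebra (MvPolynomial (Fin n) R') (R' ⊗[R] A) :=
    (α' (R' := R') α : MvPolynomial (Fin n) R' →+* R' ⊗[R] A).toAlgebra
  letI iPA' : Algebra (MvPolynomial (Fin n) R) (R' ⊗[R] A) :=
    ((algebraMap A (R' ⊗[R] A)).comp (algebraMap (MvPolynomial (Fin n) R) A)).toAlgebra
  haveI t1 : IsScalarTower (MvPolynomial (Fin n) R) A (R' ⊗[R] A) :=
    IsScalarTower.of_algebraMap_eq fun x => rfl
  have hcomm : ∀ x : MvPolynomial (Fin n) R,
      algebraMap A (R' ⊗[R] A) (algebraMap (MvPolynomial (Fin n) R) A x) =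
        algebraMap (MvPolynomial (Fin n) R') (R' ⊗[R] A)
          (algebraMap (MvPolynomial (Fin n) R) (MvPolynomial (Fin n) R') x) := by
    intro x
    exact (α'_map (R' := R') α x).symm
  haveI t2 : IsScalarTower (MvPolynomial (Fin n) R) (MvPolynomial (Fin n) R') (R' ⊗[R] A) :=
    IsScalarTower.of_algebraMap_eq fun x => hcomm x
  haveI pushLeft : Algebra.IsPushout R (MvPolynomial (Fin n) R) R' (MvPolynomial (Fin n) R') :=
    inferInstance
  haveI pushBig : Algebra.IsPushout R A R' (R' ⊗[R] A) := TensorProduct.isPushout'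
  haveI t3 : IsScalarTower R' (MvPolynomial (Fin n) R') (R' ⊗[R] A) :=
    IsScalarTower.of_algebraMap_eq fun x => ((α' (R' := R') α).commutes x).symm
  haveI t4 : IsScalarTower R (MvPolynomial (Fin n) R') (R' ⊗[R] A) :=
    IsScalarTower.of_algebraMap_eq fun x => by
      rw [IsScalarTower.algebraMap_apply R R' (R' ⊗[R] A),
        IsScalarTower.algebraMap_apply R R' (MvPolynomial (Fin n) R'),
        ← IsScalarTower.algebraMap_apply R' (MvPolynomial (Fin n) R') (R' ⊗[R] A)]
  haveI t5 : IsScalarTower R (MvPolynomial (Fin n) R) A :=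
    IsScalarTower.of_algebraMap_eq fun x => (α.commutes x).symm
  haveI pushRight : Algebra.IsPushout (MvPolynomial (Fin n) R) A (MvPolynomial (Fin n) R')
      (R' ⊗[R] A) :=
    (Algebra.IsPushout.comp_iff R (MvPolynomial (Fin n) R) R' (MvPolynomial (Fin n) R')).mp pushBig
  haveI pushRight' : Algebra.IsPushout (MvPolynomial (Fin n) R) (MvPolynomial (Fin n) R') A
      (R' ⊗[R] A) := pushRight.symm
  haveI flP : Module.Flat (MvPolynomial (Fin n) R) (MvPolynomial (Fin n) R') :=
    Module.Flat.isBaseChange (R := R) (S := MvPolynomial (Fin n) R) (M := R')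
      (MvPolynomial (Fin n) R') pushLeft.out
  let e : (MvPolynomial (Fin n) R') ⊗[MvPolynomial (Fin n) R] A ≃ₐ[MvPolynomial (Fin n) R']
      (R' ⊗[R] A) :=
    Algebra.IsPushout.equiv (MvPolynomial (Fin n) R) (MvPolynomial (Fin n) R') A (R' ⊗[R] A)
  -- the comparison isomorphism in the derived category
  let Φ : (extScD (MvPolynomial (Fin n) R) (MvPolynomial (Fin n) R')).obj
        (Dual.inD (MvPolynomial (Fin n) R) A) ≅
      Dual.inD (MvPolynomial (Fin n) R') (R' ⊗[R] A) :=
    extScD_inD (A := MvPolynomial (Fin n) R) (B := MvPolynomial (Fin n) R') A ≪≫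
      inDMapIso e.toLinearEquiv.toModuleIso
  constructor
  · intro h
    have h1 : IsPseudoCoherent' (MvPolynomial (Fin n) R) (Dual.inD (MvPolynomial (Fin n) R) A) :=
      (resPC_iff_isPseudoCoherentModule' (α : MvPolynomial (Fin n) R →+* A)).1 h
    have h2 := isPseudoCoherent'_extScD (B := MvPolynomial (Fin n) R') _ h1
    exact (resPC_iff_isPseudoCoherentModule'
      (α' (R' := R') α : MvPolynomial (Fin n) R' →+* R' ⊗[R] A)).2 (pc'_of_iso Φ h2)
  · intro hff h
    haveI := hff
    haveI ffP : Module.FaithfullyFlat (MvPolynomial (Fin n) R) (MvPolynomial (Fin n) R') :=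
      Module.FaithfullyFlat.of_linearEquiv _ _ (IsBaseChange.equiv pushLeft.out).symm
    have h1 : IsPseudoCoherent' (MvPolynomial (Fin n) R')
        (Dual.inD (MvPolynomial (Fin n) R') (R' ⊗[R] A)) :=
      (resPC_iff_isPseudoCoherentModule'
        (α' (R' := R') α : MvPolynomial (Fin n) R' →+* R' ⊗[R] A)).1 h
    have h2 := (isPseudoCoherent'_extScD_iff (B := MvPolynomial (Fin n) R') _).1
      (pc'_of_iso Φ.symm h1)
    exact (resPC_iff_isPseudoCoherentModule' (α : MvPolynomial (Fin n) R →+* A)).2 h2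

end Main

section Wrappers
variable {R A R' : Type u} [CommRing R] [CommRing A] [CommRing R'] [Algebra R A] [Algebra R R']

/-- flat base change of pseudo-coherent ring maps -/
theorem pc_baseChange [Module.Flat R R'] (h : MoreMor.IsPseudoCoherentHom R A) :
    MoreMor.IsPseudoCoherentHom R' (R' ⊗[R] A) := by
  obtain ⟨n, α, hα, hres⟩ := exists_resPC_of_isPseudoCoherentHom h
  exact isPseudoCoherentHom_iff.2 ⟨n, α' α, α'_surjective α hα, (resPC_baseChange_aux α).1 hres⟩

/-- faithfully flat descent of pseudo-coherent ring maps -/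
theorem pc_descent [Module.FaithfullyFlat R R']
    (h : MoreMor.IsPseudoCoherentHom R' (R' ⊗[R] A)) : MoreMor.IsPseudoCoherentHom R A := by
  haveI : Algebra.FiniteType R' (R' ⊗[R] A) := (pc_iff.1 h).1
  haveI : Algebra.FiniteType R A := .of_finiteType_tensorProduct_of_faithfullyFlat R'
  obtain ⟨n, α, hα⟩ := exists_presentation R A
  have h1 := (isPseudoCoherentHom_iff_resPC (α' (R' := R') α) (α'_surjective α hα)).1 h
  exact isPseudoCoherentHom_iff.2 ⟨n, α, hα, (resPC_baseChange_aux α).2 inferInstance h1⟩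

end Wrappers

section RingHomForm

theorem pch_respectsIso : RingHom.RespectsIso @PCH := pch_isLocal.respectsIso

theorem pch_stableAwaySource : RingHom.StableUnderCompositionWithLocalizationAwaySource @PCH := by
  intro R S T _ _ _ _ r _ f hf
  exact pch_comp _ f (pch_away r S) hf

theorem pch_codescendsAlong : RingHom.CodescendsAlong @PCH RingHom.FaithfullyFlat := by
  refine .mk _ pch_respectsIso fun R S T _ _ _ _ _ h h' => ?_
  rw [RingHom.faithfullyFlat_algebraMap_iff] at h
  rw [pch_algebraMap] at h' ⊢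
  exact pc_descent (R' := S) h'

/-- base change of a pseudo-coherent ring map along a flat map, in pushout form -/
theorem pch_of_isPushout {R S R' S' : CommRingCat.{u}} (φ : R ⟶ S) (ψ : R ⟶ R')
    (inl : S ⟶ S') (inr : R' ⟶ S') (H : CategoryTheory.IsPushout φ ψ inl inr)
    (hψ : ψ.hom.Flat) (h : PCH φ.hom) : PCH inr.hom := by
  letI : Algebra R S := φ.hom.toAlgebra
  letI : Algebra R R' := ψ.hom.toAlgebra
  letI : Algebra S S' := inl.hom.toAlgebra
  letI : Algebra R' S' := inr.hom.toAlgebra
  letI : Algebra R S' := (inl.hom.comp φ.hom).toAlgebra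
  haveI : IsScalarTower R S S' := IsScalarTower.of_algebraMap_eq' rfl
  haveI : IsScalarTower R R' S' := IsScalarTower.of_algebraMap_eq' (by
    show inl.hom.comp φ.hom = inr.hom.comp ψ.hom
    rw [← CommRingCat.hom_comp, ← CommRingCat.hom_comp, H.w])
  have hP : Algebra.IsPushout R S R' S' := CommRingCat.isPushout_iff_isPushout.mp H
  have hP' : Algebra.IsPushout R R' S S' := hP.symm
  haveI : Module.Flat R R' := hψ
  let e : R' ⊗[R] S ≃ₐ[R'] S' := Algebra.IsPushout.equiv R R' S S'
  have h1 : PCH (algebraMap R' (R' ⊗[R] S)) := pch_algebraMap.2 (pc_baseChange (R' := R') h)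
  have h2 := pch_comp _ _ h1 (pch_of_bijective (e : R' ⊗[R] S →+* S') e.bijective)
  have : ((e : R' ⊗[R] S →+* S')).comp (algebraMap R' (R' ⊗[R] S)) = inr.hom := by
    ext x
    exact e.commutes x
  rwa [this] at h2

end RingHomForm

end Groth.Agent.Lib.Helper8.PCL
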