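import Groth.Agent.Lib.Helper8.CharSeq
import Groth.Agent.Lib.Helper46.TorShift
import Groth.Agent.Lib.Helper12.TorBridge

set_option autoImplicit false

namespace Groth.Agent.Lib.Helper8.TorDimPoly

open TensorProduct CategoryTheory CategoryTheory.Limits
open Groth.Agent.Lib.Helper46 Groth.Agent.Lib.Helper46.TorShift

universe u

/-- Tor-dimension at most `k` (Tor resolving the second variable), module level -/
def TD (R : Type u) [CommRing R] (k : ℕ) (M : Type u) [AddCommGroup M] [Module R M] : Prop :=
  ∀ (N : Type u) [AddCommGroup N] [Module R N] (p : ℕ), k < p → IsZero (T R p M N)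

section basic

variable {R : Type u} [CommRing R]

theorem td_of_flat (M : Type u) [AddCommGroup M] [Module R M] [Module.Flat R M] (k : ℕ) :
    TD R k M := by
  intro N _ _ p hp
  obtain ⟨n, rfl⟩ : ∃ n, p = n + 1 := ⟨p - 1, by omega⟩
  exact isZero_of_flat_left M N n

theorem flat_of_td_zero (M : Type u) [AddCommGroup M] [Module R M] (h : TD R 0 M) :
    Module.Flat R M := by
  have := Groth.Agent.Lib.Helper12.flat_of_isZero_TorM_one (ModuleCat.of R M)
    (fun N => h N 1 (by omega))
  exact this

theorem td_mono {M : Type u} [AddCommGroup M] [Module R M] {k l : ℕ} (h : TD R k M) (hkl : k ≤ l) :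
    TD R l M := fun N _ _ p hp => h N p (by omega)

variable {X Y Z : Type u} [AddCommGroup X] [Module R X] [AddCommGroup Y] [Module R Y]
  [AddCommGroup Z] [Module R Z]
  (ι : X →ₗ[R] Y) (π : Y →ₗ[R] Z) (hι : Function.Injective ι)
  (hex : Function.Exact ι π) (hπ : Function.Surjective π)
include hι hex hπ

theorem td_right (k : ℕ) (hX : TD R k X) (hY : TD R k Y) : TD R (k + 1) Z := by
  intro N _ _ p hp
  obtain ⟨n, rfl⟩ : ∃ n, p = n + 1 := ⟨p - 1, by omega⟩
  exact isZero_right₁ ι π hι hex hπ n (hY N (n + 1) (by omega)) (hX N n (by omega))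

theorem td_left (k : ℕ) (hZ : TD R (k + 1) Z) [Module.Flat R Y] : TD R k X := by
  intro N _ _ p hp
  obtain ⟨n, rfl⟩ : ∃ n, p = n + 1 := ⟨p - 1, by omega⟩
  exact isZero_left₁ ι π hι hex hπ (n + 1) (hZ N (n + 1 + 1) (by omega))
    (isZero_of_flat_left Y N n)

end basic

section cover

variable {R : Type u} [CommRing R] (M : Type u) [AddCommGroup M] [Module R M]

/-- the canonical free cover -/
noncomputable def cov : (M →₀ R) →ₗ[R] M := Finsupp.linearCombination R id

lemma cov_surjective : Function.Surjective (cov (R := R) M) :=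
  fun m => ⟨Finsupp.single m 1, by simp [cov]⟩

end cover

theorem td_baseChange (R : Type u) [CommRing R] (P : Type u) [CommRing P] [Algebra R P]
    [Module.Flat R P] :
    ∀ (k : ℕ) (M : Type u) [AddCommGroup M] [Module R M], TD R k M → TD P k (P ⊗[R] M)
  | 0, M, _, _, h => by
    haveI := flat_of_td_zero M h
    exact td_of_flat _ 0
  | k + 1, M, _, _, h => by
    have hK : TD R k (LinearMap.ker (cov (R := R) M)) :=
      td_left (LinearMap.ker (cov (R := R) M)).subtype (cov M) (Submodule.injective_subtype _)
        (LinearMap.exact_subtype_ker_map _) (cov_surjective M) k h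
    have hK' := td_baseChange R P k _ hK
    refine td_right ((LinearMap.ker (cov (R := R) M)).subtype.baseChange P) ((cov M).baseChange P)
      ?_ ?_ ?_ k hK' (td_of_flat _ k)
    · rw [LinearMap.baseChange_eq_ltensor]
      exact Module.Flat.lTensor_preserves_injective_linearMap _ (Submodule.injective_subtype _)
    · rw [LinearMap.baseChange_eq_ltensor, LinearMap.baseChange_eq_ltensor]
      exact lTensor_exact P (LinearMap.exact_subtype_ker_map _) (cov_surjective M)
    · rw [LinearMap.baseChange_eq_ltensor]
      exact LinearMap.lTensor_surjective P (cov_surjective M)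

theorem td_restrict (B B' : Type u) [CommRing B] [CommRing B'] [Algebra B B'] [Module.Flat B B'] :
    ∀ (k : ℕ) (M : Type u) [AddCommGroup M] [Module B' M] [Module B M] [IsScalarTower B B' M],
      TD B' k M → TD B k M
  | 0, M, _, _, _, _, h => by
    haveI := flat_of_td_zero M h
    haveI : Module.Flat B M := Module.Flat.trans B B' M
    exact td_of_flat _ 0
  | k + 1, M, _, _, _, _, h => by
    have hK : TD B' k (LinearMap.ker (cov (R := B') M)) :=
      td_left (LinearMap.ker (cov (R := B') M)).subtype (cov M) (Submodule.injective_subtype _)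
        (LinearMap.exact_subtype_ker_map _) (cov_surjective M) k h
    have hK' : TD B k (LinearMap.ker (cov (R := B') M)) := td_restrict B B' k _ hK
    haveI : Module.Flat B (M →₀ B') := Module.Flat.trans B B' _
    exact td_right ((LinearMap.ker (cov (R := B') M)).subtype.restrictScalars B)
      ((cov M).restrictScalars B) (Submodule.injective_subtype _)
      (LinearMap.exact_subtype_ker_map _) (cov_surjective M) k hK' (td_of_flat _ k)

open Polynomial in
theorem td_polynomial {R : Type u} [CommRing R] {M : Type u} [AddCommGroup M] [Module R M]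
    [Module R[X] M] [IsScalarTower R R[X] M] (k : ℕ) (h : TD R k M) : TD R[X] (k + 1) M :=
  td_right (CharSeq.psiMap R M) (CharSeq.piMap R M) CharSeq.psiMap_injective
    CharSeq.exact_psiMap_piMap CharSeq.piMap_surjective k (td_baseChange R R[X] k M h)
    (td_baseChange R R[X] k M h)

theorem flat_of_bijective (B B' : Type u) [CommRing B] [CommRing B'] [Algebra B B']
    (h : Function.Bijective (algebraMap B B')) : Module.Flat B B' :=
  Module.Flat.of_linearEquiv (LinearEquiv.ofBijective (Algebra.linearMap B B') h).symm

theorem td_mvPolynomial (A : Type u) [CommRing A] (d : ℕ) :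
    ∀ (n : ℕ) (M : Type u) [AddCommGroup M] [Module A M] [Module (MvPolynomial (Fin n) A) M]
      [IsScalarTower A (MvPolynomial (Fin n) A) M], TD A d M → TD (MvPolynomial (Fin n) A) (d + n) M
  | 0, M, _, _, _, _, h => by
    let e := MvPolynomial.isEmptyAlgEquiv A (Fin 0)
    letI : Algebra (MvPolynomial (Fin 0) A) A := e.toAlgHom.toRingHom.toAlgebra
    have hp : ∀ p : MvPolynomial (Fin 0) A, algebraMap A (MvPolynomial (Fin 0) A) (e p) = p := by
      intro p
      apply e.injective
      rw [AlgEquiv.commutes]
      rfl
    haveI : IsScalarTower (MvPolynomial (Fin 0) A) A M := ⟨fun p a m => by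
      show (e p * a) • m = p • (a • m)
      rw [mul_smul]
      conv_rhs => rw [← hp p, algebraMap_smul]⟩
    haveI : Module.Flat (MvPolynomial (Fin 0) A) A := flat_of_bijective _ _ e.bijective
    exact td_restrict (MvPolynomial (Fin 0) A) A d M h
  | n + 1, M, _, _, _, _, h => by
    let e := MvPolynomial.finSuccEquiv A n
    letI mQ : Module (Polynomial (MvPolynomial (Fin n) A)) M :=
      Module.compHom M e.symm.toAlgHom.toRingHom
    letI mP : Module (MvPolynomial (Fin n) A) M :=
      Module.compHom M (e.symm.toAlgHom.toRingHom.comp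
        (Polynomial.C : MvPolynomial (Fin n) A →+* Polynomial (MvPolynomial (Fin n) A)))
    have hQ : ∀ (q : Polynomial (MvPolynomial (Fin n) A)) (m : M), q • m = e.symm q • m :=
      fun _ _ => rfl
    have hP : ∀ (p : MvPolynomial (Fin n) A) (m : M), p • m = e.symm (Polynomial.C p) • m :=
      fun _ _ => rfl
    haveI : IsScalarTower (MvPolynomial (Fin n) A) (Polynomial (MvPolynomial (Fin n) A)) M :=
      ⟨fun p q m => by
        rw [hQ, hP, hQ, Polynomial.smul_eq_C_mul, map_mul, mul_smul]⟩
    haveI : IsScalarTower A (MvPolynomial (Fin n) A) M := ⟨fun a p m => by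
      rw [hP, hP, ← Polynomial.smul_C, map_smul, smul_assoc]⟩
    have h1 : TD (MvPolynomial (Fin n) A) (d + n) M := td_mvPolynomial A d n M h
    have h2 : TD (Polynomial (MvPolynomial (Fin n) A)) (d + n + 1) M := td_polynomial _ h1
    letI : Algebra (MvPolynomial (Fin (n + 1)) A) (Polynomial (MvPolynomial (Fin n) A)) :=
      e.toAlgHom.toRingHom.toAlgebra
    haveI : Module.Flat (MvPolynomial (Fin (n + 1)) A) (Polynomial (MvPolynomial (Fin n) A)) :=
      flat_of_bijective _ _ e.bijective
    haveI : IsScalarTower (MvPolynomial (Fin (n + 1)) A) (Polynomial (MvPolynomial (Fin n) A)) M :=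
      ⟨fun p q m => by
        show e.symm (e p * q) • m = p • (e.symm q • m)
        rw [map_mul, AlgEquiv.symm_apply_apply, mul_smul]⟩
    exact td_restrict (MvPolynomial (Fin (n + 1)) A) (Polynomial (MvPolynomial (Fin n) A))
      (d + n + 1) M h2

end Groth.Agent.Lib.Helper8.TorDimPoly
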