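import Mathlib
import Groth.Prelude.Def_MoreMor
import Groth.Agent.Lib.Helper8.PCL3
import Groth.Agent.Lib.Helper8.TorDimPoly
import Groth.Agent.S6946
import Groth.Agent.S6947
import Groth.Agent.Lib.Helper46.TorAmpFFlat
import Groth.Agent.Lib.Helper12.DRingZariskiDescent
import Groth.Agent.Lib.Helper12.DerCAPresentation
import Groth.Agent.Lib.Helper12.DRingTorAmpDescent

/-!
# Finite tor dimension of ring maps: module-level toolbox (helper8)
-/

set_option autoImplicit false
set_option linter.style.haveILetI false
universe u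
attribute [local instance] HasDerivedCategory.standard
open CategoryTheory CategoryTheory.Limits TensorProduct MonoidalCategory

namespace Groth.Agent.Lib.Helper8.PFL

open Groth.Agent.Lib.Helper12 DRing Groth.Agent.Lib.Helper8.TorDimPoly
  Groth.Agent.Lib.Helper46 Groth.Agent.Lib.Helper46.TorAmpExact
  Groth.Agent.Lib.Helper46.TorAmpLocal Groth.Agent.Lib.Helper46.TorAmpFFlat

section module_level
variable {R : Type u} [CommRing R]

theorem tdle_iff_td (k : ℕ) (M : Type u) [AddCommGroup M] [Module R M] :
    DRing.HasTorDimLE R k M ↔ TD R k M := by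
  constructor
  · intro h N _ _ p hp
    have := h N p hp
    exact ModuleCat.isZero_of_subsingleton _
  · intro h N _ _ p hp
    exact ModuleCat.subsingleton_of_isZero (h N p hp)

theorem tdle_iff_ta (d : ℕ) (M : Type u) [AddCommGroup M] [Module R M] :
    DRing.HasTorDimLE R d M ↔ DRing.HasTorAmplitudeIn R (-(d : ℤ)) 0 (Dual.inD R M) :=
  (Groth.Agent.S6946.result R M d).1

theorem tdle_of_linearEquiv {M M' : Type u} [AddCommGroup M] [Module R M] [AddCommGroup M']
    [Module R M'] (e : M ≃ₗ[R] M') {k : ℕ} (h : DRing.HasTorDimLE R k M) :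
    DRing.HasTorDimLE R k M' := by
  rw [tdle_iff_td] at h ⊢
  intro N _ _ p hp
  exact TorShift.isZero_congr e (LinearEquiv.refl R N) p (h N p hp)

theorem tdle_mono {M : Type u} [AddCommGroup M] [Module R M] {k l : ℕ}
    (h : DRing.HasTorDimLE R k M) (hkl : k ≤ l) : DRing.HasTorDimLE R l M :=
  fun N _ _ p hp => h N p (by omega)

theorem tdle_of_flat (M : Type u) [AddCommGroup M] [Module R M] [Module.Flat R M] (k : ℕ) :
    DRing.HasTorDimLE R k M :=
  (tdle_iff_td k M).2 (td_of_flat M k)

/-- the underlying module of a restriction of scalars -/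
noncomputable def resScEquiv' {A : Type u} [CommRing A] [Algebra R A] (Q : Type u)
    [AddCommGroup Q] [Module A Q] [Module R Q] [IsScalarTower R A Q] :
    ((resSc (algebraMap R A)).obj (ModuleCat.of A Q)) ≃ₗ[R] Q where
  toFun x := x
  invFun x := x
  map_add' _ _ := rfl
  map_smul' a x := by
    rw [ModuleCat.restrictScalars.smul_def]
    exact algebraMap_smul A a _
  left_inv _ := rfl
  right_inv _ := rfl

/-- tor dimensions add along a tower -/
theorem tdle_comp {A : Type u} [CommRing A] [Algebra R A] {M : Type u} [AddCommGroup M]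
    [Module A M] [Module R M] [IsScalarTower R A M] {d e : ℕ}
    (hA : DRing.HasTorDimLE R d A) (hM : DRing.HasTorDimLE A e M) :
    DRing.HasTorDimLE R (d + e) M := by
  rw [tdle_iff_ta] at hA hM ⊢
  have h1 := Groth.Agent.S6947.result d hA (Dual.inD A M) (-(e : ℤ)) 0 hM
  have h2 := hasTorAmplitudeIn_of_iso (restrictD_inD (algebraMap R A) (ModuleCat.of A M) ≪≫
    inDMapIso (resScEquiv' M).toModuleIso) h1
  have h3 : (-(e : ℤ) - (d : ℤ)) = -((d + e : ℕ) : ℤ) := by push_cast; ring
  rw [h3] at h2
  exact h2

/-- flat base change -/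
theorem tdle_baseChange (P : Type u) [CommRing P] [Algebra R P] [Module.Flat R P] {k : ℕ}
    {M : Type u} [AddCommGroup M] [Module R M] (h : DRing.HasTorDimLE R k M) :
    DRing.HasTorDimLE P k (P ⊗[R] M) :=
  (tdle_iff_td k _).2 (td_baseChange R P k M ((tdle_iff_td k M).1 h))

/-- faithfully flat descent -/
theorem tdle_descent (P : Type u) [CommRing P] [Algebra R P] [Module.FaithfullyFlat R P] {k : ℕ}
    {M : Type u} [AddCommGroup M] [Module R M] (h : DRing.HasTorDimLE P k (P ⊗[R] M)) :
    DRing.HasTorDimLE R k M := by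
  rw [tdle_iff_ta] at h ⊢
  exact hasTorAmplitudeIn_of_extScD _ _ _
    (hasTorAmplitudeIn_of_iso (extScD_inD (A := R) (B := P) M).symm h)

/-- over a localization, tor dimension can be computed over the base -/
theorem tdle_base_away (f : R) (R' : Type u) [CommRing R'] [Algebra R R']
    [IsLocalization.Away f R'] {M : Type u} [AddCommGroup M] [Module R' M] [Module R M]
    [IsScalarTower R R' M] {k : ℕ} (h : DRing.HasTorDimLE R k M) : DRing.HasTorDimLE R' k M := by
  haveI : Module.Flat R R' := IsLocalization.flat R' (Submonoid.powers f)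
  have h1 := tdle_baseChange R' h
  haveI : IsLocalizedModule (Submonoid.powers f) (LinearMap.id : M →ₗ[R] M) :=
    isLocalizedModule_id (Submonoid.powers f) M R'
  have hb : IsBaseChange R' (LinearMap.id : M →ₗ[R] M) :=
    IsLocalizedModule.isBaseChange (Submonoid.powers f) R' _
  exact tdle_of_linearEquiv hb.equiv h1

end module_level

section top_family

variable {R A : Type u} [CommRing R] [CommRing A] [Algebra R A]

/-- a jointly faithfully flat family detects exactness -/
lemma exactAt_of_family {ι : Type*} (B : ι → Type u) [∀ i, CommRing (B i)]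
    [∀ i, Algebra A (B i)] [∀ i, Module.Flat A (B i)] (h : JointlyFF A B) (W : DRing.Cx A) (i : ℤ)
    (hW : ∀ j, ((DTen.extCx (algebraMap A (B j))).obj W).ExactAt i) : W.ExactAt i := by
  rw [HomologicalComplex.exactAt_iff_isZero_homology]
  refine h.isZero _ (fun j => ?_)
  have e := (mapHCHomologyIso (extSc A (B j)) i).app W
  have := hW j
  rw [HomologicalComplex.exactAt_iff_isZero_homology] at this
  exact this.of_iso e.symm

lemma exactAt_tensor_iff_ext (B : Type u) [CommRing B] [Algebra A B] [Algebra R B]
    [IsScalarTower R A B] (F : DRing.Cx R) (P : DRing.Cx A) (i : ℤ) :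
    (F ⊗ (DTen.resCx (algebraMap R B)).obj ((DTen.extCx (algebraMap A B)).obj P)).ExactAt i ↔
      ((DTen.extCx (algebraMap A B)).obj ((DTen.extCx (algebraMap R A)).obj F ⊗ P)).ExactAt i := by
  rw [exactAt_iff_of_iso (whiskerLeftIso F
    (resCompIso (R := R) (A := A) ((DTen.extCx (algebraMap A B)).obj P))) i,
    exactAt_proj_iff (algebraMap R A), exactAt_proj_iff (algebraMap A B)]
  exact (exactAt_iff_of_iso (show (DTen.extCx (algebraMap A B)).obj
      ((DTen.extCx (algebraMap R A)).obj F ⊗ P) ≅
    ((DTen.extCx (algebraMap A B)).obj ((DTen.extCx (algebraMap R A)).obj F)) ⊗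
      ((DTen.extCx (algebraMap A B)).obj P) from
    DTen.extTenCxIso (algebraMap A B) ((DTen.extCx (algebraMap R A)).obj F) P) i).symm

/-- tor amplitude over `R` of a complex of `A`-modules can be checked on a jointly faithfully
flat family of `A`-algebras -/
theorem hasTorAmplitudeIn_res_of_family {ι : Type*} (B : ι → Type u) [∀ i, CommRing (B i)]
    [∀ i, Algebra A (B i)] [∀ i, Algebra R (B i)] [∀ i, IsScalarTower R A (B i)]
    [∀ i, Module.Flat A (B i)] (h : JointlyFF A B) (P : DRing.Cx A) (a b : ℤ)
    (hP : ∀ j, DRing.HasTorAmplitudeIn R a b (DRing.toD ((DTen.resCx (algebraMap R (B j))).obj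
      ((DTen.extCx (algebraMap A (B j))).obj P)))) :
    DRing.HasTorAmplitudeIn R a b (DRing.toD ((DTen.resCx (algebraMap R A)).obj P)) := by
  refine hasTorAmplitudeIn_of_exactAt _ a b (fun Q F hF f _ i hi => ?_)
  rw [exactAt_proj_iff (algebraMap R A)]
  refine exactAt_of_family B h _ i (fun j => ?_)
  rw [← exactAt_tensor_iff_ext]
  exact exactAt_of_hasTorAmplitudeIn _ a b (hP j) Q F hF f i hi

end top_family

section top_family_module

variable {R A : Type u} [CommRing R] [CommRing A] [Algebra R A]

open Groth.Agent.Lib.Helper8.PCL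

/-- the restriction of a complex representing `B` in degree `0` -/
noncomputable def resSingleIso (B : Type u) [CommRing B] [Algebra R B] {P : DRing.Cx B}
    (e : DRing.toD P ≅ Dual.inD B B) :
    DRing.toD ((DTen.resCx (algebraMap R B)).obj P) ≅ Dual.inD R B :=
  ((DTen.resFactors (algebraMap R B)).app P).symm ≪≫
    (DRing.restrictD (algebraMap R B)).mapIso e ≪≫
    restrictD_inD (algebraMap R B) (ModuleCat.of B B) ≪≫
    inDMapIso (resScEquiv' B).toModuleIso

/-- tor dimension of an algebra can be checked on a principal open cover of the algebra -/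
theorem tdle_of_away_family {ι : Type*} (f : ι → A) (hf : Ideal.span (Set.range f) = ⊤) (d : ℕ)
    (h : ∀ j, DRing.HasTorDimLE R d (Localization.Away (f j))) : DRing.HasTorDimLE R d A := by
  rw [tdle_iff_ta]
  refine hasTorAmplitudeIn_of_iso (resSingleIso A (toDSingleSelf A)) ?_
  refine hasTorAmplitudeIn_res_of_family (fun j => Localization.Away (f j))
    (jointlyFF_away f hf) _ _ _ (fun j => ?_)
  refine hasTorAmplitudeIn_of_iso
    (resSingleIso (Localization.Away (f j)) (extSingleSelf A (Localization.Away (f j)))).symm ?_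
  exact (tdle_iff_ta d _).1 (h j)

end top_family_module

end Groth.Agent.Lib.Helper8.PFL
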