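import Mathlib
import Groth.Prelude.Def_MoreMor
import Groth.Agent.Lib.Helper8.PFL1

/-!
# Perfect ring maps form a local property of ring homomorphisms (helper8)
-/

set_option autoImplicit false
set_option linter.style.haveILetI false
universe u
attribute [local instance] HasDerivedCategory.standard
open CategoryTheory TensorProduct

namespace Groth.Agent.Lib.Helper8.PFL

open Groth.Agent.Lib.Helper8.PCL

/-- ring maps of finite tor dimension -/
def FTD {R A : Type u} [CommRing R] [CommRing A] (φ : R →+* A) : Prop :=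
  @DRing.HasFiniteTorDim R _ A _ φ.toAlgebra.toModule

section ringhom
variable {R A B : Type u} [CommRing R] [CommRing A] [CommRing B]

theorem ftd_algebraMap [inst : Algebra R A] :
    FTD (algebraMap R A) ↔ DRing.HasFiniteTorDim R A := by
  unfold FTD
  have : (algebraMap R A).toAlgebra = inst := Algebra.algebra_ext _ _ (fun _ => rfl)
  rw [this]

theorem ftd_comp (φ : R →+* A) (ψ : A →+* B) (hφ : FTD φ) (hψ : FTD ψ) : FTD (ψ.comp φ) := by
  letI := φ.toAlgebra
  letI := ψ.toAlgebra
  letI := (ψ.comp φ).toAlgebra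
  haveI : IsScalarTower R A B := .of_algebraMap_eq' rfl
  obtain ⟨d, hd⟩ := hφ
  obtain ⟨e, he⟩ := hψ
  exact ⟨d + e, tdle_comp hd he⟩

theorem ftd_of_flat (φ : R →+* A) (h : φ.Flat) : FTD φ := by
  letI := φ.toAlgebra
  haveI : Module.Flat R A := h
  exact ⟨0, tdle_of_flat A 0⟩

theorem ftd_of_bijective (σ : A →+* B) (hσ : Function.Bijective σ) : FTD σ :=
  ftd_of_flat σ (RingHom.Flat.of_bijective hσ)

theorem ftd_away (g : A) (L : Type u) [CommRing L] [Algebra A L] [IsLocalization.Away g L] :
    FTD (algebraMap A L) :=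
  ftd_of_flat _ (by
    rw [RingHom.flat_algebraMap_iff]
    exact IsLocalization.flat L (Submonoid.powers g))

theorem ftd_base_away (f : R) (R' : Type u) [CommRing R'] [Algebra R R'] [IsLocalization.Away f R']
    (φ : R' →+* A) (h : FTD (φ.comp (algebraMap R R'))) : FTD φ := by
  letI := φ.toAlgebra
  letI := (φ.comp (algebraMap R R')).toAlgebra
  haveI : IsScalarTower R R' A := .of_algebraMap_eq' rfl
  obtain ⟨k, hk⟩ := h
  exact ⟨k, tdle_base_away f R' hk⟩

end ringhom

section local_property

theorem ftd_stableUnderComposition : RingHom.StableUnderComposition @FTD :=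
  fun _ _ _ _ _ _ f g hf hg => ftd_comp f g hf hg

theorem ftd_stableAwayTarget : RingHom.StableUnderCompositionWithLocalizationAwayTarget @FTD := by
  intro R S T _ _ _ _ s _ f hf
  exact ftd_comp f _ hf (ftd_away s T)

theorem ftd_localizationAwayPreserves : RingHom.LocalizationAwayPreserves @FTD := by
  intro R S _ _ f r R' S' _ _ _ _ _ _ hf
  apply ftd_base_away r R'
  have : (IsLocalization.Away.map R' S' f r).comp (algebraMap R R') = (algebraMap S S').comp f :=
    IsLocalization.map_comp _
  rw [this]
  exact ftd_comp f _ hf (ftd_away (f r) S')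

theorem ftd_ofLocalizationSpanTarget : RingHom.OfLocalizationSpanTarget @FTD := by
  intro R S _ _ f s hs h
  letI := f.toAlgebra
  obtain ⟨s', hs's, hs'⟩ := (Ideal.span_eq_top_iff_finite s).1 hs
  have h' : ∀ x : s', ∃ k, DRing.HasTorDimLE R k (Localization.Away (x : S)) := by
    intro x
    have h0 := h ⟨x.1, hs's x.2⟩
    unfold FTD at h0
    have heq : ((algebraMap S (Localization.Away x.1)).comp f).toAlgebra =
        (inferInstance : Algebra R (Localization.Away x.1)) := by
      apply Algebra.algebra_ext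
      intro y
      exact (IsScalarTower.algebraMap_apply R S (Localization.Away x.1) y).symm
    rw [heq] at h0
    exact h0
  choose k hk using h'
  refine ⟨Finset.univ.sup k, tdle_of_away_family (fun x : s' => (x : S)) ?_ _
    (fun x => tdle_mono (hk x) (Finset.le_sup (Finset.mem_univ x)))⟩
  have hr : (Set.range fun x : s' => (x : S)) = (s' : Set S) := Subtype.range_coe
  rw [hr]
  exact hs'

theorem ftd_ofLocalizationSpan : RingHom.OfLocalizationSpan @FTD := by
  intro R S _ _ f s hs h
  apply ftd_ofLocalizationSpanTarget f (f '' s)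
  · rw [← Ideal.map_span, hs, Ideal.map_top]
  · rintro ⟨_, r, hr, rfl⟩
    have : (algebraMap S (Localization.Away (f r))).comp f =
        (Localization.awayMap f r).comp (algebraMap R (Localization.Away r)) :=
      (IsLocalization.map_comp _).symm
    show FTD ((algebraMap S (Localization.Away (f r))).comp f)
    rw [this]
    exact ftd_comp _ _ (ftd_away r _) (h ⟨r, hr⟩)

theorem ftd_isLocal : RingHom.PropertyIsLocal @FTD where
  localizationAwayPreserves := ftd_localizationAwayPreserves
  ofLocalizationSpanTarget := ftd_ofLocalizationSpanTarget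
  ofLocalizationSpan := ftd_ofLocalizationSpan
  StableUnderCompositionWithLocalizationAwayTarget := ftd_stableAwayTarget

theorem ftd_respectsIso : RingHom.RespectsIso @FTD := ftd_isLocal.respectsIso

theorem ftd_stableAwaySource : RingHom.StableUnderCompositionWithLocalizationAwaySource @FTD := by
  intro R S T _ _ _ _ r _ f hf
  exact ftd_comp _ f (ftd_away r S) hf

theorem ftd_codescendsAlong : RingHom.CodescendsAlong @FTD RingHom.FaithfullyFlat := by
  refine .mk _ ftd_respectsIso fun R S T _ _ _ _ _ h h' => ?_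
  rw [RingHom.faithfullyFlat_algebraMap_iff] at h
  rw [ftd_algebraMap] at h' ⊢
  obtain ⟨k, hk⟩ := h'
  exact ⟨k, tdle_descent S hk⟩

end local_property

/-- perfect ring maps, ring-hom form -/
def PFH {R A : Type u} [CommRing R] [CommRing A] (φ : R →+* A) : Prop :=
  PCH φ ∧ FTD φ

theorem pfh_iff {R A : Type u} [CommRing R] [CommRing A] (φ : R →+* A) :
    PFH φ ↔ @MoreMor.IsPerfectHom R A _ _ φ.toAlgebra := Iff.rfl

theorem pfh_isLocal : RingHom.PropertyIsLocal @PFH := pch_isLocal.and ftd_isLocal

theorem pfh_stableUnderComposition : RingHom.StableUnderComposition @PFH :=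
  fun _ _ _ _ _ _ f g hf hg => ⟨pch_comp f g hf.1 hg.1, ftd_comp f g hf.2 hg.2⟩

theorem pfh_stableAwaySource : RingHom.StableUnderCompositionWithLocalizationAwaySource @PFH := by
  intro R S T _ _ _ _ r _ f hf
  exact ⟨pch_stableAwaySource S r f hf.1, ftd_stableAwaySource S r f hf.2⟩

theorem pfh_codescendsAlong : RingHom.CodescendsAlong @PFH RingHom.FaithfullyFlat :=
  pch_codescendsAlong.and ftd_codescendsAlong

/-- base change of a finite tor dimension ring map along a flat map, in pushout form -/
theorem ftd_of_isPushout {R S R' S' : CommRingCat.{u}} (φ : R ⟶ S) (ψ : R ⟶ R')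
    (inl : S ⟶ S') (inr : R' ⟶ S') (H : CategoryTheory.IsPushout φ ψ inl inr)
    (hψ : ψ.hom.Flat) (h : FTD φ.hom) : FTD inr.hom := by
  letI : Algebra R S := φ.hom.toAlgebra
  letI : Algebra R R' := ψ.hom.toAlgebra
  letI : Algebra S S' := inl.hom.toAlgebra
  letI : Algebra R' S' := inr.hom.toAlgebra
  letI : Algebra R S' := (inl.hom.comp φ.hom).toAlgebra
  haveI : IsScalarTower R S S' := IsScalarTower.of_algebraMap_eq' rfl
  haveI : IsScalarTower R R' S' := IsScalarTower.of_algebraMap_eq' (by
    show inl.hom.comp φ.hom = inr.hom.comp ψ.hom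
    rw [← CommRingCat.hom_comp, ← CommRingCat.hom_comp, H.w])
  have hP : Algebra.IsPushout R S R' S' := CommRingCat.isPushout_iff_isPushout.mp H
  have hP' : Algebra.IsPushout R R' S S' := hP.symm
  haveI : Module.Flat R R' := hψ
  let e : R' ⊗[R] S ≃ₐ[R'] S' := Algebra.IsPushout.equiv R R' S S'
  have h1 : FTD (algebraMap R' (R' ⊗[R] S)) := by
    rw [ftd_algebraMap]
    obtain ⟨k, hk⟩ := h
    exact ⟨k, tdle_baseChange R' hk⟩
  have h2 := ftd_comp _ _ h1 (ftd_of_bijective (e : R' ⊗[R] S →+* S') e.bijective)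
  have : ((e : R' ⊗[R] S →+* S')).comp (algebraMap R' (R' ⊗[R] S)) = inr.hom := by
    ext x
    exact e.commutes x
  rwa [this] at h2

theorem pfh_of_isPushout {R S R' S' : CommRingCat.{u}} (φ : R ⟶ S) (ψ : R ⟶ R')
    (inl : S ⟶ S') (inr : R' ⟶ S') (H : CategoryTheory.IsPushout φ ψ inl inr)
    (hψ : ψ.hom.Flat) (h : PFH φ.hom) : PFH inr.hom :=
  ⟨pch_of_isPushout φ ψ inl inr H hψ h.1, ftd_of_isPushout φ ψ inl inr H hψ h.2⟩

end Groth.Agent.Lib.Helper8.PFL
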