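import Groth.Agent.Lib.Helper8.FlatCx4
import Mathlib.RingTheory.Support
import Mathlib.RingTheory.Spectrum.Prime.FreeLocus
import Mathlib.LinearAlgebra.Dimension.Constructions
import Mathlib.Topology.Semicontinuity.Basic

/-!
# Fibre ranks of a complex of finite modules (helper8)

* `eOpF`: an additive functor preserving cokernels commutes with opcycles.
* `finrank_homology_add`: over a field, `dim H_p + dim K_{p-1} = dim opc_p + dim opc_{p-1}`.
* `fibreRank_eventually_le`: upper semicontinuity of `x ↦ dim_{k(x)} k(x) ⊗ N` for finite `N`.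
* `dRank_add`: `d_p(x) + fr_x(P_{p-1}) = fr_x(opc_p P) + fr_x(opc_{p-1} P)`.
-/

set_option autoImplicit false
universe u
open CategoryTheory CategoryTheory.Limits TensorProduct

namespace Groth.Agent.Lib.Helper8.FlatCx

section functor

variable {C D : Type*} [Category C] [Abelian C] [Category D] [Abelian D]
  (F : C ⥤ D) [F.Additive] [PreservesFiniteColimits F]
  {ι : Type*} {c : ComplexShape ι} (P : HomologicalComplex C c)

/-- the cokernel cofork `F(P_p) ⟶ F(P_q) ⟶ F(opcycles_q P)`. -/
noncomputable def opCoforkF (p q : ι) :
    CokernelCofork (((F.mapHomologicalComplex c).obj P).d p q) :=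
  CokernelCofork.ofπ (f := ((F.mapHomologicalComplex c).obj P).d p q) (F.map (P.pOpcycles q)) (by
    show F.map (P.d p q) ≫ F.map (P.pOpcycles q) = 0
    rw [← F.map_comp, P.d_pOpcycles, F.map_zero])

noncomputable def opCoforkFIsColimit (p q : ι) (hpq : c.prev q = p) :
    IsColimit (opCoforkF F P p q) :=
  CokernelCofork.mapIsColimit _ (P.opcyclesIsCokernel p q hpq) F

/-- `F (opcycles_q P) ≅ opcycles_q (F P)`. -/
noncomputable def eOpF (p q : ι) (hpq : c.prev q = p) :
    F.obj (P.opcycles q) ≅ ((F.mapHomologicalComplex c).obj P).opcycles q :=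
  IsColimit.coconePointUniqueUpToIso (opCoforkFIsColimit F P p q hpq)
    (((F.mapHomologicalComplex c).obj P).opcyclesIsCokernel p q hpq)

@[reassoc]
theorem p_eOpF_hom (p q : ι) (hpq : c.prev q = p) :
    F.map (P.pOpcycles q) ≫ (eOpF F P p q hpq).hom =
      ((F.mapHomologicalComplex c).obj P).pOpcycles q :=
  IsColimit.comp_coconePointUniqueUpToIso_hom (opCoforkFIsColimit F P p q hpq)
    (((F.mapHomologicalComplex c).obj P).opcyclesIsCokernel p q hpq) WalkingParallelPair.one

end functor

section field

variable {k : Type u} [Field k] (K : ChainComplex (ModuleCat.{u} k) ℤ)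

theorem finite_opcycles' (q : ℤ) [Module.Finite k (K.X q)] : Module.Finite k (K.opcycles q) :=
  Module.Finite.of_surjective (K.pOpcycles q).hom (surjective_pOpcycles K q)

/-- Over a field: `dim H_p + dim K_{p-1} = dim opc_p + dim opc_{p-1}`. -/
theorem finrank_homology_add (p : ℤ) [Module.Finite k (K.X p)] [Module.Finite k (K.X (p - 1))] :
    Module.finrank k (K.homology p) + Module.finrank k (K.X (p - 1)) =
      Module.finrank k (K.opcycles p) + Module.finrank k (K.opcycles (p - 1)) := by
  have := finite_opcycles' K p
  have := finite_opcycles' K (p - 1)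
  have h1 := LinearMap.finrank_range_add_finrank_ker (K.fromOpcycles p (p - 1)).hom
  have h2 := LinearMap.finrank_range_add_finrank_ker (K.pOpcycles (p - 1)).hom
  have h3 : LinearMap.range (K.pOpcycles (p - 1)).hom = ⊤ :=
    LinearMap.range_eq_top.mpr (surjective_pOpcycles K (p - 1))
  have h4 : LinearMap.ker (K.pOpcycles (p - 1)).hom = LinearMap.range (K.fromOpcycles p (p - 1)).hom :=
    LinearMap.exact_iff.mp (exact_fromOpcycles_pOpcycles K p)
  have h5 := (homologyEquivKer K p).finrank_eq
  rw [h3, finrank_top, h4] at h2
  omega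

end field

section bridge

set_option backward.isDefEq.respectTransparency false in
/-- `extendScalars φ` is the tensor product for the algebra structure `φ.toAlgebra`. -/
noncomputable def extendScalarsEquivAux {A B : Type u} [CommRing A] [CommRing B] (φ : A →+* B)
    (N : ModuleCat.{u} A) :
    (ModuleCat.extendScalars φ).obj N ≃ₗ[B] @TensorProduct A _ B N _ _ φ.toAlgebra.toModule _ :=
  letI := φ.toAlgebra
  { toFun := fun x => x
    invFun := fun x => x
    map_add' := fun _ _ => rfl
    map_smul' := fun _ _ => rfl
    left_inv := fun _ => rfl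
    right_inv := fun _ => rfl }

theorem nonempty_extendScalarsEquiv' {A B : Type u} [CommRing A] [CommRing B] (φ : A →+* B)
    (inst : Algebra A B) (h : @algebraMap A B _ _ inst = φ) (N : ModuleCat.{u} A) :
    Nonempty ((ModuleCat.extendScalars φ).obj N ≃ₗ[B]
      @TensorProduct A _ B N _ _ inst.toModule _) := by
  have : inst = φ.toAlgebra := Algebra.algebra_ext _ _ (fun r => by rw [h]; rfl)
  subst this
  exact ⟨extendScalarsEquivAux φ N⟩

theorem nonempty_extendScalarsEquiv {A B : Type u} [CommRing A] [CommRing B] [Algebra A B]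
    (N : ModuleCat.{u} A) :
    Nonempty ((ModuleCat.extendScalars (algebraMap A B)).obj N ≃ₗ[B] B ⊗[A] N) :=
  nonempty_extendScalarsEquiv' (algebraMap A B) _ rfl N

theorem finrank_extendScalars {A B : Type u} [CommRing A] [CommRing B] [Algebra A B]
    (N : ModuleCat.{u} A) :
    Module.finrank B ((ModuleCat.extendScalars (algebraMap A B)).obj N) =
      Module.finrank B (B ⊗[A] N) :=
  (nonempty_extendScalarsEquiv N).some.finrank_eq

theorem finite_extendScalars {A B : Type u} [CommRing A] [CommRing B] [Algebra A B]
    (N : ModuleCat.{u} A) [Module.Finite A N] :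
    Module.Finite B ((ModuleCat.extendScalars (algebraMap A B)).obj N) :=
  Module.Finite.equiv (nonempty_extendScalarsEquiv N).some.symm

end bridge

section usc

variable {A : Type u} [CommRing A]

/-- the dimension of the fibre of a module at a point of the spectrum. -/
noncomputable def fibreRank (N : Type u) [AddCommGroup N] [Module A N] (x : PrimeSpectrum A) : ℕ :=
  Module.finrank x.asIdeal.ResidueField (x.asIdeal.ResidueField ⊗[A] N)

theorem fibreRank_eventually_le (N : Type u) [AddCommGroup N] [Module A N]
    [Module.Finite A N] (x : PrimeSpectrum A) :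
    ∀ᶠ y in nhds x, fibreRank N y ≤ fibreRank N x := by
  classical
  unfold fibreRank
  have : Nontrivial A :=
    ⟨⟨0, 1, fun h => x.isPrime.ne_top ((Ideal.eq_top_iff_one _).mpr (h ▸ zero_mem _))⟩⟩
  set k := x.asIdeal.ResidueField with hk
  let S : Set (k ⊗[A] N) := Set.range (fun m : N => (1 : k) ⊗ₜ[A] m)
  have hS : Submodule.span k S = ⊤ := by
    rw [eq_top_iff]; rintro z -
    induction z using TensorProduct.induction_on with
    | zero => exact zero_mem _
    | tmul a m =>
      have : a ⊗ₜ[A] m = a • ((1 : k) ⊗ₜ[A] m) := by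
        rw [TensorProduct.smul_tmul', smul_eq_mul, mul_one]
      rw [this]; exact Submodule.smul_mem _ _ (Submodule.subset_span ⟨m, rfl⟩)
    | add a b ha hb => exact add_mem ha hb
  obtain ⟨b, hbS, hbspan, hbli⟩ := exists_linearIndependent k S
  let B : Module.Basis b k (k ⊗[A] N) :=
    Module.Basis.mk hbli (by rw [Subtype.range_coe, hbspan, hS])
  have hfin : Finite b := Module.Finite.finite_basis B
  have : Fintype b := Fintype.ofFinite b
  have hcard : Module.finrank k (k ⊗[A] N) = Fintype.card b := Module.finrank_eq_card_basis B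
  choose f hf using fun i : b => hbS i.2
  let g : (b →₀ A) →ₗ[A] N := Finsupp.linearCombination A f
  let C := N ⧸ LinearMap.range g
  have hex : Function.Exact g (LinearMap.range g).mkQ := LinearMap.exact_map_mkQ_range g
  have hsurj : Function.Surjective (LinearMap.range g).mkQ := Submodule.mkQ_surjective _
  have key : ∀ y : PrimeSpectrum A, y ∉ Module.support A C →
      Module.finrank y.asIdeal.ResidueField (y.asIdeal.ResidueField ⊗[A] N) ≤ Fintype.card b := by
    intro y hy
    rw [Module.mem_support_iff_nontrivial_residueField_tensorProduct,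
      not_nontrivial_iff_subsingleton] at hy
    have hex' := lTensor_exact y.asIdeal.ResidueField hex hsurj
    have hs : Function.Surjective (LinearMap.baseChange y.asIdeal.ResidueField g) := by
      intro w
      have : (LinearMap.range g).mkQ.lTensor y.asIdeal.ResidueField w = 0 := Subsingleton.elim _ _
      obtain ⟨v, hv⟩ := (hex' w).mp this
      exact ⟨v, hv⟩
    have h1 : Module.finrank y.asIdeal.ResidueField (y.asIdeal.ResidueField ⊗[A] (b →₀ A)) =
        Fintype.card b := by
      rw [Module.finrank_baseChange, Module.finrank_finsupp_self]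
    have := LinearMap.finrank_le_finrank_of_surjective hs
    rwa [h1] at this
  have hx : x ∉ Module.support A C := by
    rw [Module.mem_support_iff_nontrivial_residueField_tensorProduct,
      not_nontrivial_iff_subsingleton]
    have hex' := lTensor_exact k hex hsurj
    have hs : LinearMap.range (LinearMap.baseChange k g) = ⊤ := by
      rw [eq_top_iff, ← B.span_eq, Submodule.span_le]
      rintro _ ⟨i, rfl⟩
      refine ⟨(1 : k) ⊗ₜ[A] Finsupp.single i 1, ?_⟩
      rw [LinearMap.baseChange_tmul]
      simp only [g, Finsupp.linearCombination_single, one_smul, B, Module.Basis.mk_apply]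
      exact hf i
    refine ⟨fun a c => ?_⟩
    have h0 : ∀ z : k ⊗[A] C, z = 0 := by
      intro z
      obtain ⟨w, rfl⟩ := LinearMap.lTensor_surjective k hsurj z
      have hw : w ∈ LinearMap.range (LinearMap.baseChange k g) := hs ▸ Submodule.mem_top
      obtain ⟨v, rfl⟩ := hw
      exact (hex' _).mpr ⟨v, rfl⟩
    rw [h0 a, h0 c]
  have hopen : IsOpen (Module.support A C)ᶜ := by
    rw [Module.support_eq_zeroLocus]
    exact (PrimeSpectrum.isClosed_zeroLocus _).isOpen_compl
  filter_upwards [hopen.mem_nhds hx] with y hy
  rw [hcard]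
  exact key y hy

/-- for a finite projective module the fibre rank is locally constant. -/
theorem fibreRank_eq_rankAtStalk (N : Type u) [AddCommGroup N] [Module A N]
    [Module.Finite A N] [Module.Flat A N] (x : PrimeSpectrum A) :
    fibreRank N x = Module.rankAtStalk N x :=
  (Module.rankAtStalk_eq x).symm

theorem fibreRank_eventually_eq (N : Type u) [AddCommGroup N] [Module A N]
    [Module.FinitePresentation A N] [Module.Flat A N] (x : PrimeSpectrum A) :
    ∀ᶠ y in nhds x, fibreRank N y = fibreRank N x := by
  have h := (Module.isLocallyConstant_rankAtStalk (R := A) (M := N)).eventually_eq x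
  filter_upwards [h] with y hy
  rw [fibreRank_eq_rankAtStalk, fibreRank_eq_rankAtStalk, hy]

end usc

section dRank

variable {A : Type u} [CommRing A] (P : ChainComplex (ModuleCat.{u} A) ℤ)

theorem finrank_bcCx_X (x : PrimeSpectrum A) (q : ℤ) :
    Module.finrank x.asIdeal.ResidueField
      ((CohIII.bcCx (algebraMap A x.asIdeal.ResidueField) P).X q) = fibreRank (P.X q) x :=
  finrank_extendScalars (P.X q)

theorem finrank_bcCx_opcycles (x : PrimeSpectrum A) (q : ℤ) :
    Module.finrank x.asIdeal.ResidueField
      ((CohIII.bcCx (algebraMap A x.asIdeal.ResidueField) P).opcycles q) =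
      fibreRank (P.opcycles q) x := by
  have e := (eOpF (ModuleCat.extendScalars (algebraMap A x.asIdeal.ResidueField)) P (q + 1) q
    (prev_down q)).toLinearEquiv
  rw [← e.finrank_eq]
  exact finrank_extendScalars (P.opcycles q)

/-- the basic formula for the rank function of a complex of finite modules. -/
theorem dRank_add (hP : ∀ i, Module.Finite A (P.X i)) (p : ℤ) (x : PrimeSpectrum A) :
    CohIII.dRank P p x + fibreRank (P.X (p - 1)) x =
      fibreRank (P.opcycles p) x + fibreRank (P.opcycles (p - 1)) x := by
  have := hP p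
  have := hP (p - 1)
  have h1 : Module.Finite x.asIdeal.ResidueField
      ((CohIII.bcCx (algebraMap A x.asIdeal.ResidueField) P).X p) :=
    finite_extendScalars (P.X p)
  have h2 : Module.Finite x.asIdeal.ResidueField
      ((CohIII.bcCx (algebraMap A x.asIdeal.ResidueField) P).X (p - 1)) :=
    finite_extendScalars (P.X (p - 1))
  have h := finrank_homology_add (CohIII.bcCx (algebraMap A x.asIdeal.ResidueField) P) p
  rw [finrank_bcCx_X, finrank_bcCx_opcycles, finrank_bcCx_opcycles] at h
  exact h

end dRank

end Groth.Agent.Lib.Helper8.FlatCx
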