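import Groth.Prelude.Def_ega3
import Mathlib.RingTheory.Flat.CategoryTheory
import Mathlib.Algebra.Homology.HomologySequence
import Mathlib.Algebra.Homology.HomologicalComplexAbelian
import Mathlib.Algebra.Category.ModuleCat.Monoidal.Closed

/-!
# The functors `T_p(M) = H_p(P ⊗ M)` (helper library, helper8)
-/

set_option autoImplicit false
universe u
open CategoryTheory CategoryTheory.Limits MonoidalCategory

namespace Groth.Agent.Lib.Helper8.FlatCx

variable {A : Type u} [CommRing A] {ι : Type} {c : ComplexShape ι}
  (P : HomologicalComplex (ModuleCat.{u} A) c)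

theorem tensorMap_f {M N : ModuleCat.{u} A} (g : M ⟶ N) (i : ι) :
    (CohIII.tensorMap P g).f i = P.X i ◁ g := rfl

theorem tensorMap_comp {M N L : ModuleCat.{u} A} (g : M ⟶ N) (h : N ⟶ L) :
    CohIII.tensorMap P (g ≫ h) = CohIII.tensorMap P g ≫ CohIII.tensorMap P h := by
  ext i : 1
  simp only [tensorMap_f, HomologicalComplex.comp_f]
  exact MonoidalCategory.whiskerLeft_comp _ _ _

theorem tensorMap_zero {M N : ModuleCat.{u} A} :
    CohIII.tensorMap P (0 : M ⟶ N) = 0 := by
  ext i : 1
  simp only [tensorMap_f, HomologicalComplex.zero_f]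
  exact MonoidalPreadditive.whiskerLeft_zero

/-- The short complex of complexes `P ⊗ S`. -/
noncomputable def tensorSC (S : ShortComplex (ModuleCat.{u} A)) :
    ShortComplex (HomologicalComplex (ModuleCat.{u} A) c) :=
  ShortComplex.mk (CohIII.tensorMap P S.f) (CohIII.tensorMap P S.g) (by
    rw [← tensorMap_comp, S.zero, tensorMap_zero])

theorem tensorSC_shortExact (hP : ∀ i, Module.Flat A (P.X i)) {S : ShortComplex (ModuleCat.{u} A)}
    (hS : S.ShortExact) : (tensorSC P S).ShortExact := by
  apply HomologicalComplex.shortExact_of_degreewise_shortExact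
  intro i
  have := hP i
  exact hS.map_of_exact (tensorLeft (P.X i))

theorem TFun_map {M N : ModuleCat.{u} A} (g : M ⟶ N) (p : ι) :
    (CohIII.TFun P p).map g = HomologicalComplex.homologyMap (CohIII.tensorMap P g) p := rfl

end Groth.Agent.Lib.Helper8.FlatCx
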