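import Groth.Agent.Lib.Helper8.FlatCx2
import Groth.Agent.S2406
import Mathlib.Algebra.Homology.ShortComplex.ModuleCat
import Mathlib.Algebra.Module.FinitePresentation

/-!
# Structure of `T_p(M) = H_p(P ⊗ M)` over a Noetherian local ring (helper library, helper8)
-/

set_option autoImplicit false
universe u
open CategoryTheory CategoryTheory.Limits MonoidalCategory

namespace Groth.Agent.Lib.Helper8.FlatCx

variable {A : Type u} [CommRing A] (P : ChainComplex (ModuleCat.{u} A) ℤ)

theorem prev_down (q : ℤ) : (ComplexShape.down ℤ).prev q = q + 1 :=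
  (ComplexShape.down ℤ).prev_eq' (by simp)

theorem next_down (q : ℤ) : (ComplexShape.down ℤ).next q = q - 1 :=
  (ComplexShape.down ℤ).next_eq' (by simp)

theorem opcyclesMap_eq {M N : ModuleCat.{u} A} (g : M ⟶ N) (q : ℤ) :
    HomologicalComplex.opcyclesMap (CohIII.tensorMap P g) q =
      (eOp P M (q + 1) q (prev_down q)).inv ≫ (P.opcycles q ◁ g) ≫
        (eOp P N (q + 1) q (prev_down q)).hom := by
  rw [eOp_hom_naturality, Iso.inv_hom_id_assoc]

theorem whiskerLeft_eq {M N : ModuleCat.{u} A} (g : M ⟶ N) (q : ℤ) :
    P.opcycles q ◁ g =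
      (eOp P M (q + 1) q (prev_down q)).hom ≫ HomologicalComplex.opcyclesMap (CohIII.tensorMap P g) q ≫
        (eOp P N (q + 1) q (prev_down q)).inv := by
  rw [← eOp_hom_naturality_assoc, Iso.hom_inv_id, Category.comp_id]

/-- If the opcycles in degree `q` are flat, `T_q` preserves monomorphisms. -/
theorem preservesMono_of_flat_opcycles (q : ℤ) [Module.Flat A (P.opcycles q)] :
    (CohIII.TFun P q).PreservesMonomorphisms := by
  constructor
  intro M N g hg
  rw [TFun_map]
  have h1 : Mono (P.opcycles q ◁ g) := (tensorLeft (P.opcycles q)).map_mono g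
  have h2 : Mono (HomologicalComplex.opcyclesMap (CohIII.tensorMap P g) q) := by
    rw [opcyclesMap_eq]
    infer_instance
  exact mono_homologyMap_of_mono_opcyclesMap _ q

theorem finite_opcycles (hP : ∀ i, Module.Finite A (P.X i)) (q : ℤ) :
    Module.Finite A (P.opcycles q) := by
  have := hP q
  exact Module.Finite.of_surjective (P.pOpcycles q).hom
    ((ModuleCat.epi_iff_surjective _).mp inferInstance)

variable [IsLocalRing A] [IsNoetherianRing A]

/-- If `T_q(𝔪) → T_q(A)` is a monomorphism then the opcycles in degree `q` are free. -/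
theorem free_opcycles_of_mono (hP : ∀ i, Module.Finite A (P.X i) ∧ Module.Flat A (P.X i)) (q : ℤ)
    (I : Ideal A) (hI : I = IsLocalRing.maximalIdeal A)
    (h : Mono ((CohIII.TFun P q).map
      (ModuleCat.ofHom I.subtype : ModuleCat.of A I ⟶ ModuleCat.of A A))) :
    Module.Free A (P.opcycles q) := by
  subst hI
  set i : ModuleCat.of A (IsLocalRing.maximalIdeal A) ⟶ ModuleCat.of A A :=
    ModuleCat.ofHom (IsLocalRing.maximalIdeal A).subtype with hi
  have hmi : Mono i := (ModuleCat.mono_iff_injective _).mpr Subtype.val_injective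
  rw [TFun_map] at h
  have hflat := (hP (q - 1)).2
  have h1 : Mono ((CohIII.tensorMap P i).f (q - 1)) := by
    rw [tensorMap_f]
    exact (tensorLeft (P.X (q - 1))).map_mono i
  have h0 : Mono (HomologicalComplex.homologyMap (CohIII.tensorMap P i) q) := h
  have h2 := mono_opcyclesMap (CohIII.tensorMap P i) q (q - 1) (next_down q)
  have h3 : Mono (P.opcycles q ◁ i) := by
    rw [whiskerLeft_eq]
    infer_instance
  have h4 : Function.Injective
      (LinearMap.lTensor (P.opcycles q) (IsLocalRing.maximalIdeal A).subtype) := by
    have := (ModuleCat.mono_iff_injective _).mp h3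
    rw [ModuleCat.MonoidalCategory.whiskerLeft_def] at this
    exact this
  have h5 : Function.Injective
      ((IsLocalRing.maximalIdeal A).subtype.rTensor (P.opcycles q)) :=
    (LinearMap.lTensor_inj_iff_rTensor_inj _ _).mp h4
  have hfin : Module.Finite A (P.opcycles q) := finite_opcycles P (fun i => (hP i).1) q
  have hfp : Module.FinitePresentation A (P.opcycles q) := Module.finitePresentation_of_finite A _
  exact Module.free_of_maximalIdeal_rTensor_injective h5

/-- The residue map as a morphism of modules. -/
noncomputable abbrev resMap (A : Type u) [CommRing A] [IsLocalRing A] :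
    ModuleCat.of A A ⟶ ModuleCat.of A (IsLocalRing.ResidueField A) :=
  ModuleCat.ofHom (Algebra.linearMap A (IsLocalRing.ResidueField A))

theorem free_opcycles_of_surjective (hP : ∀ i, Module.Finite A (P.X i) ∧ Module.Flat A (P.X i))
    (p q : ℤ) (hpq : q + 1 = p)
    (h : Function.Surjective ((CohIII.TFun P p).map (resMap A)).hom) :
    Module.Free A (P.opcycles q) := by
  have hrel : (ComplexShape.down ℤ).Rel p q := by simp [hpq]
  have hsurj : Function.Surjective (Algebra.linearMap A (IsLocalRing.ResidueField A)) :=
    IsLocalRing.residue_surjective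
  have hS := LinearMap.shortExact_shortComplexKer hsurj
  set S := (Algebra.linearMap A (IsLocalRing.ResidueField A)).shortComplexKer with hSdef
  have hT := tensorSC_shortExact P (fun i => (hP i).2) hS
  have hepi : Epi ((CohIII.TFun P p).map S.g) := (ModuleCat.epi_iff_surjective _).mpr h
  rw [TFun_map] at hepi
  have hepi' : Epi (HomologicalComplex.homologyMap (tensorSC P S).g p) := hepi
  have hδ : hT.δ p q hrel = 0 := by
    have := hT.comp_δ p q hrel
    rw [← cancel_epi (HomologicalComplex.homologyMap (tensorSC P S).g p), this,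
      Limits.comp_zero]
  have hmono : Mono (HomologicalComplex.homologyMap (tensorSC P S).f q) :=
    (hT.homology_exact₁ p q hrel).mono_g hδ
  refine free_opcycles_of_mono P hP q (LinearMap.ker (Algebra.linearMap A (IsLocalRing.ResidueField A))) ?_ ?_
  · ext x
    simp only [LinearMap.mem_ker, Algebra.linearMap_apply]
    exact IsLocalRing.residue_eq_zero_iff x
  · rw [TFun_map]
    exact hmono

theorem surjective_iff_preservesEpi (hP : ∀ i, Module.Finite A (P.X i) ∧ Module.Flat A (P.X i))
    (p : ℤ) :
    Function.Surjective ((CohIII.TFun P p).map (resMap A)).hom ↔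
      (CohIII.TFun P p).PreservesEpimorphisms := by
  constructor
  · intro h
    have hfree := free_opcycles_of_surjective P hP p (p - 1) (by ring) h
    have := preservesMono_of_flat_opcycles P (p - 1)
    exact (Groth.Agent.S2406.result P (fun i => (hP i).2) p (p - 1) (by ring)).mpr this
  · intro h
    have hsurj : Function.Surjective (Algebra.linearMap A (IsLocalRing.ResidueField A)) :=
      IsLocalRing.residue_surjective
    have hepi : Epi (resMap A) := (ModuleCat.epi_iff_surjective _).mpr hsurj
    exact (ModuleCat.epi_iff_surjective _).mp (h.preserves (resMap A))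

theorem free_opcycles_of_preservesEpi (hP : ∀ i, Module.Finite A (P.X i) ∧ Module.Flat A (P.X i))
    (p q : ℤ) (hpq : q + 1 = p) (h : (CohIII.TFun P p).PreservesEpimorphisms) :
    Module.Free A (P.opcycles q) :=
  free_opcycles_of_surjective P hP p q hpq ((surjective_iff_preservesEpi P hP p).mpr h)

end Groth.Agent.Lib.Helper8.FlatCx
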