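import Groth.Prelude.Def_MoreMor
import Mathlib.AlgebraicGeometry.IdealSheaf.Subscheme
import Mathlib.AlgebraicGeometry.Morphisms.Immersion
import Mathlib.AlgebraicGeometry.Morphisms.Affine
import Mathlib.AlgebraicGeometry.Morphisms.QuasiSeparated

/-!
# Finite affine stratifications of quasi-compact quasi-separated schemes (helper8)

`Chain Q A C`: a finite chain of closed sets from `A` up to `C` whose successive differences
satisfy `Q`.  `Good X T`: `T` is the range of an affine immersion from an affine scheme.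
-/

set_option autoImplicit false
set_option maxHeartbeats 400000
universe u

namespace Groth.Agent.Lib.Helper8.AffStrat

open AlgebraicGeometry CategoryTheory TopologicalSpace

section Chain

variable {α : Type*} [TopologicalSpace α]

/-- A finite chain of closed sets from `A` to `C` with successive differences satisfying `Q`. -/
inductive Chain (Q : Set α → Prop) : Set α → Set α → Prop
  | refl (A : Set α) : Chain Q A A
  | step {A B C : Set α} : Chain Q A B → B ⊆ C → IsClosed C → Q (C \ B) → Chain Q A C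

variable {Q Q' : Set α → Prop} {A B C : Set α}

theorem Chain.trans (h1 : Chain Q A B) (h2 : Chain Q B C) : Chain Q A C := by
  induction h2 with
  | refl => exact h1
  | step _ hsub hcl hq ih => exact Chain.step ih hsub hcl hq

theorem Chain.mono (h : ∀ T, Q T → Q' T) (h1 : Chain Q A B) : Chain Q' A B := by
  induction h1 with
  | refl => exact Chain.refl _
  | step _ hsub hcl hq ih => exact Chain.step ih hsub hcl (h _ hq)

theorem Chain.subset (h1 : Chain Q A B) : A ⊆ B := by
  induction h1 with
  | refl => exact subset_rfl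
  | step _ hsub _ _ ih => exact ih.trans hsub

theorem Chain.isClosed (hA : IsClosed A) (h1 : Chain Q A B) : IsClosed B := by
  induction h1 with
  | refl => exact hA
  | step _ _ hcl _ _ => exact hcl

/-- A chain yields an `ℕ`-indexed sequence. -/
theorem Chain.exists_seq (h1 : Chain Q A C) :
    ∃ (n : ℕ) (D : ℕ → Set α), D 0 = A ∧ D n = C ∧
      ∀ i < n, D i ⊆ D (i + 1) ∧ IsClosed (D (i + 1)) ∧ Q (D (i + 1) \ D i) := by
  induction h1 with
  | refl => exact ⟨0, fun _ => A, rfl, rfl, fun i hi => absurd hi (Nat.not_lt_zero _)⟩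
  | @step B C _ hsub hcl hq ih =>
    obtain ⟨n, D, h0, hn, hD⟩ := ih
    refine ⟨n + 1, fun i => if i ≤ n then D i else C, by simp [h0], by simp, ?_⟩
    intro i hi
    by_cases hin : i < n
    · have h1 : i ≤ n := hin.le
      have h2 : i + 1 ≤ n := hin
      simp only [h1, h2, if_true]
      exact hD i hin
    · have h1 : i = n := by omega
      subst h1
      simp only [le_refl, if_true, Nat.add_one_le_iff, lt_irrefl, if_false, hn]
      exact ⟨hsub, hcl, hq⟩

end Chain

section Good

/-- `T` is the range of an affine immersion from an affine scheme. -/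
def Good (X : Scheme.{u}) (T : Set X) : Prop :=
  ∃ (Z : Scheme.{u}) (ι : Z ⟶ X), IsImmersion ι ∧ IsAffine Z ∧ IsAffineHom ι ∧ Set.range ι = T

theorem good_empty (X : Scheme.{u}) : Good X (∅ : Set X) := by
  refine ⟨(⊥ : X.Opens).toScheme, (⊥ : X.Opens).ι, inferInstance, isAffineOpen_bot X, ?_, ?_⟩
  · refine ⟨fun U _ => ?_⟩
    have : (⊥ : X.Opens).ι ⁻¹ᵁ U = ⊥ := by
      ext x
      exact x.2.elim
    rw [this]
    exact isAffineOpen_bot _
  · simp

/-- The image of (closed set) ∩ (basic open) under an affine immersion from an affine scheme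
is good. -/
theorem good_image {X Z : Scheme.{u}} (ι : Z ⟶ X) [IsImmersion ι] [IsAffine Z] [IsAffineHom ι]
    (F : Set Z) (hF : IsClosed F) (g : Γ(Z, ⊤)) :
    Good X (ι '' (F ∩ (Z.basicOpen g : Set Z))) := by
  have hD : IsAffine (Z.basicOpen g).toScheme := (isAffineOpen_top Z).basicOpen g
  let C : TopologicalSpace.Closeds (Z.basicOpen g).toScheme :=
    ⟨(Z.basicOpen g).ι ⁻¹' F, hF.preimage (Z.basicOpen g).ι.continuous⟩
  let I := Scheme.IdealSheafData.vanishingIdeal C
  refine ⟨I.subscheme, I.subschemeι ≫ (Z.basicOpen g).ι ≫ ι, inferInstance, ?_, inferInstance, ?_⟩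
  · exact isAffine_of_isAffineHom I.subschemeι
  · rw [Scheme.Hom.comp_base, TopCat.coe_comp, Set.range_comp, Scheme.IdealSheafData.range_subschemeι,
      Scheme.IdealSheafData.coe_support_vanishingIdeal, Scheme.Hom.comp_base, TopCat.coe_comp,
      Set.image_comp]
    congr 1
    ext z
    simp only [Set.mem_image, Set.mem_inter_iff, SetLike.mem_coe]
    constructor
    · rintro ⟨y, hy, rfl⟩
      exact ⟨hy, y.2⟩
    · rintro ⟨hzF, hzg⟩
      exact ⟨⟨z, hzg⟩, hzF, rfl⟩

end Good

section Refine

/-- A good stratum that is either contained in or disjoint from the open `V`. -/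
def GoodV {X : Scheme.{u}} (V : X.Opens) (T : Set X) : Prop :=
  Good X T ∧ (T ⊆ (V : Set X) ∨ Disjoint T (V : Set X))

theorem isClosed_union_image {X Z : Scheme.{u}} (ι : Z ⟶ X) [IsImmersion ι]
    {B C : Set X} (hB : IsClosed B) (hC : IsClosed C) (hBC : B ⊆ C) (hr : Set.range ι = C \ B)
    {F : Set Z} (hF : IsClosed F) : IsClosed (B ∪ ι '' F) := by
  obtain ⟨K, hK, rfl⟩ := ι.isEmbedding.isInducing.isClosed_iff.mp hF
  have : B ∪ ι '' (ι ⁻¹' K) = B ∪ (K ∩ C) := by
    rw [Set.image_preimage_eq_inter_range, hr]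
    ext x
    simp only [Set.mem_union, Set.mem_inter_iff, Set.mem_diff]
    constructor
    · rintro (h | ⟨h1, h2, -⟩)
      · exact Or.inl h
      · exact Or.inr ⟨h1, h2⟩
    · rintro (h | ⟨h1, h2⟩)
      · exact Or.inl h
      · by_cases hx : x ∈ B
        · exact Or.inl hx
        · exact Or.inr ⟨h1, h2, hx⟩
  rw [this]
  exact hB.union (hK.inter hC)

theorem refine_aux {X Z : Scheme.{u}} (ι : Z ⟶ X) [IsImmersion ι] [IsAffine Z] [IsAffineHom ι]
    (V : X.Opens) {B C : Set X} (hB : IsClosed B) (hC : IsClosed C) (hBC : B ⊆ C)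
    (hr : Set.range ι = C \ B) (s : Finset Γ(Z, ⊤))
    (hs : ∀ g ∈ s, (Z.basicOpen g : Set Z) ⊆ ι ⁻¹' (V : Set X)) :
    ∀ F : Set Z, IsClosed F →
      Chain (GoodV V) (B ∪ ι '' (F \ ⋃ g ∈ s, (Z.basicOpen g : Set Z))) (B ∪ ι '' F) := by
  classical
  induction s using Finset.induction_on with
  | empty =>
    intro F _
    simp only [Finset.notMem_empty, Set.iUnion_of_empty, Set.iUnion_empty, Set.diff_empty]
    exact Chain.refl _
  | insert g s hg ih =>
    intro F hF
    have hF' : IsClosed (F \ (Z.basicOpen g : Set Z)) := hF.sdiff (Z.basicOpen g).isOpen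
    have h1 := ih (fun g' hg' => hs g' (Finset.mem_insert_of_mem hg')) _ hF'
    have e : (F \ (Z.basicOpen g : Set Z)) \ ⋃ g' ∈ s, (Z.basicOpen g' : Set Z) =
        F \ ⋃ g' ∈ insert g s, (Z.basicOpen g' : Set Z) := by
      rw [Finset.set_biUnion_insert, Set.diff_diff]
    rw [e] at h1
    have hinj : Function.Injective ι := ι.isEmbedding.injective
    have hstr : (B ∪ ι '' F) \ (B ∪ ι '' (F \ (Z.basicOpen g : Set Z))) =
        ι '' (F ∩ (Z.basicOpen g : Set Z)) := by
      ext x
      simp only [Set.mem_diff, Set.mem_union, Set.mem_image, Set.mem_inter_iff, not_or]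
      constructor
      · rintro ⟨h | ⟨z, hz, rfl⟩, h2, h3⟩
        · exact absurd h h2
        · refine ⟨z, ⟨hz, ?_⟩, rfl⟩
          by_contra hzg
          exact h3 ⟨z, ⟨hz, hzg⟩, rfl⟩
      · rintro ⟨z, ⟨hz, hzg⟩, rfl⟩
        refine ⟨Or.inr ⟨z, hz, rfl⟩, ?_, ?_⟩
        · have : ι z ∈ C \ B := hr ▸ Set.mem_range_self z
          exact this.2
        · rintro ⟨z', ⟨_, hz'g⟩, hzz'⟩
          exact hz'g (hinj hzz' ▸ hzg)
    refine Chain.step h1 ?_ (isClosed_union_image ι hB hC hBC hr hF) ⟨?_, Or.inl ?_⟩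
    · exact Set.union_subset_union_right _ (Set.image_mono Set.diff_subset)
    · rw [hstr]
      exact good_image ι F hF g
    · rw [hstr]
      rintro _ ⟨z, ⟨_, hzg⟩, rfl⟩
      exact hs g (Finset.mem_insert_self g s) hzg

theorem refine_step {X Z : Scheme.{u}} (ι : Z ⟶ X) [IsImmersion ι] [IsAffine Z] [IsAffineHom ι]
    (V : X.Opens) (hV : IsCompact (V : Set X)) {B C : Set X} (hB : IsClosed B) (hC : IsClosed C)
    (hBC : B ⊆ C) (hr : Set.range ι = C \ B) : Chain (GoodV V) B C := by
  classical
  have hcomp : IsCompact (ι ⁻¹' (V : Set X)) ∧ IsOpen (ι ⁻¹' (V : Set X)) :=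
    ⟨QuasiCompact.isCompact_preimage _ V.isOpen hV, V.isOpen.preimage ι.continuous⟩
  obtain ⟨s, hs, e⟩ := isCompact_and_isOpen_iff_finite_and_eq_biUnion_basicOpen.mp hcomp
  have hsV : ∀ g ∈ hs.toFinset, (Z.basicOpen g : Set Z) ⊆ ι ⁻¹' (V : Set X) := by
    intro g hg
    rw [e]
    exact Set.subset_biUnion_of_mem (u := fun i => (Z.basicOpen i : Set Z)) (hs.mem_toFinset.mp hg)
  have hU : (⋃ g ∈ hs.toFinset, (Z.basicOpen g : Set Z)) = ι ⁻¹' (V : Set X) := by
    rw [e]
    ext z
    simp
  have h2 := refine_aux ι V hB hC hBC hr hs.toFinset hsV Set.univ isClosed_univ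
  rw [hU] at h2
  have hclosed : IsClosed (Set.univ \ ι ⁻¹' (V : Set X)) :=
    isClosed_univ.sdiff hcomp.2
  have h1 : Chain (GoodV V) B (B ∪ ι '' (Set.univ \ ι ⁻¹' (V : Set X))) := by
    refine Chain.step (Chain.refl B) Set.subset_union_left
      (isClosed_union_image ι hB hC hBC hr hclosed) ⟨?_, Or.inr ?_⟩
    · have : (B ∪ ι '' (Set.univ \ ι ⁻¹' (V : Set X))) \ B =
          ι '' ((Set.univ \ ι ⁻¹' (V : Set X)) ∩ (Z.basicOpen (1 : Γ(Z, ⊤)) : Set Z)) := by
        rw [Scheme.basicOpen_one]
        ext x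
        simp only [Set.mem_diff, Set.mem_union, Set.mem_image, Set.mem_univ, true_and,
          Set.mem_preimage, SetLike.mem_coe, Set.mem_inter_iff, TopologicalSpace.Opens.coe_top,
          and_true]
        constructor
        · rintro ⟨h | h, h2⟩
          · exact absurd h h2
          · exact h
        · rintro ⟨z, hz, rfl⟩
          refine ⟨Or.inr ⟨z, hz, rfl⟩, ?_⟩
          have : ι z ∈ C \ B := hr ▸ Set.mem_range_self z
          exact this.2
      rw [this]
      exact good_image ι _ hclosed 1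
    · rw [Set.disjoint_left]
      rintro x ⟨h, hxB⟩ hxV
      rcases h with h | ⟨z, hz, rfl⟩
      · exact hxB h
      · exact hz.2 hxV
  have h3 : B ∪ ι '' Set.univ = C := by
    rw [Set.image_univ, hr, Set.union_diff_cancel hBC]
  rw [h3] at h2
  exact h1.trans h2

/-- Refining a whole chain by a quasi-compact open. -/
theorem refine_chain {X : Scheme.{u}} (V : X.Opens) (hV : IsCompact (V : Set X)) {A C : Set X}
    (hA : IsClosed A) (h : Chain (Good X) A C) : Chain (GoodV V) A C := by
  induction h with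
  | refl => exact Chain.refl _
  | @step B C hAB hsub hcl hq ih =>
    obtain ⟨Z, ι, h1, h2, h3, h4⟩ := hq
    exact ih.trans (refine_step ι V hV (hAB.isClosed hA) hcl hsub h4)

end Refine

section Glue

theorem good_compl {Y : Scheme.{u}} (W U : Y.Opens) (hWU : W ⊔ U = ⊤) (hU : IsAffineOpen U) :
    Good Y ((W : Set Y)ᶜ) := by
  let Cl : TopologicalSpace.Closeds Y := ⟨(W : Set Y)ᶜ, W.isOpen.isClosed_compl⟩
  let I := Scheme.IdealSheafData.vanishingIdeal Cl
  have hrange : Set.range I.subschemeι = (W : Set Y)ᶜ := by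
    rw [Scheme.IdealSheafData.range_subschemeι, Scheme.IdealSheafData.coe_support_vanishingIdeal]
    rfl
  refine ⟨I.subscheme, I.subschemeι, inferInstance, ?_, inferInstance, hrange⟩
  have h1 : IsAffineOpen (I.subschemeι ⁻¹ᵁ U) := hU.preimage I.subschemeι
  have h2 : I.subschemeι ⁻¹ᵁ U = ⊤ := by
    ext x
    simp only [Scheme.Hom.coe_preimage, Set.mem_preimage, SetLike.mem_coe,
      TopologicalSpace.Opens.coe_top, Set.mem_univ, iff_true]
    have hx : I.subschemeι x ∈ (W : Set Y)ᶜ := hrange ▸ Set.mem_range_self x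
    have hx2 : I.subschemeι x ∈ (W ⊔ U : Y.Opens) := by rw [hWU]; trivial
    rcases hx2 with h | h
    · exact absurd h hx
    · exact h
  rw [h2] at h1
  exact @IsAffine.of_isIso _ _ (Scheme.topIso I.subscheme).inv _ h1

theorem transport {Y : Scheme.{u}} (W U : Y.Opens) (hWU : W ⊔ U = ⊤) (hU : IsAffineOpen U)
    {A C : Set W.toScheme} (h : Chain (GoodV (W.ι ⁻¹ᵁ U)) A C) :
    Chain (Good Y) ((W : Set Y)ᶜ ∪ W.ι '' A) ((W : Set Y)ᶜ ∪ W.ι '' C) := by
  induction h with
  | refl => exact Chain.refl _
  | @step B C hAB hsub hcl hq ih =>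
    have hinj : Function.Injective W.ι := W.ι.isOpenEmbedding.injective
    refine Chain.step ih (Set.union_subset_union_right _ (Set.image_mono hsub)) ?_ ?_
    · have hopen : IsOpen (W.ι '' Cᶜ) := W.ι.isOpenEmbedding.isOpenMap _ hcl.isOpen_compl
      have : ((W : Set Y)ᶜ ∪ W.ι '' C) = (W.ι '' Cᶜ)ᶜ := by
        ext x
        simp only [Set.mem_union, Set.mem_compl_iff, SetLike.mem_coe, Set.mem_image, not_exists,
          not_and]
        constructor
        · rintro (h | ⟨z, hz, rfl⟩)
          · intro z _ hzx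
            exact h (hzx ▸ z.2)
          · intro z' hz' hzz'
            exact hz' (hinj hzz' ▸ hz)
        · intro h
          by_cases hx : x ∈ W
          · refine Or.inr ⟨⟨x, hx⟩, ?_, rfl⟩
            by_contra hxC
            exact h ⟨x, hx⟩ hxC rfl
          · exact Or.inl hx
      rw [this]
      exact hopen.isClosed_compl
    · obtain ⟨⟨Z, ι, h1, h2, h3, h4⟩, hor⟩ := hq
      have hstr : ((W : Set Y)ᶜ ∪ W.ι '' C) \ ((W : Set Y)ᶜ ∪ W.ι '' B) = W.ι '' (C \ B) := by
        ext x
        simp only [Set.mem_sdiff, Set.mem_union, Set.mem_compl_iff, SetLike.mem_coe, Set.mem_image,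
          not_or, not_not, not_exists, not_and]
        constructor
        · rintro ⟨h | ⟨z, hz, rfl⟩, h2, h3⟩
          · exact absurd h2 h
          · exact ⟨z, ⟨hz, fun hzB => h3 z hzB rfl⟩, rfl⟩
        · rintro ⟨z, ⟨hz, hzB⟩, rfl⟩
          refine ⟨Or.inr ⟨z, hz, rfl⟩, z.2, ?_⟩
          intro z' hz' hzz'
          exact hzB (hinj hzz' ▸ hz')
      refine ⟨Z, ι ≫ W.ι, inferInstance, h2, ?_, ?_⟩
      · apply isAffineHom_of_forall_exists_isAffineOpen
        intro y
        by_cases hy : y ∈ U
        · refine ⟨U, hy, hU, ?_⟩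
          have e : (ι ≫ W.ι) ⁻¹ᵁ U = ι ⁻¹ᵁ (W.ι ⁻¹ᵁ U) := rfl
          rw [e]
          rcases hor with hor | hor
          · have : ι ⁻¹ᵁ (W.ι ⁻¹ᵁ U) = ⊤ := by
              ext z
              simp only [Scheme.Hom.coe_preimage, Set.mem_preimage, SetLike.mem_coe,
                TopologicalSpace.Opens.coe_top, Set.mem_univ, iff_true]
              have hz : ι z ∈ C \ B := h4 ▸ Set.mem_range_self z
              exact hor hz
            rw [this]
            exact isAffineOpen_top Z
          · have : ι ⁻¹ᵁ (W.ι ⁻¹ᵁ U) = ⊥ := by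
              ext z
              simp only [Scheme.Hom.coe_preimage, Set.mem_preimage, SetLike.mem_coe,
                TopologicalSpace.Opens.coe_bot, Set.mem_empty_iff_false, iff_false]
              have hz : ι z ∈ C \ B := h4 ▸ Set.mem_range_self z
              exact fun hzU => Set.disjoint_left.mp hor hz hzU
            rw [this]
            exact isAffineOpen_bot Z
        · have hyW : y ∈ W := by
            have : y ∈ (W ⊔ U : Y.Opens) := by rw [hWU]; trivial
            rcases this with h | h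
            · exact h
            · exact absurd h hy
          obtain ⟨O, hO, hyO, hOW⟩ := exists_isAffineOpen_mem_and_subset hyW
          refine ⟨O, hyO, hO, ?_⟩
          have hO' : IsAffineOpen (W.ι ⁻¹ᵁ O) :=
            hO.preimage_of_isOpenImmersion W.ι (by rw [Scheme.Opens.opensRange_ι]; exact hOW)
          exact hO'.preimage ι
      · rw [Scheme.Hom.comp_base, TopCat.coe_comp, Set.range_comp, h4, hstr]

/-- Gluing: if `Y = W ∪ U` is quasi-separated with `U` affine and `W` quasi-compact having a finite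
affine stratification, then so does `Y`. -/
theorem chain_of_cover {Y : Scheme.{u}} [QuasiSeparatedSpace Y] (W U : Y.Opens) (hWU : W ⊔ U = ⊤)
    (hU : IsAffineOpen U) (hW : IsCompact (W : Set Y))
    (h : Chain (Good W.toScheme) ∅ Set.univ) : Chain (Good Y) ∅ Set.univ := by
  have hVW : IsCompact ((W.ι ⁻¹ᵁ U : W.toScheme.Opens) : Set W.toScheme) := by
    have h1 : IsCompact ((W : Set Y) ∩ (U : Set Y)) :=
      QuasiSeparatedSpace.inter_isCompact _ _ W.isOpen hW U.isOpen hU.isCompact
    have : ((W.ι ⁻¹ᵁ U : W.toScheme.Opens) : Set W.toScheme) = W.ι ⁻¹' ((W : Set Y) ∩ U) := by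
      ext x
      simp only [Scheme.Hom.coe_preimage, Set.mem_preimage, SetLike.mem_coe, Set.mem_inter_iff]
      exact ⟨fun h => ⟨x.2, h⟩, fun h => h.2⟩
    rw [this]
    exact W.ι.isOpenEmbedding.isInducing.isCompact_preimage' h1
      (by rw [Scheme.Opens.range_ι]; exact Set.inter_subset_left)
  have h' := refine_chain (W.ι ⁻¹ᵁ U) hVW isClosed_empty h
  have h2 := transport W U hWU hU h'
  rw [Set.image_empty, Set.union_empty, Set.image_univ, Scheme.Opens.range_ι,
    Set.compl_union_self] at h2
  have h1 : Chain (Good Y) ∅ ((W : Set Y)ᶜ) := by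
    refine Chain.step (Chain.refl _) (Set.empty_subset _) W.isOpen.isClosed_compl ?_
    rw [Set.sdiff_empty]
    exact good_compl W U hWU hU
  exact h1.trans h2

end Glue

section Main

theorem hasAffineStratification_of_chain {X : Scheme.{u}} (h : Chain (Good X) ∅ Set.univ) :
    ∃ n, MoreMor.HasAffineStratification X n := by
  classical
  obtain ⟨n, D, h0, hn, hD⟩ := h.exists_seq
  have hmono : ∀ i j, i ≤ j → j ≤ n → D i ⊆ D j := by
    intro i j hij
    induction j, hij using Nat.le_induction with
    | base => exact fun _ => subset_rfl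
    | succ j hij ih => exact fun hjn => (ih (by omega)).trans (hD j (by omega)).1
  have hex : ∀ x : X, ∃ i, x ∈ D i := fun x => ⟨n, hn ▸ Set.mem_univ x⟩
  have hk_le : ∀ x, Nat.find (hex x) ≤ n := fun x => Nat.find_min' (hex x) (hn ▸ Set.mem_univ x)
  let s : X → Fin (n + 1) := fun x => ⟨Nat.find (hex x), Nat.lt_succ_of_le (hk_le x)⟩
  have hs : ∀ (i : Fin (n + 1)), {x : X | s x ≤ i} = D i := by
    intro i
    ext x
    simp only [Set.mem_setOf_eq, Fin.le_def, s]
    constructor
    · intro h
      exact hmono _ _ h (Nat.lt_succ_iff.mp i.2) (Nat.find_spec (hex x))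
    · intro h
      exact Nat.find_min' (hex x) h
  have hclosed : ∀ i ≤ n, IsClosed (D i) := by
    intro i hi
    rcases Nat.eq_zero_or_pos i with rfl | hpos
    · rw [h0]; exact isClosed_empty
    · obtain ⟨j, rfl⟩ := Nat.exists_eq_succ_of_ne_zero hpos.ne'
      exact (hD j (by omega)).2.1
  refine ⟨n, s, fun i => ?_, fun i => ?_⟩
  · rw [hs]; exact hclosed i (Nat.lt_succ_iff.mp i.2)
  · rcases Nat.eq_zero_or_pos (i : ℕ) with h0i | hpos
    · have : {x : X | s x = i} = ∅ := by
        ext x
        simp only [Set.mem_setOf_eq, Set.mem_empty_iff_false, iff_false]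
        intro hx
        have h1 : Nat.find (hex x) = 0 := by
          have := congrArg Fin.val hx
          simpa [s, h0i] using this
        have h2 := Nat.find_spec (hex x)
        rw [h1, h0] at h2
        exact h2
      rw [this]
      exact good_empty X
    · obtain ⟨j, hj⟩ := Nat.exists_eq_succ_of_ne_zero hpos.ne'
      have hjn : j < n := by have := i.2; omega
      have : {x : X | s x = i} = D (j + 1) \ D j := by
        ext x
        simp only [Set.mem_setOf_eq, Set.mem_sdiff, Fin.ext_iff, s, hj]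
        rw [Nat.find_eq_iff]
        constructor
        · rintro ⟨h1, h2⟩
          exact ⟨h1, h2 j (Nat.lt_succ_self j)⟩
        · rintro ⟨h1, h2⟩
          refine ⟨h1, fun m hm hxm => h2 (hmono m j (Nat.lt_succ_iff.mp hm) hjn.le hxm)⟩
      rw [this]
      exact (hD j hjn).2.2

theorem chain_of_fin_cover : ∀ (n : ℕ) (Y : Scheme.{u}) [QuasiSeparatedSpace Y] (U : Fin n → Y.Opens),
    (∀ i, IsAffineOpen (U i)) → (⨆ i, U i = ⊤) → Chain (Good Y) ∅ Set.univ := by
  intro n
  induction n with
  | zero =>
    intro Y _ U hU hcov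
    have : (Set.univ : Set Y) = ∅ := by
      ext x
      simp only [Set.mem_univ, Set.mem_empty_iff_false, iff_false, not_true_eq_false]
      have hx : x ∈ (⨆ i, U i : Y.Opens) := by rw [hcov]; trivial
      obtain ⟨i, -⟩ := TopologicalSpace.Opens.mem_iSup.mp hx
      exact i.elim0
    rw [this]
    exact Chain.refl _
  | succ n ih =>
    intro Y _ U hU hcov
    let W : Y.Opens := ⨆ i : Fin n, U i.castSucc
    have hWU : W ⊔ U (Fin.last n) = ⊤ := by
      rw [eq_top_iff, ← hcov]
      refine iSup_le fun i => ?_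
      induction i using Fin.lastCases with
      | last => exact le_sup_right
      | cast i => exact le_sup_of_le_left (le_iSup (fun i : Fin n => U i.castSucc) i)
    have hWc : IsCompact (W : Set Y) := by
      have : (W : Set Y) = ⋃ i : Fin n, (U i.castSucc : Set Y) := by
        simp [W]
      rw [this]
      exact isCompact_iUnion fun i => (hU _).isCompact
    have : QuasiSeparatedSpace W.toScheme :=
      QuasiSeparatedSpace.of_isOpenEmbedding W.ι.isOpenEmbedding
    have hW := ih W.toScheme (fun i => W.ι ⁻¹ᵁ U i.castSucc)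
      (fun i => (hU _).preimage_of_isOpenImmersion W.ι
        (by rw [Scheme.Opens.opensRange_ι]; exact le_iSup (fun i : Fin n => U i.castSucc) i))
      (by
        rw [eq_top_iff]
        rintro x -
        have hx : x.1 ∈ W := x.2
        obtain ⟨i, hi⟩ := TopologicalSpace.Opens.mem_iSup.mp hx
        exact TopologicalSpace.Opens.mem_iSup.mpr ⟨i, hi⟩)
    exact chain_of_cover W (U (Fin.last n)) hWU (hU _) hWc hW

/-- A quasi-compact quasi-separated scheme has a finite affine stratification. -/
theorem exists_hasAffineStratification_of_qcqs (X : Scheme.{u}) [CompactSpace X]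
    [QuasiSeparatedSpace X] : ∃ n, MoreMor.HasAffineStratification X n := by
  obtain ⟨s, hs, e⟩ := isCompact_iff_finite_and_eq_biUnion_affineOpens.mp
    (show IsCompact ((⊤ : X.Opens) : Set X) from isCompact_univ)
  have := hs.to_subtype
  obtain ⟨n, ⟨eqv⟩⟩ := Finite.exists_equiv_fin s
  apply hasAffineStratification_of_chain
  refine chain_of_fin_cover n X (fun i => ((eqv.symm i).1 : X.Opens)) (fun i => (eqv.symm i).1.2) ?_
  rw [e, eq_comm]
  apply le_antisymm
  · refine iSup₂_le fun U hU => ?_
    have : U = (eqv.symm (eqv ⟨U, hU⟩)).1 := by simp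
    rw [this]
    exact le_iSup (fun i => ((eqv.symm i).1 : X.Opens)) (eqv ⟨U, hU⟩)
  · refine iSup_le fun i => ?_
    exact le_iSup₂ (f := fun (U : X.affineOpens) (_ : U ∈ s) => (U : X.Opens)) (eqv.symm i).1
      (eqv.symm i).2

end Main

end Groth.Agent.Lib.Helper8.AffStrat
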