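import Groth.Agent.Lib.Helper8.AffStrat
import Mathlib.AlgebraicGeometry.Noetherian
import Mathlib.AlgebraicGeometry.Limits
import Mathlib.Topology.KrullDimension
import Mathlib.Topology.Sober
import Mathlib.RingTheory.Ideal.Operations

/-!
# A Noetherian scheme of dimension `d` has an affine stratification of length `d` (helper8)
-/

set_option autoImplicit false
set_option maxHeartbeats 400000
universe u

namespace Groth.Agent.Lib.Helper8.AffStratDim

open AlgebraicGeometry CategoryTheory TopologicalSpace Groth.Agent.Lib.Helper8.AffStrat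

section Top

variable {α : Type*} [TopologicalSpace α]

/-- The open neighbourhood of a generic point obtained by removing the other components. -/
def nbhd (η : α) : Set α := (⋃ η' ∈ {y | y ∈ genericPoints α ∧ y ≠ η}, closure {η'})ᶜ

theorem isOpen_nbhd (hfin : (genericPoints α).Finite) (η : α) : IsOpen (nbhd η) := by
  rw [nbhd, isOpen_compl_iff]
  exact (hfin.subset (fun y hy => hy.1)).isClosed_biUnion fun _ _ => isClosed_closure

theorem mem_nbhd [T0Space α] {η : α} (hη : η ∈ genericPoints α) : η ∈ nbhd η := by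
  rw [nbhd, Set.mem_compl_iff, Set.mem_iUnion₂]
  rintro ⟨η', ⟨hη', hne⟩, hmem⟩
  have hsub : closure {η} ⊆ closure {η'} :=
    (isClosed_closure.closure_subset_iff).2 (Set.singleton_subset_iff.2 hmem)
  have hirr : IsIrreducible (closure ({η'} : Set α)) := isIrreducible_singleton.closure
  have heq : closure ({η} : Set α) = closure {η'} :=
    le_antisymm hsub (hη.2 hirr hsub)
  have h1 : IsGenericPoint η (closure {η'}) := heq
  have h2 : IsGenericPoint η' (closure {η'}) := rfl
  exact hne (h2.eq h1)

theorem nbhd_subset_closure [QuasiSober α] {η : α} : nbhd η ⊆ closure {η} := by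
  intro x hx
  let c : irreducibleComponents α := ⟨_, irreducibleComponent_mem_irreducibleComponents x⟩
  let η'' := genericPoints.ofComponent c
  have hgen : closure {η''.1} = irreducibleComponent x := genericPoints.isGenericPoint_ofComponent c
  have hxmem : x ∈ closure {η''.1} := hgen ▸ mem_irreducibleComponent
  by_cases h : η''.1 = η
  · rwa [h] at hxmem
  · exfalso
    rw [nbhd, Set.mem_compl_iff, Set.mem_iUnion₂] at hx
    exact hx ⟨η''.1, ⟨η''.2, h⟩, hxmem⟩

theorem disjoint_nbhd_of_notMem [QuasiSober α] {η : α} {V : Set α} (hV : IsOpen V) (hη : η ∉ V) :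
    Disjoint (nbhd η) V := by
  rw [Set.disjoint_left]
  intro x hx hxV
  have h1 : x ∈ closure {η} := nbhd_subset_closure hx
  have h2 : IsGenericPoint η (closure {η}) := rfl
  exact hη ((h2.mem_open_set_iff hV).2 ⟨x, h1, hxV⟩)

theorem disjoint_nbhd [QuasiSober α] {η η' : α} (hη : η ∈ genericPoints α) (hne : η ≠ η') :
    Disjoint (nbhd η) (nbhd η') := by
  rw [Set.disjoint_left]
  intro x hx hx'
  have h1 : x ∈ closure {η} := nbhd_subset_closure hx
  rw [nbhd, Set.mem_compl_iff, Set.mem_iUnion₂] at hx'
  exact hx' ⟨η, ⟨hη, hne⟩, h1⟩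

/-- Removing an open set containing all generic points lowers the dimension. -/
theorem dim_lt_of_genericPoints_subset [QuasiSober α] {β : Type*} [TopologicalSpace β] (f : β → α)
    (hf : Topology.IsInducing f) (U : Set α) (hU : IsOpen U) (hgen : genericPoints α ⊆ U)
    (hr : Set.range f ⊆ Uᶜ) (n : ℕ) (h : topologicalKrullDim α < ((n + 1 : ℕ) : WithBot ℕ∞)) :
    topologicalKrullDim β < (n : WithBot ℕ∞) := by
  unfold topologicalKrullDim at h ⊢
  rw [Order.krullDim_lt_coe_iff] at h ⊢
  intro p
  let p' : LTSeries (IrreducibleCloseds α) :=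
    p.map (IrreducibleCloseds.map f hf.continuous) (IrreducibleCloseds.map_strictMono_of_isInducing hf)
  obtain ⟨t, ht, hsub, hmax⟩ := exists_preirreducible (p'.last : Set α) p'.last.isIrreducible.isPreirreducible
  have htne : t.Nonempty := p'.last.isIrreducible.nonempty.mono hsub
  have htirr : IsIrreducible t := ⟨htne, ht⟩
  have htcomp : t ∈ irreducibleComponents α := by
    refine ⟨htirr, fun u hu htu => ?_⟩
    exact (hmax u hu.isPreirreducible htu).le
  let c : irreducibleComponents α := ⟨t, htcomp⟩
  let η := genericPoints.ofComponent c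
  have hηt : closure {η.1} = t := genericPoints.isGenericPoint_ofComponent c
  have hηU : η.1 ∈ U := hgen η.2
  have hηmem : η.1 ∈ t := hηt ▸ subset_closure (Set.mem_singleton _)
  have hlast : (p'.last : Set α) ⊆ Uᶜ := by
    have : (p'.last : Set α) = closure (f '' (p.last : Set β)) := by
      simp only [p', LTSeries.last_map]
      rfl
    rw [this]
    refine (isClosed_compl_iff.2 hU).closure_subset_iff.2 ?_
    rintro _ ⟨z, -, rfl⟩
    exact hr ⟨z, rfl⟩
  let C : IrreducibleCloseds α := ⟨t, htirr, isClosed_of_mem_irreducibleComponents t htcomp⟩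
  have hlt : p'.last < C := by
    refine lt_of_le_of_ne hsub ?_
    intro heq
    have : η.1 ∈ (p'.last : Set α) := by rw [heq]; exact hηmem
    exact hlast this hηU
  have := h (p'.snoc C hlt)
  simp only [RelSeries.snoc_length, p', LTSeries.map_length] at this
  omega

end Top

section Sch

/-- Prime avoidance on an affine open (after helper67). -/
theorem exists_basicOpen_finset {X : Scheme.{u}} {U : X.Opens} (hU : IsAffineOpen U) (V : X.Opens)
    (F : Finset U) (hF : ∀ x ∈ F, x.1 ∈ V) :
    ∃ a : Γ(X, U), X.basicOpen a ≤ V ∧ ∀ x ∈ F, x.1 ∈ X.basicOpen a := by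
  classical
  let I : Ideal Γ(X, U) :=
    { carrier := {a | X.basicOpen a ≤ V}
      add_mem' := fun {a b} ha hb => (X.basicOpen_add_le a b).trans (sup_le ha hb)
      zero_mem' := by
        show X.basicOpen (0 : Γ(X, U)) ≤ V
        rw [Scheme.basicOpen_zero]; exact bot_le
      smul_mem' := fun c a ha => by
        show X.basicOpen (c * a) ≤ V
        rw [Scheme.basicOpen_mul]; exact inf_le_right.trans ha }
  have hmem : ∀ (x : U) (a : Γ(X, U)),
      a ∈ (hU.primeIdealOf x).asIdeal ↔ x.1 ∉ X.basicOpen a := by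
    intro x a
    have h1 : x.1 ∈ X.basicOpen a ↔ hU.primeIdealOf x ∈ PrimeSpectrum.basicOpen a := by
      rw [← hU.fromSpec_preimage_basicOpen]
      show _ ↔ hU.fromSpec.base (hU.primeIdealOf x) ∈ X.basicOpen a
      rw [hU.fromSpec_primeIdealOf]
    rw [h1, PrimeSpectrum.mem_basicOpen, not_not]
  by_contra hcon
  push Not at hcon
  have hsub : (I : Set Γ(X, U)) ⊆ ⋃ x ∈ (F : Set U), ((hU.primeIdealOf x).asIdeal : Set Γ(X, U)) := by
    intro a ha
    obtain ⟨x, hxF, hx⟩ := hcon a ha
    exact Set.mem_biUnion hxF ((hmem x a).2 hx)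
  by_cases hFe : F = ∅
  · subst hFe
    obtain ⟨x, hx, -⟩ := hcon 0 (by show X.basicOpen (0 : Γ(X, U)) ≤ V; simp)
    exact absurd hx (Finset.notMem_empty _)
  obtain ⟨x₀, hx₀⟩ := Finset.nonempty_iff_ne_empty.2 hFe
  obtain ⟨x, hxF, hle⟩ := (Ideal.subset_union_prime (s := F)
    (f := fun x => (hU.primeIdealOf x).asIdeal) x₀ x₀
    (fun x _ _ _ => (hU.primeIdealOf x).isPrime)).1 hsub
  obtain ⟨a, haV, hax⟩ := hU.exists_basicOpen_le (V := V) ⟨x.1, hF x hxF⟩ x.2
  exact (hmem x a).1 (hle (show a ∈ I from haV)) hax

variable (X : Scheme.{u}) [IsNoetherian X]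

theorem finite_genericPoints : (genericPoints X).Finite :=
  genericPoints.finite NoetherianSpace.finite_irreducibleComponents

/-- Every point has an affine open neighbourhood containing all generic points. -/
theorem exists_affine_nhd (x : X) :
    ∃ V : X.Opens, IsAffineOpen V ∧ x ∈ V ∧ genericPoints X ⊆ (V : Set X) := by
  classical
  obtain ⟨_, ⟨V0, hV0 : IsAffineOpen V0, rfl⟩, hxV0, -⟩ :=
    X.isBasis_affineOpens.exists_subset_of_mem_open (Set.mem_univ x) isOpen_univ
  have hfin := finite_genericPoints X
  let T : Set X := {η | η ∈ genericPoints X ∧ η ∉ V0}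
  have hTfin : T.Finite := hfin.subset fun _ h => h.1
  have hW : ∀ η : X, ∃ W : X.Opens, IsAffineOpen W ∧ (η ∈ T → η ∈ W) ∧ (W : Set X) ⊆ nbhd η := by
    intro η
    by_cases hη : η ∈ T
    · obtain ⟨_, ⟨W, hW : IsAffineOpen W, rfl⟩, hηW, hsub⟩ :=
        X.isBasis_affineOpens.exists_subset_of_mem_open (mem_nbhd hη.1) (isOpen_nbhd hfin η)
      exact ⟨W, hW, fun _ => hηW, hsub⟩
    · exact ⟨⊥, isAffineOpen_bot X, fun h => absurd h hη, by simp⟩
  choose W hWaff hWmem hWsub using hW
  have hbi : IsAffineOpen (⨆ η ∈ T, W η) := by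
    refine IsAffineOpen.biSup_of_disjoint hTfin (fun η _ => hWaff η) ?_
    intro η hη η' _ hne
    show Disjoint (W η) (W η')
    rw [← Opens.coe_disjoint]
    exact (disjoint_nbhd hη.1 hne).mono (hWsub η) (hWsub η')
  have hdis : Disjoint V0 (⨆ η ∈ T, W η) := by
    rw [← Opens.coe_disjoint, Set.disjoint_left]
    intro y hy0 hy
    simp only [Opens.coe_iSup, Set.mem_iUnion, SetLike.mem_coe, exists_prop] at hy
    obtain ⟨η, hηT, hyη⟩ := hy
    exact Set.disjoint_left.1 (disjoint_nbhd_of_notMem V0.2 hηT.2) (hWsub η hyη) hy0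
  refine ⟨V0 ⊔ ⨆ η ∈ T, W η, hV0.sup_of_disjoint hbi hdis, Or.inl hxV0, ?_⟩
  intro η hη
  by_cases h0 : η ∈ V0
  · exact Or.inl h0
  · refine Or.inr ?_
    simp only [Opens.coe_iSup, Set.mem_iUnion, SetLike.mem_coe, exists_prop]
    exact ⟨η, ⟨hη, h0⟩, hWmem η ⟨hη, h0⟩⟩

/-- A Noetherian scheme has an affine open containing all generic points whose inclusion is an
affine morphism. -/
theorem exists_affine_dense :
    ∃ U : X.Opens, IsAffineOpen U ∧ IsAffineHom U.ι ∧ genericPoints X ⊆ (U : Set X) := by
  classical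
  choose V hVaff hxV hVgen using exists_affine_nhd X
  obtain ⟨t, ht⟩ := isCompact_univ.elim_finite_subcover (fun x => (V x : Set X))
    (fun x => (V x).2) (fun x _ => Set.mem_iUnion.2 ⟨x, hxV x⟩)
  by_cases hne : t.Nonempty
  · obtain ⟨x0, hx0⟩ := hne
    let W : X.Opens := ⟨⋂ x ∈ t, (V x : Set X), isOpen_biInter_finset fun x _ => (V x).2⟩
    have hfin := finite_genericPoints X
    have hgW : ∀ η ∈ genericPoints X, η ∈ W := by
      intro η hη
      show η ∈ ⋂ x ∈ t, (V x : Set X)
      exact Set.mem_iInter₂.2 fun x _ => hVgen x hη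
    let F : Finset (V x0) := hfin.toFinset.attach.map
      ⟨fun η => ⟨η.1, hVgen x0 (hfin.mem_toFinset.1 η.2)⟩, fun a b h => by
        apply Subtype.ext
        simpa using congrArg (fun z : V x0 => z.1) h⟩
    obtain ⟨a, haW, haF⟩ := exists_basicOpen_finset (hVaff x0) W F (by
      intro x hx
      obtain ⟨η, -, rfl⟩ := Finset.mem_map.1 hx
      exact hgW _ (hfin.mem_toFinset.1 η.2))
    have hUaff : IsAffineOpen (X.basicOpen a) := (hVaff x0).basicOpen a
    refine ⟨X.basicOpen a, hUaff, ?_, ?_⟩
    · apply isAffineHom_of_forall_exists_isAffineOpen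
      intro y
      obtain ⟨x, hxt, hyx⟩ : ∃ x ∈ t, y ∈ V x := by
        have := ht (Set.mem_univ y)
        simpa using this
      refine ⟨V x, hyx, hVaff x, ?_⟩
      have hle : X.basicOpen a ≤ V x := haW.trans (fun z hz => Set.mem_iInter₂.1 hz x hxt)
      have : (X.basicOpen a).ι ⁻¹ᵁ V x = ⊤ := by
        ext z
        simp only [Opens.coe_top, Set.mem_univ, iff_true]
        exact hle z.2
      rw [this]
      haveI : IsAffine (X.basicOpen a).toScheme := hUaff
      exact isAffineOpen_top _
    · intro η hη
      exact haF ⟨η, hVgen x0 hη⟩ (Finset.mem_map.2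
        ⟨⟨η, hfin.mem_toFinset.2 hη⟩, Finset.mem_attach _ _, rfl⟩)
  · have hempty : IsEmpty X := by
      rw [Finset.not_nonempty_iff_eq_empty] at hne
      subst hne
      refine ⟨fun y => ?_⟩
      have := ht (Set.mem_univ y)
      simp at this
    refine ⟨⊥, isAffineOpen_bot X, ?_, fun η _ => (hempty.false η).elim⟩
    apply isAffineHom_of_forall_exists_isAffineOpen
    intro y
    exact (hempty.false y).elim

end Sch

section Main

theorem good_image_closedImmersion {X Z : Scheme.{u}} (i : Z ⟶ X) [IsClosedImmersion i]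
    {T : Set Z} (h : Good Z T) : Good X (i '' T) := by
  obtain ⟨Z', ι, himm, haff, hah, hr⟩ := h
  refine ⟨Z', ι ≫ i, inferInstance, haff, inferInstance, ?_⟩
  rw [Scheme.Hom.comp_base, TopCat.coe_comp, Set.range_comp, hr]

theorem strat : ∀ (n : ℕ) (X : Scheme.{u}) [IsNoetherian X],
    topologicalKrullDim X < (n : WithBot ℕ∞) →
    ∃ s : X → Fin n, (∀ i : Fin n, IsClosed {x : X | s x ≤ i}) ∧
      ∀ i : Fin n, Good X {x : X | s x = i} := by
  intro n
  induction n with
  | zero =>
    intro X _ h
    have hbot : topologicalKrullDim X = ⊥ := by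
      have h0 : topologicalKrullDim X < 0 := by exact_mod_cast h
      by_contra hne
      obtain ⟨m, hm⟩ := WithBot.ne_bot_iff_exists.1 hne
      rw [← hm] at h0
      have : (m : WithBot ℕ∞) < ((0 : ℕ∞) : WithBot ℕ∞) := by exact_mod_cast h0
      exact not_lt_bot (a := m) (by simpa using WithBot.coe_lt_coe.1 this)
    have hemp : IsEmpty (IrreducibleCloseds X) := Order.krullDim_eq_bot_iff.1 hbot
    have hX : IsEmpty X := ⟨fun x => hemp.false
      ⟨closure {x}, isIrreducible_singleton.closure, isClosed_closure⟩⟩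
    exact ⟨fun x => (hX.false x).elim, fun i => i.elim0, fun i => i.elim0⟩
  | succ n ih =>
    intro X _ h
    classical
    obtain ⟨U, hUaff, hUι, hUgen⟩ := exists_affine_dense X
    let C : TopologicalSpace.Closeds X := ⟨(U : Set X)ᶜ, isClosed_compl_iff.2 U.2⟩
    let I := Scheme.IdealSheafData.vanishingIdeal C
    let Z := I.subscheme
    let i : Z ⟶ X := I.subschemeι
    have hri : Set.range i = (U : Set X)ᶜ := by
      rw [Scheme.IdealSheafData.range_subschemeι, Scheme.IdealSheafData.coe_support_vanishingIdeal]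
      rfl
    haveI : IsLocallyNoetherian Z := LocallyOfFiniteType.isLocallyNoetherian i
    haveI : CompactSpace Z := QuasiCompact.compactSpace_of_compactSpace i
    haveI : IsNoetherian Z := {}
    have hdim : topologicalKrullDim Z < (n : WithBot ℕ∞) :=
      dim_lt_of_genericPoints_subset i i.isClosedEmbedding.isInducing (U : Set X) U.2 hUgen
        hri.le n h
    obtain ⟨sZ, hsZc, hsZg⟩ := ih Z hdim
    have hex : ∀ x : X, x ∉ U → ∃ z : Z, i z = x := by
      intro x hx
      have : x ∈ Set.range i := by rw [hri]; exact hx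
      exact this
    let s : X → Fin (n + 1) := fun x =>
      if hx : x ∈ U then Fin.last n else (sZ (hex x hx).choose).castSucc
    have hsU : ∀ x, x ∈ U → s x = Fin.last n := fun x hx => dif_pos hx
    have hiU : ∀ z : Z, i z ∉ U := by
      intro z
      have : i z ∈ Set.range i := ⟨z, rfl⟩
      rw [hri] at this
      exact this
    have hsi : ∀ z : Z, s (i z) = (sZ z).castSucc := by
      intro z
      have h1 : s (i z) = (sZ (hex (i z) (hiU z)).choose).castSucc := dif_neg (hiU z)
      rw [h1]
      have h2 : (hex (i z) (hiU z)).choose = z :=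
        i.isClosedEmbedding.injective (hex (i z) (hiU z)).choose_spec
      rw [h2]
    have hlev : ∀ j : Fin n, {x : X | s x = j.castSucc} = i '' {z : Z | sZ z = j} := by
      intro j
      ext x
      simp only [Set.mem_setOf_eq, Set.mem_image]
      constructor
      · intro hx
        have hxU : x ∉ U := by
          intro hxU
          rw [hsU x hxU] at hx
          exact (Fin.castSucc_lt_last j).ne' hx
        obtain ⟨z, rfl⟩ := hex x hxU
        rw [hsi] at hx
        exact ⟨z, Fin.castSucc_injective _ hx, rfl⟩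
      · rintro ⟨z, hz, rfl⟩
        rw [hsi, hz]
    have hsub : ∀ j : Fin n, {x : X | s x ≤ j.castSucc} = i '' {z : Z | sZ z ≤ j} := by
      intro j
      ext x
      simp only [Set.mem_setOf_eq, Set.mem_image]
      constructor
      · intro hx
        have hxU : x ∉ U := by
          intro hxU
          rw [hsU x hxU] at hx
          exact absurd (Fin.castSucc_lt_last j) (not_lt.2 hx)
        obtain ⟨z, rfl⟩ := hex x hxU
        rw [hsi] at hx
        exact ⟨z, Fin.castSucc_le_castSucc_iff.1 hx, rfl⟩
      · rintro ⟨z, hz, rfl⟩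
        rw [hsi]
        exact Fin.castSucc_le_castSucc_iff.2 hz
    refine ⟨s, fun k => ?_, fun k => ?_⟩
    · induction k using Fin.lastCases with
      | last =>
        have : {x : X | s x ≤ Fin.last n} = Set.univ := by
          ext x; simp [Fin.le_last]
        rw [this]; exact isClosed_univ
      | cast j =>
        rw [hsub]
        exact i.isClosedEmbedding.isClosedMap _ (hsZc j)
    · induction k using Fin.lastCases with
      | last =>
        have : {x : X | s x = Fin.last n} = (U : Set X) := by
          ext x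
          simp only [Set.mem_setOf_eq, SetLike.mem_coe]
          constructor
          · intro hx
            by_contra hxU
            obtain ⟨z, rfl⟩ := hex x hxU
            rw [hsi] at hx
            exact (Fin.castSucc_lt_last _).ne hx
          · exact hsU x
        rw [this]
        exact ⟨U.toScheme, U.ι, inferInstance, hUaff, hUι, Scheme.Opens.range_ι U⟩
      | cast j =>
        rw [hlev]
        exact good_image_closedImmersion i (hsZg j)

/-- A Noetherian scheme of dimension `d` has an affine stratification with index set `{0,…,d}`. -/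
theorem hasAffineStratification_of_dim (X : Scheme.{u}) [IsNoetherian X] (d : ℕ)
    (hd : topologicalKrullDim X = d) : MoreMor.HasAffineStratification X d := by
  have h : topologicalKrullDim X < ((d + 1 : ℕ) : WithBot ℕ∞) := by
    rw [hd]
    exact_mod_cast Nat.lt_succ_self d
  obtain ⟨s, hs1, hs2⟩ := strat (d + 1) X h
  exact ⟨s, hs1, hs2⟩

end Main

end Groth.Agent.Lib.Helper8.AffStratDim
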