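import Mathlib

set_option autoImplicit false

namespace Groth.Agent.Lib.Helper8.BCTransport

universe u

/-- transport of a base change along an isomorphism of the base rings and a semilinear
isomorphism of the modules -/
theorem isBaseChange_transport {A A' : Type u} [CommRing A] [CommRing A'] (θ : A ≃+* A')
    {N N' : Type u} [AddCommGroup N] [Module A N] [AddCommGroup N'] [Module A' N']
    (Θ : N ≃+ N') (hΘ : ∀ (a : A) (x : N), Θ (a • x) = θ a • Θ x)
    (S : Type u) [CommRing S] [Algebra A' S] [Algebra A S]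
    (hAS : ∀ a, algebraMap A S a = algebraMap A' S (θ a))
    (M : Type u) [AddCommGroup M] [Module S M] [Module A' M] [IsScalarTower A' S M] [Module A M]
    [IsScalarTower A S M]
    (f' : N' →ₗ[A'] M) (hf' : IsBaseChange S f') :
    ∃ f : N →ₗ[A] M, IsBaseChange S f ∧ ∀ x, f x = f' (Θ x) := by
  have hsm : ∀ (a : A) (m : M), a • m = θ a • m := fun a m => by
    rw [← algebraMap_smul S a m, ← algebraMap_smul S (θ a) m, hAS]
  let f : N →ₗ[A] M :=
    { toFun := fun x => f' (Θ x)
      map_add' := fun x y => by rw [map_add, map_add]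
      map_smul' := fun a x => by
        rw [RingHom.id_apply, hΘ, map_smul, hsm] }
  refine ⟨f, ?_, fun _ => rfl⟩
  apply IsBaseChange.of_lift_unique
  intro Q _ _ _ _ g
  letI : Module A' Q := Module.compHom Q (θ.symm : A' →+* A)
  have hsmQ : ∀ (a' : A') (x : Q), a' • x = θ.symm a' • x := fun _ _ => rfl
  haveI : IsScalarTower A' S Q := IsScalarTower.of_algebraMap_smul (fun a' x => by
    rw [hsmQ, ← algebraMap_smul S (θ.symm a') x, hAS, RingEquiv.apply_symm_apply])
  have hΘs : ∀ (a' : A') (y : N'), Θ.symm (a' • y) = θ.symm a' • Θ.symm y := fun a' y => by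
    apply Θ.injective
    rw [hΘ, AddEquiv.apply_symm_apply, AddEquiv.apply_symm_apply, RingEquiv.apply_symm_apply]
  let g' : N' →ₗ[A'] Q :=
    { toFun := fun y => g (Θ.symm y)
      map_add' := fun x y => by rw [map_add, map_add]
      map_smul' := fun a' y => by
        rw [RingHom.id_apply, hΘs, map_smul, hsmQ] }
  refine ⟨hf'.lift g', ?_, ?_⟩
  · ext x
    show hf'.lift g' (f' (Θ x)) = g x
    rw [hf'.lift_eq]
    show g (Θ.symm (Θ x)) = g x
    rw [AddEquiv.symm_apply_apply]
  · intro g'' hg''
    apply hf'.algHom_ext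
    intro y
    rw [hf'.lift_eq]
    have := LinearMap.congr_fun hg'' (Θ.symm y)
    show g'' (f' y) = g (Θ.symm y)
    rw [← this]
    show g'' (f' y) = g'' (f' (Θ (Θ.symm y)))
    rw [AddEquiv.apply_symm_apply]

end Groth.Agent.Lib.Helper8.BCTransport
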