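import Mathlib

set_option autoImplicit false
set_option linter.style.haveILetI false
universe u

namespace Groth.Agent.Lib.Helper8.CBC

open TensorProduct

section IdealLevel

variable (R : Type*) {S : Type*} [CommRing R] [CommRing S] [Algebra R S]
variable (T : Type*) [CommRing T] [Algebra R T] (I : Ideal S)

set_option backward.isDefEq.respectTransparency.types false in
set_option backward.defeqAttrib.useBackward true in
/-- If `S ⧸ I` is flat over `R`, the canonical map `tensorCotangentHom R T I` is injective
(for any `R`-algebra `T`). -/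
lemma tensorCotangentHom_injective_of_flat_quotient [Module.Flat R (S ⧸ I)] :
    Function.Injective (I.tensorCotangentHom R T) := by
  let a : S →+* T ⊗[R] S := Algebra.TensorProduct.includeRight.toRingHom
  let f : (I.map a).Cotangent →ₗ[T] T ⊗[R] S ⧸ (I.map a) ^ 2 :=
    (Ideal.cotangentToQuotientSquare _).restrictScalars T
  suffices h : Function.Injective (f ∘ₗ Ideal.tensorCotangentHom R T I) from .of_comp h
  let g : T ⊗[R] I.Cotangent →ₗ[T] T ⊗[R] (S ⧸ I ^ 2) :=
    AlgebraTensorModule.lTensor T T I.cotangentToQuotientSquare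
  let hₐ : T ⊗[R] (S ⧸ I ^ 2) ≃ₐ[T] T ⊗[R] S ⧸ (I.map a) ^ 2 :=
    (Algebra.TensorProduct.tensorQuotientEquiv _ _ _ _).trans
      (Ideal.quotientEquivAlgOfEq T (Ideal.map_pow _ _ _))
  have : f ∘ₗ Ideal.tensorCotangentHom R T I = hₐ.toLinearMap ∘ₗ g := by
    ext x
    obtain ⟨x, rfl⟩ := I.toCotangent_surjective x
    dsimp [f, g, hₐ]
    rw [Ideal.tensorCotangentHom_tmul, one_smul, Ideal.toCotangent_to_quotient_square]
    simp
  rw [this, LinearMap.coe_comp]
  apply hₐ.injective.comp
  have hle : I ^ 2 ≤ I := Ideal.pow_le_self two_ne_zero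
  let π : (S ⧸ I ^ 2) →ₗ[R] (S ⧸ I) := (Ideal.Quotient.factorₐ R hle).toLinearMap
  have hπ : Function.Surjective π := Ideal.Quotient.factor_surjective hle
  have hex : Function.Exact (I.cotangentToQuotientSquare.restrictScalars R) π := by
    intro y
    constructor
    · intro hy
      obtain ⟨s, rfl⟩ := Ideal.Quotient.mk_surjective y
      have hs : s ∈ I := by
        rw [← Ideal.Quotient.eq_zero_iff_mem]
        exact hy
      exact ⟨I.toCotangent ⟨s, hs⟩, rfl⟩
    · rintro ⟨m, rfl⟩
      obtain ⟨⟨s, hs⟩, rfl⟩ := I.toCotangent_surjective m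
      show Ideal.Quotient.factor hle (Ideal.Quotient.mk _ s) = 0
      rw [Ideal.Quotient.factor_mk, Ideal.Quotient.eq_zero_iff_mem]
      exact hs
  exact LinearMap.lTensor_injective_of_exact_of_flat π hπ
    (I.cotangentToQuotientSquare.restrictScalars R) I.cotangentToQuotientSquare_injective hex T

end IdealLevel

section ExtLevel

open Algebra

variable {R S : Type u} [CommRing R] [CommRing S] [Algebra R S] (P : Algebra.Extension.{u} R S)
variable (T : Type u) [CommRing T] [Algebra R T]

theorem flat_quotient_ker [Module.Flat R S] : Module.Flat R (P.Ring ⧸ P.ker) :=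
  Module.Flat.of_linearEquiv
    (Ideal.quotientKerAlgEquivOfSurjective (f := IsScalarTower.toAlgHom R P.Ring S)
      P.algebraMap_surjective).toLinearEquiv

set_option backward.isDefEq.respectTransparency.types false in
/-- If `S` is flat over `R`, there is a `T`-linear isomorphism
`T ⊗[R] P.Cotangent ≃ₗ[T] (P.baseChange).Cotangent` for every `R`-algebra `T`. -/
noncomputable def tensorCotangentOfFlatTarget [Module.Flat R S] :
    T ⊗[R] P.Cotangent ≃ₗ[T] (P.baseChange (T := T)).Cotangent :=
  haveI := flat_quotient_ker P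
  AlgebraTensorModule.congr (.refl T T) (P.cotangentEquivCotangentKer.restrictScalars R) ≪≫ₗ
    LinearEquiv.ofBijective (P.ker.tensorCotangentHom R T)
      ⟨tensorCotangentHom_injective_of_flat_quotient R T P.ker,
        P.ker.tensorCotangentHom_surjective R T⟩ ≪≫ₗ
    (Ideal.Cotangent.equivOfEq _ _ (P.ker_baseChange T).symm).restrictScalars T ≪≫ₗ
    (P.baseChange (T := T)).cotangentEquivCotangentKer.symm.restrictScalars T

set_option backward.isDefEq.respectTransparency.types false in
attribute [local instance] Algebra.TensorProduct.rightAlgebra in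
lemma tensorCotangentOfFlatTarget_tmul [Module.Flat R S] (t : T) (x : P.Cotangent) :
    tensorCotangentOfFlatTarget P T (t ⊗ₜ x) =
      t • Algebra.Extension.Cotangent.map (P.toBaseChange T) x := by
  obtain ⟨x, rfl⟩ := Algebra.Extension.Cotangent.mk_surjective x
  simp only [tensorCotangentOfFlatTarget, LinearEquiv.trans_apply, AlgebraTensorModule.congr_tmul,
    LinearEquiv.refl_apply, LinearEquiv.restrictScalars_apply,
    Algebra.Extension.cotangentEquivCotangentKer_apply,
    Algebra.Extension.Cotangent.val_mk, LinearEquiv.ofBijective_apply,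
    Ideal.tensorCotangentHom_tmul, map_smul, Algebra.Extension.Cotangent.map_mk,
    Algebra.Extension.Hom.toAlgHom_apply, Ideal.Cotangent.equivOfEq_toCotangent]
  rfl

end ExtLevel

end Groth.Agent.Lib.Helper8.CBC
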