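import Mathlib
import Groth.Agent.Lib.Helper8.CBC1

set_option autoImplicit false
set_option linter.style.haveILetI false
universe u

namespace Groth.Agent.Lib.Helper8.CBC

open TensorProduct Algebra

section ExtLevel2

variable {R S : Type u} [CommRing R] [CommRing S] [Algebra R S] (P : Algebra.Extension.{u} R S)
variable (T : Type u) [CommRing T] [Algebra R T]

attribute [local instance] Algebra.TensorProduct.rightAlgebra

/-- the comparison map `T ⊗[R] M → (T ⊗[R] S) ⊗[S] M` -/
noncomputable def lam (M : Type u) [AddCommGroup M] [Module R M] [Module S M]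
    [IsScalarTower R S M] : T ⊗[R] M →ₗ[R] (T ⊗[R] S) ⊗[S] M :=
  TensorProduct.lift (LinearMap.mk₂ R (fun t m => (t ⊗ₜ[R] (1 : S)) ⊗ₜ[S] m)
    (fun t₁ t₂ m => by rw [add_tmul, add_tmul])
    (fun r t m => by rw [← smul_tmul', ← smul_tmul'])
    (fun t m₁ m₂ => by rw [tmul_add])
    (fun r t m => by rw [tmul_smul]))

theorem lam_tmul (M : Type u) [AddCommGroup M] [Module R M] [Module S M]
    [IsScalarTower R S M] (t : T) (m : M) :
    lam T M (t ⊗ₜ m) = (t ⊗ₜ[R] (1 : S)) ⊗ₜ[S] m := rfl

theorem lam_surjective (M : Type u) [AddCommGroup M] [Module R M] [Module S M]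
    [IsScalarTower R S M] : Function.Surjective (lam (R := R) (S := S) T M) := by
  intro z
  induction z with
  | zero => exact ⟨0, map_zero _⟩
  | add x y hx hy =>
    obtain ⟨a, rfl⟩ := hx
    obtain ⟨b, rfl⟩ := hy
    exact ⟨a + b, map_add _ _ _⟩
  | tmul b m =>
    induction b with
    | zero => exact ⟨0, by rw [map_zero, zero_tmul]⟩
    | add x y hx hy =>
      obtain ⟨a, ha⟩ := hx
      obtain ⟨b, hb⟩ := hy
      exact ⟨a + b, by rw [map_add, ha, hb, add_tmul]⟩
    | tmul t s =>
      refine ⟨t ⊗ₜ (s • m), ?_⟩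
      rw [lam_tmul, ← smul_tmul]
      congr 1
      rw [Algebra.smul_def, Algebra.TensorProduct.right_algebraMap_apply,
        Algebra.TensorProduct.tmul_mul_tmul, one_mul, mul_one]

set_option backward.isDefEq.respectTransparency.types false in
/-- base change of a flat conormal module along an arbitrary base change, for a flat target -/
theorem flat_cotangent_baseChange [Module.Flat R S] [Module.Flat S P.Cotangent] :
    Module.Flat (T ⊗[R] S) (P.baseChange (T := T)).Cotangent := by
  let ψ : P.Cotangent →ₗ[S] (P.baseChange (T := T)).Cotangent :=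
    Algebra.Extension.Cotangent.map (P.toBaseChange T)
  let Ψ : (T ⊗[R] S) ⊗[S] P.Cotangent →ₗ[T ⊗[R] S] (P.baseChange (T := T)).Cotangent :=
    LinearMap.liftBaseChange (T ⊗[R] S) ψ
  have hcomp : ∀ z : T ⊗[R] P.Cotangent,
      Ψ (lam T P.Cotangent z) = tensorCotangentOfFlatTarget P T z := by
    intro z
    induction z with
    | zero => simp
    | add x y hx hy => rw [map_add, map_add, map_add, hx, hy]
    | tmul t x =>
      rw [lam_tmul, tensorCotangentOfFlatTarget_tmul, LinearMap.liftBaseChange_tmul]
      rw [← algebraMap_smul (T ⊗[R] S) t (ψ x)]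
      rfl
  have hbij : Function.Bijective Ψ := by
    constructor
    · rw [injective_iff_map_eq_zero]
      intro n hn
      obtain ⟨z, rfl⟩ := lam_surjective T P.Cotangent n
      rw [hcomp] at hn
      have : z = 0 := (tensorCotangentOfFlatTarget P T).injective (by rw [hn, map_zero])
      rw [this, map_zero]
    · intro y
      obtain ⟨z, rfl⟩ := (tensorCotangentOfFlatTarget P T).surjective y
      exact ⟨lam T P.Cotangent z, hcomp z⟩
  exact Module.Flat.of_linearEquiv (LinearEquiv.ofBijective Ψ hbij).symm

end ExtLevel2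

end Groth.Agent.Lib.Helper8.CBC
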