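import Groth.Agent.S7066
import Groth.Agent.S7072
import Groth.Agent.S2189
import Groth.Agent.S15821
import Groth.Agent.Lib.Helper12.DRingTorAmp
import Groth.Agent.Lib.Helper8.NLPerfect
import Mathlib.CategoryTheory.Abelian.Projective.Dimension

set_option autoImplicit false
set_option linter.style.haveILetI false
universe u

namespace Groth.Agent.Lib.Helper8.NLAmp

open CategoryTheory CategoryTheory.Limits Groth.Agent.Lib.Helper8.TorDimPoly Algebra
open Groth.Agent.Lib.Helper8.NLCompare

attribute [local instance] HasDerivedCategory.standard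

variable {A B : Type u} [CommRing A] [CommRing B] [Algebra A B]

/-- tor amplitude in `[-1, 0]` of the two-term cotangent complex of an extension forces the
conormal module to be flat -/
theorem flat_cotangent_of_torAmp (E : Extension.{u} A B) [Module.Flat B E.CotangentSpace]
    (hamp : DRing.HasTorAmplitudeIn B (-1) 0 (DRing.toD (nlCx E))) : Module.Flat B E.Cotangent := by
  have hb : DRing.VanishesAbove (nlCx E) 0 := by
    intro i hi
    exact HomologicalComplex.isZero_double_X _ _ i (by omega) (by omega)
  have hfl : ∀ j : ℤ, -1 < j → Module.Flat B ((nlCx E).X j) := by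
    intro j hj
    by_cases h0 : j = 0
    · subst h0
      let e1 := (HomologicalComplex.doubleXIso₁ (ModuleCat.ofHom E.cotangentComplex) rel ne).toLinearEquiv
      exact Module.Flat.of_linearEquiv e1
    · have hz := HomologicalComplex.isZero_double_X (ModuleCat.ofHom E.cotangentComplex) rel j
        (by omega) h0
      haveI : Subsingleton ((nlCx E).X j) := ModuleCat.subsingleton_of_isZero hz
      infer_instance
  have h1 := Groth.Agent.Lib.Helper12.flat_opcycles_of_hasTorAmplitudeIn (nlCx E) 0 hb (-1) 0 hfl hamp
  rw [Groth.Agent.Lib.Helper12.flat_opcycles_iff_quot] at h1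
  have hz : IsZero ((nlCx E).X (-1 - 1)) :=
    HomologicalComplex.isZero_double_X _ _ _ (by omega) (by omega)
  have hbot : LinearMap.range ((nlCx E).d (-1 - 1) (-1)).hom = ⊥ := by
    rw [hz.eq_of_src ((nlCx E).d (-1 - 1) (-1)) 0]
    simp
  let e0 := (HomologicalComplex.doubleXIso₀ (ModuleCat.ofHom E.cotangentComplex) rel).toLinearEquiv
  let e2 : ((nlCx E).X (-1) ⧸ LinearMap.range ((nlCx E).d (-1 - 1) (-1)).hom) ≃ₗ[B] E.Cotangent :=
    (Submodule.quotEquivOfEqBot _ hbot).trans e0
  exact Module.Flat.of_linearEquiv e2.symm

/-- over a Noetherian ring a finite module of finite Tor dimension has finite projective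
dimension -/
theorem pdLT_of_td (R : Type u) [CommRing R] [IsNoetherianRing R] :
    ∀ (k : ℕ) (M : Type u) [AddCommGroup M] [Module R M] [Module.Finite R M], TD R k M →
      HasProjectiveDimensionLT (ModuleCat.of R M) (k + 1) := by
  intro k
  induction k with
  | zero =>
    intro M _ _ _ h
    haveI := flat_of_td_zero M h
    haveI : Module.FinitePresentation R M := Module.finitePresentation_of_finite R M
    haveI : Module.Projective R M := Module.Flat.projective_of_finitePresentation
    haveI : Projective (ModuleCat.of R M) := (IsProjective.iff_projective _).mp ‹_›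
    infer_instance
  | succ k ih =>
    intro M _ _ _ h
    obtain ⟨r, p, hp⟩ := Module.Finite.exists_fin' R M
    let S : ShortComplex (ModuleCat.{u} R) :=
      ShortComplex.mk (ModuleCat.ofHom (LinearMap.ker p).subtype) (ModuleCat.ofHom p) (by
        ext x
        exact x.2)
    have hS : S.ShortExact := by
      refine ShortComplex.ShortExact.mk' ?_ ?_ ?_
      · rw [ShortComplex.ShortExact.moduleCat_exact_iff_function_exact]
        exact LinearMap.exact_subtype_ker_map p
      · exact (ModuleCat.mono_iff_injective _).mpr (Submodule.injective_subtype _)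
      · exact (ModuleCat.epi_iff_surjective _).mpr hp
    have hK : TD R k (LinearMap.ker p) :=
      td_left (LinearMap.ker p).subtype p (Submodule.injective_subtype _)
        (LinearMap.exact_subtype_ker_map _) hp k h
    have h1 : HasProjectiveDimensionLT S.X₁ (k + 1) := ih (LinearMap.ker p) hK
    have hFproj : Module.Projective R (Fin r → R) := inferInstance
    have hFP : Projective S.X₂ := (IsProjective.iff_projective (ModuleCat.of R (Fin r → R))).mp hFproj
    have h2 : HasProjectiveDimensionLT S.X₂ (k + 1 + 1) := inferInstance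
    exact hS.hasProjectiveDimensionLT_X₃ (k + 1) h1 h2


attribute [local instance] RingHomInvPair.of_ringEquiv in
/-- projectivity of the conormal module of an extension transfers to the quotient ring -/
theorem projective_ker_cotangent (P : Extension.{u} A B)
    [Module.Projective B P.Cotangent] : Module.Projective (P.Ring ⧸ P.ker) P.ker.Cotangent := by
  let σ : (P.Ring ⧸ P.ker) ≃+* B :=
    RingHom.quotientKerEquivOfSurjective (f := algebraMap P.Ring B) P.algebraMap_surjective
  let e : P.ker.Cotangent ≃ₛₗ[(σ : (P.Ring ⧸ P.ker) →+* B)] P.Cotangent :=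
    { toFun := Extension.Cotangent.of
      invFun := Extension.Cotangent.val
      left_inv := fun _ => rfl
      right_inv := fun _ => rfl
      map_add' := fun _ _ => rfl
      map_smul' := fun r x => by
        obtain ⟨r, rfl⟩ := Ideal.Quotient.mk_surjective r
        apply Extension.Cotangent.ext
        have h1 : σ (Ideal.Quotient.mk P.ker r) = algebraMap P.Ring B r := rfl
        show (Extension.Cotangent.of ((Ideal.Quotient.mk P.ker r) • x)).val =
          ((σ (Ideal.Quotient.mk P.ker r)) • Extension.Cotangent.of x).val
        rw [h1, algebraMap_smul, Extension.Cotangent.val_smul']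
        rfl }
  exact Module.Projective.of_equiv e.symm

/-- tor amplitude in `[-1, 0]` of the naive cotangent complex implies lci, for finite type algebras
of finite Tor dimension over a Noetherian ring -/
theorem isLCI_of_torAmp [IsNoetherianRing A] [Algebra.FiniteType A B]
    (hB : DRing.HasFiniteTorDim A B)
    (hamp : DRing.HasTorAmplitudeIn B (-1) 0 (LCI.NL A B)) : LCI.IsLCI A B := by
  obtain ⟨n, f, hf⟩ := Algebra.FiniteType.iff_quotient_mvPolynomial''.mp ‹Algebra.FiniteType A B›
  refine ⟨inferInstance, n, f, hf, ?_⟩
  haveI : IsNoetherianRing B := Algebra.FiniteType.isNoetherianRing A B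
  let E : Algebra.Extension.{u} A B := Algebra.Extension.ofSurjective f hf
  show LCI.IsKoszulRegularIdeal E.ker
  haveI : Module.Free (MvPolynomial (Fin n) A) Ω[MvPolynomial (Fin n) A⁄A] := inferInstance
  letI : Algebra (MvPolynomial (Fin n) A) B := f.toAlgebra
  haveI : Module.Flat B E.CotangentSpace := by
    show Module.Flat B (TensorProduct (MvPolynomial (Fin n) A) B Ω[MvPolynomial (Fin n) A⁄A])
    infer_instance
  let ψ : E.Hom (Algebra.Generators.self A B).toExtension :=
    Algebra.Extension.Hom.ofAlgHom
      (MvPolynomial.aeval (fun i : Fin n => (MvPolynomial.X (f (MvPolynomial.X i)) : MvPolynomial B A)))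
      (by
        apply MvPolynomial.algHom_ext
        intro i
        show algebraMap (Algebra.Generators.self A B).toExtension.Ring B
            (MvPolynomial.aeval (fun i : Fin n => (MvPolynomial.X (f (MvPolynomial.X i)) :
              MvPolynomial B A)) (MvPolynomial.X i)) =
          f (MvPolynomial.X i)
        have h1 : (MvPolynomial.aeval (fun i : Fin n => (MvPolynomial.X (f (MvPolynomial.X i)) :
            MvPolynomial B A))) (MvPolynomial.X i : MvPolynomial (Fin n) A) =
            (MvPolynomial.X (f (MvPolynomial.X i)) : MvPolynomial B A) :=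
          MvPolynomial.aeval_X _ _
        have h2 : algebraMap (Algebra.Generators.self A B).toExtension.Ring B
            (MvPolynomial.X (R := A) (f (MvPolynomial.X i))) = f (MvPolynomial.X i) := by
          have := (Algebra.Generators.self A B).algebraMap_apply
            (MvPolynomial.X (R := A) (f (MvPolynomial.X i)))
          rw [MvPolynomial.aeval_X] at this
          exact this
        exact (congrArg _ h1).trans h2)
  have e : DRing.toD (nlCx E) ≅ LCI.NL A B := (nlIso (Extension.defaultHom A B E) ψ).symm
  have hamp' : DRing.HasTorAmplitudeIn B (-1) 0 (DRing.toD (nlCx E)) := by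
    obtain ⟨F, hF, hFfl, ⟨eF⟩⟩ := hamp
    exact ⟨F, hF, hFfl, ⟨eF ≪≫ e.symm⟩⟩
  haveI hflat : Module.Flat B E.Cotangent := flat_cotangent_of_torAmp E hamp'
  haveI hPN : IsNoetherianRing (MvPolynomial (Fin n) A) := inferInstance
  obtain ⟨I, hI⟩ : ∃ I : Ideal (MvPolynomial (Fin n) A), I = RingHom.ker f.toRingHom := ⟨_, rfl⟩
  have hEI : E.ker = I := hI.symm
  have hfg : E.ker.FG := by
    rw [hEI]
    exact (isNoetherianRing_iff_ideal_fg _).1 hPN _
  haveI : Module.Finite B E.Cotangent := Extension.Cotangent.finite hfg
  haveI : Module.FinitePresentation B E.Cotangent := Module.finitePresentation_of_finite B _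
  haveI : Module.Projective B E.Cotangent := Module.Flat.projective_of_finitePresentation
  haveI hproj : Module.Projective (MvPolynomial (Fin n) A ⧸ I) I.Cotangent := by
    have := projective_ker_cotangent E
    rw [hI]
    exact this
  -- finite projective dimension
  obtain ⟨d, hd⟩ := hB
  haveI : IsScalarTower A (MvPolynomial (Fin n) A) B :=
    IsScalarTower.of_algebraMap_eq (fun a => (f.commutes a).symm)
  have h1 : TD (MvPolynomial (Fin n) A) (d + n) B :=
    td_mvPolynomial A d n B ((Groth.Agent.S7066.td_iff A B d).1 hd)
  haveI : Module.Finite (MvPolynomial (Fin n) A) B :=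
    Module.Finite.of_surjective (Algebra.linearMap (MvPolynomial (Fin n) A) B) hf
  have h2 := pdLT_of_td (MvPolynomial (Fin n) A) (d + n) B h1
  let S : ShortComplex (ModuleCat.{u} (MvPolynomial (Fin n) A)) :=
    ShortComplex.mk (ModuleCat.ofHom (LinearMap.ker (Algebra.linearMap (MvPolynomial (Fin n) A) B)).subtype)
      (ModuleCat.ofHom (Algebra.linearMap (MvPolynomial (Fin n) A) B)) (by
        ext x
        exact x.2)
  have hS : S.ShortExact := by
    refine ShortComplex.ShortExact.mk' ?_ ?_ ?_
    · rw [ShortComplex.ShortExact.moduleCat_exact_iff_function_exact]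
      exact LinearMap.exact_subtype_ker_map _
    · exact (ModuleCat.mono_iff_injective _).mpr (Submodule.injective_subtype _)
    · exact (ModuleCat.epi_iff_surjective _).mpr hf
  have hP : Projective S.X₂ :=
    (IsProjective.iff_projective (ModuleCat.of (MvPolynomial (Fin n) A) (MvPolynomial (Fin n) A))).mp
      inferInstance
  have h3 : HasProjectiveDimensionLT S.X₂ (d + n + 1) := inferInstance
  have h4 : HasProjectiveDimensionLT S.X₃ (d + n + 1 + 1) :=
    hasProjectiveDimensionLT_of_ge _ (d + n + 1) _ (Nat.le_succ _)
  have h5 : HasProjectiveDimensionLT S.X₁ (d + n + 1) := hS.hasProjectiveDimensionLT_X₁ _ h3 h4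
  have hpd : HasProjectiveDimensionLT (ModuleCat.of (MvPolynomial (Fin n) A) I) (d + n + 1) := by
    rw [hI]
    exact h5
  show LCI.IsKoszulRegularIdeal (RingHom.ker f.toRingHom)
  rw [← hI]
  intro 𝔭 h𝔭
  obtain ⟨g, hg, rs, hreg, hrs⟩ := Groth.Agent.S2189.result (R := MvPolynomial (Fin n) A) I
    (d + n + 1) hpd 𝔭.asIdeal h𝔭
  refine ⟨g, hg, rs, (Groth.Agent.S15821.result _ rs hreg.toIsWeaklyRegular).1, ?_⟩
  rw [← hrs]

end Groth.Agent.Lib.Helper8.NLAmp
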