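import Mathlib
import Groth.Agent.Lib.Helper8.CBC2
import Groth.Agent.Lib.Helper8.NLAmp

set_option autoImplicit false
set_option linter.style.haveILetI false
set_option maxHeartbeats 400000
universe u

namespace Groth.Agent.Lib.Helper8.CBC

open TensorProduct Algebra CategoryTheory Groth.Agent.Lib.Helper8.TorDimPoly

section Vasc

variable {A : Type u} [CommRing A] (n : ℕ) (κ : Type u) [Field κ] [Algebra A κ]

/-- finite projective dimension of finite modules over `κ ⊗ A[x]` -/
theorem pdLT_tensor_mvPolynomial (M : Type u) [AddCommGroup M]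
    [Module (κ ⊗[A] MvPolynomial (Fin n) A) M] [Module.Finite (κ ⊗[A] MvPolynomial (Fin n) A) M]
    [Module κ M] [IsScalarTower κ (κ ⊗[A] MvPolynomial (Fin n) A) M] :
    HasProjectiveDimensionLT (ModuleCat.of (κ ⊗[A] MvPolynomial (Fin n) A) M) (n + 1) := by
  let θ : κ ⊗[A] MvPolynomial (Fin n) A ≃ₐ[κ] MvPolynomial (Fin n) κ :=
    MvPolynomial.algebraTensorAlgEquiv A κ
  haveI : IsNoetherianRing (κ ⊗[A] MvPolynomial (Fin n) A) :=
    isNoetherianRing_of_ringEquiv _ θ.symm.toRingEquiv
  letI : Algebra (κ ⊗[A] MvPolynomial (Fin n) A) (MvPolynomial (Fin n) κ) :=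
    (θ.toAlgHom.toRingHom).toAlgebra
  haveI : Module.Flat (κ ⊗[A] MvPolynomial (Fin n) A) (MvPolynomial (Fin n) κ) :=
    flat_of_bijective _ _ θ.bijective
  letI : Module (MvPolynomial (Fin n) κ) M :=
    Module.compHom M (θ.symm.toAlgHom.toRingHom)
  have hsm : ∀ (r' : MvPolynomial (Fin n) κ) (m : M), r' • m = θ.symm r' • m := fun _ _ => rfl
  haveI : IsScalarTower (κ ⊗[A] MvPolynomial (Fin n) A) (MvPolynomial (Fin n) κ) M := by
    constructor
    intro r r' m
    rw [hsm, hsm, Algebra.smul_def, map_mul, mul_smul]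
    congr 1
    exact θ.symm_apply_apply r
  haveI : IsScalarTower κ (MvPolynomial (Fin n) κ) M := by
    constructor
    intro c r' m
    rw [hsm, hsm, map_smul, smul_assoc]
  have h0 : TD κ 0 M := td_of_flat M 0
  have h1 : TD (MvPolynomial (Fin n) κ) (0 + n) M := td_mvPolynomial κ 0 n M h0
  have h2 : TD (κ ⊗[A] MvPolynomial (Fin n) A) (0 + n) M :=
    td_restrict (κ ⊗[A] MvPolynomial (Fin n) A) (MvPolynomial (Fin n) κ) (0 + n) M h1
  have h3 := Groth.Agent.Lib.Helper8.NLAmp.pdLT_of_td (κ ⊗[A] MvPolynomial (Fin n) A) (0 + n) M h2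
  rw [zero_add] at h3
  exact h3

end Vasc

section Fibre

variable {A B : Type u} [CommRing A] [CommRing B] [Algebra A B] [Module.Flat A B]

attribute [local instance] Algebra.TensorProduct.rightAlgebra

/-- if the conormal module of a presentation of a flat algebra is flat, then the base change of
the kernel to any field is a Koszul-regular ideal -/
theorem isKoszulRegularIdeal_map_of_flat_cotangent (n : ℕ)
    (f : MvPolynomial (Fin n) A →ₐ[A] B) (hf : Function.Surjective f)
    (hfg : (RingHom.ker f.toRingHom).FG)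
    (hflat : Module.Flat B (Algebra.Extension.ofSurjective f hf).Cotangent)
    (κ : Type u) [Field κ] [Algebra A κ] :
    LCI.IsKoszulRegularIdeal ((RingHom.ker f.toRingHom).map
      (Algebra.TensorProduct.includeRight (R := A) (A := κ) (B := MvPolynomial (Fin n) A))) := by
  let E : Algebra.Extension.{u} A B := Algebra.Extension.ofSurjective f hf
  let E' : Algebra.Extension.{u} κ (κ ⊗[A] B) := E.baseChange (T := κ)
  haveI : Module.Flat B E.Cotangent := hflat
  haveI hfl' : Module.Flat (κ ⊗[A] B) E'.Cotangent := flat_cotangent_baseChange E κ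
  have hker : E'.ker = (RingHom.ker f.toRingHom).map
      (Algebra.TensorProduct.includeRight (R := A) (A := κ) (B := MvPolynomial (Fin n) A)) :=
    E.ker_baseChange κ
  rw [← hker]
  have hfg' : E'.ker.FG := by
    rw [hker]
    exact hfg.map _
  haveI : Algebra.FiniteType A B := Algebra.FiniteType.of_surjective f hf
  haveI : IsNoetherianRing (κ ⊗[A] B) := Algebra.FiniteType.isNoetherianRing κ (κ ⊗[A] B)
  haveI : Module.Finite (κ ⊗[A] B) E'.Cotangent := Algebra.Extension.Cotangent.finite hfg'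
  haveI : Module.FinitePresentation (κ ⊗[A] B) E'.Cotangent :=
    Module.finitePresentation_of_finite (κ ⊗[A] B) _
  haveI : Module.Projective (κ ⊗[A] B) E'.Cotangent := Module.Flat.projective_of_finitePresentation
  haveI hproj : Module.Projective (E'.Ring ⧸ E'.ker) E'.ker.Cotangent :=
    Groth.Agent.Lib.Helper8.NLAmp.projective_ker_cotangent E'
  let θ : κ ⊗[A] MvPolynomial (Fin n) A ≃ₐ[κ] MvPolynomial (Fin n) κ :=
    MvPolynomial.algebraTensorAlgEquiv A κ
  haveI hN : IsNoetherianRing (κ ⊗[A] MvPolynomial (Fin n) A) :=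
    isNoetherianRing_of_ringEquiv _ θ.symm.toRingEquiv
  obtain ⟨J, hJ⟩ : ∃ J : Ideal (κ ⊗[A] MvPolynomial (Fin n) A), J = E'.ker := ⟨_, rfl⟩
  haveI : Module.Finite (κ ⊗[A] MvPolynomial (Fin n) A) J :=
    Module.Finite.of_fg ((isNoetherianRing_iff_ideal_fg _).1 hN J)
  have hpd : HasProjectiveDimensionLT (ModuleCat.of (κ ⊗[A] MvPolynomial (Fin n) A) J) (n + 1) :=
    pdLT_tensor_mvPolynomial n κ J
  haveI hproj' : Module.Projective ((κ ⊗[A] MvPolynomial (Fin n) A) ⧸ J) J.Cotangent := by
    rw [hJ]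
    exact hproj
  rw [← hJ]
  intro 𝔭 h𝔭
  obtain ⟨g, hg, rs, hreg, hrs⟩ := Groth.Agent.S2189.result (R := κ ⊗[A] MvPolynomial (Fin n) A) J
    (n + 1) hpd 𝔭.asIdeal h𝔭
  refine ⟨g, hg, rs, (Groth.Agent.S15821.result _ rs hreg.toIsWeaklyRegular).1, ?_⟩
  rw [← hrs]

end Fibre

end Groth.Agent.Lib.Helper8.CBC
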