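import Mathlib

set_option autoImplicit false

namespace Groth.Agent.Lib.Helper8.CharSeq

open TensorProduct Polynomial

universe u

variable {R : Type u} [CommRing R] {M : Type u} [AddCommGroup M] [Module R M] [Module R[X] M]
  [IsScalarTower R R[X] M]

/-- multiplication by `X` on `M` as an `R`-linear map -/
noncomputable def mulX : M →ₗ[R] M := (LinearMap.lsmul R[X] M X).restrictScalars R

@[simp] lemma mulX_apply (m : M) : mulX (R := R) m = (X : R[X]) • m := rfl

variable (R M) in
/-- the evaluation map `R[X] ⊗ M → M` -/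
noncomputable def piMap : R[X] ⊗[R] M →ₗ[R[X]] M :=
  LinearMap.liftBaseChange R[X] (LinearMap.id : M →ₗ[R] M)

@[simp] lemma piMap_tmul (p : R[X]) (m : M) : piMap R M (p ⊗ₜ m) = p • m := rfl

variable (R M) in
/-- the map `X ⊗ 1 - 1 ⊗ X` -/
noncomputable def psiMap : R[X] ⊗[R] M →ₗ[R[X]] R[X] ⊗[R] M :=
  LinearMap.lsmul R[X] (R[X] ⊗[R] M) X - LinearMap.baseChange R[X] (mulX (R := R) (M := M))

lemma psiMap_tmul (p : R[X]) (m : M) :
    psiMap R M (p ⊗ₜ m) = (X * p) ⊗ₜ m - p ⊗ₜ ((X : R[X]) • m) := by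
  simp [psiMap, TensorProduct.smul_tmul']

lemma piMap_surjective : Function.Surjective (piMap R M) := fun m => ⟨1 ⊗ₜ m, by simp⟩

lemma piMap_psiMap (t : R[X] ⊗[R] M) : piMap R M (psiMap R M t) = 0 := by
  induction t using TensorProduct.induction_on with
  | zero => simp
  | tmul p m => rw [psiMap_tmul, map_sub, piMap_tmul, piMap_tmul, mul_comm, mul_smul, sub_self]
  | add x y hx hy => rw [map_add, map_add, hx, hy, add_zero]

variable (R M) in
/-- coefficients -/
noncomputable def coeffEquiv : R[X] ⊗[R] M ≃ₗ[R] (ℕ →₀ M) :=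
  TensorProduct.equivFinsuppOfBasisLeft (Polynomial.basisMonomials R)

omit [Module R[X] M] [IsScalarTower R R[X] M] in
lemma coeffEquiv_tmul (p : R[X]) (m : M) (j : ℕ) :
    coeffEquiv R M (p ⊗ₜ m) j = p.coeff j • m := by
  rw [coeffEquiv, TensorProduct.equivFinsuppOfBasisLeft_apply_tmul_apply]
  congr 1

lemma coeffEquiv_psiMap (t : R[X] ⊗[R] M) (j : ℕ) :
    coeffEquiv R M (psiMap R M t) (j + 1) =
      coeffEquiv R M t j - (X : R[X]) • coeffEquiv R M t (j + 1) := by
  induction t using TensorProduct.induction_on with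
  | zero => simp
  | tmul p m =>
    rw [psiMap_tmul, map_sub, Finsupp.sub_apply, coeffEquiv_tmul, coeffEquiv_tmul, coeffEquiv_tmul,
      coeffEquiv_tmul, Polynomial.coeff_X_mul, smul_comm]
  | add x y hx hy =>
    simp only [map_add, Finsupp.add_apply, hx, hy, smul_add]
    abel

lemma psiMap_injective : Function.Injective (psiMap R M) := by
  rw [injective_iff_map_eq_zero]
  intro t ht
  by_contra hne
  have hs : coeffEquiv R M t ≠ 0 := fun h => hne ((coeffEquiv R M).map_eq_zero_iff.1 h)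
  have hsupp : (coeffEquiv R M t).support.Nonempty := Finsupp.support_nonempty_iff.2 hs
  set j := (coeffEquiv R M t).support.max' hsupp with hj
  have hjmem : j ∈ (coeffEquiv R M t).support := Finset.max'_mem _ hsupp
  have hj1 : coeffEquiv R M t (j + 1) = 0 := by
    by_contra h
    have : j + 1 ≤ j := Finset.le_max' _ _ (Finsupp.mem_support_iff.2 h)
    omega
  have := coeffEquiv_psiMap t j
  rw [ht, map_zero, hj1, smul_zero, sub_zero] at this
  exact (Finsupp.mem_support_iff.1 hjmem) this.symm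

lemma sub_mem_range_psiMap (t : R[X] ⊗[R] M) :
    t - (1 : R[X]) ⊗ₜ[R] (piMap R M t) ∈ LinearMap.range (psiMap R M) := by
  have key : ∀ (n : ℕ) (m : M), (X ^ n : R[X]) ⊗ₜ[R] m - (1 : R[X]) ⊗ₜ[R] ((X ^ n : R[X]) • m) ∈
      LinearMap.range (psiMap R M) := by
    intro n
    induction n with
    | zero => intro m; simp
    | succ n ih =>
      intro m
      have h1 : (X ^ (n + 1) : R[X]) ⊗ₜ[R] m - (1 : R[X]) ⊗ₜ[R] ((X ^ (n + 1) : R[X]) • m) =
          psiMap R M ((X ^ n : R[X]) ⊗ₜ m) +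
            ((X ^ n : R[X]) ⊗ₜ[R] ((X : R[X]) • m) -
              (1 : R[X]) ⊗ₜ[R] ((X ^ n : R[X]) • ((X : R[X]) • m))) := by
        rw [psiMap_tmul, pow_succ, mul_smul, mul_comm]
        abel
      rw [h1]
      exact Submodule.add_mem _ ⟨_, rfl⟩ (ih _)
  induction t using TensorProduct.induction_on with
  | zero => simp
  | tmul p m =>
    induction p using Polynomial.induction_on' with
    | add p q hp hq =>
      have : (p + q) ⊗ₜ[R] m - (1 : R[X]) ⊗ₜ[R] (piMap R M ((p + q) ⊗ₜ m)) =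
          (p ⊗ₜ[R] m - (1 : R[X]) ⊗ₜ[R] (piMap R M (p ⊗ₜ m))) +
            (q ⊗ₜ[R] m - (1 : R[X]) ⊗ₜ[R] (piMap R M (q ⊗ₜ m))) := by
        rw [add_tmul, map_add, tmul_add]
        abel
      rw [this]
      exact Submodule.add_mem _ hp hq
    | monomial n a =>
      have h2 : (monomial n a : R[X]) = a • (X ^ n : R[X]) := by
        rw [← Polynomial.C_mul_X_pow_eq_monomial, Polynomial.smul_eq_C_mul]
      have : (monomial n a : R[X]) ⊗ₜ[R] m -
          (1 : R[X]) ⊗ₜ[R] (piMap R M ((monomial n a : R[X]) ⊗ₜ m)) =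
          (X ^ n : R[X]) ⊗ₜ[R] (a • m) - (1 : R[X]) ⊗ₜ[R] ((X ^ n : R[X]) • (a • m)) := by
        rw [piMap_tmul, h2, TensorProduct.smul_tmul, smul_assoc, smul_comm]
      rw [this]
      exact key n _
  | add x y hx hy =>
    have : x + y - (1 : R[X]) ⊗ₜ[R] (piMap R M (x + y)) =
        (x - (1 : R[X]) ⊗ₜ[R] (piMap R M x)) + (y - (1 : R[X]) ⊗ₜ[R] (piMap R M y)) := by
      rw [map_add, tmul_add]
      abel
    rw [this]
    exact Submodule.add_mem _ hx hy

lemma exact_psiMap_piMap : Function.Exact (psiMap R M) (piMap R M) := by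
  intro t
  constructor
  · intro h
    have := sub_mem_range_psiMap t
    rw [h, tmul_zero, sub_zero] at this
    exact this
  · rintro ⟨s, rfl⟩
    exact piMap_psiMap s

end Groth.Agent.Lib.Helper8.CharSeq
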