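import Groth.Agent.Lib.Helper8.FlatCx5
import Mathlib.RingTheory.LocalProperties.Projective
import Mathlib.RingTheory.Localization.BaseChange
import Mathlib.RingTheory.Spectrum.Prime.Module
import Mathlib.RingTheory.Ideal.MinimalPrime.Localization

/-!
# Fibre ranks over reduced rings (helper8)

* `exists_finsupp_map`: a finite module is generated near `x` by `fibreRank N x` elements.
* `free_of_fibreRank_eq`: over a reduced local ring, a finite module whose fibre rank at the
  minimal primes equals that at the closed point is free.
* `fibreRank_baseChange`: fibre ranks are compatible with base change.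
* `projective_of_fibreRank_locallyConstant`: over a reduced ring, a finitely presented module with
  locally constant fibre rank is projective.
-/

set_option autoImplicit false
universe u
open TensorProduct

namespace Groth.Agent.Lib.Helper8.FlatCx

variable {A : Type u} [CommRing A]

/-- generators of the fibre spread out: there is a map from a free module of rank the fibre rank
at `x` whose cokernel vanishes near `x`. -/
theorem exists_finsupp_map (N : Type u) [AddCommGroup N] [Module A N]
    [Module.Finite A N] (x : PrimeSpectrum A) :
    ∃ (b : Type u) (_ : Fintype b) (g : (b →₀ A) →ₗ[A] N),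
      Fintype.card b = fibreRank N x ∧ x ∉ Module.support A (N ⧸ LinearMap.range g) := by
  classical
  unfold fibreRank
  set k := x.asIdeal.ResidueField with hk
  let S : Set (k ⊗[A] N) := Set.range (fun m : N => (1 : k) ⊗ₜ[A] m)
  have hS : Submodule.span k S = ⊤ := by
    rw [eq_top_iff]; rintro z -
    induction z using TensorProduct.induction_on with
    | zero => exact zero_mem _
    | tmul a m =>
      have : a ⊗ₜ[A] m = a • ((1 : k) ⊗ₜ[A] m) := by
        rw [TensorProduct.smul_tmul', smul_eq_mul, mul_one]
      rw [this]; exact Submodule.smul_mem _ _ (Submodule.subset_span ⟨m, rfl⟩)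
    | add a b ha hb => exact add_mem ha hb
  obtain ⟨b, hbS, hbspan, hbli⟩ := exists_linearIndependent k S
  let B : Module.Basis b k (k ⊗[A] N) :=
    Module.Basis.mk hbli (by rw [Subtype.range_coe, hbspan, hS])
  have hfin : Finite b := Module.Finite.finite_basis B
  let _ : Fintype b := Fintype.ofFinite b
  have hcard : Module.finrank k (k ⊗[A] N) = Fintype.card b := Module.finrank_eq_card_basis B
  choose f hf using fun i : b => hbS i.2
  let g : (b →₀ A) →ₗ[A] N := Finsupp.linearCombination A f
  refine ⟨b, inferInstance, g, hcard.symm, ?_⟩
  have hex : Function.Exact g (LinearMap.range g).mkQ := LinearMap.exact_map_mkQ_range g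
  have hsurj : Function.Surjective (LinearMap.range g).mkQ := Submodule.mkQ_surjective _
  rw [Module.mem_support_iff_nontrivial_residueField_tensorProduct,
    not_nontrivial_iff_subsingleton]
  have hex' := lTensor_exact k hex hsurj
  have hs : LinearMap.range (LinearMap.baseChange k g) = ⊤ := by
    rw [eq_top_iff, ← B.span_eq, Submodule.span_le]
    rintro _ ⟨i, rfl⟩
    refine ⟨(1 : k) ⊗ₜ[A] Finsupp.single i 1, ?_⟩
    rw [LinearMap.baseChange_tmul]
    simp only [g, Finsupp.linearCombination_single, one_smul, B, Module.Basis.mk_apply]
    exact hf i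
  refine ⟨fun a c => ?_⟩
  have h0 : ∀ z : k ⊗[A] (N ⧸ LinearMap.range g), z = 0 := by
    intro z
    obtain ⟨w, rfl⟩ := LinearMap.lTensor_surjective k hsurj z
    have hw : w ∈ LinearMap.range (LinearMap.baseChange k g) := hs ▸ Submodule.mem_top
    obtain ⟨v, rfl⟩ := hw
    exact (hex' _).mpr ⟨v, rfl⟩
  rw [h0 a, h0 c]

/-- if the cokernel of `g : A^b → N` vanishes at `y`, then `k(y) ⊗ g` is surjective. -/
theorem baseChange_surjective_of_notMem_support {N : Type u} [AddCommGroup N] [Module A N]
    [Module.Finite A N] {b : Type u} (g : (b →₀ A) →ₗ[A] N) (y : PrimeSpectrum A)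
    (hy : y ∉ Module.support A (N ⧸ LinearMap.range g)) :
    Function.Surjective (LinearMap.baseChange y.asIdeal.ResidueField g) := by
  have hex : Function.Exact g (LinearMap.range g).mkQ := LinearMap.exact_map_mkQ_range g
  have hsurj : Function.Surjective (LinearMap.range g).mkQ := Submodule.mkQ_surjective _
  rw [Module.mem_support_iff_nontrivial_residueField_tensorProduct,
    not_nontrivial_iff_subsingleton] at hy
  have hex' := lTensor_exact y.asIdeal.ResidueField hex hsurj
  intro w
  have : (LinearMap.range g).mkQ.lTensor y.asIdeal.ResidueField w = 0 := Subsingleton.elim _ _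
  obtain ⟨v, hv⟩ := (hex' w).mp this
  exact ⟨v, hv⟩

theorem finrank_baseChange_finsupp (b : Type u) [Fintype b] (y : PrimeSpectrum A) :
    Module.finrank y.asIdeal.ResidueField (y.asIdeal.ResidueField ⊗[A] (b →₀ A)) =
      Fintype.card b := by
  have : Nontrivial A :=
    ⟨⟨0, 1, fun h => y.isPrime.ne_top ((Ideal.eq_top_iff_one _).mpr (h ▸ zero_mem _))⟩⟩
  rw [Module.finrank_baseChange, Module.finrank_finsupp_self]

/-- Over a reduced local ring, a finite module whose fibre rank at every minimal prime equals the
fibre rank at the closed point is free. -/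
theorem free_of_fibreRank_eq [IsLocalRing A] [IsReduced A] (N : Type u) [AddCommGroup N]
    [Module A N] [Module.Finite A N]
    (h : ∀ q : PrimeSpectrum A, q.asIdeal ∈ minimalPrimes A →
      fibreRank N q = fibreRank N (IsLocalRing.closedPoint A)) :
    Module.Free A N := by
  classical
  obtain ⟨b, _, g, hcard, hsupp⟩ := exists_finsupp_map N (IsLocalRing.closedPoint A)
  -- `g` is surjective
  have hsub : Subsingleton (N ⧸ LinearMap.range g) := by
    by_contra hne
    rw [not_subsingleton_iff_nontrivial] at hne
    exact hsupp (IsLocalRing.closedPoint_mem_support A _)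
  have hgsurj : Function.Surjective g := by
    rw [← LinearMap.range_eq_top]
    exact Submodule.Quotient.subsingleton_iff.mp hsub
  -- `g` is injective
  have hginj : Function.Injective g := by
    rw [injective_iff_map_eq_zero]
    intro v hv
    have hmem : ∀ i : b, v i ∈ nilradical A := by
      intro i
      rw [nilradical, ← Ideal.sInf_minimalPrimes, Ideal.mem_sInf]
      intro q hq
      have hqp : q.IsPrime := hq.1.1
      let Q : PrimeSpectrum A := ⟨q, hqp⟩
      set kq := Q.asIdeal.ResidueField with hkq
      have hQ : Q ∉ Module.support A (N ⧸ LinearMap.range g) := by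
        rw [Module.support_eq_empty]
        exact Set.notMem_empty _
      have hs := baseChange_surjective_of_notMem_support g Q hQ
      have hfr : Module.finrank kq (kq ⊗[A] (b →₀ A)) = Module.finrank kq (kq ⊗[A] N) := by
        rw [finrank_baseChange_finsupp, hcard]
        exact (h Q hq).symm
      have hinj : Function.Injective (LinearMap.baseChange kq g) :=
        (LinearMap.injective_iff_surjective_of_finrank_eq_finrank hfr).mpr hs
      have h1 : (1 : kq) ⊗ₜ[A] v = 0 := by
        apply hinj
        rw [LinearMap.baseChange_tmul, hv, TensorProduct.tmul_zero, map_zero]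
      -- apply the coordinate functional
      have h2 := congrArg (LinearMap.lTensor kq (Finsupp.lapply (R := A) (M := A) i)) h1
      rw [LinearMap.lTensor_tmul, map_zero] at h2
      have h3 := congrArg (TensorProduct.rid A kq) h2
      rw [TensorProduct.rid_tmul, map_zero, Finsupp.lapply_apply, Algebra.smul_def, mul_one] at h3
      exact Ideal.algebraMap_residueField_eq_zero.mp h3
    ext i
    have := hmem i
    rw [nilradical_eq_zero, Ideal.zero_eq_bot, Ideal.mem_bot] at this
    simpa using this
  exact Module.Free.of_equiv (LinearEquiv.ofBijective g ⟨hginj, hgsurj⟩)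

/-- fibre ranks are compatible with base change. -/
theorem fibreRank_baseChange {R R' : Type u} [CommRing R] [CommRing R'] [Algebra R R']
    (N : Type u) [AddCommGroup N] [Module R N] (q' : PrimeSpectrum R') :
    fibreRank (R' ⊗[R] N) q' = fibreRank N (PrimeSpectrum.comap (algebraMap R R') q') := by
  unfold fibreRank
  set q := PrimeSpectrum.comap (algebraMap R R') q' with hq
  let k := q.asIdeal.ResidueField
  let k' := q'.asIdeal.ResidueField
  let φ : k →+* k' := Ideal.ResidueField.map q.asIdeal q'.asIdeal (algebraMap R R') rfl
  let _ : Algebra k k' := φ.toAlgebra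
  have : IsScalarTower R k k' := IsScalarTower.of_algebraMap_eq (fun r => by
    rw [RingHom.algebraMap_toAlgebra, Ideal.ResidueField.map_algebraMap]
    exact IsScalarTower.algebraMap_apply R R' k' r)
  let e1 : k' ⊗[R'] (R' ⊗[R] N) ≃ₗ[k'] k' ⊗[R] N :=
    AlgebraTensorModule.cancelBaseChange R R' k' k' N
  let e2 : k' ⊗[k] (k ⊗[R] N) ≃ₗ[k'] k' ⊗[R] N :=
    AlgebraTensorModule.cancelBaseChange R k k' k' N
  have h1 : Module.finrank k' (k' ⊗[R'] (R' ⊗[R] N)) = Module.finrank k' (k' ⊗[R] N) :=
    e1.finrank_eq
  have h2 : Module.finrank k' (k' ⊗[k] (k ⊗[R] N)) = Module.finrank k' (k' ⊗[R] N) :=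
    e2.finrank_eq
  have h3 : Module.finrank k' (k' ⊗[k] (k ⊗[R] N)) = Module.finrank k (k ⊗[R] N) :=
    Module.finrank_baseChange
  exact h1.trans (h2.symm.trans h3)

/-- Over a reduced ring, a finitely presented module with locally constant fibre rank is
projective. -/
theorem projective_of_fibreRank_locallyConstant {R : Type u} [CommRing R] [IsReduced R]
    (N : Type u) [AddCommGroup N] [Module R N] [Module.FinitePresentation R N]
    (h : IsLocallyConstant (fibreRank (A := R) N)) : Module.Projective R N := by
  refine Module.projective_of_localization_maximal' (fun P _ => Localization.AtPrime P)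
    (fun P _ => Localization.AtPrime P ⊗[R] N)
    (fun P _ => TensorProduct.mk R (Localization.AtPrime P) N 1) ?_
  intro I hI
  have hfree : Module.Free (Localization.AtPrime I) (Localization.AtPrime I ⊗[R] N) := by
    apply free_of_fibreRank_eq
    intro q' _
    rw [fibreRank_baseChange, fibreRank_baseChange]
    have hs0 : q' ⤳ IsLocalRing.closedPoint (Localization.AtPrime I) :=
      (PrimeSpectrum.le_iff_specializes _ _).mp (IsLocalRing.le_maximalIdeal q'.isPrime.ne_top)
    have hs := hs0.map (PrimeSpectrum.continuous_comap (algebraMap R (Localization.AtPrime I)))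
    exact ((h.eventually_eq _).filter_mono hs).self_of_nhds
  infer_instance

end Groth.Agent.Lib.Helper8.FlatCx
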