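import Groth.Agent.Lib.Helper8.FlatCx10

/-!
# Flatness of homology and opcycles (helper8)
-/

set_option autoImplicit false
set_option maxHeartbeats 400000
universe u
open CategoryTheory CategoryTheory.Limits MonoidalCategory TensorProduct

namespace Groth.Agent.Lib.Helper8.FlatCx

section linalg

variable {A : Type u} [CommRing A]
  {H Z B : Type u} [AddCommGroup H] [Module A H] [AddCommGroup Z] [Module A Z]
  [AddCommGroup B] [Module A B]

/-- an extension of flat modules is flat. -/
theorem flat_of_flat_of_flat (i : H →ₗ[A] Z) (f : Z →ₗ[A] B)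
    (hi : Function.Injective i) (hif : Function.Exact i f) (hf : Function.Surjective f)
    [Module.Flat A H] [Module.Flat A B] : Module.Flat A Z := by
  rw [Module.Flat.iff_lTensor_injective']
  intro I
  rw [injective_iff_map_eq_zero]
  intro x hx
  -- image in `B ⊗ I`
  have h1 : Function.Injective (I.subtype.lTensor B) :=
    Module.Flat.lTensor_preserves_injective_linearMap _ Subtype.val_injective
  have h2 : Function.Injective (I.subtype.lTensor H) :=
    Module.Flat.lTensor_preserves_injective_linearMap _ Subtype.val_injective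
  have h3 : I.subtype.lTensor B (f.rTensor I x) = 0 := by
    have : (I.subtype.lTensor B) ∘ₗ (f.rTensor I) = (f.rTensor A) ∘ₗ (I.subtype.lTensor Z) := by
      rw [LinearMap.lTensor_comp_rTensor, LinearMap.rTensor_comp_lTensor]
    have h := congrArg (fun φ => φ x) this
    simp only [LinearMap.comp_apply] at h
    rw [h, hx, map_zero]
  have h4 : f.rTensor I x = 0 := h1 (by rw [h3, map_zero])
  obtain ⟨y, hy⟩ := (rTensor_exact I hif hf x).mp h4
  have h5 : i.rTensor A (I.subtype.lTensor H y) = 0 := by
    have : (i.rTensor A) ∘ₗ (I.subtype.lTensor H) = (I.subtype.lTensor Z) ∘ₗ (i.rTensor I) := by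
      rw [LinearMap.lTensor_comp_rTensor, LinearMap.rTensor_comp_lTensor]
    have h := congrArg (fun φ => φ y) this
    simp only [LinearMap.comp_apply] at h
    rw [h, hy, hx]
  have h6 : Function.Injective (i.rTensor A) := by
    rw [← LinearMap.lTensor_inj_iff_rTensor_inj]
    exact Module.Flat.lTensor_preserves_injective_linearMap i hi
  have h7 : I.subtype.lTensor H y = 0 := h6 (by rw [h5, map_zero])
  have h8 : y = 0 := h2 (by rw [h7, map_zero])
  rw [← hy, h8, map_zero]

end linalg

variable {A : Type u} [CommRing A] (P : ChainComplex (ModuleCat.{u} A) ℤ)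

/-- `P ⊗ A ≅ P`. -/
noncomputable def tensorObjUnitIso : CohIII.tensorObj P (ModuleCat.of A A) ≅ P :=
  HomologicalComplex.Hom.isoOfComponents (fun i => ρ_ (P.X i))
    (fun i j _ => (rightUnitor_naturality (P.d i j)).symm)

/-- `T_p(A) ≅ H_p(P)`. -/
noncomputable def TFunUnitIso (p : ℤ) :
    (CohIII.TFun P p).obj (ModuleCat.of A A) ≅ P.homology p :=
  (HomologicalComplex.homologyFunctor _ _ p).mapIso (tensorObjUnitIso P)

theorem flat_TFun_unit_iff (p : ℤ) :
    Module.Flat A ((CohIII.TFun P p).obj (ModuleCat.of A A)) ↔ Module.Flat A (P.homology p) :=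
  Module.Flat.equiv_iff (TFunUnitIso P p).toLinearEquiv

/-- if `opc_{p-1}`, `P_{p-1}` and `H_p` are flat, so is `opc_p`. -/
theorem flat_opcycles_of_flat_homology (p : ℤ) [Module.Flat A (P.X (p - 1))]
    [Module.Flat A (P.opcycles (p - 1))] [Module.Flat A (P.homology p)] :
    Module.Flat A (P.opcycles p) := by
  let f := (P.fromOpcycles p (p - 1)).hom
  let B := LinearMap.range f
  have hB : Module.Flat A B := by
    refine flat_of_exact_of_flat B.subtype (P.pOpcycles (p - 1)).hom Subtype.val_injective ?_
      (surjective_pOpcycles P (p - 1))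
    intro x
    rw [exact_fromOpcycles_pOpcycles P p x]
    constructor
    · rintro ⟨z, rfl⟩
      exact ⟨⟨f z, z, rfl⟩, rfl⟩
    · rintro ⟨⟨_, z, rfl⟩, rfl⟩
      exact ⟨z, rfl⟩
  refine flat_of_flat_of_flat (P.homologyι p).hom f.rangeRestrict (injective_homologyι P p) ?_
    f.surjective_rangeRestrict
  intro z
  rw [← exact_homologyι_fromOpcycles P p z]
  constructor
  · intro h
    have := congrArg B.subtype h
    simpa [f] using this
  · intro h
    apply Subtype.val_injective
    simpa [f] using h

/-- if `opc_{p-1}`, `P_{p-1}` and `opc_p` are flat, so is `H_p`. -/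
theorem flat_homology_of_flat_opcycles (p : ℤ) [Module.Flat A (P.X (p - 1))]
    [Module.Flat A (P.opcycles (p - 1))] [Module.Flat A (P.opcycles p)] :
    Module.Flat A (P.homology p) := by
  have hm : (CohIII.TFun P p).PreservesMonomorphisms := preservesMono_of_flat_opcycles P p
  have hm' : (tensorLeft (P.homology p)).PreservesMonomorphisms :=
    Functor.PreservesMonomorphisms.of_iso (thetaIso P p).symm
  rw [Module.Flat.iff_lTensor_preserves_injective_linearMap]
  intro N N' _ _ _ _ f hf
  have hmf : Mono (ModuleCat.ofHom f) := (ModuleCat.mono_iff_injective _).mpr hf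
  have h2 : Mono ((tensorLeft (P.homology p)).map (ModuleCat.ofHom f)) := hm'.preserves _
  exact (ModuleCat.mono_iff_injective _).mp h2

end Groth.Agent.Lib.Helper8.FlatCx
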