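import Mathlib.RingTheory.Extension.Presentation.Core
import Mathlib.RingTheory.Extension.Cotangent.Basic
import Mathlib.RingTheory.Unramified.Basic
import Mathlib.RingTheory.Kaehler.Basic

/-!
# Descending finitely presented algebras to finitely generated `ℤ`-subalgebras (helper8)

* `exists_subalgebra_hasCoeffs`: a finite presentation together with a finite set of witness
  polynomials descends to a finitely generated `ℤ`-subalgebra.
* `deriv_aeval`: chain rule for a derivation applied to a polynomial expression.
* `exists_unramified_model`: descent of finitely presented formally unramified algebras.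
-/

set_option autoImplicit false
set_option maxHeartbeats 400000
universe u

namespace Groth.Agent.Lib.Helper8.FPDescent

open TensorProduct MvPolynomial

section Coeffs

variable {R S : Type*} [CommRing R] [CommRing S] [Algebra R S] {ι σ : Type*}

/-- The subalgebra generated by the coefficients of a presentation and of a set of witnesses. -/
noncomputable def coeffRing (P : Algebra.Presentation R S ι σ) (W : Set (MvPolynomial ι R)) :
    Subalgebra ℤ R :=
  Algebra.adjoin ℤ (P.coeffs ∪ ⋃ w ∈ W, (w.coeffs : Set R))

theorem coeffRing_fg [Finite σ] (P : Algebra.Presentation R S ι σ) {W : Set (MvPolynomial ι R)}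
    (hW : W.Finite) : (coeffRing P W).FG := by
  refine Subalgebra.fg_def.mpr ⟨_, ?_, rfl⟩
  exact P.finite_coeffs.union (hW.biUnion fun w _ => Finset.finite_toSet _)

instance hasCoeffs_coeffRing (P : Algebra.Presentation R S ι σ) (W : Set (MvPolynomial ι R)) :
    P.HasCoeffs (coeffRing P W) where
  coeffs_subset_range := by
    rw [Subalgebra.setRange_algebraMap]
    exact Set.subset_union_left.trans Algebra.subset_adjoin

theorem mem_range_map_coeffRing (P : Algebra.Presentation R S ι σ) {W : Set (MvPolynomial ι R)}
    {w : MvPolynomial ι R} (hw : w ∈ W) :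
    w ∈ Set.range (MvPolynomial.map (algebraMap (coeffRing P W) R)) := by
  rw [MvPolynomial.mem_range_map_iff_coeffs_subset, Subalgebra.setRange_algebraMap]
  refine subset_trans ?_ Algebra.subset_adjoin
  exact Set.subset_union_of_subset_right (Set.subset_biUnion_of_mem (u := fun w => (w.coeffs : Set R)) hw) _

theorem map_injective_coeffRing (P : Algebra.Presentation R S ι σ) (W : Set (MvPolynomial ι R)) :
    Function.Injective (MvPolynomial.map (σ := ι) (algebraMap (coeffRing P W) R)) :=
  MvPolynomial.map_injective _ (FaithfulSMul.algebraMap_injective _ _)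

end Coeffs

section Chain

variable {R₀ S₀ M : Type*} [CommRing R₀] [CommRing S₀] [Algebra R₀ S₀] [AddCommGroup M]
  [Module S₀ M] [Module R₀ M] [IsScalarTower R₀ S₀ M]

/-- Chain rule. -/
theorem deriv_aeval (d : Derivation R₀ S₀ M) {ι : Type*} [Fintype ι] [DecidableEq ι] (x : ι → S₀)
    (g : MvPolynomial ι R₀) :
    d (aeval x g) = ∑ k, aeval x (pderiv k g) • d (x k) := by
  induction g using MvPolynomial.induction_on with
  | C a => simp
  | add p q hp hq => simp [hp, hq, add_smul, Finset.sum_add_distrib]
  | mul_X p i hp =>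
    have h1 : ∀ k, aeval x (pderiv k (p * X i)) =
        x i * aeval x (pderiv k p) + (if k = i then aeval x p else 0) := by
      intro k
      rw [pderiv_mul, pderiv_X]
      by_cases h : k = i
      · subst h
        simp [mul_comm]
      · simp [Pi.single_eq_of_ne (Ne.symm h), h, mul_comm]
    simp only [h1, add_smul, Finset.sum_add_distrib, ite_smul, zero_smul, Finset.sum_ite_eq',
      Finset.mem_univ, if_true]
    rw [map_mul, aeval_X, Derivation.leibniz, hp, Finset.smul_sum, add_comm]
    congr 1
    refine Finset.sum_congr rfl fun k _ => ?_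
    rw [smul_smul]

end Chain

section Unramified

variable {R S : Type u} [CommRing R] [CommRing S] [Algebra R S]

/-- From `Ω[S⁄R] = 0`: an element of the kernel whose gradient is the `i`-th basis vector. -/
theorem exists_witness {ι σ : Type*} [DecidableEq ι] (P : Algebra.Presentation R S ι σ)
    [Subsingleton Ω[S⁄R]] (i : ι) :
    ∃ g : MvPolynomial ι R, g ∈ P.ker ∧
      ∀ k, aeval P.val (pderiv k g) = if k = i then 1 else 0 := by
  let E := P.toExtension
  let b := P.cotangentSpaceBasis i
  have hb : E.toKaehler b = 0 := Subsingleton.elim _ _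
  obtain ⟨c, hc⟩ := (E.exact_cotangentComplex_toKaehler b).1 hb
  obtain ⟨g, rfl⟩ := Algebra.Extension.Cotangent.mk_surjective c
  refine ⟨g.1, g.2, fun k => ?_⟩
  have h1 := congrArg (fun v => P.cotangentSpaceBasis.repr v k) hc
  simp only [Algebra.Extension.cotangentComplex_mk] at h1
  rw [Algebra.Generators.cotangentSpaceBasis_repr_one_tmul] at h1
  rw [h1]
  simp [b, Finsupp.single_apply, eq_comm]

theorem aeval_mk_X {R₀ : Type*} [CommRing R₀] {ι : Type*} (I : Ideal (MvPolynomial ι R₀))
    (q : MvPolynomial ι R₀) :
    aeval (fun k => (Ideal.Quotient.mk I (X k) : MvPolynomial ι R₀ ⧸ I)) q =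
      Ideal.Quotient.mk I q := by
  have h := MvPolynomial.comp_aeval (R := R₀) (fun k => (X k : MvPolynomial ι R₀))
    (Ideal.Quotient.mkₐ R₀ I)
  have h2 := congrArg (fun φ => φ q) h
  simp only [AlgHom.comp_apply, aeval_X_left, AlgHom.id_apply, Ideal.Quotient.mkₐ_eq_mk] at h2
  exact h2.symm

/-- Unramifiedness criterion for a quotient of a polynomial ring. -/
theorem formallyUnramified_quotient {R₀ : Type*} [CommRing R₀] {ι : Type*} [Fintype ι]
    [DecidableEq ι] (I : Ideal (MvPolynomial ι R₀)) (g : ι → MvPolynomial ι R₀)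
    (hg : ∀ i, g i ∈ I)
    (hd : ∀ i k, pderiv k (g i) - C (if k = i then (1 : R₀) else 0) ∈ I) :
    Algebra.FormallyUnramified R₀ (MvPolynomial ι R₀ ⧸ I) := by
  constructor
  let S₀ := MvPolynomial ι R₀ ⧸ I
  let x : ι → S₀ := fun k => Ideal.Quotient.mk I (X k)
  let d := KaehlerDifferential.D R₀ S₀
  have hdx : ∀ i, d (x i) = 0 := by
    intro i
    have h1 := deriv_aeval d x (g i)
    rw [aeval_mk_X, Ideal.Quotient.eq_zero_iff_mem.2 (hg i), map_zero] at h1
    have h2 : ∀ k, aeval x (pderiv k (g i)) = if k = i then (1 : S₀) else 0 := by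
      intro k
      rw [aeval_mk_X]
      have := Ideal.Quotient.eq_zero_iff_mem.2 (hd i k)
      rw [map_sub, sub_eq_zero] at this
      rw [this]
      split_ifs <;> simp
    rw [Finset.sum_eq_single i] at h1
    · rw [h2 i, if_pos rfl, one_smul] at h1
      exact h1.symm
    · intro k _ hk
      rw [h2 k, if_neg hk]
      exact zero_smul S₀ (d (x k))
    · intro h
      exact absurd (Finset.mem_univ i) h
  have hD : ∀ s : S₀, d s = 0 := by
    intro s
    obtain ⟨q, rfl⟩ := Ideal.Quotient.mk_surjective s
    rw [← aeval_mk_X, deriv_aeval d x q]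
    exact Finset.sum_eq_zero fun k _ => by rw [hdx k, smul_zero]
  have htop := KaehlerDifferential.span_range_derivation R₀ S₀
  have hbot : Submodule.span S₀ (Set.range (KaehlerDifferential.D R₀ S₀)) = ⊥ := by
    rw [Submodule.span_eq_bot]
    rintro _ ⟨s, rfl⟩
    exact hD s
  rw [hbot] at htop
  exact (Submodule.subsingleton_iff S₀).1 (subsingleton_of_bot_eq_top htop)

/-- Descent of finitely presented formally unramified algebras to a finitely generated
`ℤ`-subalgebra. -/
theorem exists_unramified_model (R S : Type u) [CommRing R] [CommRing S] [Algebra R S]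
    [Algebra.FinitePresentation R S] [Algebra.FormallyUnramified R S] :
    ∃ (R₀ : Subalgebra ℤ R) (S₀ : Type u) (_ : CommRing S₀) (_ : Algebra R₀ S₀),
      R₀.FG ∧ Algebra.FinitePresentation R₀ S₀ ∧ Algebra.FormallyUnramified R₀ S₀ ∧
        Nonempty (R ⊗[R₀] S₀ ≃ₐ[R] S) := by
  classical
  let P := Algebra.Presentation.ofFinitePresentation R S
  choose g hgker hgd using fun i => exists_witness P i
  have hspan := P.span_range_relation_eq_ker
  have hg' : ∀ i, ∃ a : _ → MvPolynomial _ R, ∑ j, a j * P.relation j = g i := by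
    intro i
    have := hgker i
    rw [← hspan, Ideal.mem_span_range_iff_exists_fun] at this
    exact this
  choose a ha using hg'
  have hb' : ∀ i k, ∃ b : _ → MvPolynomial _ R, ∑ l, b l * P.relation l =
      pderiv k (g i) - C (if k = i then (1 : R) else 0) := by
    intro i k
    have hmem : pderiv k (g i) - C (if k = i then (1 : R) else 0) ∈ P.ker := by
      rw [Algebra.Generators.ker_eq_ker_aeval_val, RingHom.mem_ker, map_sub, hgd i k]
      split_ifs <;> simp
    rw [← hspan, Ideal.mem_span_range_iff_exists_fun] at hmem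
    exact hmem
  choose b hb using hb'
  let W : Set (MvPolynomial _ R) :=
    Set.range (fun ij : _ × _ => a ij.1 ij.2) ∪ Set.range (fun ikl : _ × _ × _ => b ikl.1 ikl.2.1 ikl.2.2)
  have hW : W.Finite := (Set.finite_range _).union (Set.finite_range _)
  let R₀ := coeffRing P W
  have ha0 : ∀ i j, ∃ a0, MvPolynomial.map (algebraMap R₀ R) a0 = a i j := fun i j =>
    mem_range_map_coeffRing P (W := W) (Or.inl ⟨(i, j), rfl⟩)
  have hb0 : ∀ i k l, ∃ b0, MvPolynomial.map (algebraMap R₀ R) b0 = b i k l := fun i k l =>
    mem_range_map_coeffRing P (W := W) (Or.inr ⟨(i, k, l), rfl⟩)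
  choose a0 ha0 using ha0
  choose b0 hb0 using hb0
  let rel0 := P.relationOfHasCoeffs R₀
  let g0 : _ → MvPolynomial _ R₀ := fun i => ∑ j, a0 i j * rel0 j
  have hinj := map_injective_coeffRing P W
  have hg0map : ∀ i, MvPolynomial.map (algebraMap R₀ R) (g0 i) = g i := by
    intro i
    rw [← ha i]
    show MvPolynomial.map (algebraMap R₀ R) (∑ j, a0 i j * rel0 j) = _
    rw [map_sum]
    refine Finset.sum_congr rfl fun j _ => ?_
    rw [map_mul, ha0]
    congr 1
    exact P.map_relationOfHasCoeffs R₀ j
  refine ⟨R₀, P.ModelOfHasCoeffs R₀, inferInstance, inferInstance, coeffRing_fg P hW,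
    inferInstance, ?_, ⟨P.tensorModelOfHasCoeffsEquiv R₀⟩⟩
  refine formallyUnramified_quotient _ g0 (fun i => ?_) (fun i k => ?_)
  · refine Ideal.sum_mem _ fun j _ => Ideal.mul_mem_left _ _ (Ideal.subset_span ⟨j, rfl⟩)
  · have : pderiv k (g0 i) - C (if k = i then (1 : R₀) else 0) = ∑ l, b0 i k l * rel0 l := by
      apply hinj
      have h1 : MvPolynomial.map (algebraMap R₀ R) (∑ l, b0 i k l * rel0 l) =
          ∑ l, b i k l * P.relation l := by
        rw [map_sum]
        refine Finset.sum_congr rfl fun l _ => ?_
        rw [map_mul, hb0]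
        congr 1
        exact P.map_relationOfHasCoeffs R₀ l
      rw [h1, hb, map_sub, ← pderiv_map, hg0map]
      congr 1
      split_ifs <;> simp [MvPolynomial.map_C]
    rw [this]
    refine Ideal.sum_mem _ fun j _ => Ideal.mul_mem_left _ _ (Ideal.subset_span ⟨j, rfl⟩)

end Unramified

end Groth.Agent.Lib.Helper8.FPDescent
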