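import Groth.Agent.Lib.Helper8.FPDescent
import Mathlib.RingTheory.Unramified.Finite

/-!
# Unramified algebras are quotients of base changes of unramified algebras over f.g. `ℤ`-algebras
-/

set_option autoImplicit false
set_option maxHeartbeats 400000
universe u

namespace Groth.Agent.Lib.Helper8.FPDescent

open TensorProduct MvPolynomial

variable {R S : Type u} [CommRing R] [CommRing S] [Algebra R S]

/-- Version of `exists_witness` for generators. -/
theorem exists_witness' {ι : Type*} [DecidableEq ι] (P : Algebra.Generators R S ι)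
    [Subsingleton Ω[S⁄R]] (i : ι) :
    ∃ g : MvPolynomial ι R, g ∈ P.ker ∧
      ∀ k, aeval P.val (pderiv k g) = if k = i then 1 else 0 := by
  let E := P.toExtension
  let b := P.cotangentSpaceBasis i
  have hb : E.toKaehler b = 0 := Subsingleton.elim _ _
  obtain ⟨c, hc⟩ := (E.exact_cotangentComplex_toKaehler b).1 hb
  obtain ⟨g, rfl⟩ := Algebra.Extension.Cotangent.mk_surjective c
  refine ⟨g.1, g.2, fun k => ?_⟩
  have h1 := congrArg (fun v => P.cotangentSpaceBasis.repr v k) hc
  simp only [Algebra.Extension.cotangentComplex_mk] at h1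
  rw [Algebra.Generators.cotangentSpaceBasis_repr_one_tmul] at h1
  rw [h1]
  simp [b, Finsupp.single_apply, eq_comm]

theorem exists_unramified_surjection (R S : Type u) [CommRing R] [CommRing S] [Algebra R S]
    [Algebra.Unramified R S] :
    ∃ (R₀ : Subalgebra ℤ R) (S₀ : Type u) (_ : CommRing S₀) (_ : Algebra R₀ S₀),
      R₀.FG ∧ Algebra.Unramified R₀ S₀ ∧
        ∃ ψ : R ⊗[R₀] S₀ →ₐ[R] S, Function.Surjective ψ := by
  classical
  obtain ⟨n, ⟨G⟩⟩ := Algebra.FiniteType.iff_exists_generators.1
    (inferInstance : Algebra.FiniteType R S)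
  choose g hgker hgd using fun i => exists_witness' G i
  let I' : Ideal (MvPolynomial (Fin n) R) :=
    Ideal.span (Set.range g ∪ Set.range (fun ik : Fin n × Fin n =>
      pderiv ik.2 (g ik.1) - C (if ik.2 = ik.1 then (1 : R) else 0)))
  have hI'fg : I'.FG := by
    refine ⟨((Set.finite_range g).union (Set.finite_range (fun ik : Fin n × Fin n =>
      pderiv ik.2 (g ik.1) - C (if ik.2 = ik.1 then (1 : R) else 0)))).toFinset, ?_⟩
    simp [I']
  have hle : ∀ a ∈ I', aeval G.val a = 0 := by
    intro a ha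
    have hsub : I' ≤ RingHom.ker (aeval G.val : MvPolynomial (Fin n) R →ₐ[R] S) := by
      rw [Ideal.span_le]
      rintro _ (⟨i, rfl⟩ | ⟨ik, rfl⟩)
      · have := hgker i
        rwa [Algebra.Generators.ker_eq_ker_aeval_val] at this
      · rw [SetLike.mem_coe, RingHom.mem_ker, map_sub, hgd]
        split_ifs <;> simp
    exact hsub ha
  let S' := MvPolynomial (Fin n) R ⧸ I'
  haveI : Algebra.FinitePresentation R S' := Algebra.FinitePresentation.quotient hI'fg
  haveI : Algebra.FormallyUnramified R S' :=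
    formallyUnramified_quotient I' g (fun i => Ideal.subset_span (Or.inl ⟨i, rfl⟩))
      (fun i k => Ideal.subset_span (Or.inr ⟨(i, k), rfl⟩))
  let φ : S' →ₐ[R] S := Ideal.Quotient.liftₐ I' (aeval G.val) hle
  have hφ : Function.Surjective φ := by
    intro s
    obtain ⟨q, rfl⟩ := G.aeval_val_surjective s
    exact ⟨Ideal.Quotient.mk I' q, Ideal.Quotient.liftₐ_apply I' (aeval G.val) hle _⟩
  obtain ⟨R₀, S₀, i1, i2, hfg, hfp, hun, ⟨e⟩⟩ := exists_unramified_model R S'
  refine ⟨R₀, S₀, i1, i2, hfg, ⟨hun, inferInstance⟩, φ.comp e.toAlgHom, hφ.comp e.surjective⟩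

end Groth.Agent.Lib.Helper8.FPDescent
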