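import Groth.Agent.Lib.Helper8.GenFree4

/-!
# Generic freeness, part 5 (helper8): generic non-vanishing and generic non-exactness
-/

set_option autoImplicit false
set_option maxHeartbeats 400000

universe u v w

namespace Groth.Agent.Lib.Helper8.GenFree

open TensorProduct

section Inj

variable {R' : Type*} [CommRing R'] {N' M' Q' : Type*} [AddCommGroup N'] [Module R' N']
  [AddCommGroup M'] [Module R' M'] [AddCommGroup Q'] [Module R' Q']

/-- An injection with projective cokernel stays injective after any base change. -/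
theorem injective_baseChange_of_projective_coker (i' : N' →ₗ[R'] M') (p' : M' →ₗ[R'] Q')
    (hi : Function.Injective i') (hip : Function.Exact i' p') (hp : Function.Surjective p')
    [Module.Projective R' Q'] (κ : Type*) [CommRing κ] [Algebra R' κ] :
    Function.Injective (i'.baseChange κ) := by
  have h0 : Function.Exact (0 : N' →ₗ[R'] N') i' := by
    intro x
    constructor
    · intro hx
      exact ⟨0, by rw [LinearMap.zero_apply]; exact (hi (by rw [hx, map_zero])).symm⟩
    · rintro ⟨z, rfl⟩
      rw [LinearMap.zero_apply, map_zero]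
  have h1 := exact_baseChange_of_projective_coker (0 : N' →ₗ[R'] N') i' p' h0 hip hp κ
  rw [injective_iff_map_eq_zero]
  intro z hz
  obtain ⟨w, hw⟩ := (h1 z).mp hz
  rw [← hw, LinearMap.baseChange_zero, LinearMap.zero_apply]

end Inj

section NZ

variable {R : Type u} [CommRing R] [IsDomain R] (B : Type u) [CommRing B] [Algebra R B]
  [Algebra.FiniteType R B]
  {M : Type u} [AddCommGroup M] [Module B M] [Module R M] [IsScalarTower R B M] [Module.Finite B M]

include B in
/-- **Generic non-vanishing**: if `1 ⊗ y ≠ 0` in the generic fibre of a finite module over a finite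
type algebra over a domain, then `1 ⊗ y ≠ 0` in `κ ⊗ M` for every nontrivial `R`-algebra `κ` in
which a suitable non-zero `f` is invertible. -/
theorem exists_tmul_ne_zero (y : M) (hy : (1 : FractionRing R) ⊗ₜ[R] y ≠ 0) :
    ∃ f : R, f ≠ 0 ∧ ∀ (κ : Type u) [CommRing κ] [Nontrivial κ] [Algebra R κ],
      IsUnit (algebraMap R κ f) → (1 : κ) ⊗ₜ[R] y ≠ 0 := by
  classical
  let N : Submodule B M := Submodule.span B {y}
  haveI : Module.Finite B N := Module.Finite.span_singleton B y
  obtain ⟨f₁, h10, h1⟩ := gf_of_finiteType (R := R) B N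
  obtain ⟨f₂, h20, h2⟩ := gf_of_finiteType (R := R) B (M ⧸ N)
  have hf0 : f₁ * f₂ ≠ 0 := mul_ne_zero h10 h20
  refine ⟨f₁ * f₂, hf0, ?_⟩
  let R' := Localization.Away (f₁ * f₂)
  have hle : Submonoid.powers (f₁ * f₂) ≤ nonZeroDivisors R :=
    powers_le_nonZeroDivisors_of_noZeroDivisors hf0
  have hdom : IsDomain R' := IsLocalization.isDomain_localization hle
  have hu : IsUnit (algebraMap R R' (f₁ * f₂)) := IsLocalization.Away.algebraMap_isUnit _
  have hu' := hu
  rw [map_mul] at hu'
  have hfreeN : Module.Free R' (R' ⊗[R] N) := h1 R' (isUnit_of_mul_isUnit_left hu')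
  have hfreeQ : Module.Free R' (R' ⊗[R] (M ⧸ N)) := h2 R' (isUnit_of_mul_isUnit_right hu')
  let yN : N := ⟨y, Submodule.mem_span_singleton_self y⟩
  let ι : N →ₗ[R] M := N.subtype.restrictScalars R
  let q : M →ₗ[R] (M ⧸ N) := N.mkQ.restrictScalars R
  -- Step 1: `1 ⊗ yN ≠ 0` over `R'`
  have hstep1 : (1 : R') ⊗ₜ[R] yN ≠ 0 := by
    intro h0
    have h0' : TensorProduct.mk R R' N 1 yN = 0 := h0
    rw [IsLocalizedModule.eq_zero_iff (Submonoid.powers (f₁ * f₂))] at h0'
    obtain ⟨s, hs⟩ := h0'
    have hsy : (s : R) • y = 0 := congrArg Subtype.val hs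
    apply hy
    have hsne : (s : R) ≠ 0 := nonZeroDivisors.ne_zero (hle s.2)
    have hsu : IsUnit (algebraMap R (FractionRing R) (s : R)) :=
      IsUnit.mk0 _ (by
        rw [Ne, map_eq_zero_iff _ (IsFractionRing.injective R (FractionRing R))]
        exact hsne)
    obtain ⟨w, hw⟩ := hsu
    have : (1 : FractionRing R) ⊗ₜ[R] y = ((w⁻¹ : (FractionRing R)ˣ) : FractionRing R) •
        ((algebraMap R (FractionRing R) (s : R)) ⊗ₜ[R] y) := by
      rw [TensorProduct.smul_tmul', smul_eq_mul, ← hw, Units.inv_mul]
    rw [this, Algebra.algebraMap_eq_smul_one, TensorProduct.smul_tmul, hsy,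
      TensorProduct.tmul_zero, smul_zero]
  -- the nontrivial algebra
  intro κ _ _ _ hκ
  let φ : R' →+* κ := IsLocalization.Away.lift (f₁ * f₂) hκ
  let _ : Algebra R' κ := φ.toAlgebra
  have : IsScalarTower R R' κ := IsScalarTower.of_algebraMap_eq (fun r => by
    show algebraMap R κ r = φ (algebraMap R R' r)
    exact (IsLocalization.Away.lift_eq (f₁ * f₂) hκ r).symm)
  -- Step 2: `κ ⊗ N` is nontrivial, hence `1 ⊗ yN ≠ 0`
  have hnt' : Nontrivial (R' ⊗[R] N) := ⟨⟨_, _, hstep1⟩⟩
  have hnt : Nontrivial (κ ⊗[R] N) := by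
    have e := AlgebraTensorModule.cancelBaseChange R R' κ κ N
    have hb := Module.Free.chooseBasis R' (R' ⊗[R] N)
    have hne : Nonempty (Module.Free.ChooseBasisIndex R' (R' ⊗[R] N)) := by
      by_contra hemp
      rw [not_nonempty_iff] at hemp
      have : Subsingleton (R' ⊗[R] N) := by
        refine ⟨fun a b => ?_⟩
        apply hb.repr.injective
        ext i
        exact (hemp.false i).elim
      exact not_subsingleton _ this
    have hb' := hb.baseChange κ
    obtain ⟨i⟩ := hne
    have : Nontrivial (κ ⊗[R'] (R' ⊗[R] N)) := ⟨⟨hb' i, 0, hb'.ne_zero i⟩⟩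
    exact e.symm.toEquiv.nontrivial
  have hstep2 : (1 : κ) ⊗ₜ[R] yN ≠ 0 := by
    intro h0
    have hz : ∀ z : κ ⊗[R] N, z = 0 := by
      intro z
      induction z using TensorProduct.induction_on with
      | zero => rfl
      | tmul c n =>
        obtain ⟨b, hb⟩ := (Submodule.mem_span_singleton.mp n.2)
        let μ : N →ₗ[R] N :=
          { toFun := fun x => b • x
            map_add' := fun x x' => smul_add b x x'
            map_smul' := fun r x => by
              simp only [RingHom.id_apply]
              exact smul_comm b r x }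
        have hn : n = μ yN := Subtype.ext hb.symm
        have : c ⊗ₜ[R] n = (μ.baseChange κ) (c • ((1 : κ) ⊗ₜ[R] yN)) := by
          rw [TensorProduct.smul_tmul', smul_eq_mul, mul_one, LinearMap.baseChange_tmul, hn]
        rw [this, h0, smul_zero, map_zero]
      | add a b ha hb => rw [ha, hb, add_zero]
    obtain ⟨a, b, hab⟩ := hnt
    exact hab ((hz a).trans (hz b).symm)
  -- Step 3: injectivity of `κ ⊗ N → κ ⊗ M`
  have hinjR' : Function.Injective (ι.baseChange R') := by
    rw [LinearMap.baseChange_eq_ltensor]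
    exact Module.Flat.lTensor_preserves_injective_linearMap ι N.injective_subtype
  have hexR' : Function.Exact (ι.baseChange R') (q.baseChange R') := by
    rw [LinearMap.baseChange_eq_ltensor, LinearMap.baseChange_eq_ltensor]
    exact lTensor_exact R' (LinearMap.exact_subtype_mkQ N) N.mkQ_surjective
  have hsurjR' : Function.Surjective (q.baseChange R') := by
    rw [LinearMap.baseChange_eq_ltensor]
    exact LinearMap.lTensor_surjective R' N.mkQ_surjective
  have hinj2 := injective_baseChange_of_projective_coker (ι.baseChange R') (q.baseChange R')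
    hinjR' hexR' hsurjR' κ
  have hinjκ : Function.Injective (ι.baseChange κ) := by
    have hnat := cancelBaseChange_natural R' κ ι
    have h3 : ∀ z, (ι.baseChange κ) z =
        (AlgebraTensorModule.cancelBaseChange R R' κ κ M)
          (((ι.baseChange R').baseChange κ)
            ((AlgebraTensorModule.cancelBaseChange R R' κ κ N).symm z)) := by
      intro z
      have := LinearMap.congr_fun hnat ((AlgebraTensorModule.cancelBaseChange R R' κ κ N).symm z)
      simp only [LinearMap.comp_apply, LinearEquiv.coe_coe, LinearEquiv.apply_symm_apply] at this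
      exact this
    intro a b hab
    rw [h3 a, h3 b] at hab
    exact (AlgebraTensorModule.cancelBaseChange R R' κ κ N).symm.injective
      (hinj2 ((AlgebraTensorModule.cancelBaseChange R R' κ κ M).injective hab))
  -- Step 4
  intro h0
  apply hstep2
  apply hinjκ
  rw [map_zero, LinearMap.baseChange_tmul]
  exact h0

end NZ

section NE

variable {R : Type u} [CommRing R] [IsDomain R] {B : Type u} [CommRing B] [Algebra R B]
  [Algebra.FiniteType R B]
  {F G H : Type u} [AddCommGroup F] [Module B F] [Module R F] [IsScalarTower R B F]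
  [AddCommGroup G] [Module B G] [Module R G] [IsScalarTower R B G] [Module.Finite B G]
  [AddCommGroup H] [Module B H] [Module R H] [IsScalarTower R B H] [Module.Finite B H]

/-- **Generic non-exactness**: if `F → G → H` is not exact after tensoring with the fraction
field, it is not exact after tensoring with any nontrivial `R`-algebra in which a suitable
non-zero `f` is invertible. -/
theorem exists_not_exact_baseChange (u : F →ₗ[B] G) (v : G →ₗ[B] H)
    (hgen : ¬ Function.Exact ((u.restrictScalars R).baseChange (FractionRing R))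
      ((v.restrictScalars R).baseChange (FractionRing R))) :
    ∃ f : R, f ≠ 0 ∧ ∀ (κ : Type u) [CommRing κ] [Nontrivial κ] [Algebra R κ],
      IsUnit (algebraMap R κ f) →
      ¬ Function.Exact ((u.restrictScalars R).baseChange κ) ((v.restrictScalars R).baseChange κ) := by
  classical
  let K := FractionRing R
  let uR : F →ₗ[R] G := u.restrictScalars R
  let vR : G →ₗ[R] H := v.restrictScalars R
  by_cases hcomp : ∀ z : K ⊗[R] F, (vR.baseChange K) ((uR.baseChange K) z) = 0
  · -- case (ii)
    have hex : ∃ z : K ⊗[R] G, (vR.baseChange K) z = 0 ∧ z ∉ Set.range (uR.baseChange K) := by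
      by_contra hcon
      push Not at hcon
      apply hgen
      intro z
      constructor
      · intro hz
        exact hcon z hz
      · rintro ⟨w, rfl⟩
        exact hcomp w
    obtain ⟨z, hz0, hzr⟩ := hex
    obtain ⟨⟨g, s⟩, hs⟩ := IsLocalizedModule.surj (nonZeroDivisors R)
      (TensorProduct.mk R K G 1) z
    have hs' : (s : R) • z = (1 : K) ⊗ₜ[R] g := hs
    have hsK : IsUnit (algebraMap R K (s : R)) :=
      IsUnit.mk0 _ (by
        rw [Ne, map_eq_zero_iff _ (IsFractionRing.injective R K)]
        exact nonZeroDivisors.ne_zero s.2)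
    -- `1 ⊗ g` is in the kernel and not in the range
    have hg0 : (vR.baseChange K) ((1 : K) ⊗ₜ[R] g) = 0 := by
      rw [← hs', LinearMap.map_smul_of_tower, hz0, smul_zero]
    have hgr : (1 : K) ⊗ₜ[R] g ∉ Set.range (uR.baseChange K) := by
      rintro ⟨w, hw⟩
      apply hzr
      obtain ⟨a, ha⟩ := hsK
      refine ⟨((a⁻¹ : Kˣ) : K) • w, ?_⟩
      rw [map_smul, hw, ← hs', ← algebraMap_smul K (s : R) z, smul_smul, ← ha, Units.inv_mul,
        one_smul]
    rw [LinearMap.baseChange_tmul] at hg0
    obtain ⟨r, hr0, hr⟩ := exists_ne_zero_smul_eq_zero_of_tmul_eq_zero _ hg0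
    have hrK : IsUnit (algebraMap R K r) :=
      IsUnit.mk0 _ (by
        rw [Ne, map_eq_zero_iff _ (IsFractionRing.injective R K)]
        exact hr0)
    let g' : G := r • g
    have hvg' : v g' = 0 := by
      show v (r • g) = 0
      rw [LinearMap.map_smul_of_tower]
      exact hr
    have hg'r : (1 : K) ⊗ₜ[R] g' ∉ Set.range (uR.baseChange K) := by
      rintro ⟨w, hw⟩
      apply hgr
      obtain ⟨a, ha⟩ := hrK
      refine ⟨((a⁻¹ : Kˣ) : K) • w, ?_⟩
      rw [map_smul, hw]
      show ((a⁻¹ : Kˣ) : K) • ((1 : K) ⊗ₜ[R] (r • g)) = _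
      rw [TensorProduct.tmul_smul, ← algebraMap_smul K r ((1 : K) ⊗ₜ[R] g), smul_smul, ← ha,
        Units.inv_mul, one_smul]
    let C := G ⧸ LinearMap.range u
    let q : G →ₗ[R] C := (LinearMap.range u).mkQ.restrictScalars R
    have hexq : ∀ (κ : Type u) [CommRing κ] [Algebra R κ],
        Function.Exact (uR.baseChange κ) (q.baseChange κ) := by
      intro κ _ _
      rw [LinearMap.baseChange_eq_ltensor, LinearMap.baseChange_eq_ltensor]
      exact lTensor_exact κ (LinearMap.exact_map_mkQ_range u) (LinearMap.range u).mkQ_surjective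
    have hyK : (1 : K) ⊗ₜ[R] ((LinearMap.range u).mkQ g') ≠ 0 := by
      intro h0
      apply hg'r
      have : (q.baseChange K) ((1 : K) ⊗ₜ[R] g') = 0 := by
        rw [LinearMap.baseChange_tmul]
        exact h0
      exact (hexq K _).mp this
    obtain ⟨f, hf0, hf⟩ := exists_tmul_ne_zero B ((LinearMap.range u).mkQ g') hyK
    refine ⟨f, hf0, fun κ _ _ _ hκ hexκ => ?_⟩
    have h1 := hf κ hκ
    apply h1
    have h2 : (vR.baseChange κ) ((1 : κ) ⊗ₜ[R] g') = 0 := by
      rw [LinearMap.baseChange_tmul]
      show (1 : κ) ⊗ₜ[R] v g' = 0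
      rw [hvg', TensorProduct.tmul_zero]
    obtain ⟨w, hw⟩ := (hexκ _).mp h2
    have h3 : (q.baseChange κ) ((1 : κ) ⊗ₜ[R] g') = 0 := by
      rw [← hw]
      exact (hexq κ).apply_apply_eq_zero w
    rw [LinearMap.baseChange_tmul] at h3
    exact h3
  · -- case (i)
    push Not at hcomp
    obtain ⟨z, hz⟩ := hcomp
    have hex : ∃ x : F, (1 : K) ⊗ₜ[R] v (u x) ≠ 0 := by
      by_contra hcon
      push Not at hcon
      apply hz
      induction z using TensorProduct.induction_on with
      | zero => simp
      | tmul c x =>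
        rw [LinearMap.baseChange_tmul, LinearMap.baseChange_tmul]
        have : c ⊗ₜ[R] vR (uR x) = c • ((1 : K) ⊗ₜ[R] v (u x)) := by
          rw [TensorProduct.smul_tmul', smul_eq_mul, mul_one]
          rfl
        rw [this, hcon x, smul_zero]
      | add a b ha hb =>
        by_cases h1 : (vR.baseChange K) ((uR.baseChange K) a) = 0
        · by_cases h2 : (vR.baseChange K) ((uR.baseChange K) b) = 0
          · rw [map_add, map_add, h1, h2, add_zero]
          · exact absurd (hb h2) h2
        · exact absurd (ha h1) h1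
    obtain ⟨x, hx⟩ := hex
    obtain ⟨f, hf0, hf⟩ := exists_tmul_ne_zero B (v (u x)) hx
    refine ⟨f, hf0, fun κ _ _ _ hκ hexκ => ?_⟩
    apply hf κ hκ
    have := hexκ.apply_apply_eq_zero ((1 : κ) ⊗ₜ[R] x)
    rw [LinearMap.baseChange_tmul, LinearMap.baseChange_tmul] at this
    exact this

/-- **Generic constancy of exactness of fibres.** -/
theorem exists_exact_baseChange_iff (u : F →ₗ[B] G) (v : G →ₗ[B] H) :
    ∃ f : R, f ≠ 0 ∧ ∀ (κ : Type u) [CommRing κ] [Nontrivial κ] [Algebra R κ],
      IsUnit (algebraMap R κ f) →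
      (Function.Exact ((u.restrictScalars R).baseChange κ) ((v.restrictScalars R).baseChange κ) ↔
        Function.Exact ((u.restrictScalars R).baseChange (FractionRing R))
          ((v.restrictScalars R).baseChange (FractionRing R))) := by
  by_cases hgen : Function.Exact ((u.restrictScalars R).baseChange (FractionRing R))
      ((v.restrictScalars R).baseChange (FractionRing R))
  · obtain ⟨f, hf0, hf⟩ := exists_exact_baseChange u v hgen
    exact ⟨f, hf0, fun κ _ _ _ hκ => ⟨fun _ => hgen, fun _ => hf κ hκ⟩⟩
  · obtain ⟨f, hf0, hf⟩ := exists_not_exact_baseChange u v hgen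
    exact ⟨f, hf0, fun κ _ _ _ hκ => ⟨fun h => absurd h (hf κ hκ), fun h => absurd h hgen⟩⟩

end NE

end Groth.Agent.Lib.Helper8.GenFree
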