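import Groth.Agent.Lib.Helper8.MatSeq2
import Groth.Agent.Lib.Helper8.GenFree5
import Groth.Agent.Lib.Helper8.ConstrTop
import Mathlib.RingTheory.TensorProduct.MvPolynomial
import Mathlib.RingTheory.Spectrum.Prime.Topology
import Mathlib.RingTheory.LocalRing.ResidueField.Ideal
import Mathlib.RingTheory.Spectrum.Prime.Noetherian

/-!
# Constructibility of the locus where a sequence of fibres is exact (helper8)
-/

set_option autoImplicit false
set_option maxHeartbeats 400000

universe u

namespace Groth.Agent.Lib.Helper8.FibreExact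

open Groth.Agent.Lib.Helper8.MatCok Groth.Agent.Lib.Helper8.GenFree TensorProduct Topology

attribute [local instance] MvPolynomial.algebraMvPolynomial

section ExAt

variable {k : Type*} [CommRing k] {d : ℕ} {mF nF mG nG mH nH : ℕ}

/-- Exactness of the matrix sequence transported along `ψ`. -/
def ExAt (D : MatSeq (MvPolynomial (Fin d) k) mF nF mG nG mH nH) {κ : Type*} [CommRing κ]
    (ψ : k →+* κ) : Prop :=
  Function.Exact (D.map (MvPolynomial.map ψ)).u (D.map (MvPolynomial.map ψ)).v

theorem exAt_algebraMap_iff (D : MatSeq (MvPolynomial (Fin d) k) mF nF mG nG mH nH)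
    (κ : Type*) [CommRing κ] [Algebra k κ] :
    ExAt D (algebraMap k κ) ↔
      Function.Exact ((D.u.restrictScalars k).baseChange κ) ((D.v.restrictScalars k).baseChange κ) :=
  exact_map_iff k κ (MvPolynomial (Fin d) κ) D

theorem exAt_map {k' : Type*} [CommRing k'] (D : MatSeq (MvPolynomial (Fin d) k) mF nF mG nG mH nH)
    (φ : k →+* k') {κ : Type*} [CommRing κ] (ψ : k' →+* κ) :
    ExAt (D.map (MvPolynomial.map φ)) ψ ↔ ExAt D (ψ.comp φ) := by
  unfold ExAt
  rw [MatSeq.map_map]
  have : (MvPolynomial.map (σ := Fin d) ψ).comp (MvPolynomial.map φ) =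
      MvPolynomial.map (ψ.comp φ) := RingHom.ext fun p => MvPolynomial.map_map φ ψ p
  rw [this]

theorem exAt_comp_field (D : MatSeq (MvPolynomial (Fin d) k) mF nF mG nG mH nH)
    {κ κ' : Type*} [Field κ] [Field κ'] (ψ : k →+* κ) (ι : κ →+* κ') :
    ExAt D (ι.comp ψ) ↔ ExAt D ψ := by
  rw [← exAt_map]
  letI : Algebra κ κ' := ι.toAlgebra
  have h1 : ι = algebraMap κ κ' := rfl
  rw [h1, exAt_algebraMap_iff]
  set D' := D.map (MvPolynomial.map ψ)
  have h2 := Module.FaithfullyFlat.lTensor_exact_iff_exact κ κ' (D'.u.restrictScalars κ)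
    (D'.v.restrictScalars κ)
  exact h2

end ExAt

section Spec

theorem isConstructible_preimage_comap {R₀ R : Type*} [CommRing R₀] [CommRing R] (φ : R₀ →+* R)
    {s : Set (PrimeSpectrum R₀)} (hs : IsConstructible s) :
    IsConstructible (PrimeSpectrum.comap φ ⁻¹' s) := by
  refine hs.preimage (PrimeSpectrum.continuous_comap φ) ?_
  intro t ht htr
  have hc : IsCompact t := (QuasiSeparatedSpace.isRetrocompact_iff_isCompact ht).mp htr
  obtain ⟨T, rfl⟩ := PrimeSpectrum.isCompact_isOpen_iff.mp ⟨hc, ht⟩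
  rw [Set.preimage_compl, PrimeSpectrum.preimage_comap_zeroLocus]
  exact PrimeSpectrum.isRetrocompact_zeroLocus_compl (T.finite_toSet.image _)

end Spec

section RF

variable {R₀ R : Type*} [CommRing R₀] [CommRing R] {d : ℕ} {mF nF mG nG mH nH : ℕ}

/-- Exactness at the residue field of `p` only depends on the image of `p` in `Spec R₀`. -/
theorem exAt_residueField_iff (φ : R₀ →+* R)
    (D₀ : MatSeq (MvPolynomial (Fin d) R₀) mF nF mG nG mH nH) (p : PrimeSpectrum R) :
    ExAt (D₀.map (MvPolynomial.map φ)) (algebraMap R p.asIdeal.ResidueField) ↔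
      ExAt D₀ (algebraMap R₀ (PrimeSpectrum.comap φ p).asIdeal.ResidueField) := by
  rw [exAt_map]
  let ι := Ideal.ResidueField.map (PrimeSpectrum.comap φ p).asIdeal p.asIdeal φ rfl
  have h : (algebraMap R p.asIdeal.ResidueField).comp φ =
      ι.comp (algebraMap R₀ (PrimeSpectrum.comap φ p).asIdeal.ResidueField) := by
    ext r
    exact (Ideal.ResidueField.map_algebraMap _ _ φ rfl r).symm
  rw [h, exAt_comp_field]

end RF

end Groth.Agent.Lib.Helper8.FibreExact
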