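import Groth.Agent.Lib.Helper8.FibreExact

/-!
# Constructibility of the locus where a sequence of fibres is exact, part 2 (helper8)
-/

set_option autoImplicit false
set_option maxHeartbeats 400000

universe u

namespace Groth.Agent.Lib.Helper8.FibreExact

open Groth.Agent.Lib.Helper8.MatCok Groth.Agent.Lib.Helper8.GenFree TensorProduct Topology
open Groth.Agent.Lib.Helper8

attribute [local instance] MvPolynomial.algebraMvPolynomial

section Noeth

variable {R : Type u} [CommRing R] {d : ℕ} {mF nF mG nG mH nH : ℕ}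

/-- Generic constancy on an irreducible closed subset. -/
theorem exists_basicOpen_const (D : MatSeq (MvPolynomial (Fin d) R) mF nF mG nG mH nH)
    (p : PrimeSpectrum R) :
    ∃ f : R, f ∉ p.asIdeal ∧ ∃ P : Prop, ∀ q : PrimeSpectrum R, p.asIdeal ≤ q.asIdeal →
      f ∉ q.asIdeal → (ExAt D (algebraMap R q.asIdeal.ResidueField) ↔ P) := by
  let Rb := R ⧸ p.asIdeal
  let mk : R →+* Rb := Ideal.Quotient.mk p.asIdeal
  let Db := D.map (MvPolynomial.map mk)
  obtain ⟨f, hf0, hf⟩ := exists_exact_baseChange_iff (R := Rb) (B := MvPolynomial (Fin d) Rb)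
    Db.u Db.v
  obtain ⟨ft, rfl⟩ := Ideal.Quotient.mk_surjective f
  have hft : ft ∉ p.asIdeal := fun h => hf0 (Ideal.Quotient.eq_zero_iff_mem.2 h)
  refine ⟨ft, hft, Function.Exact ((Db.u.restrictScalars Rb).baseChange (FractionRing Rb))
    ((Db.v.restrictScalars Rb).baseChange (FractionRing Rb)), fun q hpq hfq => ?_⟩
  -- the prime of `Rb` corresponding to `q`
  have hq : q ∈ Set.range (PrimeSpectrum.comap mk) := by
    rw [_root_.range_comap_of_surjective _ mk Ideal.Quotient.mk_surjective,
      PrimeSpectrum.mem_zeroLocus, Ideal.mk_ker]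
    exact hpq
  obtain ⟨qb, rfl⟩ := hq
  have h1 := exAt_residueField_iff mk D qb
  rw [← h1, exAt_algebraMap_iff]
  refine hf qb.asIdeal.ResidueField ?_
  apply IsUnit.mk0
  rw [Ne, Ideal.algebraMap_residueField_eq_zero]
  intro hmem
  exact hfq hmem

theorem isConstructible_exAt_of_noetherian [IsNoetherianRing R]
    (D : MatSeq (MvPolynomial (Fin d) R) mF nF mG nG mH nH) :
    IsConstructible {p : PrimeSpectrum R | ExAt D (algebraMap R p.asIdeal.ResidueField)} := by
  let h : PrimeSpectrum R → Prop := fun p => ExAt D (algebraMap R p.asIdeal.ResidueField)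
  have key := ConstrTop.constructible_of_locally_constant h (by
    intro Y hYc hYi
    have hgen := hYi.isGenericPoint_genericPoint hYc
    set p := hYi.genericPoint with hp
    have hY : ∀ q : PrimeSpectrum R, q ∈ Y ↔ p.asIdeal ≤ q.asIdeal := by
      intro q
      have hgen' : closure {p} = Y := hgen
      rw [← hgen', PrimeSpectrum.closure_singleton, PrimeSpectrum.mem_zeroLocus]
      rfl
    obtain ⟨f, hfp, P, hP⟩ := exists_basicOpen_const D p
    refine ⟨(PrimeSpectrum.basicOpen f : Set (PrimeSpectrum R)), (PrimeSpectrum.basicOpen f).2,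
      ⟨p, hfp, (hY p).2 le_rfl⟩, ?_⟩
    rintro a ⟨haf, haY⟩ b ⟨hbf, hbY⟩
    exact propext ((hP a ((hY a).1 haY) haf).trans (hP b ((hY b).1 hbY) hbf).symm))
  have := key.1 True
  have heq : h ⁻¹' {True} = {p : PrimeSpectrum R | ExAt D (algebraMap R p.asIdeal.ResidueField)} := by
    ext p
    simp only [Set.mem_preimage, Set.mem_singleton_iff, eq_iff_iff, iff_true, Set.mem_setOf_eq, h]
  rwa [heq] at this

end Noeth

section General

variable {R : Type u} [CommRing R] {d : ℕ} {mF nF mG nG mH nH : ℕ}

/-- **Constructibility of the exactness locus**, matrix form, over any ring. -/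
theorem isConstructible_exAt (D : MatSeq (MvPolynomial (Fin d) R) mF nF mG nG mH nH) :
    IsConstructible {p : PrimeSpectrum R | ExAt D (algebraMap R p.asIdeal.ResidueField)} := by
  obtain ⟨R₀, D₀, hfg, rfl⟩ := D.exists_subalgebra
  haveI : Algebra.FiniteType ℤ R₀ := (Subalgebra.fg_iff_finiteType R₀).1 hfg
  haveI : IsNoetherianRing R₀ := Algebra.FiniteType.isNoetherianRing ℤ R₀
  have h0 := isConstructible_exAt_of_noetherian D₀
  have h1 := isConstructible_preimage_comap (algebraMap R₀ R) h0
  convert h1 using 1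
  ext p
  simp only [Set.mem_setOf_eq, Set.mem_preimage]
  exact exAt_residueField_iff (algebraMap R₀ R) D₀ p

end General

end Groth.Agent.Lib.Helper8.FibreExact
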