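import Groth.Agent.Lib.Helper8.FibreExact2
import Mathlib.RingTheory.FinitePresentation

/-!
# Constructibility of the locus where a sequence of fibres is exact, part 3 (helper8)

The affine form of EGA IV 9.4.2 for finitely presented modules over a finitely presented algebra.
-/

set_option autoImplicit false
set_option maxHeartbeats 400000

universe u

namespace Groth.Agent.Lib.Helper8.FibreExact

open Groth.Agent.Lib.Helper8.MatCok TensorProduct Topology

section Poly

variable {R : Type u} [CommRing R] {d : ℕ}
  {F G H : Type u} [AddCommGroup F] [Module (MvPolynomial (Fin d) R) F] [Module R F]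
  [IsScalarTower R (MvPolynomial (Fin d) R) F] [Module.FinitePresentation (MvPolynomial (Fin d) R) F]
  [AddCommGroup G] [Module (MvPolynomial (Fin d) R) G] [Module R G]
  [IsScalarTower R (MvPolynomial (Fin d) R) G] [Module.FinitePresentation (MvPolynomial (Fin d) R) G]
  [AddCommGroup H] [Module (MvPolynomial (Fin d) R) H] [Module R H]
  [IsScalarTower R (MvPolynomial (Fin d) R) H] [Module.FinitePresentation (MvPolynomial (Fin d) R) H]

/-- The polynomial ring case. -/
theorem isConstructible_fibre_exact_poly (u : F →ₗ[MvPolynomial (Fin d) R] G)
    (v : G →ₗ[MvPolynomial (Fin d) R] H) :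
    IsConstructible {p : PrimeSpectrum R |
      Function.Exact ((u.restrictScalars R).baseChange p.asIdeal.ResidueField)
        ((v.restrictScalars R).baseChange p.asIdeal.ResidueField)} := by
  obtain ⟨mF, nF, mG, nG, mH, nH, D, eF, eG, eH, hu, hv⟩ := exists_matSeq u v
  have h0 := isConstructible_exAt D
  convert h0 using 1
  ext p
  simp only [Set.mem_setOf_eq]
  rw [exAt_algebraMap_iff]
  let κ := p.asIdeal.ResidueField
  refine Function.Exact.iff_of_ladder_linearEquiv
    (e₁ := LinearEquiv.baseChange R κ _ _ (eF.restrictScalars R))
    (e₂ := LinearEquiv.baseChange R κ _ _ (eG.restrictScalars R))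
    (e₃ := LinearEquiv.baseChange R κ _ _ (eH.restrictScalars R)) ?_ ?_
  · apply TensorProduct.AlgebraTensorModule.ext
    intro c z
    simp only [LinearMap.comp_apply, LinearEquiv.coe_coe, LinearEquiv.baseChange_tmul,
      LinearMap.baseChange_tmul, LinearMap.restrictScalars_apply, LinearEquiv.restrictScalars_apply]
    rw [hu]
  · apply TensorProduct.AlgebraTensorModule.ext
    intro c z
    simp only [LinearMap.comp_apply, LinearEquiv.coe_coe, LinearEquiv.baseChange_tmul,
      LinearMap.baseChange_tmul, LinearMap.restrictScalars_apply, LinearEquiv.restrictScalars_apply]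
    rw [hv]

end Poly

section FP

variable {R B : Type u} [CommRing R] [CommRing B] [Algebra R B] [Algebra.FinitePresentation R B]
  {F G H : Type u} [AddCommGroup F] [Module B F] [Module R F] [IsScalarTower R B F]
  [Module.FinitePresentation B F]
  [AddCommGroup G] [Module B G] [Module R G] [IsScalarTower R B G] [Module.FinitePresentation B G]
  [AddCommGroup H] [Module B H] [Module R H] [IsScalarTower R B H] [Module.FinitePresentation B H]

/-- **EGA IV 9.4.2, affine form**: the set of primes at which the sequence of fibres is exact is
constructible. -/
theorem isConstructible_fibre_exact (u : F →ₗ[B] G) (v : G →ₗ[B] H) :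
    IsConstructible {p : PrimeSpectrum R |
      Function.Exact ((u.restrictScalars R).baseChange p.asIdeal.ResidueField)
        ((v.restrictScalars R).baseChange p.asIdeal.ResidueField)} := by
  obtain ⟨d, π, hπ, hker⟩ := (inferInstance : Algebra.FinitePresentation R B).out
  let P := MvPolynomial (Fin d) R
  letI : Algebra P B := π.toRingHom.toAlgebra
  have halg : ∀ p : P, algebraMap P B p = π p := fun _ => rfl
  haveI : IsScalarTower R P B := IsScalarTower.of_algebraMap_eq (fun r => by
    rw [halg, IsScalarTower.algebraMap_apply R P P, Algebra.algebraMap_self, RingHom.id_apply]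
    exact (π.commutes r).symm)
  haveI hPB : Module.FinitePresentation P B := by
    refine Module.finitePresentation_of_surjective (Algebra.linearMap P B) hπ ?_
    have : LinearMap.ker (Algebra.linearMap P B) = RingHom.ker π.toRingHom := by
      ext x
      simp [RingHom.mem_ker, halg]
    rw [this]
    exact hker
  letI : Module P F := Module.compHom F (algebraMap P B)
  letI : Module P G := Module.compHom G (algebraMap P B)
  letI : Module P H := Module.compHom H (algebraMap P B)
  haveI : IsScalarTower P B F := ⟨fun p b x => by
    show (algebraMap P B p * b) • x = algebraMap P B p • (b • x); rw [mul_smul]⟩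
  haveI : IsScalarTower P B G := ⟨fun p b x => by
    show (algebraMap P B p * b) • x = algebraMap P B p • (b • x); rw [mul_smul]⟩
  haveI : IsScalarTower P B H := ⟨fun p b x => by
    show (algebraMap P B p * b) • x = algebraMap P B p • (b • x); rw [mul_smul]⟩
  haveI : IsScalarTower R P F := ⟨fun r p x => by
    show algebraMap P B (r • p) • x = r • (algebraMap P B p • x)
    rw [halg, map_smul, smul_assoc]; rfl⟩
  haveI : IsScalarTower R P G := ⟨fun r p x => by
    show algebraMap P B (r • p) • x = r • (algebraMap P B p • x)
    rw [halg, map_smul, smul_assoc]; rfl⟩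
  haveI : IsScalarTower R P H := ⟨fun r p x => by
    show algebraMap P B (r • p) • x = r • (algebraMap P B p • x)
    rw [halg, map_smul, smul_assoc]; rfl⟩
  haveI : Module.FinitePresentation P F := Module.FinitePresentation.trans P F B
  haveI : Module.FinitePresentation P G := Module.FinitePresentation.trans P G B
  haveI : Module.FinitePresentation P H := Module.FinitePresentation.trans P H B
  have := isConstructible_fibre_exact_poly (R := R) (d := d) (u.restrictScalars P)
    (v.restrictScalars P)
  exact this

end FP

end Groth.Agent.Lib.Helper8.FibreExact
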