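import Groth.Agent.Lib.Helper8.FlatCx8
import Mathlib.RingTheory.Flat.Equalizer

/-!
# The comparison `H_p(P) ⊗ M ⟶ H_p(P ⊗ M)` (helper8)

For a chain complex `P` of `A`-modules we build the natural map
`theta P M p : P.homology p ⊗ M ⟶ (P ⊗ M).homology p` and show that it is an isomorphism when
`P.X (p - 1)` and `P.opcycles (p - 1)` are flat.
-/

set_option autoImplicit false
set_option maxHeartbeats 400000
universe u
open CategoryTheory CategoryTheory.Limits MonoidalCategory TensorProduct

namespace Groth.Agent.Lib.Helper8.FlatCx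

section linalg

variable {A : Type u} [CommRing A]
  {X Z' : Type u} [AddCommGroup X] [Module A X] [AddCommGroup Z'] [Module A Z']

/-- a submodule of a flat module with flat quotient is flat. -/
theorem flat_of_exact_of_flat {B : Type u} [AddCommGroup B] [Module A B]
    (j : B →ₗ[A] X) (π : X →ₗ[A] Z')
    (hj : Function.Injective j) (hjπ : Function.Exact j π) (hπ : Function.Surjective π)
    [Module.Flat A X] [Module.Flat A Z'] : Module.Flat A B := by
  rw [Module.Flat.iff_lTensor_injective']
  intro I
  have h1 : Function.Injective (j.rTensor I) := by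
    rw [← LinearMap.lTensor_inj_iff_rTensor_inj]
    exact LinearMap.lTensor_injective_of_exact_of_flat π hπ j hj hjπ I
  have h2 : Function.Injective (I.subtype.lTensor X) :=
    Module.Flat.lTensor_preserves_injective_linearMap _ Subtype.val_injective
  have h3 : (j.rTensor A) ∘ₗ (I.subtype.lTensor B) = (I.subtype.lTensor X) ∘ₗ (j.rTensor I) := by
    rw [LinearMap.rTensor_comp_lTensor, LinearMap.lTensor_comp_rTensor]
  have h4 : Function.Injective ((j.rTensor A) ∘ₗ (I.subtype.lTensor B)) := by
    rw [h3]
    exact h2.comp h1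
  exact Function.Injective.of_comp (f := j.rTensor A) h4

variable {H Z : Type u} [AddCommGroup H] [Module A H] [AddCommGroup Z] [Module A Z]

/-- `0 → H → Z → X → Z' → 0` exact with `X`, `Z'` flat: tensoring with `M` keeps the left part
exact. -/
theorem rTensor_exact_of_flat_coker (i : H →ₗ[A] Z) (f : Z →ₗ[A] X) (π : X →ₗ[A] Z')
    (hi : Function.Injective i) (hif : Function.Exact i f) (hfπ : Function.Exact f π)
    (hπ : Function.Surjective π) [Module.Flat A X] [Module.Flat A Z']
    (M : Type u) [AddCommGroup M] [Module A M] :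
    Function.Injective (i.rTensor M) ∧ Function.Exact (i.rTensor M) (f.rTensor M) := by
  let B := LinearMap.range f
  let f' : Z →ₗ[A] B := f.rangeRestrict
  let j : B →ₗ[A] X := B.subtype
  have hj : Function.Injective j := Subtype.val_injective
  have hf' : Function.Surjective f' := f.surjective_rangeRestrict
  have hjf : j ∘ₗ f' = f := LinearMap.subtype_comp_codRestrict _ _ _
  have hjπ : Function.Exact j π := by
    intro x
    rw [hfπ x]
    constructor
    · rintro ⟨z, rfl⟩
      exact ⟨⟨f z, z, rfl⟩, rfl⟩
    · rintro ⟨⟨_, z, rfl⟩, rfl⟩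
      exact ⟨z, rfl⟩
  have hB : Module.Flat A B := flat_of_exact_of_flat j π hj hjπ hπ
  have hif' : Function.Exact i f' := by
    intro z
    rw [← hif z]
    constructor
    · intro h
      have := congrArg j h
      simpa [j, f'] using this
    · intro h
      apply hj
      simpa [j, f'] using h
  refine ⟨?_, ?_⟩
  · rw [← LinearMap.lTensor_inj_iff_rTensor_inj]
    exact LinearMap.lTensor_injective_of_exact_of_flat f' hf' i hi hif' M
  · have h1 : Function.Exact (i.rTensor M) (f'.rTensor M) := rTensor_exact M hif' hf'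
    have h2 : Function.Injective (j.rTensor M) := by
      rw [← LinearMap.lTensor_inj_iff_rTensor_inj]
      exact LinearMap.lTensor_injective_of_exact_of_flat π hπ j hj hjπ M
    have h3 : f.rTensor M = (j.rTensor M) ∘ₗ (f'.rTensor M) := by
      rw [← LinearMap.rTensor_comp, hjf]
    rw [h3]
    exact h1.comp_injective _ h2 (map_zero _)

end linalg

variable {A : Type u} [CommRing A] (P : ChainComplex (ModuleCat.{u} A) ℤ)

theorem injective_homologyι (p : ℤ) : Function.Injective (P.homologyι p).hom :=
  (ModuleCat.mono_iff_injective _).mp inferInstance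

theorem exact_homologyι_fromOpcycles (p : ℤ) :
    Function.Exact (P.homologyι p).hom (P.fromOpcycles p (p - 1)).hom := by
  let S : ShortComplex (ModuleCat.{u} A) :=
    ShortComplex.mk (P.homologyι p) (P.fromOpcycles p (p - 1))
      (P.homologyι_comp_fromOpcycles p (p - 1))
  have hS : S.Exact := ShortComplex.exact_of_f_is_kernel S
    (P.homologyIsKernel p (p - 1) (next_down p))
  exact (ShortComplex.ShortExact.moduleCat_exact_iff_function_exact S).mp hS

/-- the map `H_p(P) ⊗ M ⟶ opcycles_p(P ⊗ M)`. -/
noncomputable def thetaι (M : ModuleCat.{u} A) (p : ℤ) :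
    P.homology p ⊗ M ⟶ (CohIII.tensorObj P M).opcycles p :=
  (P.homologyι p ▷ M) ≫ (eOp P M (p + 1) p (prev_down p)).hom

theorem thetaι_fromOpcycles (M : ModuleCat.{u} A) (p : ℤ) :
    thetaι P M p ≫ (CohIII.tensorObj P M).fromOpcycles p (p - 1) = 0 := by
  have h : (P.homologyι p ▷ M) ≫ (P.fromOpcycles p (p - 1) ▷ M) = 0 := by
    rw [← comp_whiskerRight, P.homologyι_comp_fromOpcycles]
    exact MonoidalPreadditive.zero_whiskerRight
  unfold thetaι
  rw [Category.assoc, eOp_hom_fromOpcycles]
  exact h

/-- the comparison map `H_p(P) ⊗ M ⟶ H_p(P ⊗ M)`. -/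
noncomputable def theta (M : ModuleCat.{u} A) (p : ℤ) :
    P.homology p ⊗ M ⟶ (CohIII.tensorObj P M).homology p :=
  ((CohIII.tensorObj P M).homologyIsKernel p (p - 1) (next_down p)).lift
    (KernelFork.ofι (thetaι P M p) (thetaι_fromOpcycles P M p))

@[reassoc]
theorem theta_homologyι (M : ModuleCat.{u} A) (p : ℤ) :
    theta P M p ≫ (CohIII.tensorObj P M).homologyι p = thetaι P M p :=
  ((CohIII.tensorObj P M).homologyIsKernel p (p - 1) (next_down p)).fac
    (KernelFork.ofι (thetaι P M p) (thetaι_fromOpcycles P M p)) .zero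

theorem theta_naturality' {M N : ModuleCat.{u} A} (g : M ⟶ N) (p : ℤ) :
    (P.homology p ◁ g) ≫ theta P N p =
      theta P M p ≫ HomologicalComplex.homologyMap (CohIII.tensorMap P g) p := by
  rw [← cancel_mono ((CohIII.tensorObj P N).homologyι p)]
  simp only [Category.assoc]
  rw [theta_homologyι, HomologicalComplex.homologyι_naturality, theta_homologyι_assoc]
  unfold thetaι
  rw [Category.assoc, ← eOp_hom_naturality, whisker_exchange_assoc]

theorem theta_naturality {M N : ModuleCat.{u} A} (g : M ⟶ N) (p : ℤ) :
    (P.homology p ◁ g) ≫ theta P N p = theta P M p ≫ (CohIII.TFun P p).map g := by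
  rw [TFun_map]
  exact theta_naturality' P g p

theorem isIso_theta (M : ModuleCat.{u} A) (p : ℤ) [Module.Flat A (P.X (p - 1))]
    [Module.Flat A (P.opcycles (p - 1))] : IsIso (theta P M p) := by
  obtain ⟨hinj, hex⟩ := rTensor_exact_of_flat_coker (P.homologyι p).hom
    (P.fromOpcycles p (p - 1)).hom (P.pOpcycles (p - 1)).hom (injective_homologyι P p)
    (exact_homologyι_fromOpcycles P p) (exact_fromOpcycles_pOpcycles P p)
    (surjective_pOpcycles P (p - 1)) M
  have hm1 : Mono (P.homologyι p ▷ M) := (ModuleCat.mono_iff_injective _).mpr hinj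
  have hm2 : Mono (thetaι P M p) := by
    unfold thetaι
    infer_instance
  have hm : Mono (theta P M p) := by
    have : Mono (theta P M p ≫ (CohIII.tensorObj P M).homologyι p) := by
      rw [theta_homologyι]; exact hm2
    exact mono_of_mono _ ((CohIII.tensorObj P M).homologyι p)
  have he : Epi (theta P M p) := by
    rw [ModuleCat.epi_iff_surjective]
    intro z
    let w := (eOp P M (p + 1) p (prev_down p)).inv ((CohIII.tensorObj P M).homologyι p z)
    have hw : (P.fromOpcycles p (p - 1)).hom.rTensor M w = 0 := by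
      have h1 : (eOp P M (p + 1) p (prev_down p)).inv ≫ (P.fromOpcycles p (p - 1) ▷ M) =
          (CohIII.tensorObj P M).fromOpcycles p (p - 1) :=
        (Iso.inv_comp_eq _).mpr (eOp_hom_fromOpcycles P M (p + 1) p (p - 1) (prev_down p)).symm
      have h2 := congrArg (fun φ => φ.hom ((CohIII.tensorObj P M).homologyι p z)) h1
      simp only [ModuleCat.hom_comp, LinearMap.comp_apply, ModuleCat.hom_whiskerRight] at h2
      rw [h2]
      have h3 := (CohIII.tensorObj P M).homologyι_comp_fromOpcycles p (p - 1)
      have h4 : ((CohIII.tensorObj P M).homologyι p ≫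
          (CohIII.tensorObj P M).fromOpcycles p (p - 1)).hom z = 0 := by
        rw [h3]; rfl
      exact h4
    obtain ⟨y, hy⟩ := (hex w).mp hw
    refine ⟨y, ?_⟩
    apply injective_homologyι (CohIII.tensorObj P M) p
    have h5 := congrArg (fun φ => φ.hom y) (theta_homologyι P M p)
    simp only [ModuleCat.hom_comp, LinearMap.comp_apply] at h5
    rw [h5]
    unfold thetaι
    simp only [ModuleCat.hom_comp, LinearMap.comp_apply, ModuleCat.hom_whiskerRight]
    rw [hy]
    show (eOp P M (p + 1) p (prev_down p)).hom.hom
      ((eOp P M (p + 1) p (prev_down p)).inv.hom _) = _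
    have h6 := congrArg (fun φ => φ.hom ((CohIII.tensorObj P M).homologyι p z))
      (eOp P M (p + 1) p (prev_down p)).inv_hom_id
    simpa using h6
  exact isIso_of_mono_of_epi _

/-- `T_p ≅ H_p(P) ⊗ -` when `P_{p-1}` and the opcycles in degree `p - 1` are flat. -/
noncomputable def thetaIso (p : ℤ) [Module.Flat A (P.X (p - 1))]
    [Module.Flat A (P.opcycles (p - 1))] :
    tensorLeft (P.homology p) ≅ CohIII.TFun P p :=
  have : ∀ M, IsIso (theta P M p) := fun M => isIso_theta P M p
  NatIso.ofComponents (fun M => @asIso _ _ _ _ (theta P M p) (this M))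
    (fun g => theta_naturality P g p)

end Groth.Agent.Lib.Helper8.FlatCx
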