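import Groth.Agent.Lib.Helper8.FlatCxBC
import Mathlib.RingTheory.Flat.TorsionFree

/-!
# Flat complexes over Dedekind domains; free loci (helper8)
-/

set_option autoImplicit false
set_option maxHeartbeats 400000
universe u
open CategoryTheory CategoryTheory.Limits MonoidalCategory TensorProduct

namespace Groth.Agent.Lib.Helper8.FlatCx

section dedekind

variable {A : Type u} [CommRing A] [IsDedekindDomain A]

/-- over a Dedekind domain, a submodule of a flat module is flat. -/
theorem flat_of_injective_dedekind {M N : Type u} [AddCommGroup M] [Module A M]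
    [AddCommGroup N] [Module A N] (f : M →ₗ[A] N) (hf : Function.Injective f)
    [Module.Flat A N] : Module.Flat A M := by
  have : Module.IsTorsionFree A M := hf.moduleIsTorsionFree f (fun r x => map_smul f r x)
  infer_instance

variable (P : ChainComplex (ModuleCat.{u} A) ℤ)

theorem flat_opcycles_iff_flat_homology_dedekind (hP : ∀ i, Module.Flat A (P.X i)) (p : ℤ) :
    Module.Flat A (P.opcycles p) ↔ Module.Flat A (P.homology p) := by
  have := hP (p - 1)
  constructor
  · intro h
    exact flat_of_injective_dedekind (P.homologyι p).hom (injective_homologyι P p)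
  · intro h
    let f := (P.fromOpcycles p (p - 1)).hom
    let B := LinearMap.range f
    have hB : Module.Flat A B := flat_of_injective_dedekind B.subtype Subtype.val_injective
    refine flat_of_flat_of_flat (P.homologyι p).hom f.rangeRestrict (injective_homologyι P p) ?_
      f.surjective_rangeRestrict
    intro z
    rw [← exact_homologyι_fromOpcycles P p z]
    constructor
    · intro h
      have := congrArg B.subtype h
      simpa [f] using this
    · intro h
      apply Subtype.val_injective
      simpa [f] using h

theorem preservesMono_iff_flat_homology_dedekind (hP : ∀ i, Module.Flat A (P.X i)) (p : ℤ) :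
    (CohIII.TFun P p).PreservesMonomorphisms ↔ Module.Flat A (P.homology p) :=
  (preservesMono_iff_flat_opcycles P hP p).trans (flat_opcycles_iff_flat_homology_dedekind P hP p)

theorem preservesEpi_iff_flat_homology_dedekind (hP : ∀ i, Module.Flat A (P.X i)) (p : ℤ) :
    (CohIII.TFun P p).PreservesEpimorphisms ↔ Module.Flat A (P.homology (p - 1)) :=
  (preservesEpi_iff_flat_opcycles P hP p).trans
    (flat_opcycles_iff_flat_homology_dedekind P hP (p - 1))

end dedekind

section locus

variable {A : Type u} [CommRing A] (P : ChainComplex (ModuleCat.{u} A) ℤ)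

theorem setOf_preservesEpi_eq_freeLocus [IsNoetherianRing A]
    (hP : ∀ i, Module.Finite A (P.X i) ∧ Module.Flat A (P.X i)) (p : ℤ) :
    {y : PrimeSpectrum A |
      (CohIII.TFun (CohIII.bcCx (algebraMap A (Localization.AtPrime y.asIdeal)) P)
        p).PreservesEpimorphisms} = Module.freeLocus A (P.opcycles (p - 1)) := by
  have hPf : ∀ i, Module.Flat A (P.X i) := fun i => (hP i).2
  have hfin : Module.Finite A (P.opcycles (p - 1)) := finite_opcycles P (fun i => (hP i).1) (p - 1)
  have hfp : Module.FinitePresentation A (P.opcycles (p - 1)) :=
    Module.finitePresentation_of_finite A _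
  ext y
  rw [Set.mem_ofPred_eq, preservesEpi_bcCx_iff P hPf p,
    Module.mem_freeLocus_iff_tensor y (Localization.AtPrime y.asIdeal)]
  constructor
  · intro h
    exact Module.free_of_flat_of_isLocalRing
  · intro h
    exact Module.Flat.of_free

theorem setOf_preservesMono_eq_freeLocus [IsNoetherianRing A]
    (hP : ∀ i, Module.Finite A (P.X i) ∧ Module.Flat A (P.X i)) (p : ℤ) :
    {y : PrimeSpectrum A |
      (CohIII.TFun (CohIII.bcCx (algebraMap A (Localization.AtPrime y.asIdeal)) P)
        p).PreservesMonomorphisms} = Module.freeLocus A (P.opcycles p) := by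
  have hPf : ∀ i, Module.Flat A (P.X i) := fun i => (hP i).2
  have hfin : Module.Finite A (P.opcycles p) := finite_opcycles P (fun i => (hP i).1) p
  have hfp : Module.FinitePresentation A (P.opcycles p) :=
    Module.finitePresentation_of_finite A _
  ext y
  rw [Set.mem_ofPred_eq, preservesMono_bcCx_iff P hPf p,
    Module.mem_freeLocus_iff_tensor y (Localization.AtPrime y.asIdeal)]
  constructor
  · intro h
    exact Module.free_of_flat_of_isLocalRing
  · intro h
    exact Module.Flat.of_free

/-- the generic point of a domain lies in every free locus. -/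
theorem bot_mem_freeLocus [IsDomain A] (N : Type u) [AddCommGroup N] [Module A N] :
    (⟨⊥, Ideal.isPrime_bot⟩ : PrimeSpectrum A) ∈ Module.freeLocus A N := by
  rw [Module.mem_freeLocus]
  have hF : IsField (Localization.AtPrime (⊥ : Ideal A)) := by
    rw [IsLocalRing.isField_iff_maximalIdeal_eq, ← Localization.AtPrime.map_eq_maximalIdeal,
      Ideal.map_bot]
  letI := hF.toField
  exact Module.Free.of_divisionRing _ _

end locus

end Groth.Agent.Lib.Helper8.FlatCx
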