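import Groth.Agent.Lib.Helper8.FlatCxBridge

/-!
# `d_p(x) = dim k(x) ⊗ H_p(P)` when `T_p` is right exact (helper8)
-/

set_option autoImplicit false
set_option maxHeartbeats 400000
universe u
open CategoryTheory CategoryTheory.Limits MonoidalCategory TensorProduct

namespace Groth.Agent.Lib.Helper8.FlatCx

section linalg

variable {A : Type u} [CommRing A]
  {X Z' H Z : Type u} [AddCommGroup X] [Module A X] [AddCommGroup Z'] [Module A Z']
  [AddCommGroup H] [Module A H] [AddCommGroup Z] [Module A Z]

/-- `0 → H → Z → X → Z' → 0` exact with `X`, `Z'` flat: tensoring on the left with `M` keeps the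
left part exact. -/
theorem lTensor_exact_of_flat_coker (i : H →ₗ[A] Z) (f : Z →ₗ[A] X) (π : X →ₗ[A] Z')
    (hi : Function.Injective i) (hif : Function.Exact i f) (hfπ : Function.Exact f π)
    (hπ : Function.Surjective π) [Module.Flat A X] [Module.Flat A Z']
    (M : Type u) [AddCommGroup M] [Module A M] :
    Function.Injective (i.lTensor M) ∧ Function.Exact (i.lTensor M) (f.lTensor M) := by
  let B := LinearMap.range f
  let f' : Z →ₗ[A] B := f.rangeRestrict
  let j : B →ₗ[A] X := B.subtype
  have hj : Function.Injective j := Subtype.val_injective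
  have hf' : Function.Surjective f' := f.surjective_rangeRestrict
  have hjf : j ∘ₗ f' = f := LinearMap.subtype_comp_codRestrict _ _ _
  have hjπ : Function.Exact j π := by
    intro x
    rw [hfπ x]
    constructor
    · rintro ⟨z, rfl⟩
      exact ⟨⟨f z, z, rfl⟩, rfl⟩
    · rintro ⟨⟨_, z, rfl⟩, rfl⟩
      exact ⟨z, rfl⟩
  have hB : Module.Flat A B := flat_of_exact_of_flat j π hj hjπ hπ
  have hif' : Function.Exact i f' := by
    intro z
    rw [← hif z]
    constructor
    · intro h
      have := congrArg j h
      simpa [j, f'] using this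
    · intro h
      apply hj
      simpa [j, f'] using h
  refine ⟨LinearMap.lTensor_injective_of_exact_of_flat f' hf' i hi hif' M, ?_⟩
  have h1 : Function.Exact (i.lTensor M) (f'.lTensor M) := lTensor_exact M hif' hf'
  have h2 : Function.Injective (j.lTensor M) :=
    LinearMap.lTensor_injective_of_exact_of_flat π hπ j hj hjπ M
  have h3 : f.lTensor M = (j.lTensor M) ∘ₗ (f'.lTensor M) := by
    rw [← LinearMap.lTensor_comp, hjf]
  rw [h3]
  exact h1.comp_injective _ h2 (map_zero _)

end linalg

variable {A : Type u} [CommRing A] (P : ChainComplex (ModuleCat.{u} A) ℤ)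

/-- `B ⊗ H_p(P)` is the kernel of the base change of `opcycles_p ⟶ P_{p-1}` if `P_{p-1}` and
`opcycles_{p-1}` are flat. -/
theorem nonempty_baseChange_homology_equiv_ker (B : Type u) [CommRing B] [Algebra A B] (p : ℤ)
    [Module.Flat A (P.X (p - 1))] [Module.Flat A (P.opcycles (p - 1))] :
    Nonempty (B ⊗[A] P.homology p ≃ₗ[B]
      LinearMap.ker ((P.fromOpcycles p (p - 1)).hom.baseChange B)) := by
  obtain ⟨hinj, hex⟩ := lTensor_exact_of_flat_coker (P.homologyι p).hom
    (P.fromOpcycles p (p - 1)).hom (P.pOpcycles (p - 1)).hom (injective_homologyι P p)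
    (exact_homologyι_fromOpcycles P p) (exact_fromOpcycles_pOpcycles P p)
    (surjective_pOpcycles P (p - 1)) B
  have hinj' : Function.Injective ((P.homologyι p).hom.baseChange B) := hinj
  have hrange : LinearMap.range ((P.homologyι p).hom.baseChange B) =
      LinearMap.ker ((P.fromOpcycles p (p - 1)).hom.baseChange B) := by
    ext x
    rw [LinearMap.mem_ker]
    exact ((hex x).symm : _)
  exact ⟨(LinearEquiv.ofInjective _ hinj').trans (LinearEquiv.ofEq _ _ hrange)⟩

theorem nonempty_homology_bcCx_equiv_baseChange (B : Type u) [CommRing B] [Algebra A B] (p : ℤ)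
    [Module.Flat A (P.X (p - 1))] [Module.Flat A (P.opcycles (p - 1))] :
    Nonempty ((CohIII.bcCx (algebraMap A B) P).homology p ≃ₗ[B] B ⊗[A] P.homology p) := by
  obtain ⟨e1⟩ := nonempty_homology_bcCx_equiv (B := B) P p
  obtain ⟨e2⟩ := nonempty_baseChange_homology_equiv_ker P B p
  exact ⟨e1.trans e2.symm⟩

theorem dRank_eq_fibreRank_homology (p : ℤ) [Module.Flat A (P.X (p - 1))]
    [Module.Flat A (P.opcycles (p - 1))] (x : PrimeSpectrum A) :
    CohIII.dRank P p x = fibreRank (P.homology p) x := by
  obtain ⟨e⟩ := nonempty_homology_bcCx_equiv_baseChange P x.asIdeal.ResidueField p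
  exact e.finrank_eq

end Groth.Agent.Lib.Helper8.FlatCx
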