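import Groth.Agent.Lib.Helper8.FlatCx14
import Groth.Agent.Lib.Helper8.FlatCx9
import Groth.Agent.Lib.Helper8.UCT2
import Mathlib.RingTheory.Ideal.AssociatedPrime.Finiteness

/-!
# Finiteness of `T_n(M)` for finite `M` (helper8)

`finite_T_of_finite_unit`: over a Noetherian ring, for a bounded-below complex of flat modules with
all `T_n(A)` finite, every `T_n(M)` with `M` finite is finite.
-/

set_option autoImplicit false
set_option maxHeartbeats 400000
universe u
open CategoryTheory CategoryTheory.Limits MonoidalCategory TensorProduct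

namespace Groth.Agent.Lib.Helper8.FlatCx

variable {A : Type u} [CommRing A]

theorem finite_of_exact_noeth [IsNoetherianRing A] {M N P : Type u} [AddCommGroup M] [Module A M]
    [AddCommGroup N] [Module A N] [AddCommGroup P] [Module A P] (f : M →ₗ[A] N) (g : N →ₗ[A] P)
    (h : Function.Exact f g) [Module.Finite A M] [Module.Finite A P] : Module.Finite A N := by
  have : IsNoetherian A P := isNoetherian_of_isNoetherianRing_of_finite A P
  have : Module.Finite A (LinearMap.range g) := inferInstance
  exact Module.Finite.of_exact (f := f) (g := g.rangeRestrict)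
    (Groth.Agent.Lib.Helper8.UCT.exact_rangeRestrict f g h) g.surjective_rangeRestrict

variable (P : ChainComplex (ModuleCat.{u} A) ℤ)

theorem isZero_T_of_isZero_X (n : ℤ) (M : ModuleCat.{u} A) (h : IsZero (P.X n)) :
    IsZero (CohIII.T P n M) := by
  have h1 : IsZero ((CohIII.tensorObj P M).X n) := (tensorRight M).map_isZero h
  exact ShortComplex.isZero_homology_of_isZero_X₂ _ h1

theorem finite_of_isZero {M : ModuleCat.{u} A} (h : IsZero M) : Module.Finite A M := by
  have := ModuleCat.subsingleton_of_isZero h
  infer_instance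

/-- one step: if `T_{n-1}` of finite modules is finite and `T_n(A)` is finite, then `T_n` of finite
modules is finite. -/
theorem finite_T_step [IsNoetherianRing A] (hP : ∀ i, Module.Flat A (P.X i)) (n : ℤ)
    (hn : Module.Finite A (CohIII.T P n (ModuleCat.of A A)))
    (ih : ∀ (M : Type u) [AddCommGroup M] [Module A M] [Module.Finite A M],
      Module.Finite A (CohIII.T P (n - 1) (ModuleCat.of A M)))
    (M : Type u) [AddCommGroup M] [Module A M] [hM : Module.Finite A M] :
    Module.Finite A (CohIII.T P n (ModuleCat.of A M)) := by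
  induction hM using IsNoetherianRing.induction_on_isQuotientEquivQuotientPrime A with
  | subsingleton N =>
    exact finite_of_isZero ((CohIII.TFun P n).map_isZero (ModuleCat.isZero_of_subsingleton _))
  | quotient N p e =>
    have hS := HalfExact.shortExact_subtype_mkQ (A := A) (M := A) p.asIdeal
    have hT := tensorSC_shortExact P hP hS
    have hrel : (ComplexShape.down ℤ).Rel n (n - 1) := by
      show n - 1 + 1 = n
      ring
    have hex := hT.homology_exact₃ n (n - 1) hrel
    rw [ShortComplex.ShortExact.moduleCat_exact_iff_function_exact] at hex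
    have h1 : Module.Finite A (CohIII.T P n (ModuleCat.of A A)) := hn
    have h3 : Module.Finite A (CohIII.T P (n - 1) (ModuleCat.of A p.asIdeal)) := ih p.asIdeal
    have h2 : Module.Finite A ((CohIII.TFun P n).obj (ModuleCat.of A (A ⧸ p.asIdeal))) :=
      @finite_of_exact_noeth A _ _ _ _ _ _ _ _ _ _ _ _ _ hex h1 h3
    exact Module.Finite.equiv ((CohIII.TFun P n).mapIso e.toModuleIso).toLinearEquiv.symm
  | exact N₁ N₂ N₃ f g hf hg hfg h₁ h₃ =>
    let S : ShortComplex (ModuleCat.{u} A) := ShortComplex.mk (ModuleCat.ofHom f) (ModuleCat.ofHom g)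
      (by ext x; exact hfg.apply_apply_eq_zero x)
    have hS : S.ShortExact :=
      { exact := by
          rw [ShortComplex.ShortExact.moduleCat_exact_iff_function_exact]
          exact hfg
        mono_f := (ModuleCat.mono_iff_injective _).mpr hf
        epi_g := (ModuleCat.epi_iff_surjective _).mpr hg }
    have hex := HalfExact.exact_of_halfExact (TFun_isHalfExact P hP n) hS
    exact @finite_of_exact_noeth A _ _ _ _ _ _ _ _ _ _ _ _ _ hex h₁ h₃

/-- over a Noetherian ring, for a bounded-below complex of flat modules with all `T_n(A)` finite,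
every `T_n(M)` with `M` finite is finite. -/
theorem finite_T_of_finite_unit [IsNoetherianRing A] (hP : ∀ i, Module.Flat A (P.X i)) (i₀ : ℤ)
    (hb : ∀ i < i₀, IsZero (P.X i))
    (hfg : ∀ n : ℤ, Module.Finite A (CohIII.T P n (ModuleCat.of A A))) (n : ℤ)
    (M : Type u) [AddCommGroup M] [Module A M] [Module.Finite A M] :
    Module.Finite A (CohIII.T P n (ModuleCat.of A M)) := by
  have key : ∀ (k : ℕ) (M : Type u) [AddCommGroup M] [Module A M] [Module.Finite A M],
      Module.Finite A (CohIII.T P (i₀ - 1 + k) (ModuleCat.of A M)) := by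
    intro k
    induction k with
    | zero =>
      intro M _ _ _
      exact finite_of_isZero (isZero_T_of_isZero_X P _ _ (hb _ (by simp)))
    | succ k ih =>
      intro M _ _ _
      apply finite_T_step P hP _ (hfg _)
      intro M' _ _ _
      have e : i₀ - 1 + ((k + 1 : ℕ) : ℤ) - 1 = i₀ - 1 + (k : ℤ) := by push_cast; ring
      rw [e]
      exact ih M'
  by_cases hn : n < i₀
  · exact finite_of_isZero (isZero_T_of_isZero_X P _ _ (hb _ hn))
  · obtain ⟨k, hk⟩ : ∃ k : ℕ, n = i₀ - 1 + k := ⟨(n - i₀ + 1).toNat, by omega⟩
    rw [hk]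
    exact key k M

end Groth.Agent.Lib.Helper8.FlatCx
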