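import Groth.Agent.Lib.Helper8.FlatCx12

/-!
# Homology of a base-changed complex as a kernel of a base-changed map (helper8)
-/

set_option autoImplicit false
set_option maxHeartbeats 400000
universe u
open CategoryTheory CategoryTheory.Limits MonoidalCategory TensorProduct

namespace Groth.Agent.Lib.Helper8.FlatCx

section functor

variable {C D : Type*} [Category C] [Abelian C] [Category D] [Abelian D]
  (F : C ⥤ D) [F.Additive] [PreservesFiniteColimits F]
  {ι : Type*} {c : ComplexShape ι} (P : HomologicalComplex C c)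

@[reassoc]
theorem eOpF_hom_fromOpcycles (p q r : ι) (hpq : c.prev q = p) :
    (eOpF F P p q hpq).hom ≫ ((F.mapHomologicalComplex c).obj P).fromOpcycles q r =
      F.map (P.fromOpcycles q r) := by
  have : Epi (F.map (P.pOpcycles q)) := inferInstance
  rw [← cancel_epi (F.map (P.pOpcycles q)), p_eOpF_hom_assoc]
  have h1 : F.map (P.pOpcycles q) ≫ F.map (P.fromOpcycles q r) = F.map (P.d q r) := by
    rw [← F.map_comp, HomologicalComplex.p_fromOpcycles]
  exact (((F.mapHomologicalComplex c).obj P).p_fromOpcycles q r).trans h1.symm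

end functor

section kernels

variable {R : Type*} [CommRing R] {M M' N N' : Type*} [AddCommGroup M] [Module R M]
  [AddCommGroup M'] [Module R M'] [AddCommGroup N] [Module R N] [AddCommGroup N'] [Module R N']

/-- kernels of maps which correspond under linear equivalences are equivalent. -/
noncomputable def kerEquivOfComm (f : M →ₗ[R] N) (f' : M' →ₗ[R] N') (e : M ≃ₗ[R] M')
    (e' : N ≃ₗ[R] N') (h : ∀ x, e' (f x) = f' (e x)) :
    LinearMap.ker f ≃ₗ[R] LinearMap.ker f' :=
  (LinearEquiv.ofEq _ _ (by
    ext x
    simp only [LinearMap.mem_ker, Submodule.mem_comap, LinearEquiv.coe_coe]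
    rw [← h, LinearEquiv.map_eq_zero_iff])).trans
    (LinearEquiv.ofSubmodule' e (LinearMap.ker f'))

end kernels

section bridge

variable {A B : Type u} [CommRing A] [CommRing B]

set_option backward.isDefEq.respectTransparency false in
theorem extendScalarsEquivAux_naturality (φ : A →+* B) {M N : ModuleCat.{u} A} (g : M ⟶ N)
    (x : (ModuleCat.extendScalars φ).obj M) :
    letI := φ.toAlgebra
    extendScalarsEquivAux φ N (((ModuleCat.extendScalars φ).map g).hom x) =
      (g.hom.baseChange B) (extendScalarsEquivAux φ M x) := by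
  letI := φ.toAlgebra
  rfl

theorem nonempty_kerEquiv' (φ : A →+* B) (inst : Algebra A B)
    (h : @algebraMap A B _ _ inst = φ) {M N : ModuleCat.{u} A} (g : M ⟶ N) :
    Nonempty (LinearMap.ker ((ModuleCat.extendScalars φ).map g).hom ≃ₗ[B]
      LinearMap.ker (g.hom.baseChange B)) := by
  have : inst = φ.toAlgebra := Algebra.algebra_ext _ _ (fun r => by rw [h]; rfl)
  subst this
  exact ⟨kerEquivOfComm _ _ (extendScalarsEquivAux φ M) (extendScalarsEquivAux φ N)
    (extendScalarsEquivAux_naturality φ g)⟩

theorem nonempty_kerEquiv [Algebra A B] {M N : ModuleCat.{u} A} (g : M ⟶ N) :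
    Nonempty (LinearMap.ker ((ModuleCat.extendScalars (algebraMap A B)).map g).hom ≃ₗ[B]
      LinearMap.ker (g.hom.baseChange B)) :=
  nonempty_kerEquiv' (algebraMap A B) _ rfl g

variable [Algebra A B] (P : ChainComplex (ModuleCat.{u} A) ℤ)

/-- the homology of the base-changed complex is the kernel of the base-changed map
`opcycles_p ⟶ P_{p-1}`. -/
theorem nonempty_homology_bcCx_equiv (p : ℤ) :
    Nonempty ((CohIII.bcCx (algebraMap A B) P).homology p ≃ₗ[B]
      LinearMap.ker ((P.fromOpcycles p (p - 1)).hom.baseChange B)) := by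
  let F := ModuleCat.extendScalars (algebraMap A B)
  let e1 := homologyEquivKer (CohIII.bcCx (algebraMap A B) P) p
  let eo := eOpF F P (p + 1) p (prev_down p)
  have hcomm : ∀ x, (F.map (P.fromOpcycles p (p - 1))).hom x =
      ((CohIII.bcCx (algebraMap A B) P).fromOpcycles p (p - 1)).hom (eo.hom.hom x) := by
    intro x
    have := eOpF_hom_fromOpcycles F P (p + 1) p (p - 1) (prev_down p)
    have h2 := congrArg (fun φ => φ.hom x) this
    simp only [ModuleCat.hom_comp, LinearMap.comp_apply] at h2
    exact h2.symm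
  let e2 : LinearMap.ker (F.map (P.fromOpcycles p (p - 1))).hom ≃ₗ[B]
      LinearMap.ker ((CohIII.bcCx (algebraMap A B) P).fromOpcycles p (p - 1)).hom :=
    kerEquivOfComm _ _ eo.toLinearEquiv (LinearEquiv.refl B _) hcomm
  obtain ⟨e3⟩ := nonempty_kerEquiv (B := B) (P.fromOpcycles p (p - 1))
  exact ⟨e1.trans (e2.symm.trans e3)⟩

end bridge

end Groth.Agent.Lib.Helper8.FlatCx
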