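import Groth.Agent.Lib.Helper8.FlatCx
import Mathlib.CategoryTheory.Monoidal.Braided.Basic
import Mathlib.RingTheory.LocalRing.Module

/-!
# Opcycles of `P ⊗ M` (helper library, helper8)

For a complex `P` of `A`-modules and an `A`-module `M`, the opcycles of `P ⊗ M` in degree `q`
are `P.opcycles q ⊗ M`, naturally in `M`.
-/

set_option autoImplicit false
universe u
open CategoryTheory CategoryTheory.Limits MonoidalCategory

namespace Groth.Agent.Lib.Helper8.FlatCx

variable {A : Type u} [CommRing A]

instance (M : ModuleCat.{u} A) : PreservesColimits (tensorRight M) :=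
  preservesColimits_of_natIso (BraidedCategory.tensorLeftIsoTensorRight M)

instance (M : ModuleCat.{u} A) : (tensorRight M).PreservesEpimorphisms :=
  preservesEpimorphisms_of_preservesColimitsOfShape _

theorem epi_whiskerRight {X Y : ModuleCat.{u} A} (f : X ⟶ Y) [Epi f] (M : ModuleCat.{u} A) :
    Epi (f ▷ M) := (tensorRight M).map_epi f

variable {ι : Type} {c : ComplexShape ι} (P : HomologicalComplex (ModuleCat.{u} A) c)

theorem tensorObj_d (M : ModuleCat.{u} A) (i j : ι) :
    (CohIII.tensorObj P M).d i j = P.d i j ▷ M := rfl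

/-- the cokernel cofork `P.X p ⊗ M ⟶ P.X q ⊗ M ⟶ P.opcycles q ⊗ M`. -/
noncomputable def opCofork (M : ModuleCat.{u} A) (p q : ι) :
    CokernelCofork ((CohIII.tensorObj P M).d p q) :=
  CokernelCofork.ofπ (f := (CohIII.tensorObj P M).d p q) (P.pOpcycles q ▷ M) (by
    show (P.d p q ▷ M) ≫ (P.pOpcycles q ▷ M) = 0
    rw [← comp_whiskerRight, P.d_pOpcycles]
    exact MonoidalPreadditive.zero_whiskerRight)

/-- `P.opcycles q ⊗ M` is a cokernel of the differential of `P ⊗ M`. -/
noncomputable def opCoforkIsColimit (M : ModuleCat.{u} A) (p q : ι) (hpq : c.prev q = p) :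
    IsColimit (opCofork P M p q) :=
  CokernelCofork.mapIsColimit _ (P.opcyclesIsCokernel p q hpq) (tensorRight M)

/-- The comparison isomorphism `P.opcycles q ⊗ M ≅ (P ⊗ M).opcycles q`. -/
noncomputable def eOp (M : ModuleCat.{u} A) (p q : ι) (hpq : c.prev q = p) :
    P.opcycles q ⊗ M ≅ (CohIII.tensorObj P M).opcycles q :=
  IsColimit.coconePointUniqueUpToIso (opCoforkIsColimit P M p q hpq)
    ((CohIII.tensorObj P M).opcyclesIsCokernel p q hpq)

@[reassoc]
theorem p_eOp_hom (M : ModuleCat.{u} A) (p q : ι) (hpq : c.prev q = p) :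
    (P.pOpcycles q ▷ M) ≫ (eOp P M p q hpq).hom = (CohIII.tensorObj P M).pOpcycles q :=
  IsColimit.comp_coconePointUniqueUpToIso_hom (opCoforkIsColimit P M p q hpq)
    ((CohIII.tensorObj P M).opcyclesIsCokernel p q hpq) WalkingParallelPair.one

@[reassoc]
theorem eOp_hom_naturality {M N : ModuleCat.{u} A} (g : M ⟶ N) (p q : ι) (hpq : c.prev q = p) :
    (P.opcycles q ◁ g) ≫ (eOp P N p q hpq).hom =
      (eOp P M p q hpq).hom ≫ HomologicalComplex.opcyclesMap (CohIII.tensorMap P g) q := by
  have : Epi (P.pOpcycles q ▷ M) := epi_whiskerRight _ M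
  rw [← cancel_epi (P.pOpcycles q ▷ M), p_eOp_hom_assoc]
  have h1 := HomologicalComplex.p_opcyclesMap (CohIII.tensorMap P g) q
  rw [tensorMap_f] at h1
  rw [← whisker_exchange_assoc, p_eOp_hom]
  exact h1.symm

@[reassoc]
theorem eOp_hom_fromOpcycles (M : ModuleCat.{u} A) (p q r : ι) (hpq : c.prev q = p) :
    (eOp P M p q hpq).hom ≫ (CohIII.tensorObj P M).fromOpcycles q r = P.fromOpcycles q r ▷ M := by
  have : Epi (P.pOpcycles q ▷ M) := epi_whiskerRight _ M
  rw [← cancel_epi (P.pOpcycles q ▷ M), p_eOp_hom_assoc]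
  have h1 : (P.pOpcycles q ▷ M) ≫ (P.fromOpcycles q r ▷ M) = P.d q r ▷ M := by
    rw [← comp_whiskerRight, HomologicalComplex.p_fromOpcycles]
  exact ((CohIII.tensorObj P M).p_fromOpcycles q r).trans h1.symm

section chase

variable {C : Type*} [Category C] [Abelian C] {ι' : Type*} {c' : ComplexShape ι'}
  {K L : HomologicalComplex C c'} (φ : K ⟶ L)

theorem opcyclesMap_fromOpcycles (i j : ι') :
    HomologicalComplex.opcyclesMap φ i ≫ L.fromOpcycles i j = K.fromOpcycles i j ≫ φ.f j := by
  rw [← cancel_epi (K.pOpcycles i), HomologicalComplex.p_opcyclesMap_assoc,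
    HomologicalComplex.p_fromOpcycles, HomologicalComplex.p_fromOpcycles_assoc, φ.comm]

/-- If `φ` induces a mono on homology in degree `i` and is a mono in the next degree, it induces
a mono on opcycles in degree `i`. -/
theorem mono_opcyclesMap (i j : ι') (hij : c'.next i = j)
    [Mono (HomologicalComplex.homologyMap φ i)] [Mono (φ.f j)] :
    Mono (HomologicalComplex.opcyclesMap φ i) := by
  refine Preadditive.mono_of_cancel_zero _ fun {Z} x hx => ?_
  have h1 : (x ≫ K.fromOpcycles i j) ≫ φ.f j = 0 := by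
    rw [Category.assoc, ← opcyclesMap_fromOpcycles, reassoc_of% hx, zero_comp]
  have h2 : x ≫ K.fromOpcycles i j = 0 := by
    rw [← cancel_mono (φ.f j), h1, zero_comp]
  -- factor through homology
  let y : Z ⟶ K.homology i := (K.homologyIsKernel i j hij).lift (KernelFork.ofι x h2)
  have hy : y ≫ K.homologyι i = x := (K.homologyIsKernel i j hij).fac (KernelFork.ofι x h2) .zero
  have h3 : (y ≫ HomologicalComplex.homologyMap φ i) ≫ L.homologyι i = 0 := by
    rw [Category.assoc, HomologicalComplex.homologyι_naturality, reassoc_of% hy, hx]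
  have h4 : y ≫ HomologicalComplex.homologyMap φ i = 0 := by
    rw [← cancel_mono (L.homologyι i), h3, zero_comp]
  have h5 : y = 0 := by
    rw [← cancel_mono (HomologicalComplex.homologyMap φ i), h4, zero_comp]
  rw [← hy, h5, zero_comp]

/-- If `φ` induces a mono on opcycles in degree `i`, it induces a mono on homology. -/
theorem mono_homologyMap_of_mono_opcyclesMap (i : ι')
    [Mono (HomologicalComplex.opcyclesMap φ i)] :
    Mono (HomologicalComplex.homologyMap φ i) := by
  have : Mono (HomologicalComplex.homologyMap φ i ≫ L.homologyι i) := by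
    rw [HomologicalComplex.homologyι_naturality]
    infer_instance
  exact mono_of_mono _ (L.homologyι i)

end chase

end Groth.Agent.Lib.Helper8.FlatCx
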