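import Groth.Agent.Lib.Helper8.FlatCxGen
import Groth.Agent.Lib.Helper8.FlatCx2
import Mathlib.RingTheory.LocalRing.Module
import Mathlib.RingTheory.LocalProperties.Projective
import Mathlib.RingTheory.LocalRing.ResidueField.Ideal

/-!
# A fibrewise criterion for projectivity of a cokernel (helper8)

* `lTensor_baseChange_injective_iff`
* `projective_of_injective_lTensor_quotient`: over a Noetherian ring, if `Z → F → N → 0` is exact
  with `Z` finite, `F` finite projective, and `A/m ⊗ Z → A/m ⊗ F` is injective for every maximal
  ideal `m`, then `N` is projective.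
-/

set_option autoImplicit false
set_option maxHeartbeats 400000
universe u
open TensorProduct

namespace Groth.Agent.Lib.Helper8.FlatCx

section bc

variable {R S : Type u} [CommRing R] [CommRing S] [Algebra R S] (K : Type u) [AddCommGroup K]
  [Module R K] [Module S K] [IsScalarTower R S K] {M N : Type u} [AddCommGroup M] [Module R M]
  [AddCommGroup N] [Module R N] (f : M →ₗ[R] N)

theorem cancelBaseChange_lTensor_baseChange (z : K ⊗[S] (S ⊗[R] M)) :
    AlgebraTensorModule.cancelBaseChange R S S K N ((f.baseChange S).lTensor K z) =
      f.lTensor K (AlgebraTensorModule.cancelBaseChange R S S K M z) := by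
  induction z using TensorProduct.induction_on with
  | zero => simp
  | tmul k y =>
    induction y using TensorProduct.induction_on with
    | zero => simp
    | tmul s m =>
      rw [LinearMap.lTensor_tmul, LinearMap.baseChange_tmul,
        AlgebraTensorModule.cancelBaseChange_tmul, AlgebraTensorModule.cancelBaseChange_tmul,
        LinearMap.lTensor_tmul]
    | add a b ha hb =>
      simp only [TensorProduct.tmul_add, map_add, ha, hb]
  | add a b ha hb => simp only [map_add, ha, hb]

theorem lTensor_baseChange_injective_iff :
    Function.Injective ((f.baseChange S).lTensor K) ↔ Function.Injective (f.lTensor K) := by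
  constructor
  · intro h a b hab
    apply (AlgebraTensorModule.cancelBaseChange R S S K M).symm.injective
    apply h
    apply (AlgebraTensorModule.cancelBaseChange R S S K N).injective
    rw [cancelBaseChange_lTensor_baseChange, cancelBaseChange_lTensor_baseChange,
      LinearEquiv.apply_symm_apply, LinearEquiv.apply_symm_apply, hab]
  · intro h a b hab
    apply (AlgebraTensorModule.cancelBaseChange R S S K M).injective
    apply h
    rw [← cancelBaseChange_lTensor_baseChange, ← cancelBaseChange_lTensor_baseChange, hab]

end bc

section crit

variable {A : Type u} [CommRing A]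

/-- injectivity of `A/m ⊗ f` implies injectivity of `k(m) ⊗ f`. -/
theorem injective_lTensor_residueField_of_quotient (m : Ideal A) [m.IsMaximal]
    {Z F : Type u} [AddCommGroup Z] [Module A Z] [AddCommGroup F] [Module A F] (f : Z →ₗ[A] F)
    (h : Function.Injective (f.lTensor (A ⧸ m))) :
    Function.Injective (f.lTensor m.ResidueField) := by
  letI : Field (A ⧸ m) := Ideal.Quotient.field m
  rw [← lTensor_baseChange_injective_iff (S := A ⧸ m) m.ResidueField f]
  apply Module.Flat.lTensor_preserves_injective_linearMap
  rw [LinearMap.baseChange_eq_ltensor]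
  exact h

theorem projective_of_injective_lTensor_quotient [IsNoetherianRing A]
    {Z F N : Type u} [AddCommGroup Z] [Module A Z] [AddCommGroup F] [Module A F]
    [AddCommGroup N] [Module A N] [Module.Finite A Z] [Module.Finite A F] [Module.Projective A F]
    (f : Z →ₗ[A] F) (g : F →ₗ[A] N) (hfg : Function.Exact f g) (hg : Function.Surjective g)
    (h : ∀ (m : Ideal A) [m.IsMaximal], Function.Injective (f.lTensor (A ⧸ m))) :
    Module.Projective A N := by
  have : Module.Finite A N := Module.Finite.of_surjective g hg
  have : Module.FinitePresentation A N := Module.finitePresentation_of_finite A N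
  refine Module.projective_of_localization_maximal' (fun P _ => Localization.AtPrime P)
    (fun P _ => Localization.AtPrime P ⊗[A] N)
    (fun P _ => TensorProduct.mk A (Localization.AtPrime P) N 1) ?_
  intro I hI
  have hfree0 : Module.Free (Localization.AtPrime I) (Localization.AtPrime I ⊗[A] F) :=
    Module.free_of_flat_of_isLocalRing
  have hfree : Module.Free (Localization.AtPrime I) (Localization.AtPrime I ⊗[A] N) := by
    refine Module.free_of_lTensor_residueField_injective
      (f.baseChange (Localization.AtPrime I)) (g.baseChange (Localization.AtPrime I)) ?_ ?_ ?_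
    · rw [LinearMap.baseChange_eq_ltensor]
      exact LinearMap.lTensor_surjective _ hg
    · have := lTensor_exact (Localization.AtPrime I) hfg hg
      rw [LinearMap.baseChange_eq_ltensor, LinearMap.baseChange_eq_ltensor]
      exact this
    · exact (lTensor_baseChange_injective_iff (S := Localization.AtPrime I)
        (IsLocalRing.ResidueField (Localization.AtPrime I)) f).mpr
        (injective_lTensor_residueField_of_quotient I f (h I))
  infer_instance

end crit

section complex

open CategoryTheory CategoryTheory.Limits MonoidalCategory

variable {A : Type u} [CommRing A] {ι : Type} {c : ComplexShape ι}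
  (Q : HomologicalComplex (ModuleCat.{u} A) c)

theorem injective_rTensor_fromOpcycles_of_isZero_homology (M : ModuleCat.{u} A) {i j : ι}
    (hij : c.Rel i j) (hz : IsZero ((CohIII.tensorObj Q M).homology i)) :
    Function.Injective ((Q.fromOpcycles i j).hom.rTensor M) := by
  have hsub : Subsingleton ((CohIII.tensorObj Q M).homology i) :=
    ModuleCat.subsingleton_of_isZero hz
  have hker : LinearMap.ker ((CohIII.tensorObj Q M).fromOpcycles i j).hom = ⊥ := by
    rw [eq_bot_iff]
    intro x hx
    have : (⟨x, hx⟩ : LinearMap.ker ((CohIII.tensorObj Q M).fromOpcycles i j).hom) = 0 := by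
      apply (homologyEquivKer' (CohIII.tensorObj Q M) hij).symm.injective
      exact Subsingleton.elim _ _
    exact congrArg Subtype.val this
  have hinj : Function.Injective ((CohIII.tensorObj Q M).fromOpcycles i j).hom :=
    LinearMap.ker_eq_bot.mp hker
  have e := eOp_hom_fromOpcycles Q M (c.prev i) i j rfl
  have e' : ∀ z, ((CohIII.tensorObj Q M).fromOpcycles i j).hom
      ((eOp Q M (c.prev i) i rfl).hom.hom z) = (Q.fromOpcycles i j).hom.rTensor M z := by
    intro z
    have e2 := LinearMap.congr_fun (congrArg ModuleCat.Hom.hom e) z
    have e3 : (Q.fromOpcycles i j ▷ M).hom = (Q.fromOpcycles i j).hom.rTensor M :=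
      ModuleCat.hom_whiskerRight _ _
    exact e2.trans (LinearMap.congr_fun e3 z)
  intro a b hab
  apply (eOp Q M (c.prev i) i rfl).toLinearEquiv.injective
  apply hinj
  exact ((e' a).trans hab).trans (e' b).symm

theorem projective_opcycles_of_isZero_homology_tensor [IsNoetherianRing A]
    (hQ : ∀ i, Module.Finite A (Q.X i) ∧ Module.Projective A (Q.X i)) {i j : ι} (hij : c.Rel i j)
    (h2 : ∀ (m : Ideal A) [m.IsMaximal],
      IsZero ((CohIII.tensorObj Q (ModuleCat.of A (A ⧸ m))).homology i)) :
    Module.Projective A (Q.opcycles j) := by
  have := finite_opcycles_gen Q (fun i => (hQ i).1) i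
  have := (hQ j).1
  have := (hQ j).2
  refine projective_of_injective_lTensor_quotient (Q.fromOpcycles i j).hom (Q.pOpcycles j).hom
    (exact_fromOpcycles_pOpcycles' Q hij) (surjective_pOpcycles' Q j) ?_
  intro m _
  rw [LinearMap.lTensor_inj_iff_rTensor_inj]
  exact injective_rTensor_fromOpcycles_of_isZero_homology Q (ModuleCat.of A (A ⧸ m)) hij (h2 m)

end complex

end Groth.Agent.Lib.Helper8.FlatCx
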