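import Groth.Agent.Lib.Helper8.FlatCx15
import Groth.Agent.Lib.Helper8.FlatCxBridge
import Groth.Agent.Lib.Helper8.ProjCrit

/-!
# Finiteness of the homology of a base-changed complex (helper8)

* `nonempty_T_equiv_ker`: `T_p(M) ≃ ker (fromOpcycles ⊗ M)`.
* `finite_homology_bcCx_of_finite_T`: if `T_p(B)` is a finite `A`-module then `H_p(P_B)` is a finite
  `B`-module.
-/

set_option autoImplicit false
set_option maxHeartbeats 400000
universe u
open CategoryTheory CategoryTheory.Limits MonoidalCategory TensorProduct

namespace Groth.Agent.Lib.Helper8.FlatCx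

variable {A : Type u} [CommRing A] (P : ChainComplex (ModuleCat.{u} A) ℤ)

theorem nonempty_T_equiv_ker (M : ModuleCat.{u} A) (p : ℤ) :
    Nonempty (CohIII.T P p M ≃ₗ[A] LinearMap.ker ((P.fromOpcycles p (p - 1)).hom.rTensor M)) := by
  let e1 := homologyEquivKer (CohIII.tensorObj P M) p
  have e := eOp_hom_fromOpcycles P M (p + 1) p (p - 1) (prev_down p)
  have e' : ∀ z, ((CohIII.tensorObj P M).fromOpcycles p (p - 1)).hom
      ((eOp P M (p + 1) p (prev_down p)).hom.hom z) =
        (P.fromOpcycles p (p - 1)).hom.rTensor M z := by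
    intro z
    have e2 := LinearMap.congr_fun (congrArg ModuleCat.Hom.hom e) z
    have e3 : (P.fromOpcycles p (p - 1) ▷ M).hom = (P.fromOpcycles p (p - 1)).hom.rTensor M :=
      ModuleCat.hom_whiskerRight _ _
    exact e2.trans (LinearMap.congr_fun e3 z)
  let e2 : LinearMap.ker ((P.fromOpcycles p (p - 1)).hom.rTensor M) ≃ₗ[A]
      LinearMap.ker ((CohIII.tensorObj P M).fromOpcycles p (p - 1)).hom :=
    kerEquivOfComm _ _ (eOp P M (p + 1) p (prev_down p)).toLinearEquiv (LinearEquiv.refl A _)
      (fun z => (e' z).symm)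
  exact ⟨e1.trans e2.symm⟩

section

variable {M N : Type u} [AddCommGroup M] [Module A M] [AddCommGroup N] [Module A N]
  (B : Type u) [CommRing B] [Algebra A B] (f : M →ₗ[A] N)

theorem comm_rTensor (z : M ⊗[A] B) :
    TensorProduct.comm A N B (f.rTensor B z) = f.lTensor B (TensorProduct.comm A M B z) := by
  induction z using TensorProduct.induction_on with
  | zero => simp
  | tmul m b => simp
  | add a b ha hb => simp only [map_add, ha, hb]

/-- the kernel of `f.baseChange B`, as an `A`-module, is the kernel of `f.lTensor B`. -/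
noncomputable def kerBaseChangeEquiv :
    LinearMap.ker (f.lTensor B) ≃ₗ[A] LinearMap.ker (f.baseChange B) where
  toFun x := ⟨x.1, by
    have := x.2
    rw [LinearMap.mem_ker] at this ⊢
    rw [LinearMap.baseChange_eq_ltensor]
    exact this⟩
  invFun x := ⟨x.1, by
    have := x.2
    rw [LinearMap.mem_ker] at this ⊢
    rw [LinearMap.baseChange_eq_ltensor] at this
    exact this⟩
  map_add' _ _ := rfl
  map_smul' _ _ := rfl
  left_inv _ := rfl
  right_inv _ := rfl

theorem finite_ker_baseChange_of_finite_ker_rTensor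
    (h : Module.Finite A (LinearMap.ker (f.rTensor B))) :
    Module.Finite B (LinearMap.ker (f.baseChange B)) := by
  have e1 : LinearMap.ker (f.rTensor B) ≃ₗ[A] LinearMap.ker (f.lTensor B) :=
    kerEquivOfComm _ _ (TensorProduct.comm A M B) (TensorProduct.comm A N B) (comm_rTensor B f)
  have h2 : Module.Finite A (LinearMap.ker (f.baseChange B)) :=
    Module.Finite.equiv (e1.trans (kerBaseChangeEquiv B f))
  exact Module.Finite.of_restrictScalars_finite A B _

end

theorem finite_homology_bcCx_of_finite_T (B : Type u) [CommRing B] [Algebra A B] (p : ℤ)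
    (h : Module.Finite A (CohIII.T P p (ModuleCat.of A B))) :
    Module.Finite B ((CohIII.bcCx (algebraMap A B) P).homology p) := by
  obtain ⟨e1⟩ := nonempty_T_equiv_ker P (ModuleCat.of A B) p
  have h1 : Module.Finite A (LinearMap.ker ((P.fromOpcycles p (p - 1)).hom.rTensor B)) :=
    Module.Finite.equiv e1
  have h2 := finite_ker_baseChange_of_finite_ker_rTensor B _ h1
  obtain ⟨e3⟩ := nonempty_homology_bcCx_equiv (B := B) P p
  exact Module.Finite.equiv e3.symm

end Groth.Agent.Lib.Helper8.FlatCx
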