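import Groth.Agent.Lib.Helper8.FlatCx11
import Mathlib.RingTheory.Flat.FaithfullyFlat.Basic
import Mathlib.RingTheory.Flat.Stability

/-!
# Base change of a complex and exactness properties of `T_p` (helper8)
-/

set_option autoImplicit false
set_option maxHeartbeats 400000
universe u
open CategoryTheory CategoryTheory.Limits MonoidalCategory TensorProduct

namespace Groth.Agent.Lib.Helper8.FlatCx

section descent

variable {A B : Type u} [CommRing A] [CommRing B] [Algebra A B]

/-- flatness descends along a faithfully flat ring map. -/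
theorem flat_of_flat_baseChange [Module.FaithfullyFlat A B] (N : Type u) [AddCommGroup N]
    [Module A N] (h : Module.Flat B (B ⊗[A] N)) : Module.Flat A N := by
  have hA : Module.Flat A (B ⊗[A] N) := Module.Flat.trans A B (B ⊗[A] N)
  rw [Module.Flat.iff_lTensor_preserves_injective_linearMap]
  intro M₁ M₂ _ _ _ _ g hg
  rw [← Module.FaithfullyFlat.lTensor_injective_iff_injective A B]
  have h1 : Function.Injective (g.lTensor (B ⊗[A] N)) :=
    Module.Flat.lTensor_preserves_injective_linearMap g hg
  rw [LinearMap.lTensor_tensor] at h1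
  simp only [LinearMap.coe_comp, LinearEquiv.coe_coe] at h1
  rw [(TensorProduct.assoc A B N M₂).symm.injective.of_comp_iff] at h1
  exact (Function.Injective.of_comp_iff' _ (TensorProduct.assoc A B N M₁).bijective).mp h1

theorem flat_baseChange_iff [Module.FaithfullyFlat A B] (N : Type u) [AddCommGroup N]
    [Module A N] : Module.Flat B (B ⊗[A] N) ↔ Module.Flat A N :=
  ⟨flat_of_flat_baseChange N, fun _ => inferInstance⟩

end descent

variable {A B : Type u} [CommRing A] [CommRing B] [Algebra A B]
  (P : ChainComplex (ModuleCat.{u} A) ℤ)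

theorem nonempty_bcCx_opcycles_equiv (q : ℤ) :
    Nonempty ((CohIII.bcCx (algebraMap A B) P).opcycles q ≃ₗ[B] B ⊗[A] P.opcycles q) :=
  ⟨(eOpF (ModuleCat.extendScalars (algebraMap A B)) P (q + 1) q
    (prev_down q)).toLinearEquiv.symm ≪≫ₗ (nonempty_extendScalarsEquiv (P.opcycles q)).some⟩

theorem flat_bcCx_X (hP : ∀ i, Module.Flat A (P.X i)) (i : ℤ) :
    Module.Flat B ((CohIII.bcCx (algebraMap A B) P).X i) := by
  have := hP i
  exact (Module.Flat.equiv_iff (nonempty_extendScalarsEquiv (B := B) (P.X i)).some).mpr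
    inferInstance

theorem preservesEpi_bcCx_iff (hP : ∀ i, Module.Flat A (P.X i)) (p : ℤ) :
    (CohIII.TFun (CohIII.bcCx (algebraMap A B) P) p).PreservesEpimorphisms ↔
      Module.Flat B (B ⊗[A] P.opcycles (p - 1)) :=
  (preservesEpi_iff_flat_opcycles _ (flat_bcCx_X P hP) p).trans
    (Module.Flat.equiv_iff (nonempty_bcCx_opcycles_equiv P (p - 1)).some)

theorem preservesMono_bcCx_iff (hP : ∀ i, Module.Flat A (P.X i)) (p : ℤ) :
    (CohIII.TFun (CohIII.bcCx (algebraMap A B) P) p).PreservesMonomorphisms ↔
      Module.Flat B (B ⊗[A] P.opcycles p) :=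
  (preservesMono_iff_flat_opcycles _ (flat_bcCx_X P hP) p).trans
    (Module.Flat.equiv_iff (nonempty_bcCx_opcycles_equiv P p).some)

end Groth.Agent.Lib.Helper8.FlatCx
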