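import Groth.Agent.Lib.Helper8.FlatCx16
import Groth.Agent.Lib.Helper8.FlatCx6
import Groth.Agent.Lib.Helper8.FlatCxBC
import Groth.Agent.S4485
import Mathlib.RingTheory.Spectrum.Prime.RingHom
import Mathlib.RingTheory.Ideal.MinimalPrime.Noetherian

/-!
# Generic local constancy of fibre dimensions (helper8)
-/

set_option autoImplicit false
set_option maxHeartbeats 400000
universe u
open CategoryTheory CategoryTheory.Limits MonoidalCategory TensorProduct

namespace Groth.Agent.Lib.Helper8.FlatCx

section dRank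

variable {A A' : Type u} [CommRing A] [CommRing A'] [Algebra A A']
  {ι : Type} {c : ComplexShape ι}

/-- fibre dimensions are compatible with base change. -/
theorem dRank_bcCx (P : HomologicalComplex (ModuleCat.{u} A) c) (p : ι) (y : PrimeSpectrum A') :
    CohIII.dRank (CohIII.bcCx (algebraMap A A') P) p y =
      CohIII.dRank P p (PrimeSpectrum.comap (algebraMap A A') y) := by
  unfold CohIII.dRank
  set x := PrimeSpectrum.comap (algebraMap A A') y with hx
  exact finrank_homology_bcCx_square (algebraMap A A') (algebraMap A' y.asIdeal.ResidueField)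
    (algebraMap A x.asIdeal.ResidueField)
    (Ideal.ResidueField.map x.asIdeal y.asIdeal (algebraMap A A') rfl)
    (by
      ext r
      simp only [RingHom.comp_apply]
      rw [Ideal.ResidueField.map_algebraMap]) P p

end dRank

section domain

variable {D : Type u} [CommRing D] [IsDomain D] [IsNoetherianRing D]

/-- over a Noetherian domain, the fibre dimensions of a bounded-below flat complex with finite
homology are constant on a nonempty basic open, in all degrees `≤ N`. -/
theorem exists_dRank_const_of_domain (Q : ChainComplex (ModuleCat.{u} D) ℤ)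
    (hQ : ∀ i, Module.Flat D (Q.X i)) (i₀ : ℤ) (hb : ∀ i < i₀, IsZero (Q.X i))
    (hfin : ∀ n : ℤ, Module.Finite D (Q.homology n)) (N : ℤ) :
    ∃ f : D, f ≠ 0 ∧ ∀ p ≤ N, ∀ y y' : PrimeSpectrum (Localization.Away f),
      CohIII.dRank (CohIII.bcCx (algebraMap D (Localization.Away f)) Q) p y =
        CohIII.dRank (CohIII.bcCx (algebraMap D (Localization.Away f)) Q) p y' := by
  have hfp : ∀ n : ℤ, Module.FinitePresentation D (Q.homology n) := fun n =>
    have := hfin n
    Module.finitePresentation_of_finite D _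
  obtain ⟨f, hf0, hex⟩ := exists_localization_exact Q hQ i₀ hb hfp N
  refine ⟨f, hf0, ?_⟩
  intro p hp y y'
  have hdom : IsDomain (Localization.Away f) :=
    IsLocalization.isDomain_localization (powers_le_nonZeroDivisors_of_noZeroDivisors hf0)
  have hfpB : Module.FinitePresentation (Localization.Away f)
      (CohIII.T (CohIII.bcCx (algebraMap D (Localization.Away f)) Q) p
        (ModuleCat.of (Localization.Away f) (Localization.Away f))) := by
    have e1 := (TFunUnitIso (CohIII.bcCx (algebraMap D (Localization.Away f)) Q) p).toLinearEquiv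
    obtain ⟨e2⟩ := nonempty_homology_bcCx_equiv_of_flat (Localization.Away f) Q p
    have := hfin p
    have h3 : Module.Finite (Localization.Away f) (Localization.Away f ⊗[D] Q.homology p) :=
      inferInstance
    have h4 : Module.Finite (Localization.Away f)
        ((CohIII.TFun (CohIII.bcCx (algebraMap D (Localization.Away f)) Q) p).obj
          (ModuleCat.of (Localization.Away f) (Localization.Away f))) :=
      Module.Finite.equiv (e1.trans e2).symm
    exact @Module.finitePresentation_of_finite (Localization.Away f) _ _ _ _ _ h4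
  have hlc := Groth.Agent.S4485.result (CohIII.bcCx (algebraMap D (Localization.Away f)) Q)
    (flat_bcCx_X Q hQ) p (hex p hp) hfpB
  exact hlc.apply_eq_of_preconnectedSpace y y'

end domain

section minimal

variable {A : Type u} [CommRing A] [IsNoetherianRing A]

/-- the open set of points lying on no irreducible component other than `V(η)`. -/
def awayOthers (η : PrimeSpectrum A) : Set (PrimeSpectrum A) :=
  (⋃ q ∈ minimalPrimes A \ {η.asIdeal}, PrimeSpectrum.zeroLocus (q : Set A))ᶜ

theorem isOpen_awayOthers (η : PrimeSpectrum A) : IsOpen (awayOthers η) := by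
  rw [awayOthers, isOpen_compl_iff]
  exact Set.Finite.isClosed_biUnion
    ((minimalPrimes.finite_of_isNoetherianRing A).subset Set.diff_subset)
    (fun q _ => PrimeSpectrum.isClosed_zeroLocus _)

theorem mem_awayOthers (η : PrimeSpectrum A) (hη : η.asIdeal ∈ minimalPrimes A) :
    η ∈ awayOthers η := by
  rw [awayOthers, Set.mem_compl_iff, Set.mem_iUnion₂]
  rintro ⟨q, ⟨hq, hne⟩, hmem⟩
  rw [PrimeSpectrum.mem_zeroLocus] at hmem
  have hle : q ≤ η.asIdeal := hmem
  have hle' : η.asIdeal ≤ q := hη.2 ⟨hq.1.1, bot_le⟩ hle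
  exact hne (le_antisymm hle hle')

theorem le_of_mem_awayOthers (η x : PrimeSpectrum A) (hx : x ∈ awayOthers η) :
    η.asIdeal ≤ x.asIdeal := by
  obtain ⟨q, hq, hle⟩ := Ideal.exists_minimalPrimes_le (bot_le : (⊥ : Ideal A) ≤ x.asIdeal)
  by_cases h : q = η.asIdeal
  · rw [← h]; exact hle
  · exfalso
    rw [awayOthers, Set.mem_compl_iff, Set.mem_iUnion₂] at hx
    exact hx ⟨q, ⟨hq, h⟩, (PrimeSpectrum.mem_zeroLocus _ _).mpr hle⟩

theorem exists_open_nhds_minimalPrime_dRank_const (P : ChainComplex (ModuleCat.{u} A) ℤ)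
    (hP : ∀ i, Module.Flat A (P.X i)) (i₀ : ℤ) (hb : ∀ i < i₀, IsZero (P.X i))
    (hfg : ∀ n : ℤ, Module.Finite A (CohIII.T P n (ModuleCat.of A A))) (N : ℤ)
    (η : PrimeSpectrum A) (hη : η.asIdeal ∈ minimalPrimes A) :
    ∃ U : Set (PrimeSpectrum A), IsOpen U ∧ η ∈ U ∧
      ∀ p ≤ N, ∀ x ∈ U, ∀ x' ∈ U, CohIII.dRank P p x = CohIII.dRank P p x' := by
  have hQ := flat_bcCx_X (B := A ⧸ η.asIdeal) P hP
  have hbQ : ∀ i < i₀, IsZero ((CohIII.bcCx (algebraMap A (A ⧸ η.asIdeal)) P).X i) :=
    fun i hi => (ModuleCat.extendScalars (algebraMap A (A ⧸ η.asIdeal))).map_isZero (hb i hi)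
  have hfinQ : ∀ n : ℤ, Module.Finite (A ⧸ η.asIdeal)
      ((CohIII.bcCx (algebraMap A (A ⧸ η.asIdeal)) P).homology n) := fun n =>
    finite_homology_bcCx_of_finite_T P (A ⧸ η.asIdeal) n
      (finite_T_of_finite_unit P hP i₀ hb hfg n (A ⧸ η.asIdeal))
  obtain ⟨f, hf0, hconst⟩ := exists_dRank_const_of_domain
    (CohIII.bcCx (algebraMap A (A ⧸ η.asIdeal)) P) hQ i₀ hbQ hfinQ N
  obtain ⟨ft, hft⟩ := Ideal.Quotient.mk_surjective f
  -- every point of `U` comes from a point of `Spec (A/η)_f`
  have hlift : ∀ x ∈ awayOthers η ∩ (PrimeSpectrum.basicOpen ft : Set (PrimeSpectrum A)),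
      ∃ y : PrimeSpectrum (Localization.Away f),
        PrimeSpectrum.comap (algebraMap A (A ⧸ η.asIdeal))
          (PrimeSpectrum.comap (algebraMap (A ⧸ η.asIdeal) (Localization.Away f)) y) = x := by
    rintro x ⟨hx1, hx2⟩
    have h1 : x ∈ Set.range (PrimeSpectrum.comap (Ideal.Quotient.mk η.asIdeal)) := by
      rw [range_comap_of_surjective (f := Ideal.Quotient.mk η.asIdeal)
          (hf := Ideal.Quotient.mk_surjective),
        Ideal.mk_ker, PrimeSpectrum.mem_zeroLocus]
      exact le_of_mem_awayOthers η x hx1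
    obtain ⟨xD, rfl⟩ := h1
    have h2 : xD ∈ (PrimeSpectrum.basicOpen f : Set (PrimeSpectrum (A ⧸ η.asIdeal))) := by
      intro hmem
      apply hx2
      show ft ∈ (PrimeSpectrum.comap (Ideal.Quotient.mk η.asIdeal) xD).asIdeal
      rw [PrimeSpectrum.comap_asIdeal, Ideal.mem_comap, hft]
      exact hmem
    rw [← PrimeSpectrum.localization_away_comap_range (Localization.Away f) f] at h2
    obtain ⟨y, rfl⟩ := h2
    exact ⟨y, rfl⟩
  refine ⟨awayOthers η ∩ (PrimeSpectrum.basicOpen ft : Set (PrimeSpectrum A)),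
    (isOpen_awayOthers η).inter (PrimeSpectrum.basicOpen ft).isOpen,
    ⟨mem_awayOthers η hη, ?_⟩, ?_⟩
  · intro hmem
    apply hf0
    rw [← hft]
    exact Ideal.Quotient.eq_zero_iff_mem.mpr hmem
  · intro p hp x hx x' hx'
    obtain ⟨y, rfl⟩ := hlift x hx
    obtain ⟨y', rfl⟩ := hlift x' hx'
    rw [← dRank_bcCx, ← dRank_bcCx, ← dRank_bcCx, ← dRank_bcCx]
    exact hconst p hp y y'

end minimal

end Groth.Agent.Lib.Helper8.FlatCx
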