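import Mathlib.Algebra.Module.Projective
import Mathlib.Algebra.Exact.Basic
import Mathlib.LinearAlgebra.Prod

/-!
# Projectivity in four term exact sequences (helper library, helper8)

For `0 → ker f → Q' --f--> X --g--> Q → 0` exact with `X`, `Q` projective:
`ker f` is projective iff `Q'` is.
-/

set_option autoImplicit false

namespace Groth.Agent.Lib.Helper8.ProjSeq

variable {A : Type*} [Ring A] {Q' X Q : Type*} [AddCommGroup Q'] [AddCommGroup X] [AddCommGroup Q]
  [Module A Q'] [Module A X] [Module A Q] (f : Q' →ₗ[A] X) (g : X →ₗ[A] Q)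

/-- the corestriction of `f` to `ker g`. -/
def f' (hfg : Function.Exact f g) : Q' →ₗ[A] LinearMap.ker g :=
  f.codRestrict (LinearMap.ker g) (fun y => by
    rw [LinearMap.mem_ker]; exact hfg.apply_apply_eq_zero y)

theorem f'_surjective (hfg : Function.Exact f g) : Function.Surjective (f' f g hfg) := by
  rintro ⟨b, hb⟩
  obtain ⟨y, rfl⟩ := (hfg b).mp hb
  exact ⟨y, rfl⟩

theorem projective_ker_g (hg : Function.Surjective g) [Module.Projective A X]
    [Module.Projective A Q] : Module.Projective A (LinearMap.ker g) := by
  obtain ⟨s, hs⟩ := Module.projective_lifting_property g LinearMap.id hg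
  let ρ : X →ₗ[A] LinearMap.ker g := (LinearMap.id - s ∘ₗ g).codRestrict (LinearMap.ker g) (fun x => by
    have := LinearMap.congr_fun hs (g x)
    simp only [LinearMap.comp_apply, LinearMap.id_apply] at this
    simp [LinearMap.mem_ker, this])
  refine Module.Projective.of_split (LinearMap.ker g).subtype ρ ?_
  ext ⟨x, hx⟩
  simp [ρ, LinearMap.mem_ker.mp hx]

theorem exists_section (hfg : Function.Exact f g) (hg : Function.Surjective g)
    [Module.Projective A X] [Module.Projective A Q] :
    ∃ t : LinearMap.ker g →ₗ[A] Q', (f' f g hfg) ∘ₗ t = LinearMap.id := by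
  have := projective_ker_g g hg
  exact Module.projective_lifting_property (f' f g hfg) LinearMap.id (f'_surjective f g hfg)

theorem projective_ker_f (hfg : Function.Exact f g) (hg : Function.Surjective g)
    [Module.Projective A X] [Module.Projective A Q] [Module.Projective A Q'] :
    Module.Projective A (LinearMap.ker f) := by
  obtain ⟨t, ht⟩ := exists_section f g hfg hg
  have ht' : ∀ b, f' f g hfg (t b) = b := fun b => LinearMap.congr_fun ht b
  let ρ : Q' →ₗ[A] LinearMap.ker f :=
    (LinearMap.id - t ∘ₗ f' f g hfg).codRestrict (LinearMap.ker f) (fun y => by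
      have h1 : f (t (f' f g hfg y)) = f y := congrArg Subtype.val (ht' (f' f g hfg y))
      simp [LinearMap.mem_ker, h1])
  refine Module.Projective.of_split (LinearMap.ker f).subtype ρ ?_
  ext ⟨y, hy⟩
  have h0 : f' f g hfg y = 0 := by
    ext; simpa [f'] using LinearMap.mem_ker.mp hy
  simp [ρ, h0]

theorem projective_of_projective_ker_f (hfg : Function.Exact f g) (hg : Function.Surjective g)
    [Module.Projective A X] [Module.Projective A Q] [Module.Projective A (LinearMap.ker f)] :
    Module.Projective A Q' := by
  obtain ⟨t, ht⟩ := exists_section f g hfg hg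
  have ht' : ∀ b, f' f g hfg (t b) = b := fun b => LinearMap.congr_fun ht b
  have := projective_ker_g g hg
  let ρ : Q' →ₗ[A] LinearMap.ker f :=
    (LinearMap.id - t ∘ₗ f' f g hfg).codRestrict (LinearMap.ker f) (fun y => by
      have h1 : f (t (f' f g hfg y)) = f y := congrArg Subtype.val (ht' (f' f g hfg y))
      simp [LinearMap.mem_ker, h1])
  let i : Q' →ₗ[A] (LinearMap.ker f × LinearMap.ker g) := ρ.prod (f' f g hfg)
  let r : (LinearMap.ker f × LinearMap.ker g) →ₗ[A] Q' :=
    (LinearMap.ker f).subtype.coprod t
  refine Module.Projective.of_split i r ?_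
  ext y
  simp [i, r, ρ]

end Groth.Agent.Lib.Helper8.ProjSeq
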