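import Groth.Agent.Lib.Helper8.FlatCx3
import Groth.Agent.Lib.Helper8.ProjSeq
import Mathlib.Algebra.Category.ModuleCat.Kernels

/-!
# Four term sequence `0 → H_p → opcycles_p → X_{p-1} → opcycles_{p-1} → 0` (helper8)
-/

set_option autoImplicit false
universe u
open CategoryTheory CategoryTheory.Limits MonoidalCategory

namespace Groth.Agent.Lib.Helper8.FlatCx

variable {A : Type u} [CommRing A]

section general

variable (K : ChainComplex (ModuleCat.{u} A) ℤ)

theorem exact_fromOpcycles_pOpcycles (p : ℤ) :
    Function.Exact (K.fromOpcycles p (p - 1)).hom (K.pOpcycles (p - 1)).hom := by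
  rw [LinearMap.exact_iff]
  let S : ShortComplex (ModuleCat.{u} A) :=
    ShortComplex.mk (K.d p (p - 1)) (K.pOpcycles (p - 1)) (K.d_pOpcycles p (p - 1))
  have hS : S.Exact := ShortComplex.exact_of_g_is_cokernel S
    (K.opcyclesIsCokernel p (p - 1) (by rw [prev_down]; ring))
  have h1 : LinearMap.range S.f.hom = LinearMap.ker S.g.hom := hS.moduleCat_range_eq_ker
  have h2 : LinearMap.range (K.d p (p - 1)).hom = LinearMap.range (K.fromOpcycles p (p - 1)).hom := by
    have h3 : K.d p (p - 1) = K.pOpcycles p ≫ K.fromOpcycles p (p - 1) :=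
      (K.p_fromOpcycles p (p - 1)).symm
    rw [h3, ModuleCat.hom_comp, LinearMap.range_comp_of_range_eq_top]
    rw [LinearMap.range_eq_top]
    exact (ModuleCat.epi_iff_surjective _).mp inferInstance
  rw [← h2]
  exact h1.symm

theorem surjective_pOpcycles (q : ℤ) : Function.Surjective (K.pOpcycles q).hom :=
  (ModuleCat.epi_iff_surjective _).mp inferInstance

/-- the homology as the kernel of `fromOpcycles`. -/
noncomputable def homologyEquivKer (p : ℤ) :
    K.homology p ≃ₗ[A] LinearMap.ker (K.fromOpcycles p (p - 1)).hom :=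
  ((K.homologyIsKernel p (p - 1) (next_down p)).conePointUniqueUpToIso
    (ModuleCat.kernelIsLimit (K.fromOpcycles p (p - 1)))).toLinearEquiv

theorem projective_homology (p : ℤ) [Module.Projective A (K.opcycles p)]
    [Module.Projective A (K.X (p - 1))] [Module.Projective A (K.opcycles (p - 1))] :
    Module.Projective A (K.homology p) := by
  have := ProjSeq.projective_ker_f _ _ (exact_fromOpcycles_pOpcycles K p)
    (surjective_pOpcycles K (p - 1))
  exact Module.Projective.of_equiv (homologyEquivKer K p).symm

theorem projective_opcycles (p : ℤ) [Module.Projective A (K.homology p)]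
    [Module.Projective A (K.X (p - 1))] [Module.Projective A (K.opcycles (p - 1))] :
    Module.Projective A (K.opcycles p) := by
  have : Module.Projective A (LinearMap.ker (K.fromOpcycles p (p - 1)).hom) :=
    Module.Projective.of_equiv (homologyEquivKer K p)
  exact ProjSeq.projective_of_projective_ker_f _ _ (exact_fromOpcycles_pOpcycles K p)
    (surjective_pOpcycles K (p - 1))

end general

variable (P : ChainComplex (ModuleCat.{u} A) ℤ)

/-- opcycles of `P ⊗ A` vs opcycles of `P`. -/
noncomputable def opcyclesTensorUnitEquiv (q : ℤ) :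
    (CohIII.tensorObj P (ModuleCat.of A A)).opcycles q ≃ₗ[A] P.opcycles q :=
  ((eOp P (ModuleCat.of A A) (q + 1) q (prev_down q)).symm ≪≫ ρ_ (P.opcycles q)).toLinearEquiv

/-- terms of `P ⊗ A` vs terms of `P`. -/
noncomputable def XTensorUnitEquiv (q : ℤ) :
    (CohIII.tensorObj P (ModuleCat.of A A)).X q ≃ₗ[A] P.X q :=
  (ρ_ (P.X q)).toLinearEquiv

end Groth.Agent.Lib.Helper8.FlatCx
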