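import Groth.Agent.Lib.Helper8.FlatCx4
import Mathlib.RingTheory.Filtration

/-!
# Surjectivity on the infinitesimal neighbourhoods (helper8)
-/

set_option autoImplicit false
universe u
open CategoryTheory CategoryTheory.Limits MonoidalCategory TensorProduct

namespace Groth.Agent.Lib.Helper8.FlatCx

section general

variable {A : Type u} [CommRing A] (P : ChainComplex (ModuleCat.{u} A) ℤ)

/-- If `T_p(g)` is surjective for a surjection `g`, then `opcycles_q ⊗ ker g → opcycles_q ⊗ M`
is injective (`q + 1 = p`). -/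
theorem injective_lTensor_opcycles_of_surjective (hP : ∀ i, Module.Flat A (P.X i)) (p q : ℤ)
    (hpq : q + 1 = p) {M N : Type u} [AddCommGroup M] [Module A M] [AddCommGroup N] [Module A N]
    (g : M →ₗ[A] N) (hg : Function.Surjective g)
    (h : Function.Surjective ((CohIII.TFun P p).map (ModuleCat.ofHom g)).hom) :
    Function.Injective (LinearMap.lTensor (P.opcycles q) (LinearMap.ker g).subtype) := by
  have hrel : (ComplexShape.down ℤ).Rel p q := by simp [hpq]
  have hS := LinearMap.shortExact_shortComplexKer hg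
  set S := g.shortComplexKer with hSdef
  have hT := tensorSC_shortExact P hP hS
  have hepi : Epi ((CohIII.TFun P p).map S.g) := (ModuleCat.epi_iff_surjective _).mpr h
  rw [TFun_map] at hepi
  have hepi' : Epi (HomologicalComplex.homologyMap (tensorSC P S).g p) := hepi
  have hδ : hT.δ p q hrel = 0 := by
    have := hT.comp_δ p q hrel
    rw [← cancel_epi (HomologicalComplex.homologyMap (tensorSC P S).g p), this,
      Limits.comp_zero]
  have hmono : Mono (HomologicalComplex.homologyMap (tensorSC P S).f q) :=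
    (hT.homology_exact₁ p q hrel).mono_g hδ
  have hmi : Mono S.f := hS.mono_f
  have hflat := hP (q - 1)
  have h1 : Mono ((CohIII.tensorMap P S.f).f (q - 1)) := by
    rw [tensorMap_f]
    exact (tensorLeft (P.X (q - 1))).map_mono S.f
  have h0 : Mono (HomologicalComplex.homologyMap (CohIII.tensorMap P S.f) q) := hmono
  have h2 := mono_opcyclesMap (CohIII.tensorMap P S.f) q (q - 1) (next_down q)
  have h3 : Mono (P.opcycles q ◁ S.f) := by
    rw [whiskerLeft_eq]
    infer_instance
  have := (ModuleCat.mono_iff_injective _).mp h3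
  rw [ModuleCat.MonoidalCategory.whiskerLeft_def] at this
  exact this

end general

section algebra

variable {A : Type u} [CommRing A]

/-- the image of `W ⊗ IJ → W ⊗ J` lies in `I (W ⊗ J)`. -/
theorem lTensor_inclusion_mem_smul_top (W : Type u) [AddCommGroup W] [Module A W] (I J : Ideal A)
    (y : W ⊗[A] ↥(I * J)) :
    LinearMap.lTensor W (Submodule.inclusion (Ideal.mul_le_right : I * J ≤ J)) y ∈
      (I • ⊤ : Submodule A (W ⊗[A] J)) := by
  induction y using TensorProduct.induction_on with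
  | zero => simp
  | add y1 y2 h1 h2 => rw [map_add]; exact add_mem h1 h2
  | tmul w a =>
    rw [LinearMap.lTensor_tmul]
    obtain ⟨a, ha⟩ := a
    have key : ∀ a ∈ I * J, ∃ ha : a ∈ J,
        w ⊗ₜ[A] (⟨a, ha⟩ : J) ∈ (I • ⊤ : Submodule A (W ⊗[A] J)) := by
      intro a ha
      refine Submodule.smul_induction_on ha ?_ ?_
      · intro r hr c hc
        refine ⟨J.mul_mem_left r hc, ?_⟩
        have : w ⊗ₜ[A] (⟨r • c, J.mul_mem_left r hc⟩ : J) = r • (w ⊗ₜ[A] (⟨c, hc⟩ : J)) :=
          (TensorProduct.tmul_smul r w (⟨c, hc⟩ : J))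
        rw [this]
        exact Submodule.smul_mem_smul hr Submodule.mem_top
      · rintro x y ⟨hx, hx'⟩ ⟨hy, hy'⟩
        refine ⟨add_mem hx hy, ?_⟩
        have : w ⊗ₜ[A] (⟨x + y, add_mem hx hy⟩ : J) =
            w ⊗ₜ[A] (⟨x, hx⟩ : J) + w ⊗ₜ[A] (⟨y, hy⟩ : J) :=
          TensorProduct.tmul_add w (⟨x, hx⟩ : J) ⟨y, hy⟩
        rw [this]
        exact add_mem hx' hy'
    obtain ⟨ha', h⟩ := key a ha
    exact h

variable [IsLocalRing A]

/-- the projection `A/𝔪^(n+1) → A/𝔪` as a linear map. -/
noncomputable abbrev gmap (A : Type u) [CommRing A] [IsLocalRing A] (n : ℕ) :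
    (A ⧸ IsLocalRing.maximalIdeal A ^ (n + 1)) →ₗ[A] (A ⧸ IsLocalRing.maximalIdeal A) :=
  (Ideal.Quotient.factorₐ A (Ideal.pow_le_self (I := IsLocalRing.maximalIdeal A)
    (Nat.succ_ne_zero n))).toLinearMap

theorem gmap_surjective (n : ℕ) : Function.Surjective (gmap A n) :=
  Ideal.Quotient.factor_surjective (Ideal.pow_le_self (I := IsLocalRing.maximalIdeal A)
    (Nat.succ_ne_zero n))

theorem injective_lTensor_maximalIdeal_of_quotients [IsNoetherianRing A]
    (W : Type u) [AddCommGroup W] [Module A W] [Module.Finite A W] (n₀ : ℕ)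
    (h : ∀ n, n₀ ≤ n → Function.Injective (LinearMap.lTensor W
        (LinearMap.ker (gmap A n)).subtype)) :
    Function.Injective (LinearMap.lTensor W (IsLocalRing.maximalIdeal A).subtype) := by
  set m := IsLocalRing.maximalIdeal A with hm
  rw [injective_iff_map_eq_zero]
  intro x hx
  have hmem : ∀ n, x ∈ (m ^ n • ⊤ : Submodule A (W ⊗[A] m)) := by
    intro n
    obtain ⟨N, hN1, hN2⟩ : ∃ N, n₀ ≤ N ∧ n ≤ N := ⟨max n₀ n, le_max_left _ _, le_max_right _ _⟩
    suffices hxN : x ∈ (m ^ N • ⊤ : Submodule A (W ⊗[A] m)) from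
      Submodule.smul_mono_left (Ideal.pow_le_pow_right hN2) hxN
    let mkN : A →ₗ[A] (A ⧸ m ^ (N + 1)) := (Ideal.Quotient.mkₐ A (m ^ (N + 1))).toLinearMap
    have hg : ∀ a : A, gmap A N (mkN a) = Ideal.Quotient.mk m a := fun a => rfl
    let π : m →ₗ[A] LinearMap.ker (gmap A N) :=
      LinearMap.codRestrict (LinearMap.ker (gmap A N)) (mkN.comp m.subtype) (fun a => by
        rw [LinearMap.mem_ker, LinearMap.comp_apply, hg]
        exact Ideal.Quotient.eq_zero_iff_mem.mpr a.2)
    let j : ↥(m ^ N * m) →ₗ[A] m := Submodule.inclusion (Ideal.mul_le_right : m ^ N * m ≤ m)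
    have hπ : Function.Surjective π := by
      rintro ⟨z, hz⟩
      obtain ⟨a, rfl⟩ := Ideal.Quotient.mk_surjective z
      have ha : a ∈ m := by
        rw [LinearMap.mem_ker] at hz
        exact Ideal.Quotient.eq_zero_iff_mem.mp hz
      exact ⟨⟨a, ha⟩, rfl⟩
    have hex : Function.Exact j π := by
      intro a
      constructor
      · intro ha
        have h1 : mkN a.1 = 0 := congrArg Subtype.val ha
        have h2 : a.1 ∈ m ^ (N + 1) := Ideal.Quotient.eq_zero_iff_mem.mp h1
        rw [pow_succ] at h2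
        exact ⟨⟨a.1, h2⟩, rfl⟩
      · rintro ⟨b, rfl⟩
        apply Subtype.ext
        show mkN b.1 = 0
        have : b.1 ∈ m ^ (N + 1) := by rw [pow_succ]; exact b.2
        exact Ideal.Quotient.eq_zero_iff_mem.mpr this
    have hex' := lTensor_exact W hex hπ
    have hsq : (LinearMap.ker (gmap A N)).subtype ∘ₗ π = mkN ∘ₗ m.subtype := rfl
    have h0 : LinearMap.lTensor W π x = 0 := by
      apply h N hN1
      rw [map_zero, ← LinearMap.comp_apply, ← LinearMap.lTensor_comp, hsq, LinearMap.lTensor_comp,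
        LinearMap.comp_apply, hx, map_zero]
    obtain ⟨y, rfl⟩ := (hex' x).mp h0
    exact lTensor_inclusion_mem_smul_top W (m ^ N) m y
  have hx' : x ∈ (⨅ i : ℕ, m ^ i • ⊤ : Submodule A (W ⊗[A] m)) := (Submodule.mem_iInf _).mpr hmem
  rw [Ideal.iInf_pow_smul_eq_bot_of_isLocalRing m (IsLocalRing.maximalIdeal.isMaximal A).ne_top]
    at hx'
  exact (Submodule.mem_bot A).mp hx'

end algebra

end Groth.Agent.Lib.Helper8.FlatCx
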