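import Groth.Agent.Lib.Helper8.FlatCx7
import Groth.Agent.Lib.Helper8.FibreRank
import Mathlib.RingTheory.Flat.Tensor

/-!
# Exactness properties of `T_p` and flatness of opcycles, over any ring (helper8)
-/

set_option autoImplicit false
universe u
open CategoryTheory CategoryTheory.Limits MonoidalCategory TensorProduct

namespace Groth.Agent.Lib.Helper8.FlatCx

variable {A : Type u} [CommRing A] (P : ChainComplex (ModuleCat.{u} A) ℤ)

/-- If `T_q(i)` is a monomorphism for an injection `i`, then `opcycles_q ⊗ i` is injective. -/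
theorem injective_lTensor_opcycles_of_mono (hP : ∀ i, Module.Flat A (P.X i)) (q : ℤ)
    {M N : Type u} [AddCommGroup M] [Module A M] [AddCommGroup N] [Module A N]
    (i : M →ₗ[A] N) (hi : Function.Injective i)
    (h : Mono ((CohIII.TFun P q).map (ModuleCat.ofHom i))) :
    Function.Injective (LinearMap.lTensor (P.opcycles q) i) := by
  have hmi : Mono (ModuleCat.ofHom i) := (ModuleCat.mono_iff_injective _).mpr hi
  rw [TFun_map] at h
  have hflat := hP (q - 1)
  have h1 : Mono ((CohIII.tensorMap P (ModuleCat.ofHom i)).f (q - 1)) := by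
    rw [tensorMap_f]
    exact (tensorLeft (P.X (q - 1))).map_mono (ModuleCat.ofHom i)
  have h0 : Mono (HomologicalComplex.homologyMap (CohIII.tensorMap P (ModuleCat.ofHom i)) q) := h
  have h2 := mono_opcyclesMap (CohIII.tensorMap P (ModuleCat.ofHom i)) q (q - 1) (next_down q)
  have h3 : Mono (P.opcycles q ◁ ModuleCat.ofHom i) := by
    rw [whiskerLeft_eq]
    infer_instance
  have := (ModuleCat.mono_iff_injective _).mp h3
  rw [ModuleCat.MonoidalCategory.whiskerLeft_def] at this
  exact this

/-- If `T_q` preserves monomorphisms, then the opcycles in degree `q` are flat. -/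
theorem flat_opcycles_of_preservesMono (hP : ∀ i, Module.Flat A (P.X i)) (q : ℤ)
    (h : (CohIII.TFun P q).PreservesMonomorphisms) : Module.Flat A (P.opcycles q) := by
  rw [Module.Flat.iff_lTensor_injective']
  intro I
  have hmi : Mono (ModuleCat.ofHom I.subtype : ModuleCat.of A I ⟶ ModuleCat.of A A) :=
    (ModuleCat.mono_iff_injective _).mpr Subtype.val_injective
  exact injective_lTensor_opcycles_of_mono P hP q I.subtype Subtype.val_injective (h.preserves _)

theorem preservesMono_iff_flat_opcycles (hP : ∀ i, Module.Flat A (P.X i)) (q : ℤ) :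
    (CohIII.TFun P q).PreservesMonomorphisms ↔ Module.Flat A (P.opcycles q) :=
  ⟨flat_opcycles_of_preservesMono P hP q, fun _ => preservesMono_of_flat_opcycles P q⟩

theorem preservesEpi_iff_flat_opcycles (hP : ∀ i, Module.Flat A (P.X i)) (p : ℤ) :
    (CohIII.TFun P p).PreservesEpimorphisms ↔ Module.Flat A (P.opcycles (p - 1)) :=
  (Groth.Agent.S2406.result P hP p (p - 1) (by ring)).trans
    (preservesMono_iff_flat_opcycles P hP (p - 1))

end Groth.Agent.Lib.Helper8.FlatCx
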