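import Groth.Agent.Lib.Helper8.FlatCx5

/-!
# The four term sequence and the rank formula for arbitrary complex shapes (helper8)

Generalisation of `FlatCx4`/`FlatCx5` from chain complexes indexed by `ℤ` to any complex shape:
for `c.Rel i j`, `0 → H_i → opcycles_i → X_j → opcycles_j → 0`.
-/

set_option autoImplicit false
universe u
open CategoryTheory CategoryTheory.Limits TensorProduct

namespace Groth.Agent.Lib.Helper8.FlatCx

section aux

variable {A : Type*} [Ring A] {Q' X Q : Type*} [AddCommGroup Q'] [AddCommGroup X] [AddCommGroup Q]
  [Module A Q'] [Module A X] [Module A Q] (f : Q' →ₗ[A] X) (g : X →ₗ[A] Q)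

theorem finite_ker_f (hex : Function.Exact f g) (hsurj : Function.Surjective g)
    [Module.Projective A X] [Module.Projective A Q] [Module.Finite A Q'] :
    Module.Finite A (LinearMap.ker f) := by
  obtain ⟨t, ht⟩ := ProjSeq.exists_section f g hex hsurj
  have ht' : ∀ b, ProjSeq.f' f g hex (t b) = b := fun b => LinearMap.congr_fun ht b
  let ρ : Q' →ₗ[A] LinearMap.ker f :=
    (LinearMap.id - t ∘ₗ ProjSeq.f' f g hex).codRestrict (LinearMap.ker f) (fun y => by
      have h1 : f (t (ProjSeq.f' f g hex y)) = f y :=
        congrArg Subtype.val (ht' (ProjSeq.f' f g hex y))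
      simp [LinearMap.mem_ker, h1])
  have hρ : Function.Surjective ρ := by
    rintro ⟨y, hy⟩
    refine ⟨y, ?_⟩
    have h0 : ProjSeq.f' f g hex y = 0 := by
      ext; simpa [ProjSeq.f'] using LinearMap.mem_ker.mp hy
    ext
    simp [ρ, h0]
  exact Module.Finite.of_surjective ρ hρ

end aux

section general

variable {A : Type u} [CommRing A] {ι : Type} {c : ComplexShape ι}
  (K : HomologicalComplex (ModuleCat.{u} A) c)

theorem surjective_pOpcycles' (j : ι) : Function.Surjective (K.pOpcycles j).hom :=
  (ModuleCat.epi_iff_surjective _).mp inferInstance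

theorem exact_fromOpcycles_pOpcycles' {i j : ι} (hij : c.Rel i j) :
    Function.Exact (K.fromOpcycles i j).hom (K.pOpcycles j).hom := by
  rw [LinearMap.exact_iff]
  let S : ShortComplex (ModuleCat.{u} A) :=
    ShortComplex.mk (K.d i j) (K.pOpcycles j) (K.d_pOpcycles i j)
  have hS : S.Exact := ShortComplex.exact_of_g_is_cokernel S
    (K.opcyclesIsCokernel i j (c.prev_eq' hij))
  have h1 : LinearMap.range S.f.hom = LinearMap.ker S.g.hom := hS.moduleCat_range_eq_ker
  have h2 : LinearMap.range (K.d i j).hom = LinearMap.range (K.fromOpcycles i j).hom := by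
    have h3 : K.d i j = K.pOpcycles i ≫ K.fromOpcycles i j := (K.p_fromOpcycles i j).symm
    rw [h3, ModuleCat.hom_comp, LinearMap.range_comp_of_range_eq_top]
    rw [LinearMap.range_eq_top]
    exact surjective_pOpcycles' K i
  rw [← h2]
  exact h1.symm

/-- the homology as the kernel of `fromOpcycles`. -/
noncomputable def homologyEquivKer' {i j : ι} (hij : c.Rel i j) :
    K.homology i ≃ₗ[A] LinearMap.ker (K.fromOpcycles i j).hom :=
  ((K.homologyIsKernel i j (c.next_eq' hij)).conePointUniqueUpToIso
    (ModuleCat.kernelIsLimit (K.fromOpcycles i j))).toLinearEquiv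

theorem projective_homology' {i j : ι} (hij : c.Rel i j) [Module.Projective A (K.opcycles i)]
    [Module.Projective A (K.X j)] [Module.Projective A (K.opcycles j)] :
    Module.Projective A (K.homology i) := by
  have := ProjSeq.projective_ker_f _ _ (exact_fromOpcycles_pOpcycles' K hij)
    (surjective_pOpcycles' K j)
  exact Module.Projective.of_equiv (homologyEquivKer' K hij).symm

/-- the homology is a retract of the opcycles when the next opcycles are projective. -/
theorem finite_homology' {i j : ι} (hij : c.Rel i j) [Module.Finite A (K.opcycles i)]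
    [Module.Projective A (K.X j)] [Module.Projective A (K.opcycles j)] :
    Module.Finite A (K.homology i) := by
  have := finite_ker_f _ _ (exact_fromOpcycles_pOpcycles' K hij) (surjective_pOpcycles' K j)
  exact Module.Finite.equiv (homologyEquivKer' K hij).symm

end general

section field

variable {k : Type u} [Field k] {ι : Type} {c : ComplexShape ι}
  (K : HomologicalComplex (ModuleCat.{u} k) c)

theorem finite_opcycles'' (q : ι) [Module.Finite k (K.X q)] : Module.Finite k (K.opcycles q) :=
  Module.Finite.of_surjective (K.pOpcycles q).hom (surjective_pOpcycles' K q)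

/-- Over a field: `dim H_i + dim K_j = dim opc_i + dim opc_j` when `c.Rel i j`. -/
theorem finrank_homology_add' {i j : ι} (hij : c.Rel i j) [Module.Finite k (K.X i)]
    [Module.Finite k (K.X j)] :
    Module.finrank k (K.homology i) + Module.finrank k (K.X j) =
      Module.finrank k (K.opcycles i) + Module.finrank k (K.opcycles j) := by
  have := finite_opcycles'' K i
  have := finite_opcycles'' K j
  have h1 := LinearMap.finrank_range_add_finrank_ker (K.fromOpcycles i j).hom
  have h2 := LinearMap.finrank_range_add_finrank_ker (K.pOpcycles j).hom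
  have h3 : LinearMap.range (K.pOpcycles j).hom = ⊤ :=
    LinearMap.range_eq_top.mpr (surjective_pOpcycles' K j)
  have h4 : LinearMap.ker (K.pOpcycles j).hom = LinearMap.range (K.fromOpcycles i j).hom :=
    LinearMap.exact_iff.mp (exact_fromOpcycles_pOpcycles' K hij)
  have h5 := (homologyEquivKer' K hij).finrank_eq
  rw [h3, finrank_top, h4] at h2
  omega

end field

section dRank

variable {A : Type u} [CommRing A] {ι : Type} {c : ComplexShape ι}
  (P : HomologicalComplex (ModuleCat.{u} A) c)

theorem finite_opcycles_gen (hP : ∀ i, Module.Finite A (P.X i)) (q : ι) :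
    Module.Finite A (P.opcycles q) := by
  have := hP q
  exact Module.Finite.of_surjective (P.pOpcycles q).hom (surjective_pOpcycles' P q)

theorem finrank_bcCx_X' (x : PrimeSpectrum A) (q : ι) :
    Module.finrank x.asIdeal.ResidueField
      ((CohIII.bcCx (algebraMap A x.asIdeal.ResidueField) P).X q) = fibreRank (P.X q) x :=
  finrank_extendScalars (P.X q)

theorem finrank_bcCx_opcycles' (x : PrimeSpectrum A) (q : ι) :
    Module.finrank x.asIdeal.ResidueField
      ((CohIII.bcCx (algebraMap A x.asIdeal.ResidueField) P).opcycles q) =
      fibreRank (P.opcycles q) x := by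
  have e := (eOpF (ModuleCat.extendScalars (algebraMap A x.asIdeal.ResidueField)) P (c.prev q) q
    rfl).toLinearEquiv
  rw [← e.finrank_eq]
  exact finrank_extendScalars (P.opcycles q)

/-- the basic formula for the rank function, for any complex shape. -/
theorem dRank_add' (hP : ∀ i, Module.Finite A (P.X i)) {i j : ι} (hij : c.Rel i j)
    (x : PrimeSpectrum A) :
    CohIII.dRank P i x + fibreRank (P.X j) x =
      fibreRank (P.opcycles i) x + fibreRank (P.opcycles j) x := by
  have := hP i
  have := hP j
  have h1 : Module.Finite x.asIdeal.ResidueField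
      ((CohIII.bcCx (algebraMap A x.asIdeal.ResidueField) P).X i) :=
    finite_extendScalars (P.X i)
  have h2 : Module.Finite x.asIdeal.ResidueField
      ((CohIII.bcCx (algebraMap A x.asIdeal.ResidueField) P).X j) :=
    finite_extendScalars (P.X j)
  have h := finrank_homology_add' (CohIII.bcCx (algebraMap A x.asIdeal.ResidueField) P) hij
  rw [finrank_bcCx_X', finrank_bcCx_opcycles', finrank_bcCx_opcycles'] at h
  exact h

end dRank

end Groth.Agent.Lib.Helper8.FlatCx
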