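import Groth.Agent.Lib.Helper8.TensorColim
import Groth.Agent.Lib.Helper54.FlatStage7

set_option autoImplicit false
set_option maxHeartbeats 1600000

namespace Groth.Agent.Lib.Helper8.FlatIdealStage

open TensorProduct
open Groth.Agent.Lib.Helper54 Groth.Agent.Lib.Helper54.FlatStage4
  Groth.Agent.Lib.Helper54.FlatStage5 Groth.Agent.Lib.Helper54.FlatStage6

attribute [local instance] Algebra.TensorProduct.rightAlgebra

universe u

section

variable (Z S₀ N₀ : Type u) [CommRing Z] [CommRing S₀] [Algebra Z S₀] [AddCommGroup N₀]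
  [Module Z N₀] [Module S₀ N₀] [IsScalarTower Z S₀ N₀]
  [IsNoetherianRing Z] [Algebra.FiniteType Z S₀] [Module.Finite S₀ N₀]
  {ι : Type u} [Preorder ι] (G : ι → Type u) [∀ i, CommRing (G i)] [∀ i, Algebra Z (G i)]
  (g : ∀ i j, i ≤ j → G i →ₐ[Z] G j)
  (A : Type u) [CommRing A] [Algebra Z A] [∀ i, Algebra (G i) A] [∀ i, IsScalarTower Z (G i) A]
  (hcolim : FlatCA.IsDirectedColimitRing G (fun i j h => (g i j h).toRingHom) A)

include hcolim in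
theorem exists_stage
    (c : ∀ i, Ideal (S₀ ⊗[Z] G i)) (hc : ∀ i j (h : i ≤ j), (c i).map (SM S₀ (g i j h)) ≤ c j)
    (W : ∀ i, Submonoid (S₀ ⊗[Z] G i))
    (hW : ∀ i j (h : i ≤ j), ∀ w ∈ W i, SM S₀ (g i j h) w ∈ W j)
    (H : ∀ (q' : Ideal (S₀ ⊗[Z] A)) [q'.IsPrime],
      (∀ i, (c i).map (SM S₀ (IsScalarTower.toAlgHom Z (G i) A)) ≤ q') →
      (∀ i, ∀ w ∈ W i, SM S₀ (IsScalarTower.toAlgHom Z (G i) A) w ∉ q') →
      Module.Flat A (LocalizedModule q'.primeCompl ((S₀ ⊗[Z] A) ⊗[S₀] N₀))) :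
    ∃ i, ∀ (q : Ideal (S₀ ⊗[Z] G i)) [q.IsPrime], c i ≤ q → (∀ w ∈ W i, w ∉ q) →
      Module.Flat (G i) (LocalizedModule q.primeCompl ((S₀ ⊗[Z] G i) ⊗[S₀] N₀)) := by
  classical
  have hcolim' := hcolim
  obtain ⟨hdir, hne, hid, hcomp, hcompat, hsurj, hinj⟩ := hcolim
  -- notation
  let ιA : ∀ i, G i →ₐ[Z] A := fun i => IsScalarTower.toAlgHom Z (G i) A
  have hιg : ∀ i j (h : i ≤ j), (ιA j).comp (g i j h) = ιA i := fun i j h =>
    AlgHom.ext fun b => RingHom.congr_fun (hcompat i j h) b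
  have hgg : ∀ i j k (hij : i ≤ j) (hjk : j ≤ k), (g j k hjk).comp (g i j hij) =
      g i k (hij.trans hjk) := fun i j k hij hjk =>
    AlgHom.ext fun b => RingHom.congr_fun (hcomp i j k hij hjk) b
  have hSMι : ∀ i j (h : i ≤ j) (x : S₀ ⊗[Z] G i),
      SM S₀ (ιA j) (SM S₀ (g i j h) x) = SM S₀ (ιA i) x := fun i j h x => by
    rw [SM_comp, hιg]
  have hSMg : ∀ i j k (hij : i ≤ j) (hjk : j ≤ k) (x : S₀ ⊗[Z] G i),
      SM S₀ (g j k hjk) (SM S₀ (g i j hij) x) = SM S₀ (g i k (hij.trans hjk)) x :=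
    fun i j k hij hjk x => by rw [SM_comp, hgg]
  -- good elements
  let good : ∀ i, Set (S₀ ⊗[Z] G i) := fun i =>
    {h | ∀ (q : Ideal (S₀ ⊗[Z] G i)) [q.IsPrime], h ∉ q →
      Module.Flat (G i) (LocalizedModule q.primeCompl ((S₀ ⊗[Z] G i) ⊗[S₀] N₀))}
  have good_mono : ∀ i j (hij : i ≤ j) (h : S₀ ⊗[Z] G i), h ∈ good i →
      SM S₀ (g i j hij) h ∈ good j := by
    intro i j hij h hh q _ hq
    haveI : (q.comap (SM S₀ (g i j hij))).IsPrime := Ideal.comap_isPrime _ _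
    exact flat_of_stage_flat' Z S₀ N₀ (G i) (G j) (g i j hij) q
      (hh (q.comap (SM S₀ (g i j hij))) (fun hmem => hq hmem))
  let b : ∀ i, Ideal (S₀ ⊗[Z] G i) := fun i => c i ⊔ Ideal.span (good i)
  have b_mono : ∀ i j (hij : i ≤ j) (x : S₀ ⊗[Z] G i), x ∈ b i →
      SM S₀ (g i j hij) x ∈ b j := by
    intro i j hij x hx
    have h1 : (b i).map (SM S₀ (g i j hij)) ≤ b j := by
      show (c i ⊔ Ideal.span (good i)).map (SM S₀ (g i j hij)) ≤ c j ⊔ Ideal.span (good j)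
      rw [Ideal.map_sup, Ideal.map_span]
      refine sup_le_sup (hc i j hij) (Ideal.span_mono ?_)
      rintro _ ⟨h, hh, rfl⟩
      exact good_mono i j hij h hh
    exact h1 (Ideal.mem_map_of_mem _ hx)
  -- the limit ideal
  let b' : Ideal (S₀ ⊗[Z] A) :=
    { carrier := {y | ∃ k, ∃ x ∈ b k, SM S₀ (ιA k) x = y}
      zero_mem' := ⟨hne.some, 0, Ideal.zero_mem _, map_zero _⟩
      add_mem' := by
        rintro _ _ ⟨k₁, x₁, hx₁, rfl⟩ ⟨k₂, x₂, hx₂, rfl⟩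
        obtain ⟨k, h₁, h₂⟩ := hdir.directed k₁ k₂
        refine ⟨k, SM S₀ (g k₁ k h₁) x₁ + SM S₀ (g k₂ k h₂) x₂,
          Ideal.add_mem _ (b_mono _ _ h₁ _ hx₁) (b_mono _ _ h₂ _ hx₂), ?_⟩
        rw [map_add, hSMι, hSMι]
      smul_mem' := by
        rintro a' _ ⟨k₁, x₁, hx₁, rfl⟩
        obtain ⟨k₂, a, ha⟩ := TensorColim.exists_lift S₀ G g A hcolim' a'
        obtain ⟨k, h₁, h₂⟩ := hdir.directed k₁ k₂
        refine ⟨k, SM S₀ (g k₂ k h₂) a * SM S₀ (g k₁ k h₁) x₁,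
          Ideal.mul_mem_left _ _ (b_mono _ _ h₁ _ hx₁), ?_⟩
        rw [map_mul, hSMι, hSMι, smul_eq_mul, ← ha, SM_eq_lTensor] }
  have hb' : ∀ y, y ∈ b' ↔ ∃ k, ∃ x ∈ b k, SM S₀ (ιA k) x = y := fun y => Iff.rfl
  let W' : Submonoid (S₀ ⊗[Z] A) :=
    { carrier := {y | ∃ k, ∃ w ∈ W k, SM S₀ (ιA k) w = y}
      one_mem' := ⟨hne.some, 1, Submonoid.one_mem _, map_one _⟩
      mul_mem' := by
        rintro _ _ ⟨k₁, x₁, hx₁, rfl⟩ ⟨k₂, x₂, hx₂, rfl⟩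
        obtain ⟨k, h₁, h₂⟩ := hdir.directed k₁ k₂
        refine ⟨k, SM S₀ (g k₁ k h₁) x₁ * SM S₀ (g k₂ k h₂) x₂,
          Submonoid.mul_mem _ (hW _ _ h₁ _ hx₁) (hW _ _ h₂ _ hx₂), ?_⟩
        rw [map_mul, hSMι, hSMι] }
  have hW' : ∀ y, y ∈ W' ↔ ∃ k, ∃ w ∈ W k, SM S₀ (ιA k) w = y := fun y => Iff.rfl
  -- Step 1
  have step1 : ∃ y, y ∈ b' ∧ y ∈ W' := by
    by_contra hno
    have hdisj : Disjoint (b' : Set (S₀ ⊗[Z] A)) (W' : Set (S₀ ⊗[Z] A)) := by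
      rw [Set.disjoint_left]
      intro y hy hy'
      exact hno ⟨y, hy, hy'⟩
    obtain ⟨q', hq'prime, hle, hq'disj⟩ := Ideal.exists_le_prime_disjoint b' W' hdisj
    haveI := hq'prime
    have hflat := H q' (fun i => by
        rw [Ideal.map_le_iff_le_comap]
        intro x hx
        exact hle ((hb' _).2 ⟨i, x, le_sup_left (a := c i) hx, rfl⟩))
      (fun i w hw hmem => Set.disjoint_left.1 hq'disj hmem ((hW' _).2 ⟨i, w, hw, rfl⟩))
    obtain ⟨T, hTfg, hT⟩ := exists_stage_flat Z S₀ N₀ A q' hflat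
    haveI : Algebra.FiniteType Z T := (Subalgebra.fg_iff_finiteType T).1 hTfg
    haveI : Algebra.FinitePresentation Z T :=
      Algebra.FinitePresentation.of_finiteType.1 inferInstance
    obtain ⟨i, χ, hχ⟩ := FlatColim.exists_algHom_of_colimit G
      (fun i j h => (g i j h).toRingHom) (fun i j h z => (g i j h).commutes z) A hcolim' T T.val
    have hχ' : (ιA i).comp χ = T.val := AlgHom.ext fun t => hχ t
    haveI : (q'.comap (SM S₀ (ιA i))).IsPrime := Ideal.comap_isPrime _ _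
    have hi : Module.Flat (G i) (LocalizedModule (q'.comap (SM S₀ (ιA i))).primeCompl
        ((S₀ ⊗[Z] G i) ⊗[S₀] N₀)) := by
      haveI : ((q'.comap (SM S₀ (ιA i))).comap (SM S₀ χ)).IsPrime := Ideal.comap_isPrime _ _
      apply flat_of_stage_flat' Z S₀ N₀ T (G i) χ (q'.comap (SM S₀ (ιA i)))
      refine flat_prime_congr Z S₀ N₀ _ _ ?_ hT
      ext w
      rw [Ideal.mem_comap, Ideal.mem_comap, Ideal.mem_comap, SM_comp, hχ']
    have hopen := isOpen_flatLocus_baseChange Z S₀ N₀ (G i)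
    obtain ⟨_, ⟨h, rfl⟩, hq, hsub⟩ :=
      PrimeSpectrum.isTopologicalBasis_basic_opens.exists_subset_of_mem_open
        (a := (⟨q'.comap (SM S₀ (ιA i)), inferInstance⟩ : PrimeSpectrum (S₀ ⊗[Z] G i))) hi hopen
    have hgood : h ∈ good i := by
      intro q _ hhq
      exact hsub (show (⟨q, inferInstance⟩ : PrimeSpectrum (S₀ ⊗[Z] G i)) ∈
        (PrimeSpectrum.basicOpen h : Set _) from hhq)
    have hmem : SM S₀ (ιA i) h ∈ q' :=
      hle ((hb' _).2 ⟨i, h, le_sup_right (a := c i) (Ideal.subset_span hgood), rfl⟩)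
    exact hq hmem
  -- Step 2
  obtain ⟨y, ⟨k, x, hx, hxy⟩, ⟨i, w, hw, hwy⟩⟩ := step1
  obtain ⟨m, hkm, him⟩ := hdir.directed k i
  have hzero : SM S₀ (ιA m) (SM S₀ (g k m hkm) x - SM S₀ (g i m him) w) = 0 := by
    rw [map_sub, hSMι, hSMι, hxy, hwy, sub_self]
  rw [SM_eq_lTensor] at hzero
  obtain ⟨l, hml, hl⟩ := TensorColim.exists_kill S₀ G g A hcolim' m _ hzero
  rw [← SM_eq_lTensor, map_sub, sub_eq_zero, hSMg, hSMg] at hl
  refine ⟨l, ?_⟩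
  intro q _ hcq hWq
  have hwl : SM S₀ (g i l (him.trans hml)) w ∈ W l := hW _ _ _ _ hw
  have hxl : SM S₀ (g k l (hkm.trans hml)) x ∈ b l := b_mono _ _ _ _ hx
  have hnot : ¬ (good l ⊆ (q : Set (S₀ ⊗[Z] G l))) := by
    intro hsub
    have : b l ≤ q := sup_le hcq (Ideal.span_le.2 hsub)
    exact hWq _ hwl (hl ▸ this hxl)
  obtain ⟨h, hh, hhq⟩ := Set.not_subset.1 hnot
  exact hh q hhq

end

end Groth.Agent.Lib.Helper8.FlatIdealStage
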