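import Mathlib
import Groth.Agent.S0387

set_option maxHeartbeats 400000
set_option autoImplicit false
set_option linter.style.haveILetI false
universe u

open TensorProduct Function

namespace Groth.Agent.Lib.Helper8.FlatNhd

/-- the localization at a prime of a principal localization, tensored with a module, is flat over
the base as soon as the module is flat at the prime below -/
theorem flat_atPrime_away {A B M : Type u} [CommRing A] [CommRing B] [Algebra A B]
    [AddCommGroup M] [Module B M] [Module A M] [IsScalarTower A B M] (g : B)
    (P : Ideal (Localization.Away g)) [P.IsPrime]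
    (h : Module.Flat A (LocalizedModule (P.comap (algebraMap B (Localization.Away g))).primeCompl M)) :
    Module.Flat A (Localization.AtPrime P ⊗[Localization.Away g] (Localization.Away g ⊗[B] M)) := by
  haveI : IsLocalization.AtPrime (Localization.AtPrime P)
      (P.comap (algebraMap B (Localization.Away g))) :=
    IsLocalization.isLocalization_isLocalization_atPrime_isLocalization (Submonoid.powers g)
      (Localization.AtPrime P) P
  haveI : IsLocalizedModule (P.comap (algebraMap B (Localization.Away g))).primeCompl
      (TensorProduct.mk B (Localization.AtPrime P) M 1) :=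
    (isLocalizedModule_iff_isBaseChange (P.comap (algebraMap B (Localization.Away g))).primeCompl
      (Localization.AtPrime P) _).2 (TensorProduct.isBaseChange B M (Localization.AtPrime P))
  let e1 : LocalizedModule (P.comap (algebraMap B (Localization.Away g))).primeCompl M ≃ₗ[B]
      Localization.AtPrime P ⊗[B] M :=
    IsLocalizedModule.linearEquiv (P.comap (algebraMap B (Localization.Away g))).primeCompl
      (LocalizedModule.mkLinearMap _ M) (TensorProduct.mk B (Localization.AtPrime P) M 1)
  let e2 := AlgebraTensorModule.cancelBaseChange B (Localization.Away g) (Localization.AtPrime P)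
    (Localization.AtPrime P) M
  haveI : Module.Flat A (Localization.AtPrime P ⊗[B] M) :=
    Module.Flat.of_linearEquiv (e1.symm.restrictScalars A)
  exact Module.Flat.of_linearEquiv (e2.restrictScalars A)

/-- a finitely presented module which is flat over the base at a prime is flat over the base on
a principal open neighbourhood -/
theorem exists_flat_away {A B M : Type u} [CommRing A] [CommRing B] [Algebra A B]
    [Algebra.FinitePresentation A B] [AddCommGroup M] [Module B M] [Module A M]
    [IsScalarTower A B M] [Module.FinitePresentation B M] (q : Ideal B) [q.IsPrime]
    (h : Module.Flat A (LocalizedModule q.primeCompl M)) :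
    ∃ g : B, g ∉ q ∧ Module.Flat A (Localization.Away g ⊗[B] M) := by
  have hopen := Groth.Agent.S0387.result (R := A) (S := B) (M := M)
  obtain ⟨_, ⟨g, rfl⟩, hq, hsub⟩ :=
    PrimeSpectrum.isTopologicalBasis_basic_opens.exists_subset_of_mem_open
      (a := (⟨q, inferInstance⟩ : PrimeSpectrum B)) h hopen
  refine ⟨g, hq, ?_⟩
  refine Module.flat_of_isLocalized_maximal (Localization.Away g) (Localization.Away g ⊗[B] M)
    (fun P _ => Localization.AtPrime P ⊗[Localization.Away g] (Localization.Away g ⊗[B] M))
    (fun P _ => TensorProduct.mk (Localization.Away g) (Localization.AtPrime P) _ 1)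
    (fun P hP => ?_)
  apply flat_atPrime_away
  have hg : g ∉ P.comap (algebraMap B (Localization.Away g)) := by
    intro hmem
    exact (Ideal.IsPrime.ne_top inferInstance) (Ideal.eq_top_of_isUnit_mem P hmem
      (IsLocalization.Away.algebraMap_isUnit g))
  exact hsub (show (⟨P.comap (algebraMap B (Localization.Away g)), inferInstance⟩ :
    PrimeSpectrum B) ∈ (PrimeSpectrum.basicOpen g : Set (PrimeSpectrum B)) from hg)

end Groth.Agent.Lib.Helper8.FlatNhd
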