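import Mathlib.RingTheory.TensorProduct.IsBaseChangeRightExact
import Mathlib.RingTheory.TensorProduct.IsBaseChangePi
import Mathlib.LinearAlgebra.Matrix.ToLin
import Mathlib.Algebra.Module.FinitePresentation

/-!
# Cokernels of matrices and their base change (helper8)

`Cok K` is the module presented by the rows of the matrix `K`.  A pair of matrices `(U, C)` with
`K * U = C * K'` induces `cokMap : Cok K → Cok K'`.  For an `A`-algebra `A'`, the canonical map
`cokBC : Cok K → Cok (K.map (algebraMap A A'))` is a base change, compatible with `cokMap`.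
-/

set_option autoImplicit false
set_option maxHeartbeats 400000

namespace Groth.Agent.Lib.Helper8.MatCok

open Matrix

section Basic

variable {A : Type*} [CommRing A]

/-- The module presented by the rows of `K`. -/
abbrev Cok {m n : ℕ} (K : Matrix (Fin m) (Fin n) A) : Type _ :=
  (Fin n → A) ⧸ LinearMap.range (Matrix.vecMulLinear K)

/-- The projection onto `Cok K`. -/
abbrev cokMk {m n : ℕ} (K : Matrix (Fin m) (Fin n) A) : (Fin n → A) →ₗ[A] Cok K :=
  (LinearMap.range (Matrix.vecMulLinear K)).mkQ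

theorem cokMk_surjective {m n : ℕ} (K : Matrix (Fin m) (Fin n) A) :
    Function.Surjective (cokMk K) := Submodule.mkQ_surjective _

theorem exact_cokMk {m n : ℕ} (K : Matrix (Fin m) (Fin n) A) :
    Function.Exact (Matrix.vecMulLinear K) (cokMk K) :=
  LinearMap.exact_map_mkQ_range _

/-- The map induced by a pair of matrices. -/
def cokMap {m n m' n' : ℕ} (K : Matrix (Fin m) (Fin n) A) (K' : Matrix (Fin m') (Fin n') A)
    (U : Matrix (Fin n) (Fin n') A) (C : Matrix (Fin m) (Fin m') A) (h : K * U = C * K') :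
    Cok K →ₗ[A] Cok K' :=
  Submodule.mapQ _ _ (Matrix.vecMulLinear U) (by
    rintro _ ⟨y, rfl⟩
    refine ⟨y ᵥ* C, ?_⟩
    simp only [Matrix.vecMulLinear_apply, Matrix.vecMul_vecMul, h])

@[simp]
theorem cokMap_mk {m n m' n' : ℕ} (K : Matrix (Fin m) (Fin n) A) (K' : Matrix (Fin m') (Fin n') A)
    (U : Matrix (Fin n) (Fin n') A) (C : Matrix (Fin m) (Fin m') A) (h : K * U = C * K')
    (x : Fin n → A) : cokMap K K' U C h (cokMk K x) = cokMk K' (x ᵥ* U) := rfl

end Basic

section BC

variable {A : Type*} [CommRing A] (A' : Type*) [CommRing A'] [Algebra A A']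

/-- Coefficientwise map `Aⁿ → A'ⁿ`. -/
abbrev vecBC (n : ℕ) : (Fin n → A) →ₗ[A] (Fin n → A') :=
  (Algebra.linearMap A A').compLeft (Fin n)

theorem isBaseChange_vecBC (n : ℕ) : IsBaseChange A' (vecBC (A := A) A' n) :=
  IsBaseChange.finitePow (Fin n) (IsBaseChange.linearMap A A')

theorem vecBC_vecMul {m n : ℕ} (K : Matrix (Fin m) (Fin n) A) (x : Fin m → A) :
    vecBC A' n (x ᵥ* K) = (vecBC A' m x) ᵥ* (K.map (algebraMap A A')) := by
  ext j
  simp only [LinearMap.compLeft_apply, Function.comp_apply, Algebra.linearMap_apply]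
  simp only [Matrix.vecMul, dotProduct, map_sum, map_mul, Matrix.map_apply]
  rfl

/-- The base change map on cokernels. -/
def cokBC {m n : ℕ} (K : Matrix (Fin m) (Fin n) A) :
    Cok K →ₗ[A] Cok (K.map (algebraMap A A')) :=
  (LinearMap.range (Matrix.vecMulLinear K)).liftQ
    (((cokMk (K.map (algebraMap A A'))).restrictScalars A).comp (vecBC A' n)) (by
      rintro _ ⟨y, rfl⟩
      rw [LinearMap.mem_ker, LinearMap.comp_apply, Matrix.vecMulLinear_apply, vecBC_vecMul]
      exact (Submodule.Quotient.mk_eq_zero _).2 ⟨vecBC A' m y, rfl⟩)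

@[simp]
theorem cokBC_mk {m n : ℕ} (K : Matrix (Fin m) (Fin n) A) (x : Fin n → A) :
    cokBC A' K (cokMk K x) = cokMk (K.map (algebraMap A A')) (vecBC A' n x) := rfl

theorem isBaseChange_cokBC {m n : ℕ} (K : Matrix (Fin m) (Fin n) A) :
    IsBaseChange A' (cokBC A' K) := by
  have comm₁ : (vecBC A' n).comp (Matrix.vecMulLinear K) =
      ((Matrix.vecMulLinear (K.map (algebraMap A A'))).restrictScalars A).comp (vecBC A' m) := by
    apply LinearMap.ext
    intro x
    exact vecBC_vecMul A' K x
  have comm₂ : (cokBC A' K).comp (cokMk K) =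
      ((cokMk (K.map (algebraMap A A'))).restrictScalars A).comp (vecBC A' n) := by
    apply LinearMap.ext
    intro x
    rw [LinearMap.comp_apply, LinearMap.comp_apply, LinearMap.restrictScalars_apply]
    exact cokBC_mk A' K x
  have e1 := exact_cokMk K
  have s1 := cokMk_surjective K
  have e2 := exact_cokMk (K.map (algebraMap A A'))
  have s2 := cokMk_surjective (K.map (algebraMap A A'))
  have b1 := isBaseChange_vecBC (A := A) A' m
  have b2 := isBaseChange_vecBC (A := A) A' n
  exact @IsBaseChange.of_right_exact A _ A' _ _ (Fin m → A) (Fin n → A) (Cok K)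
    (Fin m → A') (Fin n → A') (Cok (K.map (algebraMap A A'))) _ _ _ _ _ _ _ _ _ _ _ _ _ _ _ _ _ _
    (vecBC A' m) (vecBC A' n) (cokBC A' K) (Matrix.vecMulLinear K) (cokMk K)
    (Matrix.vecMulLinear (K.map (algebraMap A A'))) (cokMk (K.map (algebraMap A A')))
    comm₁ comm₂ b1 b2 e1 s1 e2 s2

theorem cokBC_cokMap {m n m' n' : ℕ} (K : Matrix (Fin m) (Fin n) A)
    (K' : Matrix (Fin m') (Fin n') A)
    (U : Matrix (Fin n) (Fin n') A) (C : Matrix (Fin m) (Fin m') A) (h : K * U = C * K')
    (h' : K.map (algebraMap A A') * U.map (algebraMap A A') =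
      C.map (algebraMap A A') * K'.map (algebraMap A A')) (z : Cok K) :
    cokBC A' K' (cokMap K K' U C h z) =
      cokMap _ _ (U.map (algebraMap A A')) (C.map (algebraMap A A')) h' (cokBC A' K z) := by
  obtain ⟨x, rfl⟩ := cokMk_surjective K z
  simp only [cokMap_mk, cokBC_mk]
  rw [vecBC_vecMul]

theorem map_mul_eq {m n m' n' : ℕ} {K : Matrix (Fin m) (Fin n) A}
    {K' : Matrix (Fin m') (Fin n') A}
    {U : Matrix (Fin n) (Fin n') A} {C : Matrix (Fin m) (Fin m') A} (h : K * U = C * K')
    {B : Type*} [CommRing B] (φ : A →+* B) :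
    K.map φ * U.map φ = C.map φ * K'.map φ := by
  rw [← Matrix.map_mul, ← Matrix.map_mul, h]

end BC

end Groth.Agent.Lib.Helper8.MatCok
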