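import Mathlib
import Groth.Agent.Lib.Helper8.MatCok

/-!
# Finite free resolutions of flat finitely presented modules (helper8)

Conditional on the Noetherian descent statement (`Descent9456`), a finitely presented module
`M` over a finitely presented `R`-algebra `S` which is flat over `R` is of type `FP₂`:
there is a surjection `Sⁿ → M` with finitely presented kernel.
-/

set_option maxHeartbeats 400000
set_option autoImplicit false

open TensorProduct Function

namespace Groth.Agent.Lib.Helper8.FlatRes

open Groth.Agent.Lib.Helper8.MatCok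

universe u

/-- The Noetherian descent statement for flat finitely presented modules. -/
def Descent9456 : Prop :=
  ∀ (R : Type u) [CommRing R]
    (S : Type u) [CommRing S] [Algebra R S] [Algebra.FinitePresentation R S] (M : Type u)
    [AddCommGroup M] [Module S M] [Module R M] [IsScalarTower R S M]
    [Module.FinitePresentation S M] [Module.Flat R M],
    ∃ (R₀ : Type u) (_ : CommRing R₀) (_ : Algebra R₀ R) (S₀ : Type u) (_ : CommRing S₀)
      (_ : Algebra R₀ S₀) (_ : Algebra S₀ S) (_ : Algebra R₀ S) (_ : IsScalarTower R₀ R S)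
      (_ : IsScalarTower R₀ S₀ S) (M₀ : Type u) (_ : AddCommGroup M₀) (_ : Module S₀ M₀)
      (_ : Module R₀ M₀) (_ : IsScalarTower R₀ S₀ M₀) (_ : Module S₀ M) (_ : IsScalarTower S₀ S M)
      (f : M₀ →ₗ[S₀] M),
      Algebra.FiniteType ℤ R₀ ∧ Algebra.FiniteType R₀ S₀ ∧ Module.Finite S₀ M₀ ∧ Module.Flat R₀ M₀ ∧
        Algebra.IsPushout R₀ R S₀ S ∧ IsBaseChange S f

section core

variable {R₀ R S₀ S : Type*} [CommRing R₀] [CommRing R] [CommRing S₀] [CommRing S]
  [Algebra R₀ R] [Algebra R₀ S₀] [Algebra S₀ S] [Algebra R S] [Algebra R₀ S]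
  [IsScalarTower R₀ R S] [IsScalarTower R₀ S₀ S] [Algebra.IsPushout R₀ R S₀ S]

/-- naturality of the pushout cancellation isomorphism -/
theorem cancel_natural {X Y : Type*} [AddCommGroup X] [Module S₀ X] [Module R₀ X]
    [IsScalarTower R₀ S₀ X] [AddCommGroup Y] [Module S₀ Y] [Module R₀ Y] [IsScalarTower R₀ S₀ Y]
    (g : X →ₗ[S₀] Y) (z : R ⊗[R₀] X) :
    (g.baseChange S) ((Algebra.IsPushout.cancelBaseChange R₀ R S₀ S X).symm z) =
      (Algebra.IsPushout.cancelBaseChange R₀ R S₀ S Y).symm
        (((g.restrictScalars R₀).baseChange R) z) := by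
  induction z using TensorProduct.induction_on with
  | zero => simp
  | tmul r x => simp
  | add a b ha hb => simp only [map_add, ha, hb]

variable (R₀ R) in
include R₀ R in
/-- base change along a pushout preserves injectivity of the kernel inclusion of a surjection
onto a module flat over the small base -/
theorem baseChange_injective_of_flat {X Y Z : Type*} [AddCommGroup X] [Module S₀ X] [Module R₀ X]
    [IsScalarTower R₀ S₀ X] [AddCommGroup Y] [Module S₀ Y] [Module R₀ Y] [IsScalarTower R₀ S₀ Y]
    [AddCommGroup Z] [Module S₀ Z] [Module R₀ Z] [IsScalarTower R₀ S₀ Z] [Module.Flat R₀ Z]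
    (g : X →ₗ[S₀] Y) (p : Y →ₗ[S₀] Z) (hg : Injective g) (hex : Exact g p) (hp : Surjective p) :
    Injective (g.baseChange S) := by
  have key : Injective ((g.restrictScalars R₀).lTensor R) :=
    LinearMap.lTensor_injective_of_exact_of_flat (p.restrictScalars R₀) hp
      (g.restrictScalars R₀) hg hex R
  intro a b hab
  obtain ⟨a', rfl⟩ := (Algebra.IsPushout.cancelBaseChange R₀ R S₀ S X).symm.surjective a
  obtain ⟨b', rfl⟩ := (Algebra.IsPushout.cancelBaseChange R₀ R S₀ S X).symm.surjective b
  rw [cancel_natural, cancel_natural] at hab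
  have h2 := (Algebra.IsPushout.cancelBaseChange R₀ R S₀ S Y).symm.injective hab
  have h3 : a' = b' := key h2
  rw [h3]

variable {M₀ M : Type*} [AddCommGroup M₀] [Module S₀ M₀] [Module R₀ M₀] [IsScalarTower R₀ S₀ M₀]
  [AddCommGroup M] [Module S M] [Module S₀ M] [IsScalarTower S₀ S M]

variable (R₀ R) in
include R₀ R in
/-- the core of the `FP₂` statement -/
theorem exists_fp_ker_of_isBaseChange [IsNoetherianRing S₀] [Module.Finite S₀ M₀]
    [Module.Flat R₀ M₀] (f : M₀ →ₗ[S₀] M) (hf : IsBaseChange S f) :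
    ∃ (n : ℕ) (π : (Fin n → S) →ₗ[S] M), Surjective π ∧
      Module.FinitePresentation S (LinearMap.ker π) := by
  obtain ⟨n, π₀, hπ₀⟩ := Module.Finite.exists_fin' S₀ M₀
  let K₀ := LinearMap.ker π₀
  let eF : S ⊗[S₀] (Fin n → S₀) ≃ₗ[S] (Fin n → S) := (isBaseChange_vecBC S n).equiv
  let eM : S ⊗[S₀] M₀ ≃ₗ[S] M := hf.equiv
  let π : (Fin n → S) →ₗ[S] M := eM.toLinearMap ∘ₗ (π₀.baseChange S) ∘ₗ eF.symm.toLinearMap
  have hsurj : Surjective π :=
    eM.surjective.comp ((LinearMap.lTensor_surjective S hπ₀).comp eF.symm.surjective)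
  have hinj : Injective (K₀.subtype.baseChange S) :=
    baseChange_injective_of_flat R₀ R K₀.subtype π₀ K₀.subtype_injective
      (LinearMap.exact_subtype_ker_map π₀) hπ₀
  have hex : Exact (K₀.subtype.baseChange S) (π₀.baseChange S) :=
    lTensor_exact S (LinearMap.exact_subtype_ker_map π₀) hπ₀
  let j : S ⊗[S₀] K₀ →ₗ[S] (Fin n → S) := eF.toLinearMap ∘ₗ K₀.subtype.baseChange S
  have hj : Injective j := eF.injective.comp hinj
  have hrange : LinearMap.range j = LinearMap.ker π := by
    ext x
    simp only [LinearMap.mem_range, LinearMap.mem_ker, j, π, LinearMap.comp_apply,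
      LinearEquiv.coe_coe]
    constructor
    · rintro ⟨y, rfl⟩
      rw [LinearEquiv.symm_apply_apply, hex.apply_apply_eq_zero, map_zero]
    · intro hx
      have h1 : (π₀.baseChange S) (eF.symm x) = 0 := by
        apply eM.injective
        rw [hx, map_zero]
      obtain ⟨y, hy⟩ := (hex _).mp h1
      exact ⟨y, by rw [hy, LinearEquiv.apply_symm_apply]⟩
  refine ⟨n, π, hsurj, ?_⟩
  have : Module.FinitePresentation S₀ K₀ := Module.finitePresentation_of_finite S₀ K₀
  exact Module.FinitePresentation.of_equiv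
    ((LinearEquiv.ofInjective j hj).trans (LinearEquiv.ofEq _ _ hrange))

end core

/-- **FP₂** for flat finitely presented modules, from the descent statement. -/
theorem exists_fp_ker (H : Descent9456.{u}) (R : Type u) [CommRing R]
    (S : Type u) [CommRing S] [Algebra R S] [Algebra.FinitePresentation R S] (M : Type u)
    [AddCommGroup M] [Module S M] [Module R M] [IsScalarTower R S M]
    [Module.FinitePresentation S M] [Module.Flat R M] :
    ∃ (n : ℕ) (π : (Fin n → S) →ₗ[S] M), Surjective π ∧
      Module.FinitePresentation S (LinearMap.ker π) := by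
  obtain ⟨R₀, _, _, S₀, _, _, _, _, _, _, M₀, _, _, _, _, _, _, f, h1, h2, h3, h4, h5, h6⟩ :=
    H R S M
  have : Algebra.FiniteType ℤ S₀ := Algebra.FiniteType.trans (S := R₀) h1 h2
  have : IsNoetherianRing S₀ := Algebra.FiniteType.isNoetherianRing ℤ S₀
  exact exists_fp_ker_of_isBaseChange R₀ R f h6

end Groth.Agent.Lib.Helper8.FlatRes
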