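import Groth.Agent.Lib.Helper8.FlatRes9
import Groth.Agent.S0563

set_option maxHeartbeats 400000
set_option autoImplicit false
set_option linter.unusedSectionVars false
set_option linter.style.haveILetI false

open TensorProduct Function CategoryTheory CategoryTheory.Limits

namespace Groth.Agent.Lib.Helper8.FlatRes

universe u

variable {A B : Type u} [CommRing A] [CommRing B] [Algebra A B]
  [Algebra.FinitePresentation A B] [Module.Flat A B]
  (H : Descent9456.{u})

/-- flat base changes are `Tor`-independent -/
theorem torIndep_of_flat (R : Type u) [CommRing R] [Algebra B R] [Module.Flat B R] :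
    TorIndep A B H R := fun Y =>
  Module.Flat.lTensor_preserves_injective_linearMap _ (incl_injective H Y)

include H in
/-- projective dimension over a flat local algebra with regular fibre -/
theorem pdLT_of_regular_fibre (X : FlatFP A B) (R : Type u) [CommRing R] [IsLocalRing R]
    [Algebra B R] [Algebra A R] [IsScalarTower A B R] [Module.Flat B R] (𝔭 : Ideal A)
    (h𝔭 : 𝔭.map (algebraMap A R) ≤ IsLocalRing.maximalIdeal R) (n : ℕ)
    (hreg : IsRegularLocalRing (LR A R 𝔭)) (hn : ringKrullDim (LR A R 𝔭) = n) :
    HasProjectiveDimensionLT (ModuleCat.of R (R ⊗[B] X.carrier)) (n + 1) := by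
  have hL : TorIndep A B H (LR A R 𝔭) := fun Y =>
    lr_baseChange_injective R 𝔭 (incl H Y) (proj H Y) (incl_injective H Y)
      (exact_incl_proj H Y) (proj_surjective H Y)
  have h1 : HasProjectiveDimensionLT (bcM (LR A R 𝔭) X) (n + 1) :=
    Groth.Agent.S0563.result (LR A R 𝔭) n hn (LR A R 𝔭 ⊗[B] X.carrier)
  rw [bc_pdLT_succ_iff H X hL n, ← IsProjective.iff_projective] at h1
  have hfl : Module.Flat (LR A R 𝔭) (LR A R 𝔭 ⊗[B] (syz H X n).carrier) :=
    @Module.Flat.of_projective _ _ _ _ _ h1
  have hfree : Module.Free R (R ⊗[B] (syz H X n).carrier) :=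
    free_of_flat_lr R 𝔭 h𝔭 (incl H (syz H X n)) (proj H (syz H X n))
      (incl_injective H _) (exact_incl_proj H _) (proj_surjective H _) hfl
  change HasProjectiveDimensionLT (bcM R X) (n + 1)
  rw [bc_pdLT_succ_iff H X (torIndep_of_flat H R) n, ← IsProjective.iff_projective]
  change Module.Projective R (R ⊗[B] (syz H X n).carrier)
  infer_instance

end Groth.Agent.Lib.Helper8.FlatRes
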