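import Mathlib
import Groth.Agent.Lib.Helper8.MatCok

set_option maxHeartbeats 400000
set_option autoImplicit false
universe u

open TensorProduct Function

namespace Groth.Agent.Lib.Helper8.LocDescent

open Groth.Agent.Lib.Helper8.MatCok

/-- a finitely presented module over a localization is presented by a matrix with entries in
the ring -/
theorem exists_matrix {B : Type u} [CommRing B] (S : Submonoid B) (R : Type u) [CommRing R]
    [Algebra B R] [IsLocalization S R] (N : Type u) [AddCommGroup N] [Module R N]
    [Module.FinitePresentation R N] :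
    ∃ (m n : ℕ) (K : Matrix (Fin m) (Fin n) B),
      Nonempty (N ≃ₗ[R] Cok (K.map (algebraMap B R))) := by
  obtain ⟨n, K₀, e, hK₀⟩ := Module.FinitePresentation.exists_fin R N
  obtain ⟨m, v, hv⟩ := Submodule.fg_iff_exists_fin_generating_family.1 hK₀
  obtain ⟨b, hb⟩ := IsLocalization.exist_integer_multiples S (Finset.univ : Finset (Fin m × Fin n))
    (fun ij => v ij.1 ij.2)
  choose K hK using fun i j => hb (i, j) (Finset.mem_univ _)
  refine ⟨m, n, Matrix.of K, ⟨e ≪≫ₗ Submodule.quotEquivOfEq _ _ ?_⟩⟩
  have hu : IsUnit (algebraMap B R b) := IsLocalization.map_units R b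
  have hmat : (Matrix.of K).map (algebraMap B R) = algebraMap B R b • Matrix.of v := by
    ext i j
    simp only [Matrix.map_apply, Matrix.of_apply, Matrix.smul_apply, smul_eq_mul]
    rw [hK i j, Algebra.smul_def]
  rw [hmat, ← hv]
  have h1 : LinearMap.range (Matrix.vecMulLinear (Matrix.of v)) =
      Submodule.span R (Set.range v) := by
    rw [range_vecMulLinear]
    rfl
  rw [← h1]
  apply le_antisymm
  · rintro _ ⟨x, rfl⟩
    refine ⟨(hu.unit⁻¹ : Rˣ).1 • x, ?_⟩
    simp only [Matrix.vecMulLinear_apply, Matrix.vecMul_smul, Matrix.smul_vecMul]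
    rw [smul_smul, IsUnit.mul_val_inv, one_smul]
  · rintro _ ⟨x, rfl⟩
    refine ⟨algebraMap B R b • x, ?_⟩
    simp only [Matrix.vecMulLinear_apply, Matrix.vecMul_smul, Matrix.smul_vecMul]

end Groth.Agent.Lib.Helper8.LocDescent
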