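import Groth.Agent.Lib.Helper8.FlatRes10
import Groth.Agent.Lib.Helper8.LocDescent
import Groth.Agent.Lib.Helper8.FlatNhd

set_option maxHeartbeats 800000
set_option autoImplicit false
set_option linter.unusedSectionVars false
set_option linter.style.haveILetI false

open TensorProduct Function CategoryTheory CategoryTheory.Limits

namespace Groth.Agent.Lib.Helper8.FlatRes

open Groth.Agent.Lib.Helper8.MatCok

universe u

/-- projective dimension of flat finitely presented modules over the local rings of a flat
finitely presented algebra with regular fibre (conditional form of S16178, any base ring) -/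
theorem pdLE_localization_of_regular_fibre (H : Descent9456.{u}) (A B : Type u) [CommRing A]
    [CommRing B] [Algebra A B] [Module.Flat A B] [Algebra.FinitePresentation A B]
    (q : Ideal B) [q.IsPrime] (n : ℕ)
    (hreg : IsRegularLocalRing (Localization.AtPrime q ⧸
      Ideal.map (algebraMap A (Localization.AtPrime q)) (Ideal.comap (algebraMap A B) q)))
    (hn : ringKrullDim (Localization.AtPrime q ⧸
      Ideal.map (algebraMap A (Localization.AtPrime q)) (Ideal.comap (algebraMap A B) q)) = n)
    (N : Type u) [AddCommGroup N] [Module (Localization.AtPrime q) N]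
    [Module.FinitePresentation (Localization.AtPrime q) N]
    [Module A N] [IsScalarTower A (Localization.AtPrime q) N] [Module.Flat A N] :
    HasProjectiveDimensionLE (ModuleCat.of (Localization.AtPrime q) N) n := by
  obtain ⟨m, n', K, ⟨e⟩⟩ := LocDescent.exists_matrix q.primeCompl (Localization.AtPrime q) N
  haveI : Module.FinitePresentation B (Cok K) := by
    refine Module.finitePresentation_of_free_of_surjective (cokMk K) (cokMk_surjective K) ?_
    rw [(exact_cokMk K).linearMap_ker_eq, LinearMap.range_eq_map]
    exact (Module.Finite.fg_top).map _
  let eR : Localization.AtPrime q ⊗[B] Cok K ≃ₗ[Localization.AtPrime q] N :=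
    (isBaseChange_cokBC (Localization.AtPrime q) K).equiv ≪≫ₗ e.symm
  -- flatness at `q`
  have hflq : Module.Flat A (LocalizedModule q.primeCompl (Cok K)) := by
    let e1 : LocalizedModule q.primeCompl (Cok K) ≃ₗ[B] Localization.AtPrime q ⊗[B] Cok K :=
      IsLocalizedModule.linearEquiv q.primeCompl (LocalizedModule.mkLinearMap _ (Cok K))
        (TensorProduct.mk B (Localization.AtPrime q) (Cok K) 1)
    haveI : Module.Flat A (Localization.AtPrime q ⊗[B] Cok K) :=
      Module.Flat.of_linearEquiv (eR.restrictScalars A)
    exact Module.Flat.of_linearEquiv (e1.restrictScalars A)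
  obtain ⟨g, hgq, hflat⟩ := Groth.Agent.Lib.Helper8.FlatNhd.exists_flat_away (A := A) q hflq
  -- the local ring as an algebra over the principal localization
  have hu : IsUnit (algebraMap B (Localization.AtPrime q) g) :=
    IsLocalization.map_units (Localization.AtPrime q) (⟨g, hgq⟩ : q.primeCompl)
  letI : Algebra (Localization.Away g) (Localization.AtPrime q) :=
    (IsLocalization.Away.lift (S := Localization.Away g) g
      (g := algebraMap B (Localization.AtPrime q)) hu).toAlgebra
  haveI : IsScalarTower B (Localization.Away g) (Localization.AtPrime q) :=
    IsScalarTower.of_algebraMap_eq (fun b => (IsLocalization.Away.lift_eq g hu b).symm)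
  haveI : IsScalarTower A (Localization.Away g) (Localization.AtPrime q) :=
    IsScalarTower.of_algebraMap_eq (fun a => by
      rw [IsScalarTower.algebraMap_apply A B (Localization.Away g),
        ← IsScalarTower.algebraMap_apply B (Localization.Away g) (Localization.AtPrime q),
        ← IsScalarTower.algebraMap_apply A B (Localization.AtPrime q)])
  haveI : Module.Flat (Localization.Away g) (Localization.AtPrime q) := by
    have hle : Submonoid.powers g ≤ q.primeCompl := by
      rintro _ ⟨k, rfl⟩
      exact fun hk => hgq (Ideal.IsPrime.mem_of_pow_mem inferInstance k hk)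
    haveI := IsLocalization.isLocalization_of_submonoid_le (Localization.Away g)
      (Localization.AtPrime q) (Submonoid.powers g) q.primeCompl hle
    exact IsLocalization.flat (Localization.AtPrime q)
      (q.primeCompl.map (algebraMap B (Localization.Away g)))
  haveI : Algebra.FinitePresentation A (Localization.Away g) :=
    Algebra.FinitePresentation.trans A B (Localization.Away g)
  haveI : Module.Flat A (Localization.Away g) := Module.Flat.trans A B (Localization.Away g)
  let X : FlatFP A (Localization.Away g) := { carrier := Localization.Away g ⊗[B] Cok K }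
  have h𝔭 : (Ideal.comap (algebraMap A B) q).map (algebraMap A (Localization.AtPrime q)) ≤
      IsLocalRing.maximalIdeal (Localization.AtPrime q) := by
    rw [Ideal.map_le_iff_le_comap]
    intro a ha
    rw [Ideal.mem_comap, IsScalarTower.algebraMap_apply A B (Localization.AtPrime q)]
    exact (IsLocalization.AtPrime.to_map_mem_maximal_iff _ q _).2 ha
  have hpd := pdLT_of_regular_fibre H X (Localization.AtPrime q)
    (Ideal.comap (algebraMap A B) q) h𝔭 n hreg hn
  let eN : Localization.AtPrime q ⊗[Localization.Away g] (Localization.Away g ⊗[B] Cok K)
      ≃ₗ[Localization.AtPrime q] N :=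
    AlgebraTensorModule.cancelBaseChange B (Localization.Away g) (Localization.AtPrime q)
      (Localization.AtPrime q) (Cok K) ≪≫ₗ eR
  exact hasProjectiveDimensionLT_of_iso eN.toModuleIso (n + 1)

end Groth.Agent.Lib.Helper8.FlatRes
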