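import Groth.Agent.Lib.Helper8.FlatRes
import Groth.Agent.Lib.Helper54.LocalFlat5

/-!
# The syzygy chain of a flat finitely presented module (helper8)
-/

set_option maxHeartbeats 400000
set_option autoImplicit false
set_option linter.unusedSectionVars false

open TensorProduct Function

namespace Groth.Agent.Lib.Helper8.FlatRes

universe u

/-- bundled finitely presented `B`-modules that are flat over `A` -/
structure FlatFP (A B : Type u) [CommRing A] [CommRing B] [Algebra A B] where
  carrier : Type u
  [acg : AddCommGroup carrier]
  [modB : Module B carrier]
  [modA : Module A carrier]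
  [tower : IsScalarTower A B carrier]
  [fp : Module.FinitePresentation B carrier]
  [flat : Module.Flat A carrier]

attribute [instance] FlatFP.acg FlatFP.modB FlatFP.modA FlatFP.tower FlatFP.fp FlatFP.flat

variable {A B : Type u} [CommRing A] [CommRing B] [Algebra A B]

/-- the kernel of a surjection from a flat module onto a flat module is flat -/
theorem flat_ker {F M : Type*} [AddCommGroup F] [Module B F] [Module A F] [IsScalarTower A B F]
    [AddCommGroup M] [Module B M] [Module A M] [IsScalarTower A B M]
    [Module.Flat A F] [Module.Flat A M] (π : F →ₗ[B] M) (hπ : Surjective π) :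
    Module.Flat A (LinearMap.ker π) :=
  Groth.Agent.Lib.Helper54.LocalFlat.flat_of_exact_of_flat_of_flat
    ((LinearMap.ker π).subtype.restrictScalars A) (π.restrictScalars A)
    (LinearMap.ker π).subtype_injective (LinearMap.exact_subtype_ker_map π) hπ

variable [Algebra.FinitePresentation A B] [Module.Flat A B]

instance flat_pi (n : ℕ) : Module.Flat A (Fin n → B) := Module.Flat.trans A B (Fin n → B)

section step

variable (H : Descent9456.{u}) (X : FlatFP A B)

/-- the rank of the chosen free cover -/
noncomputable def rk : ℕ := (exists_fp_ker H A B X.carrier).choose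

/-- the chosen free cover -/
noncomputable def proj : (Fin (rk H X) → B) →ₗ[B] X.carrier :=
  (exists_fp_ker H A B X.carrier).choose_spec.choose

theorem proj_surjective : Surjective (proj H X) :=
  (exists_fp_ker H A B X.carrier).choose_spec.choose_spec.1

instance fp_ker_proj : Module.FinitePresentation B (LinearMap.ker (proj H X)) :=
  (exists_fp_ker H A B X.carrier).choose_spec.choose_spec.2

/-- the next syzygy -/
noncomputable def next : FlatFP A B :=
  letI : Module.Flat A (LinearMap.ker (proj H X)) := flat_ker (proj H X) (proj_surjective H X)
  { carrier := LinearMap.ker (proj H X) }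

/-- the inclusion of the next syzygy in the free module -/
noncomputable def incl : (next H X).carrier →ₗ[B] (Fin (rk H X) → B) :=
  (LinearMap.ker (proj H X)).subtype

theorem incl_injective : Injective (incl H X) := (LinearMap.ker (proj H X)).subtype_injective

theorem exact_incl_proj : Exact (incl H X) (proj H X) := LinearMap.exact_subtype_ker_map _

end step

/-- the `k`-th syzygy -/
noncomputable def syz (H : Descent9456.{u}) (X : FlatFP A B) : ℕ → FlatFP A B
  | 0 => X
  | k + 1 => next H (syz H X k)

@[simp] theorem syz_zero (H : Descent9456.{u}) (X : FlatFP A B) : syz H X 0 = X := rfl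

@[simp] theorem syz_succ (H : Descent9456.{u}) (X : FlatFP A B) (k : ℕ) :
    syz H X (k + 1) = next H (syz H X k) := rfl

end Groth.Agent.Lib.Helper8.FlatRes
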