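import Groth.Agent.Lib.Helper8.FlatRes3
import Groth.Agent.Lib.Helper46.TorShift

/-!
# Projective dimension versus Tor-dimension along the syzygy chain (helper8)
-/

set_option maxHeartbeats 400000
set_option autoImplicit false
set_option linter.unusedSectionVars false

open TensorProduct Function CategoryTheory CategoryTheory.Limits

namespace Groth.Agent.Lib.Helper8.FlatRes

open Groth.Agent.Lib.Helper46 Groth.Agent.Lib.Helper46.TorShift

universe u

/-- `Tor_1(M, -) = 0` implies `M` flat -/
theorem flat_of_isZero_tor_one {R : Type u} [CommRing R] (M : Type u) [AddCommGroup M] [Module R M]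
    (h : ∀ N : ModuleCat.{u} R, IsZero (((Tor (ModuleCat.{u} R) 1).obj (ModuleCat.of R M)).obj N)) :
    Module.Flat R M := by
  rw [Module.Flat.iff_lTensor_injective']
  intro I
  have h1 := TorOne.isZero_tor_one_iff_injective_lTensor (R := R) (N := M) I.subtype I.mkQ
    (Submodule.injective_subtype I) (LinearMap.exact_subtype_mkQ I) (Submodule.mkQ_surjective I)
  exact h1.1 (h _)

variable {A B : Type u} [CommRing A] [CommRing B] [Algebra A B]
  [Algebra.FinitePresentation A B] [Module.Flat A B]
  (H : Descent9456.{u})

section general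

variable (Y : FlatFP A B)

/-- the short exact sequence `0 → next Y → F → Y → 0` -/
noncomputable abbrev sesY : ShortComplex (ModuleCat.{u} B) :=
  sesSC (incl H Y) (proj H Y) (exact_incl_proj H Y)

theorem sesY_shortExact : (sesY H Y).ShortExact :=
  sesSC_shortExact _ _ (incl_injective H Y) (exact_incl_proj H Y) (proj_surjective H Y)

theorem pd_step (n : ℕ) :
    HasProjectiveDimensionLT (ModuleCat.of B Y.carrier) (n + 2) ↔
      HasProjectiveDimensionLT (ModuleCat.of B (next H Y).carrier) (n + 1) :=
  (sesY_shortExact H Y).hasProjectiveDimensionLT_X₃_iff n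
    (ModuleCat.projective_of_free (Pi.basisFun B (Fin (rk H Y))))

theorem tor_step (n : ℕ) (N : Type u) [AddCommGroup N] [Module B N] :
    (∀ j, n + 2 ≤ j → IsZero (T B j Y.carrier N)) ↔
      (∀ j, n + 1 ≤ j → IsZero (T B j (next H Y).carrier N)) := by
  constructor
  · intro h j hj
    obtain ⟨j', rfl⟩ : ∃ j', j = j' + 1 := ⟨j - 1, by omega⟩
    exact isZero_left₁ (incl H Y) (proj H Y) (incl_injective H Y) (exact_incl_proj H Y)
      (proj_surjective H Y) (j' + 1) (h (j' + 1 + 1) (by omega)) (isZero_of_flat_left _ _ j')
  · intro h j hj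
    obtain ⟨j', rfl⟩ : ∃ j', j = j' + 1 := ⟨j - 1, by omega⟩
    exact isZero_right₁ (incl H Y) (proj H Y) (incl_injective H Y) (exact_incl_proj H Y)
      (proj_surjective H Y) j' (isZero_of_flat_left _ _ j') (h j' (by omega))

theorem pd_iter (k n : ℕ) :
    HasProjectiveDimensionLT (ModuleCat.of B Y.carrier) (n + 1 + k) ↔
      HasProjectiveDimensionLT (ModuleCat.of B (syz H Y k).carrier) (n + 1) := by
  induction k generalizing n with
  | zero => exact Iff.rfl
  | succ k ih =>
    have h1 := ih (n + 1)
    have h2 := pd_step H (syz H Y k) n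
    rw [show n + 1 + (k + 1) = n + 1 + 1 + k by omega]
    exact h1.trans h2

theorem tor_iter (k n : ℕ) (N : Type u) [AddCommGroup N] [Module B N] :
    (∀ j, n + 1 + k ≤ j → IsZero (T B j Y.carrier N)) ↔
      (∀ j, n + 1 ≤ j → IsZero (T B j (syz H Y k).carrier N)) := by
  induction k generalizing n with
  | zero => exact Iff.rfl
  | succ k ih =>
    have h1 := ih (n + 1)
    have h2 := tor_step H (syz H Y k) n N
    rw [show n + 1 + (k + 1) = n + 1 + 1 + k by omega]
    exact h1.trans h2

/-- a flat finitely presented module has all higher `Tor` zero, and conversely -/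
theorem projective_iff_tor :
    Projective (ModuleCat.of B Y.carrier) ↔
      ∀ (N : ModuleCat.{u} B) (j : ℕ), 1 ≤ j → IsZero (T B j Y.carrier N) := by
  rw [← IsProjective.iff_projective]
  constructor
  · intro hP N j hj
    obtain ⟨j', rfl⟩ : ∃ j', j = j' + 1 := ⟨j - 1, by omega⟩
    haveI : Module.Flat B Y.carrier := inferInstance
    exact isZero_of_flat_left _ _ j'
  · intro h
    haveI : Module.Flat B Y.carrier := flat_of_isZero_tor_one Y.carrier (fun N => h N 1 le_rfl)
    exact Module.Flat.projective_of_finitePresentation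

theorem isZero_iff_tor :
    IsZero (ModuleCat.of B Y.carrier) ↔
      ∀ (N : ModuleCat.{u} B) (j : ℕ), IsZero (T B j Y.carrier N) := by
  rw [ModuleCat.isZero_iff_subsingleton]
  constructor
  · intro hs N j
    cases j with
    | zero =>
      rw [ModuleCat.isZero_iff_subsingleton]
      exact (torZeroEquiv Y.carrier N).toEquiv.subsingleton
    | succ j' =>
      haveI : Module.Flat B Y.carrier := inferInstance
      exact isZero_of_flat_left _ _ j'
  · intro h
    have h0 := h (ModuleCat.of B B) 0
    rw [ModuleCat.isZero_iff_subsingleton] at h0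
    have : Subsingleton (Y.carrier ⊗[B] B) := (torZeroEquiv Y.carrier B).symm.toEquiv.subsingleton
    exact (TensorProduct.rid B Y.carrier).symm.toEquiv.subsingleton

include H in
/-- the key comparison -/
theorem pdLT_iff_tor (i : ℕ) :
    HasProjectiveDimensionLT (ModuleCat.of B Y.carrier) i ↔
      ∀ j, i ≤ j → ∀ N : ModuleCat.{u} B,
        IsZero (((Tor (ModuleCat.{u} B) j).obj (ModuleCat.of B Y.carrier)).obj N) := by
  cases i with
  | zero =>
    rw [hasProjectiveDimensionLT_zero_iff_isZero, isZero_iff_tor Y]
    exact ⟨fun h j _ N => h N j, fun h N j => h j (Nat.zero_le _) N⟩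
  | succ k =>
    have h1 := pd_iter H Y k 0
    rw [zero_add, ← projective_iff_hasProjectiveDimensionLT_one,
      projective_iff_tor (syz H Y k)] at h1
    have h1' : HasProjectiveDimensionLT (ModuleCat.of B Y.carrier) (k + 1) ↔
        ∀ (N : ModuleCat.{u} B) (j : ℕ), 1 ≤ j → IsZero (T B j (syz H Y k).carrier N) := by
      rw [show k + 1 = 1 + k by omega]; exact h1
    rw [h1']
    constructor
    · intro h j hj N
      exact (tor_iter H Y k 0 N).2 (fun j hj => h N j (by omega)) j (by omega)
    · intro h N j hj
      exact (tor_iter H Y k 0 N).1 (fun j hj => h j (by omega) N) j (by omega)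

end general

include H in
/-- projective dimension equals Tor-dimension (conditional form of S5936) -/
theorem projectiveDimension_eq_torDimension (M : Type u) [AddCommGroup M] [Module B M]
    [Module A M] [IsScalarTower A B M] [Module.FinitePresentation B M] [Module.Flat A M] :
    projectiveDimension (ModuleCat.of B M) =
      sInf {n : WithBot ℕ∞ | ∀ i : ℕ, n < i → ∀ N : ModuleCat.{u} B,
        IsZero (((Tor (ModuleCat.{u} B) i).obj (ModuleCat.of B M)).obj N)} := by
  let X : FlatFP A B := { carrier := M }
  have key := pdLT_iff_tor H X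
  unfold projectiveDimension
  congr 1
  ext n
  simp only [Set.mem_setOf_eq]
  constructor
  · intro h i hi N
    exact (key i).1 (h i hi) i le_rfl N
  · intro h i hi
    refine (key i).2 (fun j hj N => h j (lt_of_lt_of_le hi ?_) N)
    exact_mod_cast hj

end Groth.Agent.Lib.Helper8.FlatRes
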