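import Groth.Agent.Lib.Helper8.FlatRes
import Groth.Agent.Lib.Helper54.LocalFlat5
import Mathlib.RingTheory.LocalRing.Module
import Mathlib.RingTheory.LocalProperties.Projective
import Mathlib.RingTheory.Localization.BaseChange
import Mathlib.RingTheory.LocalRing.ResidueField.Ideal
import Mathlib.RingTheory.Support

/-!
# Fibrewise criterion of projectivity (helper8)
-/

set_option maxHeartbeats 400000
set_option autoImplicit false
set_option linter.unusedSectionVars false
set_option linter.style.haveILetI false

open TensorProduct Function

namespace Groth.Agent.Lib.Helper8.FlatRes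

universe u

section fibre

variable {A B : Type u} [CommRing A] [CommRing B] [Algebra A B]

/-- the prime of `A` under a prime of `B` -/
noncomputable abbrev under (q : PrimeSpectrum B) : PrimeSpectrum A :=
  ⟨q.asIdeal.comap (algebraMap A B), inferInstance⟩

/-- the fibre ring -/
abbrev Fib (A B : Type u) [CommRing A] [CommRing B] [Algebra A B] (p : PrimeSpectrum A) : Type u :=
  B ⊗[A] p.asIdeal.ResidueField

/-- the canonical map from the fibre ring to the residue field of a point of the fibre -/
noncomputable def fibreHom (q : PrimeSpectrum B) :
    Fib A B (under q) →ₐ[B] q.asIdeal.ResidueField :=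
  Algebra.TensorProduct.lift (Algebra.ofId B _)
    (Ideal.ResidueField.mapₐ (under (A := A) q).asIdeal q.asIdeal (Algebra.ofId A B) rfl)
    (fun _ _ => Commute.all _ _)

/-- the residue field of a point as an algebra over the fibre ring -/
noncomputable abbrev fibreAlgebra (q : PrimeSpectrum B) :
    Algebra (Fib A B (under q)) q.asIdeal.ResidueField :=
  (fibreHom (A := A) q).toRingHom.toAlgebra

theorem fibreTower (q : PrimeSpectrum B) :
    letI := fibreAlgebra (A := A) q
    IsScalarTower B (Fib A B (under q)) q.asIdeal.ResidueField := by
  letI := fibreAlgebra (A := A) q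
  refine IsScalarTower.of_algebraMap_eq (fun b => ?_)
  exact ((fibreHom (A := A) q).commutes b).symm

variable {K F Z : Type u} [AddCommGroup K] [Module B K] [Module A K] [IsScalarTower A B K]
  [AddCommGroup F] [Module B F] [Module A F] [IsScalarTower A B F]
  [AddCommGroup Z] [Module B Z] [Module A Z] [IsScalarTower A B Z]

variable (A) in
include A in
/-- injectivity after tensoring with the residue field of a point, from flatness of the fibre -/
theorem lTensor_residueField_injective [Module.Flat A Z]
    (ι : K →ₗ[B] F) (π : F →ₗ[B] Z) (hι : Injective ι) (hex : Exact ι π) (hπ : Surjective π)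
    (q : PrimeSpectrum B)
    (hfib : Module.Flat (Fib A B (under q)) (Fib A B (under q) ⊗[B] Z)) :
    Injective (ι.lTensor q.asIdeal.ResidueField) := by
  letI := fibreAlgebra (A := A) q
  haveI := fibreTower (A := A) q
  letI : Algebra (under (A := A) q).asIdeal.ResidueField (Fib A B (under q)) :=
    Algebra.TensorProduct.rightAlgebra
  haveI : Algebra.IsPushout A (under (A := A) q).asIdeal.ResidueField B (Fib A B (under q)) :=
    TensorProduct.isPushout'
  have h0 : Injective (ι.baseChange (Fib A B (under q))) :=
    baseChange_injective_of_flat A (under (A := A) q).asIdeal.ResidueField ι π hι hex hπ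
  exact Groth.Agent.Lib.Helper54.LocalFlat.lTensor_injective_of_module_algebra
    (Fib A B (under q)) ι π hex hπ h0 q.asIdeal.ResidueField

variable (A) in
include A in
/-- fibrewise criterion of projectivity -/
theorem projective_of_fibres [Module.Flat A Z] [Module.Finite B K] [Module.Finite B F]
    [Module.Free B F]
    (ι : K →ₗ[B] F) (π : F →ₗ[B] Z) (hι : Injective ι) (hex : Exact ι π) (hπ : Surjective π)
    (hfib : ∀ p : PrimeSpectrum A, Module.Flat (Fib A B p) (Fib A B p ⊗[B] Z)) :
    Module.Projective B Z := by
  haveI hfp : Module.FinitePresentation B Z := by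
    refine Module.finitePresentation_of_free_of_surjective π hπ ?_
    rw [hex.linearMap_ker_eq, LinearMap.range_eq_map]
    exact (Module.Finite.fg_top).map ι
  refine Module.projective_of_localization_maximal' (fun P _ => Localization.AtPrime P)
    (fun P _ => Localization.AtPrime P ⊗[B] Z)
    (fun P _ => TensorProduct.mk B (Localization.AtPrime P) Z 1) (fun P hP => ?_)
  haveI := hP
  let q : PrimeSpectrum B := ⟨P, inferInstance⟩
  have hk : Injective (ι.lTensor q.asIdeal.ResidueField) :=
    lTensor_residueField_injective A ι π hι hex hπ q (hfib _)
  have hk' : Injective ((ι.baseChange (Localization.AtPrime P)).lTensor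
      (IsLocalRing.ResidueField (Localization.AtPrime P))) := by
    intro x y hxy
    have h1 := congrArg (AlgebraTensorModule.cancelBaseChange B (Localization.AtPrime P)
      (Localization.AtPrime P) (IsLocalRing.ResidueField (Localization.AtPrime P)) F) hxy
    rw [← Groth.Agent.Lib.Helper54.LocalFlat.cancel_comm,
      ← Groth.Agent.Lib.Helper54.LocalFlat.cancel_comm] at h1
    exact (AlgebraTensorModule.cancelBaseChange B (Localization.AtPrime P)
      (Localization.AtPrime P) (IsLocalRing.ResidueField (Localization.AtPrime P)) K).injective
      (hk h1)
  haveI : Module.Free (Localization.AtPrime P) (Localization.AtPrime P ⊗[B] Z) :=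
    Module.free_of_lTensor_residueField_injective (ι.baseChange (Localization.AtPrime P))
      (π.baseChange (Localization.AtPrime P)) (LinearMap.lTensor_surjective _ hπ)
      (lTensor_exact _ hex hπ) hk'
  infer_instance

variable (A) in
include A in
/-- a finite module all of whose fibres vanish is zero -/
theorem subsingleton_of_fibres (Y : Type u) [AddCommGroup Y] [Module B Y] [Module.Finite B Y]
    (h : ∀ p : PrimeSpectrum A, Subsingleton (Fib A B p ⊗[B] Y)) : Subsingleton Y := by
  rw [← Module.support_eq_empty_iff (R := B), Set.eq_empty_iff_forall_notMem]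
  intro q hq
  rw [Module.mem_support_iff_nontrivial_residueField_tensorProduct] at hq
  letI := fibreAlgebra (A := A) q
  haveI := fibreTower (A := A) q
  let e := AlgebraTensorModule.cancelBaseChange B (Fib A B (under q)) q.asIdeal.ResidueField
    q.asIdeal.ResidueField Y
  haveI := h (under q)
  haveI : Subsingleton (q.asIdeal.ResidueField ⊗[Fib A B (under q)] (Fib A B (under q) ⊗[B] Y)) :=
    inferInstance
  have : Subsingleton (q.asIdeal.ResidueField ⊗[B] Y) := e.symm.toEquiv.subsingleton
  exact not_subsingleton _ this

end fibre

end Groth.Agent.Lib.Helper8.FlatRes
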