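import Groth.Agent.Lib.Helper8.FlatRes4
import Groth.Agent.Lib.Helper8.FlatRes5

/-!
# Projective dimension as a supremum over the fibres (helper8)
-/

set_option maxHeartbeats 400000
set_option autoImplicit false
set_option linter.unusedSectionVars false
set_option linter.style.haveILetI false

open TensorProduct Function CategoryTheory CategoryTheory.Limits

namespace Groth.Agent.Lib.Helper8.FlatRes

open Groth.Agent.Lib.Helper46 Groth.Agent.Lib.Helper46.TorShift

universe u

variable {A B : Type u} [CommRing A] [CommRing B] [Algebra A B]
  [Algebra.FinitePresentation A B] [Module.Flat A B]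
  (H : Descent9456.{u})

section general

variable (p : PrimeSpectrum A) (Y : FlatFP A B)

/-- the fibre of a module, as an object -/
noncomputable abbrev fibM : ModuleCat.{u} (Fib A B p) :=
  ModuleCat.of (Fib A B p) (Fib A B p ⊗[B] Y.carrier)

theorem fib_incl_injective : Injective ((incl H Y).baseChange (Fib A B p)) := by
  letI : Algebra p.asIdeal.ResidueField (Fib A B p) := Algebra.TensorProduct.rightAlgebra
  haveI : Algebra.IsPushout A p.asIdeal.ResidueField B (Fib A B p) := TensorProduct.isPushout'
  exact baseChange_injective_of_flat A p.asIdeal.ResidueField (incl H Y) (proj H Y)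
    (incl_injective H Y) (exact_incl_proj H Y) (proj_surjective H Y)

theorem fib_exact :
    Exact ((incl H Y).baseChange (Fib A B p)) ((proj H Y).baseChange (Fib A B p)) :=
  lTensor_exact _ (exact_incl_proj H Y) (proj_surjective H Y)

theorem fib_proj_surjective : Surjective ((proj H Y).baseChange (Fib A B p)) :=
  LinearMap.lTensor_surjective _ (proj_surjective H Y)

theorem fib_pd_step (n : ℕ) :
    HasProjectiveDimensionLT (fibM p Y) (n + 2) ↔
      HasProjectiveDimensionLT (fibM p (next H Y)) (n + 1) := by
  have hS := sesSC_shortExact ((incl H Y).baseChange (Fib A B p))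
    ((proj H Y).baseChange (Fib A B p)) (fib_incl_injective H p Y) (fib_exact H p Y)
    (fib_proj_surjective H p Y)
  refine hS.hasProjectiveDimensionLT_X₃_iff n ?_
  change Projective (ModuleCat.of (Fib A B p) (Fib A B p ⊗[B] (Fin (rk H Y) → B)))
  rw [← IsProjective.iff_projective]
  infer_instance

theorem fib_pd_iter (k n : ℕ) :
    HasProjectiveDimensionLT (fibM p Y) (n + 1 + k) ↔
      HasProjectiveDimensionLT (fibM p (syz H Y k)) (n + 1) := by
  induction k generalizing n with
  | zero => exact Iff.rfl
  | succ k ih =>
    have h1 := ih (n + 1)
    have h2 := fib_pd_step H p (syz H Y k) n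
    rw [show n + 1 + (k + 1) = n + 1 + 1 + k by omega]
    exact h1.trans h2

end general

section crit

variable (Y : FlatFP A B)

include H in
theorem projective_iff_fibres :
    Projective (ModuleCat.of B Y.carrier) ↔ ∀ p : PrimeSpectrum A, Projective (fibM p Y) := by
  constructor
  · intro h p
    rw [← IsProjective.iff_projective] at h ⊢
    infer_instance
  · intro h
    rw [← IsProjective.iff_projective]
    refine projective_of_fibres A (incl H Y) (proj H Y) (incl_injective H Y)
      (exact_incl_proj H Y) (proj_surjective H Y) (fun p => ?_)
    have hp := h p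
    rw [← IsProjective.iff_projective] at hp
    infer_instance

theorem isZero_iff_fibres :
    IsZero (ModuleCat.of B Y.carrier) ↔ ∀ p : PrimeSpectrum A, IsZero (fibM p Y) := by
  constructor
  · intro h p
    rw [ModuleCat.isZero_iff_subsingleton] at h ⊢
    infer_instance
  · intro h
    rw [ModuleCat.isZero_iff_subsingleton]
    refine subsingleton_of_fibres (B := B) A Y.carrier (fun p => ?_)
    have hp := h p
    rw [ModuleCat.isZero_iff_subsingleton] at hp
    exact hp

include H in
theorem pdLT_iff_fibres (i : ℕ) :
    HasProjectiveDimensionLT (ModuleCat.of B Y.carrier) i ↔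
      ∀ p : PrimeSpectrum A, HasProjectiveDimensionLT (fibM p Y) i := by
  cases i with
  | zero =>
    rw [hasProjectiveDimensionLT_zero_iff_isZero, isZero_iff_fibres Y]
    exact forall_congr' (fun p => (hasProjectiveDimensionLT_zero_iff_isZero (X := fibM p Y)).symm)
  | succ k =>
    have h1 := pd_iter H Y k 0
    rw [show 0 + 1 + k = k + 1 by omega, zero_add,
      ← projective_iff_hasProjectiveDimensionLT_one, projective_iff_fibres H (syz H Y k)] at h1
    rw [h1]
    refine forall_congr' (fun p => ?_)
    have h2 := fib_pd_iter H p Y k 0
    rw [show 0 + 1 + k = k + 1 by omega, zero_add,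
      ← projective_iff_hasProjectiveDimensionLT_one] at h2
    exact h2.symm

end crit

include H in
/-- projective dimension is the supremum over the fibres (conditional form of S5930) -/
theorem projectiveDimension_eq_iSup_fibre (M : Type u) [AddCommGroup M] [Module B M]
    [Module A M] [IsScalarTower A B M] [Module.FinitePresentation B M] [Module.Flat A M] :
    projectiveDimension (ModuleCat.of B M) =
      ⨆ p : PrimeSpectrum A, projectiveDimension
        (ModuleCat.of (B ⊗[A] p.asIdeal.ResidueField) ((B ⊗[A] p.asIdeal.ResidueField) ⊗[B] M)) := by
  let X : FlatFP A B := { carrier := M }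
  have key := pdLT_iff_fibres H X
  refine eq_of_forall_ge_iff (fun c => ?_)
  rw [iSup_le_iff]
  induction c with
  | bot =>
    simp only [le_bot_iff, projectiveDimension_eq_bot_iff]
    exact isZero_iff_fibres X
  | coe c =>
    induction c with
    | top => simp
    | coe n =>
      norm_cast
      simp only [projectiveDimension_le_iff]
      exact key (n + 1)

end Groth.Agent.Lib.Helper8.FlatRes
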