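import Groth.Agent.Lib.Helper8.FlatRes6
import Groth.Agent.Lib.Helper93.FlatSquare

/-!
# Projective dimension of base changes along the syzygy chain; fibre stalks (helper8)
-/

set_option maxHeartbeats 400000
set_option autoImplicit false
set_option linter.unusedSectionVars false
set_option linter.style.haveILetI false

open TensorProduct Function CategoryTheory CategoryTheory.Limits

namespace Groth.Agent.Lib.Helper8.FlatRes

open Groth.Agent.Lib.Helper46 Groth.Agent.Lib.Helper46.TorShift

universe u

variable {A B : Type u} [CommRing A] [CommRing B] [Algebra A B]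
  [Algebra.FinitePresentation A B] [Module.Flat A B]
  (H : Descent9456.{u})

section general

variable (L : Type u) [CommRing L] [Algebra B L] (Y : FlatFP A B)

/-- the base change of a module, as an object -/
noncomputable abbrev bcM : ModuleCat.{u} L := ModuleCat.of L (L ⊗[B] Y.carrier)

variable (A B) in
/-- the base change is `Tor`-independent of all flat finitely presented modules -/
def TorIndep : Prop := ∀ Y : FlatFP A B, Injective ((incl H Y).baseChange L)

variable {L}

theorem bc_pd_step (hL : TorIndep A B H L) (n : ℕ) :
    HasProjectiveDimensionLT (bcM L Y) (n + 2) ↔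
      HasProjectiveDimensionLT (bcM L (next H Y)) (n + 1) := by
  have hS := sesSC_shortExact ((incl H Y).baseChange L)
    ((proj H Y).baseChange L) (hL Y) (lTensor_exact _ (exact_incl_proj H Y) (proj_surjective H Y))
    (LinearMap.lTensor_surjective _ (proj_surjective H Y))
  refine hS.hasProjectiveDimensionLT_X₃_iff n ?_
  change Projective (ModuleCat.of L (L ⊗[B] (Fin (rk H Y) → B)))
  rw [← IsProjective.iff_projective]
  infer_instance

theorem bc_pd_iter (hL : TorIndep A B H L) (k n : ℕ) :
    HasProjectiveDimensionLT (bcM L Y) (n + 1 + k) ↔
      HasProjectiveDimensionLT (bcM L (syz H Y k)) (n + 1) := by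
  induction k generalizing n with
  | zero => exact Iff.rfl
  | succ k ih =>
    have h1 := ih (n + 1)
    have h2 := bc_pd_step H (syz H Y k) hL n
    rw [show n + 1 + (k + 1) = n + 1 + 1 + k by omega]
    exact h1.trans h2

theorem bc_pdLT_succ_iff (hL : TorIndep A B H L) (k : ℕ) :
    HasProjectiveDimensionLT (bcM L Y) (k + 1) ↔ Projective (bcM L (syz H Y k)) := by
  have h2 := bc_pd_iter H Y hL k 0
  rw [show 0 + 1 + k = k + 1 by omega, zero_add,
    ← projective_iff_hasProjectiveDimensionLT_one] at h2
  exact h2

end general

end Groth.Agent.Lib.Helper8.FlatRes
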