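import Groth.Agent.Lib.Helper8.FlatRes7

/-!
# Upper semicontinuity of the projective dimension of the fibre stalks (helper8)
-/

set_option maxHeartbeats 400000
set_option autoImplicit false
set_option linter.unusedSectionVars false
set_option linter.style.haveILetI false

open TensorProduct Function CategoryTheory CategoryTheory.Limits

namespace Groth.Agent.Lib.Helper8.FlatRes

open Groth.Agent.Lib.Helper46 Groth.Agent.Lib.Helper46.TorShift

universe u

section loc

variable (A : Type u) {B : Type u} [CommRing A] [CommRing B] [Algebra A B] (P : PrimeSpectrum B)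

/-- the local ring of the fibre at a point -/
abbrev Lp : Type u :=
  Localization.AtPrime P.asIdeal ⧸
    (P.asIdeal.under A).map (algebraMap A (Localization.AtPrime P.asIdeal))

attribute [local instance] Algebra.TensorProduct.rightAlgebra in
theorem lp_isPushout : Algebra.IsPushout A (A ⧸ P.asIdeal.under A)
    (Localization.AtPrime P.asIdeal) (Lp A P) := by
  have h : Algebra.IsPushout A (Localization.AtPrime P.asIdeal) (A ⧸ P.asIdeal.under A)
      (Localization.AtPrime P.asIdeal ⊗[A] (A ⧸ P.asIdeal.under A)) := inferInstance
  refine (Algebra.IsPushout.of_equiv (h := h)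
    (Algebra.TensorProduct.quotIdealMapEquivTensorQuot (Localization.AtPrime P.asIdeal)
      (P.asIdeal.under A)).symm ?_).symm
  ext x
  change (Algebra.TensorProduct.quotIdealMapEquivTensorQuot (Localization.AtPrime P.asIdeal)
      (P.asIdeal.under A)).symm ((1 : Localization.AtPrime P.asIdeal) ⊗ₜ[A]
        (Ideal.Quotient.mk (P.asIdeal.under A) x)) = _
  erw [Algebra.TensorProduct.quotIdealMapEquivTensorQuot_symm_tmul]
  rw [Algebra.smul_def, mul_one]
  rfl

variable {A}

/-- `Tor`-independence of the local ring of the fibre from modules flat over the base -/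
theorem lp_baseChange_injective {K F Z : Type u} [AddCommGroup K] [Module B K]
    [AddCommGroup F] [Module B F] [AddCommGroup Z] [Module B Z] [Module A Z] [IsScalarTower A B Z]
    [Module.Flat A Z] (ι : K →ₗ[B] F) (π : F →ₗ[B] Z) (hι : Injective ι) (hex : Exact ι π)
    (hπ : Surjective π) : Injective (ι.baseChange (Lp A P)) := by
  haveI := lp_isPushout A P
  haveI : Module.Flat A (Localization.AtPrime P.asIdeal ⊗[B] Z) :=
    Groth.Agent.Lib.Helper93.FlatSquare.flat_tensor_of_flat A B (Localization.AtPrime P.asIdeal) Z
  have h1 : Injective ((ι.baseChange (Localization.AtPrime P.asIdeal)).baseChange (Lp A P)) :=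
    baseChange_injective_of_flat A (A ⧸ P.asIdeal.under A)
      (ι.baseChange (Localization.AtPrime P.asIdeal))
      (π.baseChange (Localization.AtPrime P.asIdeal))
      (Module.Flat.lTensor_preserves_injective_linearMap ι hι)
      (lTensor_exact _ hex hπ) (LinearMap.lTensor_surjective _ hπ)
  intro x y hxy
  obtain ⟨x', rfl⟩ := (AlgebraTensorModule.cancelBaseChange B (Localization.AtPrime P.asIdeal)
    (Localization.AtPrime P.asIdeal) (Lp A P) K).surjective x
  obtain ⟨y', rfl⟩ := (AlgebraTensorModule.cancelBaseChange B (Localization.AtPrime P.asIdeal)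
    (Localization.AtPrime P.asIdeal) (Lp A P) K).surjective y
  have h2 : ι.lTensor (Lp A P) ((AlgebraTensorModule.cancelBaseChange B
      (Localization.AtPrime P.asIdeal) (Localization.AtPrime P.asIdeal) (Lp A P) K) x') =
      ι.lTensor (Lp A P) ((AlgebraTensorModule.cancelBaseChange B
      (Localization.AtPrime P.asIdeal) (Localization.AtPrime P.asIdeal) (Lp A P) K) y') := hxy
  rw [Groth.Agent.Lib.Helper54.LocalFlat.cancel_comm,
    Groth.Agent.Lib.Helper54.LocalFlat.cancel_comm] at h2
  have h3 := (AlgebraTensorModule.cancelBaseChange B (Localization.AtPrime P.asIdeal)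
    (Localization.AtPrime P.asIdeal) (Lp A P) F).injective h2
  rw [h1 h3]

theorem lp_le : (P.asIdeal.under A).map (algebraMap A (Localization.AtPrime P.asIdeal)) ≤
    IsLocalRing.maximalIdeal (Localization.AtPrime P.asIdeal) := by
  rw [Ideal.map_le_iff_le_comap]
  intro a ha
  rw [Ideal.mem_comap, IsScalarTower.algebraMap_apply A B (Localization.AtPrime P.asIdeal)]
  exact (IsLocalization.AtPrime.to_map_mem_maximal_iff _ P.asIdeal _).2 ha

variable (A) in
/-- the residue map of the local ring of the fibre -/
noncomputable def lpResidue : Lp A P →+* P.asIdeal.ResidueField :=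
  Ideal.Quotient.factor (lp_le (A := A) P)

variable (A) in
/-- the residue field as an algebra over the local ring of the fibre -/
noncomputable abbrev lpAlgebra : Algebra (Lp A P) P.asIdeal.ResidueField :=
  (lpResidue A P).toAlgebra

theorem lpTower :
    letI := lpAlgebra A P
    IsScalarTower B (Lp A P) P.asIdeal.ResidueField := by
  letI := lpAlgebra A P
  refine IsScalarTower.of_algebraMap_eq (R := B) (S := Lp A P) (A := P.asIdeal.ResidueField)
    (fun b => ?_)
  rfl

/-- local fibrewise criterion of freeness -/
theorem free_localization_of_flat_lp {K F Z : Type u} [AddCommGroup K] [Module B K]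
    [AddCommGroup F] [Module B F] [AddCommGroup Z] [Module B Z] [Module A Z] [IsScalarTower A B Z]
    [Module.Flat A Z] [Module.Finite B K] [Module.Finite B F] [Module.Free B F]
    (ι : K →ₗ[B] F) (π : F →ₗ[B] Z) (hι : Injective ι) (hex : Exact ι π)
    (hπ : Surjective π) (hfl : Module.Flat (Lp A P) (Lp A P ⊗[B] Z)) :
    Module.Free (Localization.AtPrime P.asIdeal) (Localization.AtPrime P.asIdeal ⊗[B] Z) := by
  letI := lpAlgebra A P
  haveI := lpTower (A := A) P
  have hk : Injective (ι.lTensor P.asIdeal.ResidueField) :=
    Groth.Agent.Lib.Helper54.LocalFlat.lTensor_injective_of_module_algebra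
      (Lp A P) ι π hex hπ (lp_baseChange_injective P ι π hι hex hπ) P.asIdeal.ResidueField
  have hk' : Injective ((ι.baseChange (Localization.AtPrime P.asIdeal)).lTensor
      (IsLocalRing.ResidueField (Localization.AtPrime P.asIdeal))) := by
    intro x y hxy
    have h1 := congrArg (AlgebraTensorModule.cancelBaseChange B (Localization.AtPrime P.asIdeal)
      (Localization.AtPrime P.asIdeal)
      (IsLocalRing.ResidueField (Localization.AtPrime P.asIdeal)) F) hxy
    rw [← Groth.Agent.Lib.Helper54.LocalFlat.cancel_comm,
      ← Groth.Agent.Lib.Helper54.LocalFlat.cancel_comm] at h1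
    exact (AlgebraTensorModule.cancelBaseChange B (Localization.AtPrime P.asIdeal)
      (Localization.AtPrime P.asIdeal)
      (IsLocalRing.ResidueField (Localization.AtPrime P.asIdeal)) K).injective (hk h1)
  exact Module.free_of_lTensor_residueField_injective
    (ι.baseChange (Localization.AtPrime P.asIdeal))
    (π.baseChange (Localization.AtPrime P.asIdeal)) (LinearMap.lTensor_surjective _ hπ)
    (lTensor_exact _ hex hπ) hk'

end loc

section main

variable {A B : Type u} [CommRing A] [CommRing B] [Algebra A B]
  [Algebra.FinitePresentation A B] [Module.Flat A B]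
  (H : Descent9456.{u}) (P : PrimeSpectrum B)

theorem lp_torIndep : TorIndep A B H (Lp A P) := fun Y =>
  lp_baseChange_injective P (incl H Y) (proj H Y) (incl_injective H Y) (exact_incl_proj H Y)
    (proj_surjective H Y)

include H in
theorem projective_bcM_lp_iff (Y : FlatFP A B) :
    Projective (bcM (Lp A P) Y) ↔ P ∈ Module.freeLocus B Y.carrier := by
  rw [Module.mem_freeLocus_iff_tensor P (Localization.AtPrime P.asIdeal),
    ← IsProjective.iff_projective]
  constructor
  · intro h
    haveI : Module.Projective (Lp A P) (Lp A P ⊗[B] Y.carrier) := h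
    have hfl : Module.Flat (Lp A P) (Lp A P ⊗[B] Y.carrier) :=
      Module.Flat.of_projective
    exact free_localization_of_flat_lp (A := A) P (incl H Y) (proj H Y) (incl_injective H Y)
      (exact_incl_proj H Y) (proj_surjective H Y) hfl
  · intro h
    haveI := h
    have e := AlgebraTensorModule.cancelBaseChange B (Localization.AtPrime P.asIdeal) (Lp A P)
      (Lp A P) Y.carrier
    haveI : Module.Free (Lp A P) (Lp A P ⊗[B] Y.carrier) := Module.Free.of_equiv e
    change Module.Projective (Lp A P) (Lp A P ⊗[B] Y.carrier)
    infer_instance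

theorem subsingleton_lp_iff (M : Type u) [AddCommGroup M] [Module B M] [Module.Finite B M] :
    Subsingleton (Lp A P ⊗[B] M) ↔ P ∉ Module.support B M := by
  constructor
  · intro h hq
    rw [Module.mem_support_iff_nontrivial_residueField_tensorProduct] at hq
    letI := lpAlgebra A P
    haveI := lpTower (A := A) P
    let e := AlgebraTensorModule.cancelBaseChange B (Lp A P) P.asIdeal.ResidueField
      P.asIdeal.ResidueField M
    haveI : Subsingleton (P.asIdeal.ResidueField ⊗[Lp A P] (Lp A P ⊗[B] M)) := inferInstance
    have : Subsingleton (P.asIdeal.ResidueField ⊗[B] M) := e.symm.toEquiv.subsingleton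
    exact not_subsingleton _ this
  · intro h
    rw [Module.notMem_support_iff] at h
    have e1 := (IsLocalizedModule.isBaseChange P.asIdeal.primeCompl
      (Localization.AtPrime P.asIdeal)
      (LocalizedModule.mkLinearMap P.asIdeal.primeCompl M)).equiv
    haveI : Subsingleton (Localization.AtPrime P.asIdeal ⊗[B] M) := e1.toEquiv.subsingleton
    have e := AlgebraTensorModule.cancelBaseChange B (Localization.AtPrime P.asIdeal) (Lp A P)
      (Lp A P) M
    exact e.symm.toEquiv.subsingleton

/-- the open sets cutting out the sublevel sets of the fibre projective dimension -/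
noncomputable def pdOpen (X : FlatFP A B) : ℕ → Set (PrimeSpectrum B)
  | 0 => (Module.support B X.carrier)ᶜ
  | k + 1 => Module.freeLocus B (syz H X k).carrier

theorem isOpen_pdOpen (X : FlatFP A B) (i : ℕ) : IsOpen (pdOpen H X i) := by
  cases i with
  | zero =>
    change IsOpen (Module.support B X.carrier)ᶜ
    rw [isOpen_compl_iff, Module.support_eq_zeroLocus]
    exact PrimeSpectrum.isClosed_zeroLocus _
  | succ k => exact Module.isOpen_freeLocus

theorem pdLT_lp_iff (X : FlatFP A B) (i : ℕ) :
    HasProjectiveDimensionLT (bcM (Lp A P) X) i ↔ P ∈ pdOpen H X i := by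
  cases i with
  | zero =>
    rw [hasProjectiveDimensionLT_zero_iff_isZero, ModuleCat.isZero_iff_subsingleton]
    exact subsingleton_lp_iff P X.carrier
  | succ k =>
    rw [bc_pdLT_succ_iff H X (lp_torIndep H P) k]
    exact projective_bcM_lp_iff H P (syz H X k)

include H in
/-- upper semicontinuity of the projective dimension of the fibre stalks (conditional form of
S19197) -/
theorem upperSemicontinuous_fibre_pd (M : Type u) [AddCommGroup M] [Module B M]
    [Module A M] [IsScalarTower A B M] [Module.FinitePresentation B M] [Module.Flat A M] :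
    UpperSemicontinuous fun P : PrimeSpectrum B =>
      projectiveDimension (ModuleCat.of (Lp A P) (Lp A P ⊗[B] M)) := by
  let X : FlatFP A B := { carrier := M }
  rw [upperSemicontinuous_iff_isOpen_preimage]
  intro y
  induction y with
  | bot =>
    convert isOpen_empty
    ext P
    simp
  | coe c =>
    induction c with
    | top =>
      have : ((fun P : PrimeSpectrum B =>
          projectiveDimension (ModuleCat.of (Lp A P) (Lp A P ⊗[B] M))) ⁻¹'
            Set.Iio ((⊤ : ℕ∞) : WithBot ℕ∞)) = ⋃ i, pdOpen H X i := by
        ext P
        simp only [Set.mem_preimage, Set.mem_Iio, Set.mem_iUnion, WithBot.coe_top, lt_top_iff_ne_top]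
        rw [projectiveDimension_ne_top_iff]
        constructor
        · rintro ⟨n, hn⟩
          exact ⟨n + 1, (pdLT_lp_iff H P X (n + 1)).1 hn⟩
        · rintro ⟨i, hi⟩
          have h1 := (pdLT_lp_iff H P X i).2 hi
          exact ⟨i, hasProjectiveDimensionLT_of_ge _ i (i + 1) (by omega)⟩
      rw [this]
      exact isOpen_iUnion (fun i => isOpen_pdOpen H X i)
    | coe n =>
      have : ((fun P : PrimeSpectrum B =>
          projectiveDimension (ModuleCat.of (Lp A P) (Lp A P ⊗[B] M))) ⁻¹'
            Set.Iio (((n : ℕ∞)) : WithBot ℕ∞)) = pdOpen H X n := by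
        ext P
        simp only [Set.mem_preimage, Set.mem_Iio]
        rw [← pdLT_lp_iff H P X n]
        exact projectiveDimension_lt_iff
      rw [this]
      exact isOpen_pdOpen H X n

end main

end Groth.Agent.Lib.Helper8.FlatRes
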