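import Groth.Agent.Lib.Helper8.FlatRes7

/-!
# Local fibre criterion of freeness over a flat local algebra (helper8)

`R` is a local ring, flat over `B`, and `𝔭` an ideal of `A` whose extension to `R` lies in the
maximal ideal.  A finitely presented `B`-module `Z`, flat over `A`, such that
`(R ⧸ 𝔭 R) ⊗ Z` is flat over `R ⧸ 𝔭 R` has `R ⊗ Z` free over `R`.
-/

set_option maxHeartbeats 400000
set_option autoImplicit false
set_option linter.unusedSectionVars false
set_option linter.style.haveILetI false

open TensorProduct Function CategoryTheory CategoryTheory.Limits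

namespace Groth.Agent.Lib.Helper8.FlatRes

universe u

section loc

variable (A : Type u) {B : Type u} [CommRing A] [CommRing B] [Algebra A B]
  (R : Type u) [CommRing R] [Algebra B R] [Algebra A R] [IsScalarTower A B R] (𝔭 : Ideal A)

/-- the quotient of `R` by the extension of an ideal of the base -/
abbrev LR : Type u := R ⧸ 𝔭.map (algebraMap A R)

attribute [local instance] Algebra.TensorProduct.rightAlgebra in
theorem lr_isPushout : Algebra.IsPushout A (A ⧸ 𝔭) R (LR A R 𝔭) := by
  have h : Algebra.IsPushout A R (A ⧸ 𝔭) (R ⊗[A] (A ⧸ 𝔭)) := inferInstance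
  refine (Algebra.IsPushout.of_equiv (h := h)
    (Algebra.TensorProduct.quotIdealMapEquivTensorQuot R 𝔭).symm ?_).symm
  ext x
  change (Algebra.TensorProduct.quotIdealMapEquivTensorQuot R 𝔭).symm ((1 : R) ⊗ₜ[A]
      (Ideal.Quotient.mk 𝔭 x)) = _
  erw [Algebra.TensorProduct.quotIdealMapEquivTensorQuot_symm_tmul]
  rw [Algebra.smul_def, mul_one]
  rfl

variable {A}

/-- `Tor`-independence of `R ⧸ 𝔭 R` from modules flat over the base -/
theorem lr_baseChange_injective [Module.Flat B R] {K F Z : Type u} [AddCommGroup K] [Module B K]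
    [AddCommGroup F] [Module B F] [AddCommGroup Z] [Module B Z] [Module A Z] [IsScalarTower A B Z]
    [Module.Flat A Z] (ι : K →ₗ[B] F) (π : F →ₗ[B] Z) (hι : Injective ι) (hex : Exact ι π)
    (hπ : Surjective π) : Injective (ι.baseChange (LR A R 𝔭)) := by
  haveI := lr_isPushout A R 𝔭
  haveI : Module.Flat A (R ⊗[B] Z) :=
    Groth.Agent.Lib.Helper93.FlatSquare.flat_tensor_of_flat A B R Z
  have h1 : Injective ((ι.baseChange R).baseChange (LR A R 𝔭)) :=
    baseChange_injective_of_flat A (A ⧸ 𝔭) (ι.baseChange R) (π.baseChange R)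
      (Module.Flat.lTensor_preserves_injective_linearMap ι hι)
      (lTensor_exact _ hex hπ) (LinearMap.lTensor_surjective _ hπ)
  intro x y hxy
  obtain ⟨x', rfl⟩ := (AlgebraTensorModule.cancelBaseChange B R R (LR A R 𝔭) K).surjective x
  obtain ⟨y', rfl⟩ := (AlgebraTensorModule.cancelBaseChange B R R (LR A R 𝔭) K).surjective y
  have h2 : ι.lTensor (LR A R 𝔭) ((AlgebraTensorModule.cancelBaseChange B R R (LR A R 𝔭) K) x') =
      ι.lTensor (LR A R 𝔭) ((AlgebraTensorModule.cancelBaseChange B R R (LR A R 𝔭) K) y') := hxy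
  rw [Groth.Agent.Lib.Helper54.LocalFlat.cancel_comm,
    Groth.Agent.Lib.Helper54.LocalFlat.cancel_comm] at h2
  have h3 := (AlgebraTensorModule.cancelBaseChange B R R (LR A R 𝔭) F).injective h2
  rw [h1 h3]

variable [IsLocalRing R] (h𝔭 : 𝔭.map (algebraMap A R) ≤ IsLocalRing.maximalIdeal R)

variable (A) in
/-- the residue map -/
noncomputable def lrResidue : LR A R 𝔭 →+* IsLocalRing.ResidueField R :=
  Ideal.Quotient.factor h𝔭

variable (A) in
/-- the residue field as an algebra over the quotient -/
noncomputable abbrev lrAlgebra : Algebra (LR A R 𝔭) (IsLocalRing.ResidueField R) :=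
  (lrResidue A R 𝔭 h𝔭).toAlgebra

theorem lrTower :
    letI := lrAlgebra A R 𝔭 h𝔭
    IsScalarTower B (LR A R 𝔭) (IsLocalRing.ResidueField R) := by
  letI := lrAlgebra A R 𝔭 h𝔭
  refine IsScalarTower.of_algebraMap_eq (R := B) (S := LR A R 𝔭)
    (A := IsLocalRing.ResidueField R) (fun b => ?_)
  rfl

include h𝔭 in
/-- local fibrewise criterion of freeness -/
theorem free_of_flat_lr [Module.Flat B R] {K F Z : Type u} [AddCommGroup K] [Module B K]
    [AddCommGroup F] [Module B F] [AddCommGroup Z] [Module B Z] [Module A Z] [IsScalarTower A B Z]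
    [Module.Flat A Z] [Module.Finite B K] [Module.Finite B F] [Module.Free B F]
    (ι : K →ₗ[B] F) (π : F →ₗ[B] Z) (hι : Injective ι) (hex : Exact ι π)
    (hπ : Surjective π) (hfl : Module.Flat (LR A R 𝔭) (LR A R 𝔭 ⊗[B] Z)) :
    Module.Free R (R ⊗[B] Z) := by
  letI := lrAlgebra A R 𝔭 h𝔭
  haveI := lrTower R 𝔭 h𝔭 (B := B)
  have hk : Injective (ι.lTensor (IsLocalRing.ResidueField R)) :=
    Groth.Agent.Lib.Helper54.LocalFlat.lTensor_injective_of_module_algebra
      (LR A R 𝔭) ι π hex hπ (lr_baseChange_injective R 𝔭 ι π hι hex hπ)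
      (IsLocalRing.ResidueField R)
  have hk' : Injective ((ι.baseChange R).lTensor (IsLocalRing.ResidueField R)) := by
    intro x y hxy
    have h1 := congrArg (AlgebraTensorModule.cancelBaseChange B R R
      (IsLocalRing.ResidueField R) F) hxy
    rw [← Groth.Agent.Lib.Helper54.LocalFlat.cancel_comm,
      ← Groth.Agent.Lib.Helper54.LocalFlat.cancel_comm] at h1
    exact (AlgebraTensorModule.cancelBaseChange B R R
      (IsLocalRing.ResidueField R) K).injective (hk h1)
  exact Module.free_of_lTensor_residueField_injective (ι.baseChange R) (π.baseChange R)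
    (LinearMap.lTensor_surjective _ hπ) (lTensor_exact _ hex hπ) hk'

end loc

end Groth.Agent.Lib.Helper8.FlatRes
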