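import Groth.Agent.Lib.Helper8.GenFreeR2

/-!
# Generic freeness over a reduced ring, part 3 (helper8): statements for `Localization.Away`
-/

set_option autoImplicit false
set_option maxHeartbeats 400000

universe u v w

namespace Groth.Agent.Lib.Helper8.GenFree

open TensorProduct

section Conv

variable {R : Type*} [CommRing R] {S : Type*} [CommRing S] [Algebra R S]

theorem free_localizedModule_of_free_tensor (f : R) (M : Type*) [AddCommGroup M] [Module R M]
    (h : Module.Free (Localization.Away f) (Localization.Away f ⊗[R] M)) :
    Module.Free (Localization.Away f) (LocalizedModule (Submonoid.powers f) M) :=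
  Module.Free.of_equiv (LocalizedModule.isBaseChange (Submonoid.powers f) M).equiv

attribute [local instance] Algebra.TensorProduct.rightAlgebra in
theorem awayMap_finitePresentation (f : R)
    (h : Algebra.FinitePresentation (Localization.Away f) (Localization.Away f ⊗[R] S)) :
    (Localization.awayMap (algebraMap R S) f).FinitePresentation := by
  have hloc : IsLocalization (Algebra.algebraMapSubmonoid S (Submonoid.powers f))
      (Localization.Away f ⊗[R] S) := inferInstance
  have hsub : Algebra.algebraMapSubmonoid S (Submonoid.powers f) =
      Submonoid.powers (algebraMap R S f) := by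
    simp [Algebra.algebraMapSubmonoid, Submonoid.map_powers]
  rw [hsub] at hloc
  let e : (Localization.Away f ⊗[R] S) ≃ₐ[S] Localization.Away (algebraMap R S f) :=
    IsLocalization.algEquiv (Submonoid.powers (algebraMap R S f)) _ _
  have hcomp : Localization.awayMap (algebraMap R S) f =
      (e : (Localization.Away f ⊗[R] S) →+* Localization.Away (algebraMap R S f)).comp
        (algebraMap (Localization.Away f) (Localization.Away f ⊗[R] S)) := by
    apply IsLocalization.ringHom_ext (Submonoid.powers f)
    ext r
    have h1 : (algebraMap (Localization.Away f) (Localization.Away f ⊗[R] S))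
        (algebraMap R (Localization.Away f) r) =
        algebraMap S (Localization.Away f ⊗[R] S) (algebraMap R S r) := by
      rw [Algebra.TensorProduct.algebraMap_apply, Algebra.TensorProduct.right_algebraMap_apply]
      simp [Algebra.algebraMap_eq_smul_one, TensorProduct.smul_tmul]
    simp only [RingHom.comp_apply]
    rw [h1]
    simp [Localization.awayMap, IsLocalization.Away.map, IsLocalization.map_eq]
  rw [hcomp]
  exact (RingHom.FinitePresentation.of_bijective e.bijective).comp
    (RingHom.finitePresentation_algebraMap.mpr h)

end Conv

section Main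

variable (R : Type u) [CommRing R] [IsReduced R] (S : Type u) [CommRing S] [Algebra R S]
  [Algebra.FiniteType R S] (M : Type u) [AddCommGroup M] [Module S M] [Module R M]
  [IsScalarTower R S M] [Module.Finite S M]

/-- the conclusion of generic freeness at a denominator `f` -/
def GoodAt (f : R) : Prop :=
  Module.Free (Localization.Away f) (LocalizedModule (Submonoid.powers f) M) ∧
  Module.Free (Localization.Away f) (LocalizedModule (Submonoid.powers f) S) ∧
  (Localization.awayMap (algebraMap R S) f).FinitePresentation ∧
  Module.FinitePresentation (Localization.Away (algebraMap R S f))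
    (LocalizedModule (Submonoid.powers (algebraMap R S f)) M)

/-- **Generic freeness over a reduced ring**: every non-nilpotent `g` has a non-nilpotent multiple
`f` at which all conclusions hold. -/
theorem exists_goodAt (g : R) (hg : ¬ IsNilpotent g) :
    ∃ f : R, g ∣ f ∧ ¬ IsNilpotent f ∧ GoodAt R S M f := by
  obtain ⟨h₁, hd1, hn1, hM⟩ := gpr_of_finite (R := R) (S := S) M g hg
  obtain ⟨h₂, hd2, hn2, hS⟩ := gpr_of_finite (R := R) (S := S) S h₁ hn1
  obtain ⟨h₃, hd3, hn3, hA⟩ := exists_fp_algebra' (R := R) S h₂ hn2
  have hM3 := hM.of_dvd (hd2.trans hd3)
  have hS3 := hS.of_dvd hd3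
  have hu : IsUnit (algebraMap R (Localization.Away h₃) h₃) :=
    IsLocalization.Away.algebraMap_isUnit _
  refine ⟨h₃, hd1.trans (hd2.trans hd3), hn3, ?_, ?_, ?_, ?_⟩
  · exact free_localizedModule_of_free_tensor h₃ M (hM3.1 _ hu)
  · exact free_localizedModule_of_free_tensor h₃ S (hS3.1 _ hu)
  · exact awayMap_finitePresentation h₃ (hA _ hu)
  · exact hM3.2 h₃ dvd_rfl

end Main

end Groth.Agent.Lib.Helper8.GenFree
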