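import Mathlib
import Groth.Prelude.Def_FlatCA

/-!
# The localization at a prime as the directed colimit of the principal localizations (helper8)
-/

set_option autoImplicit false
set_option maxHeartbeats 400000
universe u

namespace Groth.Agent.Lib.Helper8.LocColim

variable {A : Type u} [CommRing A] (p : Ideal A) [p.IsPrime]

/-- the index set: elements outside `p`, ordered by divisibility -/
structure Idx where
  /-- the element -/
  val : A
  /-- it lies outside the prime -/
  prop : val ∉ p

instance : Preorder (Idx p) where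
  le s t := s.val ∣ t.val
  le_refl s := dvd_refl _
  le_trans _ _ _ := dvd_trans

theorem le_def (s t : Idx p) : s ≤ t ↔ s.val ∣ t.val := Iff.rfl

/-- the principal localizations -/
abbrev G (t : Idx p) : Type u := Localization.Away t.val

theorem isUnit_of_le {s t : Idx p} (h : s ≤ t) : IsUnit (algebraMap A (G p t) s.val) :=
  isUnit_of_dvd_unit (map_dvd _ h) (IsLocalization.Away.algebraMap_isUnit t.val)

/-- the transition maps -/
noncomputable def g (s t : Idx p) (h : s ≤ t) : G p s →ₐ[A] G p t :=
  IsLocalization.Away.liftAlgHom (A := A) (S := G p s) s.val (f := Algebra.ofId A (G p t))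
    (isUnit_of_le p h)

theorem g_algebraMap (s t : Idx p) (h : s ≤ t) (a : A) :
    g p s t h (algebraMap A (G p s) a) = algebraMap A (G p t) a :=
  (g p s t h).commutes a

theorem isUnit_atPrime (t : Idx p) :
    IsUnit (algebraMap A (Localization.AtPrime p) t.val) :=
  IsLocalization.map_units (Localization.AtPrime p) (⟨t.val, t.prop⟩ : p.primeCompl)

/-- the structure maps to the local ring -/
noncomputable instance algAt (t : Idx p) : Algebra (G p t) (Localization.AtPrime p) :=
  (IsLocalization.Away.lift (S := G p t) t.val (g := algebraMap A (Localization.AtPrime p))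
    (isUnit_atPrime p t)).toAlgebra

theorem algAt_algebraMap (t : Idx p) (a : A) :
    algebraMap (G p t) (Localization.AtPrime p) (algebraMap A (G p t) a) =
      algebraMap A (Localization.AtPrime p) a :=
  IsLocalization.Away.lift_eq _ _ a

instance tower (t : Idx p) : IsScalarTower A (G p t) (Localization.AtPrime p) :=
  IsScalarTower.of_algebraMap_eq (fun a => (algAt_algebraMap p t a).symm)

theorem isDirectedColimit :
    FlatCA.IsDirectedColimitRing (G p) (fun i j h => (g p i j h).toRingHom)
      (Localization.AtPrime p) := by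
  refine ⟨⟨fun s t => ⟨⟨s.val * t.val, ?_⟩, ?_, ?_⟩⟩, ⟨⟨1, ?_⟩⟩, ?_, ?_, ?_, ?_, ?_⟩
  · exact fun h => (Ideal.IsPrime.mem_or_mem ‹_› h).elim s.prop t.prop
  · exact Dvd.intro _ rfl
  · exact Dvd.intro_left _ rfl
  · exact fun h => (Ideal.IsPrime.ne_top ‹_›) ((Ideal.eq_top_iff_one p).mpr h)
  · intro i
    apply IsLocalization.ringHom_ext (Submonoid.powers i.val)
    ext a
    exact g_algebraMap p i i le_rfl a
  · intro i j k hij hjk
    apply IsLocalization.ringHom_ext (Submonoid.powers i.val)
    ext a
    simp only [RingHom.comp_apply, AlgHom.toRingHom_eq_coe, RingHom.coe_coe]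
    rw [g_algebraMap, g_algebraMap, g_algebraMap]
  · intro i j h
    apply IsLocalization.ringHom_ext (Submonoid.powers i.val)
    ext a
    simp only [RingHom.comp_apply, AlgHom.toRingHom_eq_coe, RingHom.coe_coe]
    rw [g_algebraMap, algAt_algebraMap, algAt_algebraMap]
  · intro a
    obtain ⟨⟨r, s⟩, hrs⟩ := IsLocalization.surj p.primeCompl a
    let t : Idx p := ⟨s.1, s.2⟩
    refine ⟨t, IsLocalization.mk' (G p t) r (⟨s.1, Submonoid.mem_powers _⟩ :
      Submonoid.powers t.val), ?_⟩
    have hu := isUnit_atPrime p t
    apply hu.mul_left_injective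
    simp only
    rw [hrs, ← algAt_algebraMap p t r, ← algAt_algebraMap p t t.val, ← map_mul]
    congr 1
    exact IsLocalization.mk'_spec _ _ _
  · intro i x hx
    obtain ⟨r, ⟨_, n, rfl⟩, rfl⟩ := IsLocalization.exists_mk'_eq (Submonoid.powers i.val) x
    have h1 : algebraMap A (Localization.AtPrime p) r = 0 := by
      have h2 := IsLocalization.mk'_spec (G p i) r
        (⟨i.val ^ n, n, rfl⟩ : Submonoid.powers i.val)
      have h3 := congrArg (algebraMap (G p i) (Localization.AtPrime p)) h2
      rw [map_mul, hx, zero_mul, algAt_algebraMap] at h3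
      exact h3.symm
    obtain ⟨m, hm⟩ := (IsLocalization.map_eq_zero_iff p.primeCompl _ r).mp h1
    let j : Idx p := ⟨i.val * m.1, fun h =>
      (Ideal.IsPrime.mem_or_mem ‹_› h).elim i.prop m.2⟩
    have hij : i ≤ j := Dvd.intro _ rfl
    refine ⟨j, hij, ?_⟩
    have hmu : IsUnit (algebraMap A (G p j) m.1) :=
      isUnit_of_dvd_unit (map_dvd _ (Dvd.intro_left _ rfl))
        (IsLocalization.Away.algebraMap_isUnit j.val)
    have hr0 : algebraMap A (G p j) r = 0 := by
      apply hmu.mul_right_injective
      show algebraMap A (G p j) m.1 * algebraMap A (G p j) r = algebraMap A (G p j) m.1 * 0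
      rw [← map_mul, hm, map_zero, mul_zero]
    have h4 := IsLocalization.mk'_spec (G p i) r
      (⟨i.val ^ n, n, rfl⟩ : Submonoid.powers i.val)
    have h5 := congrArg (g p i j hij) h4
    rw [map_mul, g_algebraMap, g_algebraMap, hr0] at h5
    have hiu : IsUnit (algebraMap A (G p j) (i.val ^ n)) := by
      rw [map_pow]
      exact (isUnit_of_le p hij).pow n
    exact hiu.mul_left_injective (by simpa using h5)

end Groth.Agent.Lib.Helper8.LocColim
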