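import Groth.Agent.Lib.Helper8.GenFreeR1

/-!
# Generic freeness over a reduced ring, part 2 (helper8): modules

`GoodM R S M h`: `M` becomes free over every flat `R`-algebra inverting `h` and finitely presented
over `S` after inverting any multiple of `h`.  `GPR R S M`: every non-nilpotent `g : R` has a
non-nilpotent multiple `h` with `GoodM R S M h`.
-/

set_option autoImplicit false
set_option maxHeartbeats 400000

universe u v w

namespace Groth.Agent.Lib.Helper8.GenFree

open TensorProduct MvPolynomial

section General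

variable {R : Type*} [CommRing R] {N : Type*} {M : Type*} [AddCommGroup N] [Module R N]
  [AddCommGroup M] [Module R M]

/-- surjective map with `f`-power torsion kernel: bijective after flat base change inverting `f`
(no domain hypothesis). -/
theorem baseChange_bijective_of_surjective' (θ : N →ₗ[R] M) (hsurj : Function.Surjective θ) (f : R)
    (hkill : ∀ x : N, θ x = 0 → ∃ k : ℕ, f ^ k • x = 0)
    (R' : Type*) [CommRing R'] [Algebra R R'] [Module.Flat R R']
    (hf : IsUnit (algebraMap R R' f)) : Function.Bijective (θ.baseChange R') := by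
  constructor
  · rw [LinearMap.baseChange_eq_ltensor, injective_iff_map_eq_zero]
    intro y hy
    have hex : Function.Exact ((LinearMap.ker θ).subtype.lTensor R') (θ.lTensor R') :=
      lTensor_exact R' (LinearMap.exact_subtype_ker_map θ) hsurj
    obtain ⟨z, rfl⟩ := (hex y).mp hy
    clear hy
    have hz : z = 0 := by
      induction z using TensorProduct.induction_on with
      | zero => rfl
      | tmul r x =>
        obtain ⟨k, hk⟩ := hkill x.1 x.2
        obtain ⟨u, hu⟩ := hf
        have h1 : r ⊗ₜ[R] x = (r * ((u⁻¹ : R'ˣ) : R') ^ k) ⊗ₜ[R] (f ^ k • x) := by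
          rw [TensorProduct.tmul_smul, TensorProduct.smul_tmul', Algebra.smul_def, map_pow, ← hu]
          congr 1
          rw [mul_comm, mul_assoc, ← mul_pow, Units.inv_mul, one_pow, mul_one]
        have h2 : f ^ k • x = 0 := Subtype.ext (by simpa using hk)
        rw [h1, h2, TensorProduct.tmul_zero]
      | add a b ha hb => rw [ha, hb, add_zero]
    rw [hz, map_zero]
  · rw [LinearMap.baseChange_eq_ltensor]
    exact LinearMap.lTensor_surjective R' hsurj

/-- kernel and cokernel of `f`-power torsion: bijective after flat base change inverting `f`. -/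
theorem baseChange_bijective' (ψ : N →ₗ[R] M) (f : R)
    (hkill : ∀ x : N, ψ x = 0 → ∃ k : ℕ, f ^ k • x = 0)
    (hsurj : ∀ x : M, ∃ k : ℕ, f ^ k • x ∈ LinearMap.range ψ)
    (R' : Type*) [CommRing R'] [Algebra R R'] [Module.Flat R R']
    (hf : IsUnit (algebraMap R R' f)) : Function.Bijective (ψ.baseChange R') := by
  have h1 : Function.Bijective (ψ.rangeRestrict.baseChange R') :=
    baseChange_bijective_of_surjective' ψ.rangeRestrict ψ.surjective_rangeRestrict f
      (fun x hx => hkill x (by
        have := congrArg Subtype.val hx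
        simpa using this)) R' hf
  have h2 : Function.Bijective ((LinearMap.range ψ).subtype.baseChange R') :=
    baseChange_bijective (LinearMap.range ψ).subtype (LinearMap.range ψ).injective_subtype f
      (fun x => by
        obtain ⟨k, hk⟩ := hsurj x
        exact ⟨k, by simpa using hk⟩) R' hf
  have h3 : ψ.baseChange R' =
      ((LinearMap.range ψ).subtype.baseChange R') ∘ₗ (ψ.rangeRestrict.baseChange R') := by
    rw [← LinearMap.baseChange_comp]
    congr 1
  rw [h3]
  exact h2.comp h1

end General

section Good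

variable (R : Type u) [CommRing R] (S : Type w) [CommRing S] [Algebra R S]

/-- `h` is a good denominator for the `S`-module `M`. -/
def GoodM (M : Type v) [AddCommGroup M] [Module S M] [Module R M] (h : R) : Prop :=
  (∀ (R' : Type u) [CommRing R'] [Algebra R R'] [Module.Flat R R'],
    IsUnit (algebraMap R R' h) → Module.Free R' (R' ⊗[R] M)) ∧
  (∀ g' : R, h ∣ g' →
    Module.FinitePresentation (Localization (Submonoid.powers (algebraMap R S g')))
      (LocalizedModule (Submonoid.powers (algebraMap R S g')) M))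

/-- generic freeness and finite presentation, in the form suitable for reduced base rings -/
def GPR (M : Type v) [AddCommGroup M] [Module S M] [Module R M] : Prop :=
  ∀ g : R, ¬ IsNilpotent g → ∃ h : R, g ∣ h ∧ ¬ IsNilpotent h ∧ GoodM R S M h

variable {R S}

theorem GoodM.of_dvd {M : Type v} [AddCommGroup M] [Module S M] [Module R M] {h h' : R}
    (hM : GoodM R S M h) (hd : h ∣ h') : GoodM R S M h' := by
  refine ⟨fun R' _ _ _ hu => hM.1 R' ?_, fun g' hg' => hM.2 g' (hd.trans hg')⟩
  exact isUnit_of_dvd_unit (map_dvd (algebraMap R R') hd) hu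

theorem GoodM.of_equiv {M : Type*} {M' : Type*} [AddCommGroup M] [Module S M] [Module R M]
    [IsScalarTower R S M] [AddCommGroup M'] [Module S M'] [Module R M'] [IsScalarTower R S M']
    (e : M ≃ₗ[S] M') {h : R} (hM : GoodM R S M h) : GoodM R S M' h := by
  refine ⟨fun R' _ _ _ hu => ?_, fun g hg => ?_⟩
  · have := hM.1 R' hu
    exact Module.Free.of_equiv (LinearEquiv.baseChange R R' M M' (e.restrictScalars R))
  · have := hM.2 g hg
    exact Module.FinitePresentation.of_equiv
      (IsLocalizedModule.mapEquiv (Submonoid.powers (algebraMap R S g))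
        (LocalizedModule.mkLinearMap (Submonoid.powers (algebraMap R S g)) M)
        (LocalizedModule.mkLinearMap (Submonoid.powers (algebraMap R S g)) M')
        (Localization (Submonoid.powers (algebraMap R S g))) e)

theorem GPR.of_equiv {M : Type*} {M' : Type*} [AddCommGroup M] [Module S M] [Module R M]
    [IsScalarTower R S M] [AddCommGroup M'] [Module S M'] [Module R M'] [IsScalarTower R S M']
    (e : M ≃ₗ[S] M') (hM : GPR R S M) : GPR R S M' := by
  intro g hg
  obtain ⟨h, h1, h2, h3⟩ := hM g hg
  exact ⟨h, h1, h2, h3.of_equiv e⟩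

theorem GoodM.of_subsingleton (M : Type*) [AddCommGroup M] [Module S M] [Module R M]
    [Subsingleton M] (h : R) : GoodM R S M h := by
  refine ⟨fun R' _ _ _ _ => Module.Free.of_subsingleton _ _, fun g _ => ?_⟩
  have : Subsingleton (LocalizedModule (Submonoid.powers (algebraMap R S g)) M) := by
    refine ⟨fun a b => ?_⟩
    induction a using LocalizedModule.induction_on with
    | h x s =>
      induction b using LocalizedModule.induction_on with
      | h y t =>
        rw [Subsingleton.elim x 0, Subsingleton.elim y 0, LocalizedModule.zero_mk,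
          LocalizedModule.zero_mk]
  infer_instance

theorem GPR.of_subsingleton (M : Type*) [AddCommGroup M] [Module S M] [Module R M]
    [Subsingleton M] : GPR R S M :=
  fun g hg => ⟨g, dvd_rfl, hg, GoodM.of_subsingleton M g⟩

theorem GoodM.of_exact {M' : Type*} {M : Type*} {M'' : Type*}
    [AddCommGroup M'] [Module S M'] [Module R M'] [IsScalarTower R S M']
    [AddCommGroup M] [Module S M] [Module R M] [IsScalarTower R S M]
    [AddCommGroup M''] [Module S M''] [Module R M''] [IsScalarTower R S M'']
    (i : M' →ₗ[S] M) (p : M →ₗ[S] M'') (hi : Function.Injective i)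
    (hp : Function.Surjective p) (hex : Function.Exact i p) {h : R}
    (h' : GoodM R S M' h) (h'' : GoodM R S M'' h) : GoodM R S M h := by
  refine ⟨fun R' _ _ _ hu => ?_, fun g hg => ?_⟩
  · have h1 := h'.1 R' hu
    have h2 := h''.1 R' hu
    let iR : M' →ₗ[R] M := i.restrictScalars R
    let pR : M →ₗ[R] M'' := p.restrictScalars R
    have hinj : Function.Injective (iR.baseChange R') := by
      rw [LinearMap.baseChange_eq_ltensor]
      exact Module.Flat.lTensor_preserves_injective_linearMap iR hi
    have hsurj : Function.Surjective (pR.baseChange R') := by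
      rw [LinearMap.baseChange_eq_ltensor]
      exact LinearMap.lTensor_surjective R' hp
    have hexact : Function.Exact (iR.baseChange R') (pR.baseChange R') := by
      rw [LinearMap.baseChange_eq_ltensor, LinearMap.baseChange_eq_ltensor]
      exact lTensor_exact R' (f := iR) (g := pR) hex hp
    obtain ⟨l, hl⟩ := Module.projective_lifting_property (pR.baseChange R') LinearMap.id hsurj
    obtain ⟨e, -⟩ := hexact.splitSurjectiveEquiv hinj ⟨l, hl⟩
    exact Module.Free.of_equiv e.symm
  · have h1 := h'.2 g hg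
    have h2 := h''.2 g hg
    let S₀ := Submonoid.powers (algebraMap R S g)
    have hinj := LocalizedModule.map_injective S₀ i hi
    have hsurj := LocalizedModule.map_surjective S₀ p hp
    have hexact : Function.Exact (LocalizedModule.map S₀ i) (LocalizedModule.map S₀ p) :=
      LocalizedModule.map_exact S₀ i p hex
    have hker : LinearMap.range (LocalizedModule.map S₀ i) =
        LinearMap.ker (LocalizedModule.map S₀ p) := (LinearMap.exact_iff.mp hexact).symm
    have : Module.FinitePresentation (Localization S₀)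
        (LinearMap.ker (LocalizedModule.map S₀ p)) :=
      Module.FinitePresentation.of_equiv
        ((LinearEquiv.ofInjective (LocalizedModule.map S₀ i) hinj).trans
          (LinearEquiv.ofEq _ _ hker))
    exact Module.finitePresentation_of_ker (LocalizedModule.map S₀ p) hsurj

theorem GPR.of_exact {M' : Type*} {M : Type*} {M'' : Type*}
    [AddCommGroup M'] [Module S M'] [Module R M'] [IsScalarTower R S M']
    [AddCommGroup M] [Module S M] [Module R M] [IsScalarTower R S M]
    [AddCommGroup M''] [Module S M''] [Module R M''] [IsScalarTower R S M'']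
    (i : M' →ₗ[S] M) (p : M →ₗ[S] M'') (hi : Function.Injective i)
    (hp : Function.Surjective p) (hex : Function.Exact i p)
    (h' : GPR R S M') (h'' : GPR R S M'') : GPR R S M := by
  intro g hg
  obtain ⟨h₁, hg1, hn1, hM'⟩ := h' g hg
  obtain ⟨h₂, h12, hn2, hM''⟩ := h'' h₁ hn1
  exact ⟨h₂, hg1.trans h12, hn2, GoodM.of_exact i p hi hp hex (hM'.of_dvd h12) hM''⟩

end Good

section Quotient

variable {R : Type u} [CommRing R] [IsReduced R] {S : Type w} [CommRing S] [Algebra R S]

/-- consequence of `exists_standard'`: elements of `I` are moved into the span of `B` -/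
theorem exists_standard'' (n : ℕ) (I : Ideal (MvPolynomial (Fin n) R)) (g : R)
    (hg : ¬ IsNilpotent g) :
    ∃ (f : R) (Std : Set (Fin n →₀ ℕ)) (B : Finset (MvPolynomial (Fin n) R)), g ∣ f ∧
      ¬ IsNilpotent f ∧ (B : Set (MvPolynomial (Fin n) R)) ⊆ I ∧
      (∀ p : MvPolynomial (Fin n) R, ∃ (k : ℕ) (q r : MvPolynomial (Fin n) R),
        C (f ^ k) * p = q + r ∧ q ∈ Ideal.span (B : Set (MvPolynomial (Fin n) R)) ∧
          r ∈ restrictSupport R Std) ∧
      (∀ r ∈ restrictSupport R Std, r ∈ I → ∃ k : ℕ, C (f ^ k) * r = 0) ∧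
      (∀ p ∈ I, ∃ k : ℕ, C (f ^ k) * p ∈ Ideal.span (B : Set (MvPolynomial (Fin n) R))) := by
  obtain ⟨f, Std, B, h1, h2, hBI, hA, hB⟩ := exists_standard' n I g hg
  refine ⟨f, Std, B, h1, h2, hBI, hA, hB, ?_⟩
  have hspanI : Ideal.span (B : Set (MvPolynomial (Fin n) R)) ≤ I := Ideal.span_le.mpr hBI
  intro p hp
  obtain ⟨k, q, r, e1, e2, e3⟩ := hA p
  have hr : r ∈ I := by
    have : r = C (f ^ k) * p - q := by rw [e1]; ring
    rw [this]
    exact I.sub_mem (I.mul_mem_left _ hp) (hspanI e2)
  obtain ⟨k', hk'⟩ := hB r e3 hr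
  refine ⟨k' + k, ?_⟩
  rw [pow_add, C_mul, mul_assoc, e1, mul_add, hk', add_zero]
  exact Ideal.mul_mem_left _ _ e2

theorem gpr_quotient {n : ℕ} (φ : MvPolynomial (Fin n) R →ₐ[R] S)
    (hφ : Function.Surjective φ) (J : Ideal S) : GPR R S (S ⧸ J) := by
  intro g hg
  obtain ⟨f, Std, B, hgf, hfn, hBI, hA, hB, hkill⟩ :=
    exists_standard'' n (J.comap φ.toRingHom) g hg
  have hspanI : Ideal.span (B : Set (MvPolynomial (Fin n) R)) ≤ J.comap φ.toRingHom :=
    Ideal.span_le.mpr hBI
  refine ⟨f, hgf, hfn, fun R' _ _ _ hu => ?_, fun g' hfg => ?_⟩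
  · let π : MvPolynomial (Fin n) R →ₗ[R] (S ⧸ J) :=
      (Ideal.Quotient.mkₐ R J).toLinearMap ∘ₗ φ.toLinearMap
    let ψ : restrictSupport R Std →ₗ[R] (S ⧸ J) := π ∘ₗ (restrictSupport R Std).subtype
    have hπ : ∀ p, π p = 0 ↔ p ∈ J.comap φ.toRingHom := by
      intro p
      show Ideal.Quotient.mk J (φ p) = 0 ↔ _
      rw [Ideal.Quotient.eq_zero_iff_mem]
      rfl
    have hkill' : ∀ r : restrictSupport R Std, ψ r = 0 → ∃ k : ℕ, f ^ k • r = 0 := by
      intro r hr
      have : (r : MvPolynomial (Fin n) R) ∈ J.comap φ.toRingHom := (hπ _).mp hr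
      obtain ⟨k, hk⟩ := hB r.1 r.2 this
      refine ⟨k, Subtype.ext ?_⟩
      show f ^ k • (r : MvPolynomial (Fin n) R) = 0
      rw [smul_eq_C_mul]
      exact hk
    have hsurj : ∀ x : S ⧸ J, ∃ k : ℕ, f ^ k • x ∈ LinearMap.range ψ := by
      intro x
      obtain ⟨s, rfl⟩ := Ideal.Quotient.mk_surjective x
      obtain ⟨p, rfl⟩ := hφ s
      obtain ⟨k, q, r, h1, h2, h3⟩ := hA p
      refine ⟨k, ⟨⟨r, h3⟩, ?_⟩⟩
      show π r = f ^ k • π p
      have hq : π q = 0 := (hπ q).mpr (hspanI h2)
      have : π (C (f ^ k) * p) = f ^ k • π p := by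
        rw [← smul_eq_C_mul, map_smul]
      rw [← this, h1, map_add, hq, zero_add]
    have hbij := baseChange_bijective' ψ f hkill' hsurj R' hu
    have : Module.Free R (restrictSupport R Std) :=
      Module.Free.of_basis (basisRestrictSupport R Std)
    exact Module.Free.of_equiv (LinearEquiv.ofBijective (ψ.baseChange R') hbij)
  · let N₀ : Ideal S := Ideal.span (φ '' (B : Set (MvPolynomial (Fin n) R)))
    have h0 : N₀ ≤ J := by
      refine Ideal.span_le.mpr ?_
      rintro _ ⟨b, hb, rfl⟩
      exact hBI hb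
    have hfgN : N₀.FG := by
      classical
      exact ⟨B.image φ, by rw [Finset.coe_image]⟩
    refine fp_localizedModule_quotient N₀ J h0 hfgN _ ?_
    intro x hx
    obtain ⟨p, rfl⟩ := hφ x
    have hp : p ∈ J.comap φ.toRingHom := hx
    obtain ⟨k, hk⟩ := hkill p hp
    obtain ⟨h, rfl⟩ := hfg
    refine ⟨(algebraMap R S (f * h)) ^ k, ⟨k, rfl⟩, ?_⟩
    have h1 : (algebraMap R S (f * h)) ^ k • φ p = algebraMap R S h ^ k * φ (C (f ^ k) * p) := by
      rw [map_mul φ, ← MvPolynomial.algebraMap_eq, φ.commutes, smul_eq_mul, map_mul, map_pow,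
        mul_pow]
      ring
    rw [h1]
    refine N₀.mul_mem_left _ ?_
    have h2 : φ (C (f ^ k) * p) ∈ Ideal.map φ.toRingHom
        (Ideal.span (B : Set (MvPolynomial (Fin n) R))) := Ideal.mem_map_of_mem _ hk
    rw [Ideal.map_span] at h2
    exact h2

theorem gpr_of_cyclic {n : ℕ} (φ : MvPolynomial (Fin n) R →ₐ[R] S)
    (hφ : Function.Surjective φ) (M : Type v) [AddCommGroup M] [Module S M] [Module R M]
    [IsScalarTower R S M] (x : M) (hx : Submodule.span S {x} = ⊤) : GPR R S M := by
  let ψ : S →ₗ[S] M := LinearMap.toSpanSingleton S M x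
  have hψ : Function.Surjective ψ := by
    rw [← LinearMap.range_eq_top, LinearMap.range_toSpanSingleton, hx]
  let J : Ideal S := LinearMap.ker ψ
  exact GPR.of_equiv (ψ.quotKerEquivOfSurjective hψ) (gpr_quotient φ hφ J)

theorem gpr_of_span_finset {n : ℕ} (φ : MvPolynomial (Fin n) R →ₐ[R] S)
    (hφ : Function.Surjective φ) : ∀ (k : ℕ) (M : Type v) [AddCommGroup M] [Module S M]
    [Module R M] [IsScalarTower R S M]
    (s : Finset M), s.card ≤ k → Submodule.span S (s : Set M) = ⊤ → GPR R S M := by
  classical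
  intro k
  induction k with
  | zero =>
    intro M _ _ _ _ s hs hspan
    have : s = ∅ := Finset.card_eq_zero.mp (Nat.le_zero.mp hs)
    rw [this, Finset.coe_empty, Submodule.span_empty] at hspan
    have : Subsingleton M := by
      have := (Submodule.subsingleton_iff S).mp (subsingleton_of_bot_eq_top hspan)
      exact this
    exact GPR.of_subsingleton M
  | succ k ih =>
    intro M _ _ _ _ s hs hspan
    by_cases hne : s = ∅
    · exact ih M s (by rw [hne]; simp) hspan
    obtain ⟨x, hxs⟩ := Finset.nonempty_iff_ne_empty.mpr hne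
    let N : Submodule S M := Submodule.span S {x}
    have hN : GPR R S N := by
      refine gpr_of_cyclic φ hφ N ⟨x, Submodule.mem_span_singleton_self x⟩ ?_
      rw [eq_top_iff]
      rintro ⟨y, hy⟩ -
      obtain ⟨a, rfl⟩ := Submodule.mem_span_singleton.mp hy
      exact Submodule.mem_span_singleton.mpr ⟨a, rfl⟩
    have hQ : GPR R S (M ⧸ N) := by
      refine ih (M ⧸ N) ((s.erase x).image N.mkQ) ?_ ?_
      · refine Finset.card_image_le.trans ?_
        rw [Finset.card_erase_of_mem hxs]
        omega
      · rw [Finset.coe_image, ← Submodule.map_span, eq_top_iff]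
        rintro y -
        obtain ⟨z, rfl⟩ := N.mkQ_surjective y
        have hz : z ∈ Submodule.span S (s : Set M) := by rw [hspan]; trivial
        have hs' : (s : Set M) = insert x ((s.erase x : Finset M) : Set M) := by
          rw [← Finset.coe_insert, Finset.insert_erase hxs]
        rw [hs', Submodule.mem_span_insert] at hz
        obtain ⟨a, w, hw, rfl⟩ := hz
        rw [map_add]
        have h0 : N.mkQ (a • x) = 0 := by
          rw [Submodule.mkQ_apply, Submodule.Quotient.mk_eq_zero]
          exact Submodule.smul_mem _ _ (Submodule.mem_span_singleton_self x)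
        rw [h0, zero_add]
        exact Submodule.mem_map_of_mem hw
    exact GPR.of_exact N.subtype N.mkQ N.injective_subtype N.mkQ_surjective
      (LinearMap.exact_subtype_mkQ N) hN hQ

/-- **Generic freeness and finite presentation over a reduced ring** for modules. -/
theorem gpr_of_finite [Algebra.FiniteType R S] (M : Type v) [AddCommGroup M]
    [Module S M] [Module R M] [IsScalarTower R S M] [Module.Finite S M] : GPR R S M := by
  obtain ⟨n, φ, hφ⟩ := Algebra.FiniteType.iff_quotient_mvPolynomial''.mp
    (inferInstance : Algebra.FiniteType R S)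
  obtain ⟨s, hs⟩ := (Module.finite_def.mp ‹_› : (⊤ : Submodule S M).FG)
  exact gpr_of_span_finset φ hφ s.card M s le_rfl hs

end Quotient

section AlgFP

variable {R : Type u} [CommRing R] [IsReduced R]

/-- A finite type algebra over a reduced ring is generically finitely presented. -/
theorem exists_fp_algebra' (S : Type u) [CommRing S] [Algebra R S] [Algebra.FiniteType R S]
    (g : R) (hg : ¬ IsNilpotent g) :
    ∃ f : R, g ∣ f ∧ ¬ IsNilpotent f ∧
      ∀ (R' : Type u) [CommRing R'] [Algebra R R'] [Module.Flat R R'],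
      IsUnit (algebraMap R R' f) → Algebra.FinitePresentation R' (R' ⊗[R] S) := by
  obtain ⟨n, φ, hφ⟩ := Algebra.FiniteType.iff_quotient_mvPolynomial''.mp
    (inferInstance : Algebra.FiniteType R S)
  obtain ⟨f, Std, B, hgf, hfn, hBI, -, -, hkill⟩ :=
    exists_standard'' n (RingHom.ker φ.toRingHom) g hg
  refine ⟨f, hgf, hfn, fun R' _ _ _ hu => ?_⟩
  let I₀ : Ideal (MvPolynomial (Fin n) R) := Ideal.span (B : Set (MvPolynomial (Fin n) R))
  have hI₀ : ∀ a ∈ I₀, φ a = 0 := by
    intro a ha
    have : a ∈ RingHom.ker φ.toRingHom := (Ideal.span_le.mpr hBI) ha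
    exact this
  have hfp : Algebra.FinitePresentation R (MvPolynomial (Fin n) R ⧸ I₀) :=
    Algebra.FinitePresentation.quotient ⟨B, rfl⟩
  let θ : (MvPolynomial (Fin n) R ⧸ I₀) →ₐ[R] S := Ideal.Quotient.liftₐ I₀ φ hI₀
  have hθsurj : Function.Surjective θ := by
    intro y
    obtain ⟨p, rfl⟩ := hφ y
    exact ⟨Ideal.Quotient.mk I₀ p, rfl⟩
  have hθkill : ∀ x, θ.toLinearMap x = 0 → ∃ k : ℕ, f ^ k • x = 0 := by
    intro x hx
    obtain ⟨p, rfl⟩ := Ideal.Quotient.mk_surjective x
    have hp : p ∈ RingHom.ker φ.toRingHom := hx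
    obtain ⟨k, hk⟩ := hkill p hp
    refine ⟨k, ?_⟩
    have : f ^ k • Ideal.Quotient.mk I₀ p = Ideal.Quotient.mk I₀ (C (f ^ k) * p) := by
      rw [← smul_eq_C_mul]
      rfl
    rw [this]
    exact Ideal.Quotient.eq_zero_iff_mem.mpr hk
  have hbij := baseChange_bijective_of_surjective' θ.toLinearMap hθsurj f hθkill R' hu
  let Θ : (R' ⊗[R] (MvPolynomial (Fin n) R ⧸ I₀)) →ₐ[R'] (R' ⊗[R] S) :=
    Algebra.TensorProduct.map (AlgHom.id R' R') θ
  have hΘ : Function.Bijective Θ := by
    have : (Θ : (R' ⊗[R] (MvPolynomial (Fin n) R ⧸ I₀)) → (R' ⊗[R] S)) =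
        θ.toLinearMap.baseChange R' := by
      ext z
      induction z using TensorProduct.induction_on with
      | zero => simp
      | tmul r x => simp [Θ]
      | add a b ha hb => rw [map_add, map_add, ha, hb]
    rw [this]
    exact hbij
  have eΘ : (R' ⊗[R] (MvPolynomial (Fin n) R ⧸ I₀)) ≃ₐ[R'] (R' ⊗[R] S) :=
    AlgEquiv.ofBijective Θ hΘ
  exact Algebra.FinitePresentation.equiv (A := R' ⊗[R] (MvPolynomial (Fin n) R ⧸ I₀)) eΘ

end AlgFP

end Groth.Agent.Lib.Helper8.GenFree
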