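import Groth.Agent.Lib.Helper8.NilLocal

/-!
# Lifting freeness through a nilpotent ideal (helper8)

If `J` is a nilpotent ideal of `C`, `J ⊗ W → W` is injective (for instance `W` flat) and
`W / J W` is free over `C / J`, then `W` is free over `C` (no finiteness assumption).
-/

set_option autoImplicit false
set_option maxHeartbeats 400000
universe u
open TensorProduct

namespace Groth.Agent.Lib.Helper8.NilLocal

variable {C : Type u} [CommRing C]

theorem free_of_free_quotient_of_isNilpotent (J : Ideal C) (hJ : IsNilpotent J)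
    (W : Type u) [AddCommGroup W] [Module C W]
    (H : Function.Injective (J.subtype.rTensor W))
    [hfree : Module.Free (C ⧸ J) ((C ⧸ J) ⊗[C] W)] : Module.Free C W := by
  classical
  let k := C ⧸ J
  let κ := Module.Free.ChooseBasisIndex k (k ⊗[C] W)
  let bk : Module.Basis κ k (k ⊗[C] W) := Module.Free.chooseBasis k (k ⊗[C] W)
  have hsurj1 : Function.Surjective (TensorProduct.mk C k W 1) :=
    TensorProduct.mk_surjective C W k Ideal.Quotient.mk_surjective
  choose a ha using fun j : κ => hsurj1 (bk j)
  let i : (κ →₀ C) →ₗ[C] W := Finsupp.linearCombination C a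
  let b0 : Module.Basis κ k (k ⊗[C] (κ →₀ C)) :=
    Algebra.TensorProduct.basis k (Finsupp.basisSingleOne (R := C) (ι := κ))
  have hbc : i.baseChange k = (b0.equiv bk (Equiv.refl κ)).toLinearMap := by
    apply b0.ext
    intro j
    rw [LinearEquiv.coe_coe, Module.Basis.equiv_apply, Equiv.refl_apply]
    simp only [b0, Algebra.TensorProduct.basis_apply, Finsupp.coe_basisSingleOne,
      LinearMap.baseChange_tmul, i, Finsupp.linearCombination_single, one_smul]
    exact ha j
  have hbij : Function.Bijective (i.baseChange k) := by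
    rw [hbc]; exact (b0.equiv bk (Equiv.refl κ)).bijective
  -- `i` is surjective
  have hi : Function.Surjective i := by
    rw [← LinearMap.range_eq_top, ← Submodule.Quotient.subsingleton_iff]
    apply subsingleton_of_subsingleton_quotient_tensor hJ
    have hex := lTensor_exact k (LinearMap.exact_map_mkQ_range i) (Submodule.mkQ_surjective _)
    refine ⟨fun x y => ?_⟩
    have h0 : ∀ z : k ⊗[C] (W ⧸ LinearMap.range i), z = 0 := by
      intro z
      obtain ⟨w, rfl⟩ := LinearMap.lTensor_surjective k (Submodule.mkQ_surjective _) z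
      obtain ⟨v, rfl⟩ := hbij.2 w
      exact (hex _).mpr ⟨v, rfl⟩
    exact (h0 x).trans (h0 y).symm
  -- `i` is injective
  have h1 : LinearMap.ker i ≤ (J • ⊤ : Submodule C (κ →₀ C)) := by
    intro x hx
    have h2 : (i.baseChange k) ((1 : k) ⊗ₜ[C] x) = 0 := by
      rw [LinearMap.baseChange_tmul, LinearMap.mem_ker.mp hx, TensorProduct.tmul_zero]
    have h3 : (1 : k) ⊗ₜ[C] x = 0 := hbij.1 (h2.trans (map_zero _).symm)
    rw [← LinearMap.ker_tensorProductMk, LinearMap.mem_ker]
    exact h3
  have h2 := ker_le_smul_ker i hi H h1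
  have hinj : Function.Injective i := by
    rw [← LinearMap.ker_eq_bot]
    exact eq_bot_of_le_smul hJ _ h2
  exact Module.Free.of_equiv (LinearEquiv.ofBijective i ⟨hinj, hi⟩)

end Groth.Agent.Lib.Helper8.NilLocal
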