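import Mathlib
import Groth.Agent.Lib.Helper8.NilFree
import Groth.Agent.Lib.Helper8.GenFreeR2
import Groth.Agent.Lib.Helper8.FlatRes

/-!
# Stratification of the base by principal locally closed pieces over which a flat finitely
presented module is free (helper8)
-/

set_option autoImplicit false
set_option maxHeartbeats 400000
set_option linter.unusedSectionVars false
set_option linter.style.haveILetI false

universe u
open TensorProduct

namespace Groth.Agent.Lib.Helper8.StratFree

open Groth.Agent.Lib.Helper8.GenFree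

/-- universal form of freeness after inverting `h` -/
theorem free_of_isUnit {R : Type u} [CommRing R] (h : R) (M' : Type u) [AddCommGroup M']
    [Module R M']
    (hfree : Module.Free (Localization.Away h) (Localization.Away h ⊗[R] M'))
    (k : Type u) [CommRing k] [Algebra R k] (hu : IsUnit (algebraMap R k h)) :
    Module.Free k (k ⊗[R] M') := by
  letI : Algebra (Localization.Away h) k := (IsLocalization.Away.lift h hu).toAlgebra
  haveI : IsScalarTower R (Localization.Away h) k :=
    IsScalarTower.of_algebraMap_eq (fun r => (IsLocalization.Away.lift_eq h hu r).symm)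
  exact Module.Free.of_equiv
    (AlgebraTensorModule.cancelBaseChange R (Localization.Away h) k k M')

attribute [local instance] Algebra.TensorProduct.rightAlgebra in
/-- generic freeness modulo a radical ideal, in universal form -/
theorem exists_free_mod {A B : Type u} [CommRing A] [CommRing B] [Algebra A B]
    [Algebra.FiniteType A B]
    (M : Type u) [AddCommGroup M] [Module B M] [Module A M] [IsScalarTower A B M]
    [Module.Finite B M] (𝔞 : Ideal A) (h𝔞 : 𝔞.IsRadical) (hne : 𝔞 ≠ ⊤) :
    ∃ f : A, f ∉ 𝔞 ∧ ∀ (k : Type u) [CommRing k] [Algebra A k], IsUnit (algebraMap A k f) →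
      (∀ a ∈ 𝔞, algebraMap A k a = 0) → Module.Free k (k ⊗[A] M) := by
  let R := A ⧸ 𝔞
  haveI : IsReduced R := (Ideal.isRadical_iff_quotient_reduced 𝔞).mp h𝔞
  haveI : Nontrivial R := Ideal.Quotient.nontrivial_iff.mpr hne
  let S := R ⊗[A] B
  let M' := S ⊗[B] M
  obtain ⟨h, -, hn, hM⟩ := gpr_of_finite (R := R) (S := S) M' 1 (by
    intro h1
    exact one_ne_zero (h1.eq_zero))
  obtain ⟨f, rfl⟩ := Ideal.Quotient.mk_surjective h
  refine ⟨f, fun hf => hn ?_, ?_⟩
  · rw [Ideal.Quotient.eq_zero_iff_mem.mpr hf]; exact IsNilpotent.zero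
  intro k _ _ hu hkill
  have hfree := hM.1 (Localization.Away (Ideal.Quotient.mk 𝔞 f))
    (IsLocalization.Away.algebraMap_isUnit _)
  letI : Algebra R k := (Ideal.Quotient.lift 𝔞 (algebraMap A k) hkill).toAlgebra
  haveI : IsScalarTower A R k := IsScalarTower.of_algebraMap_eq (fun a => rfl)
  have hu' : IsUnit (algebraMap R k (Ideal.Quotient.mk 𝔞 f)) := hu
  have h1 := free_of_isUnit (Ideal.Quotient.mk 𝔞 f) M' hfree k hu'
  let e1 : M' ≃ₗ[R] R ⊗[A] M := Algebra.IsPushout.cancelBaseChange A R B S M
  let e2 : k ⊗[R] M' ≃ₗ[k] k ⊗[R] (R ⊗[A] M) :=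
    TensorProduct.AlgebraTensorModule.congr (LinearEquiv.refl k k) e1
  let e3 : k ⊗[R] (R ⊗[A] M) ≃ₗ[k] k ⊗[A] M :=
    AlgebraTensorModule.cancelBaseChange A R k k M
  exact Module.Free.of_equiv (e2.trans e3)

/-- key claim: over a Noetherian base, a flat module which is finite over a finite type algebra
is free on a nonempty principal open subset of every closed subset, in universal form -/
theorem exists_free_of_flat {A B : Type u} [CommRing A] [IsNoetherianRing A] [CommRing B]
    [Algebra A B] [Algebra.FiniteType A B]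
    (M : Type u) [AddCommGroup M] [Module B M] [Module A M] [IsScalarTower A B M]
    [Module.Finite B M] [Module.Flat A M] (I : Ideal A) (hne : I ≠ ⊤) :
    ∃ f : A, f ∉ I.radical ∧ ∀ (C : Type u) [CommRing C] [Algebra A C],
      IsUnit (algebraMap A C f) → (∀ a ∈ I, algebraMap A C a = 0) →
      Module.Free C (C ⊗[A] M) := by
  obtain ⟨f, hf, hfree⟩ := exists_free_mod (B := B) M I.radical (Ideal.radical_isRadical I)
    (fun h => hne (Ideal.radical_eq_top.mp h))
  refine ⟨f, hf, ?_⟩
  intro C _ _ hu hkill
  let J : Ideal C := I.radical.map (algebraMap A C)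
  obtain ⟨n, hn⟩ := Ideal.exists_radical_pow_le_of_fg I (IsNoetherian.noetherian _)
  have hJ : IsNilpotent J := by
    refine ⟨n, ?_⟩
    rw [Ideal.zero_eq_bot, eq_bot_iff]
    calc J ^ n = (I.radical ^ n).map (algebraMap A C) := (Ideal.map_pow _ _ _).symm
      _ ≤ I.map (algebraMap A C) := Ideal.map_mono hn
      _ ≤ ⊥ := by
        rw [Ideal.map_le_iff_le_comap]
        intro a ha
        rw [Ideal.mem_comap, Ideal.mem_bot]
        exact hkill a ha
  let W := C ⊗[A] M
  have H : Function.Injective (J.subtype.rTensor W) :=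
    Module.Flat.rTensor_preserves_injective_linearMap _ J.injective_subtype
  let k := C ⧸ J
  have hk : Module.Free k (k ⊗[A] M) := by
    refine hfree k ?_ ?_
    · rw [IsScalarTower.algebraMap_apply A C k]
      exact hu.map (algebraMap C k)
    · intro a ha
      rw [IsScalarTower.algebraMap_apply A C k]
      exact Ideal.Quotient.eq_zero_iff_mem.mpr (Ideal.mem_map_of_mem _ ha)
  haveI : Module.Free (C ⧸ J) ((C ⧸ J) ⊗[C] W) :=
    Module.Free.of_equiv (AlgebraTensorModule.cancelBaseChange A C k k M).symm
  exact Groth.Agent.Lib.Helper8.NilLocal.free_of_free_quotient_of_isNilpotent J hJ W H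

/-- the stratification property relative to an ideal `I`, in universal form -/
def Strat (A : Type u) [CommRing A] (M : Type u) [AddCommGroup M] [Module A M] (I : Ideal A)
    (l : List A) : Prop :=
  Ideal.span {a | a ∈ l} ⊔ I = ⊤ ∧
  ∀ (i : ℕ) (hi : i < l.length) (C : Type u) [CommRing C] [Algebra A C],
    IsUnit (algebraMap A C l[i]) → (∀ a ∈ l.take i, algebraMap A C a = 0) →
    (∀ a ∈ I, algebraMap A C a = 0) → Module.Free C (C ⊗[A] M)

/-- existence of the stratification over a Noetherian base -/
theorem exists_strat {A B : Type u} [CommRing A] [IsNoetherianRing A] [CommRing B]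
    [Algebra A B] [Algebra.FiniteType A B]
    (M : Type u) [AddCommGroup M] [Module B M] [Module A M] [IsScalarTower A B M]
    [Module.Finite B M] [Module.Flat A M] (I : Ideal A) : ∃ l : List A, Strat A M I l := by
  induction I using IsNoetherian.induction with
  | hgt I ih =>
    by_cases hI : I = ⊤
    · refine ⟨[], ?_, ?_⟩
      · rw [hI]; simp
      · intro i hi
        exact absurd hi (by simp)
    · obtain ⟨f, hf, hfree⟩ := exists_free_of_flat (B := B) M I hI
      have hfI : f ∉ I := fun h => hf (Ideal.le_radical h)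
      have hlt : I < I ⊔ Ideal.span {f} := by
        refine lt_of_le_of_ne le_sup_left (fun h => hfI ?_)
        rw [h]
        exact Ideal.mem_sup_right (Ideal.subset_span rfl)
      obtain ⟨l', h1, h2⟩ := ih _ hlt
      refine ⟨f :: l', ?_, ?_⟩
      · have hset : {a | a ∈ f :: l'} = insert f {a | a ∈ l'} := by
          ext a; simp
        rw [hset, Ideal.span_insert, ← h1]
        ac_rfl
      · intro i hi C _ _ hu h0 hkill
        cases i with
        | zero => exact hfree C hu hkill
        | succ j =>
          have hf0 : algebraMap A C f = 0 := h0 f (by simp)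
          refine h2 j (by simpa using hi) C (by simpa using hu)
            (fun a ha => h0 a (by simp [List.take_succ_cons, ha])) ?_
          have hle : I ⊔ Ideal.span {f} ≤ RingHom.ker (algebraMap A C) := by
            refine sup_le (fun a ha => hkill a ha) ?_
            rw [Ideal.span_le]
            intro a ha
            rw [Set.mem_singleton_iff] at ha
            rw [ha]; exact hf0
          exact fun a ha => hle ha

/-- base change of the stratification -/
theorem Strat.map {A₀ A : Type u} [CommRing A₀] [CommRing A] [Algebra A₀ A]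
    {M₀ M : Type u} [AddCommGroup M₀] [Module A₀ M₀] [AddCommGroup M] [Module A M]
    (e : M ≃ₗ[A] A ⊗[A₀] M₀) {l₀ : List A₀} (h : Strat A₀ M₀ ⊥ l₀) :
    Strat A M ⊥ (l₀.map (algebraMap A₀ A)) := by
  obtain ⟨h1, h2⟩ := h
  refine ⟨?_, ?_⟩
  · rw [sup_bot_eq] at h1 ⊢
    have hset : {a | a ∈ l₀.map (algebraMap A₀ A)} = (algebraMap A₀ A) '' {a | a ∈ l₀} := by
      ext a; simp
    rw [hset, ← Ideal.map_span, h1, Ideal.map_top]
  · intro i hi C _ _ hu h0 _
    have hi' : i < l₀.length := by simpa using hi
    letI : Algebra A₀ C := Algebra.compHom C (algebraMap A₀ A)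
    haveI : IsScalarTower A₀ A C := IsScalarTower.of_algebraMap_eq (fun _ => rfl)
    have hfree : Module.Free C (C ⊗[A₀] M₀) := by
      refine h2 i hi' C ?_ (fun a ha => ?_) (fun a ha => ?_)
      · rw [IsScalarTower.algebraMap_apply A₀ A C]
        simpa using hu
      · rw [IsScalarTower.algebraMap_apply A₀ A C]
        apply h0
        rw [← List.map_take]
        exact List.mem_map_of_mem ha
      · rw [Ideal.mem_bot.mp ha, map_zero]
    exact Module.Free.of_equiv ((AlgebraTensorModule.congr (LinearEquiv.refl C C) e).trans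
      (AlgebraTensorModule.cancelBaseChange A₀ A C C M₀)).symm

/-- the concrete form of the stratification -/
theorem Strat.final {A : Type u} [CommRing A] {M : Type u} [AddCommGroup M] [Module A M]
    {l : List A} (h : Strat A M ⊥ l) :
    Ideal.span {a | a ∈ l} = ⊤ ∧
      ∀ (i : ℕ) (hi : i < l.length),
        letI J : Ideal (Localization.Away l[i]) :=
          (Ideal.span {a | a ∈ l.take i}).map (algebraMap A (Localization.Away l[i]))
        Module.Free (Localization.Away l[i] ⧸ J) ((Localization.Away l[i] ⧸ J) ⊗[A] M) := by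
  obtain ⟨h1, h2⟩ := h
  rw [sup_bot_eq] at h1
  refine ⟨h1, fun i hi => ?_⟩
  refine h2 i hi _ ?_ (fun a ha => ?_) (fun a ha => ?_)
  · rw [IsScalarTower.algebraMap_apply A (Localization.Away l[i])]
    exact (IsLocalization.Away.algebraMap_isUnit l[i]).map _
  · rw [IsScalarTower.algebraMap_apply A (Localization.Away l[i])]
    exact Ideal.Quotient.eq_zero_iff_mem.mpr (Ideal.mem_map_of_mem _ (Ideal.subset_span ha))
  · rw [Ideal.mem_bot.mp ha, map_zero]

open Groth.Agent.Lib.Helper8.FlatRes in
/-- conditional form of S2591 -/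
theorem exists_list (H : Descent9456.{u}) {A B : Type u} [CommRing A] [CommRing B] [Algebra A B]
    [Algebra.FinitePresentation A B] (M : Type u) [AddCommGroup M] [Module B M] [Module A M]
    [IsScalarTower A B M] [Module.FinitePresentation B M] [Module.Flat A M] :
    ∃ l : List A, Ideal.span {a | a ∈ l} = ⊤ ∧
      ∀ (i : ℕ) (hi : i < l.length),
        letI J : Ideal (Localization.Away l[i]) :=
          (Ideal.span {a | a ∈ l.take i}).map (algebraMap A (Localization.Away l[i]))
        Module.Free (Localization.Away l[i] ⧸ J) ((Localization.Away l[i] ⧸ J) ⊗[A] M) := by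
  obtain ⟨R₀, _, _, S₀, _, _, _, _, _, _, M₀, _, _, _, _, _, _, f, h1, h2, h3, h4, h5, h6⟩ :=
    H A B M
  haveI : IsNoetherianRing R₀ := Algebra.FiniteType.isNoetherianRing ℤ R₀
  obtain ⟨l₀, hl₀⟩ := exists_strat (A := R₀) (B := S₀) M₀ ⊥
  let e : M ≃ₗ[A] A ⊗[R₀] M₀ :=
    (h6.equiv.symm.restrictScalars A).trans (Algebra.IsPushout.cancelBaseChange R₀ A S₀ B M₀)
  exact ⟨_, (hl₀.map e).final⟩

end Groth.Agent.Lib.Helper8.StratFree
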