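import Mathlib
import Groth.Agent.S4848
import Groth.Agent.S9456
import Groth.Agent.Lib.Helper8.LocColim
import Groth.Agent.Lib.Helper8.StratFree
import Groth.Agent.Lib.Helper8.GenFreeR3

/-!
# Generic freeness of flat finitely presented modules at a unique minimal prime (helper8)
-/

set_option autoImplicit false
set_option maxHeartbeats 400000
set_option linter.unusedSectionVars false
set_option linter.style.haveILetI false

universe u
open TensorProduct

namespace Groth.Agent.Lib.Helper8.StratFree

open Groth.Agent.Lib.Helper8.FlatRes Groth.Agent.Lib.Helper8.LocColim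

/-- generic freeness modulo an ideal for flat finitely presented modules over arbitrary rings -/
theorem exists_free_general {A B : Type u} [CommRing A] [CommRing B] [Algebra A B]
    [Algebra.FinitePresentation A B] (M : Type u) [AddCommGroup M] [Module B M] [Module A M]
    [IsScalarTower A B M] [Module.FinitePresentation B M] [Module.Flat A M]
    (I : Ideal A) (hI : I ≠ ⊤) :
    ∃ f : A, f ∉ I.radical ∧ ∀ (C : Type u) [CommRing C] [Algebra A C],
      IsUnit (algebraMap A C f) → (∀ a ∈ I, algebraMap A C a = 0) →
      Module.Free C (C ⊗[A] M) := by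
  obtain ⟨R₀, _, _, S₀, _, _, _, _, _, _, M₀, _, _, _, _, _, _, f, h1, h2, h3, h4, h5, h6⟩ :=
    Groth.Agent.S9456.result A B M
  haveI : IsNoetherianRing R₀ := Algebra.FiniteType.isNoetherianRing ℤ R₀
  let e : M ≃ₗ[A] A ⊗[R₀] M₀ :=
    (h6.equiv.symm.restrictScalars A).trans (Algebra.IsPushout.cancelBaseChange R₀ A S₀ B M₀)
  let I₀ : Ideal R₀ := I.comap (algebraMap R₀ A)
  have hI₀ : I₀ ≠ ⊤ := by
    intro h
    apply hI
    rw [Ideal.eq_top_iff_one] at h ⊢
    have := (Ideal.mem_comap.mp h)
    simpa using this
  obtain ⟨f₀, hf₀, hfree⟩ := exists_free_of_flat (A := R₀) (B := S₀) M₀ I₀ hI₀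
  refine ⟨algebraMap R₀ A f₀, ?_, ?_⟩
  · rintro ⟨n, hn⟩
    apply hf₀
    refine ⟨n, ?_⟩
    rw [Ideal.mem_comap, map_pow]
    exact hn
  · intro C _ _ hu hkill
    letI : Algebra R₀ C := Algebra.compHom C (algebraMap R₀ A)
    haveI : IsScalarTower R₀ A C := IsScalarTower.of_algebraMap_eq (fun _ => rfl)
    have hfreeC : Module.Free C (C ⊗[R₀] M₀) := by
      refine hfree C ?_ (fun a ha => ?_)
      · rw [IsScalarTower.algebraMap_apply R₀ A C]
        exact hu
      · rw [IsScalarTower.algebraMap_apply R₀ A C]
        exact hkill _ (Ideal.mem_comap.mp ha)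
    exact Module.Free.of_equiv ((AlgebraTensorModule.congr (LinearEquiv.refl C C) e).trans
      (AlgebraTensorModule.cancelBaseChange R₀ A C C M₀)).symm

attribute [local instance] Algebra.TensorProduct.rightAlgebra in
/-- S2573: generic freeness at the unique minimal prime -/
theorem exists_free_localization {A B : Type u} [CommRing A] [CommRing B] [Algebra A B]
    [Algebra.FinitePresentation A B] (p : Ideal A) [p.IsPrime] (hp : minimalPrimes A = {p})
    (M : Type u) [AddCommGroup M] [Module B M] [Module A M] [IsScalarTower A B M]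
    [Module.FinitePresentation B M]
    (hflat : Module.Flat (Localization.AtPrime p) (LocalizedModule p.primeCompl M)) :
    ∃ t : A, t ∉ p ∧
      Module.Free (Localization.Away t) (LocalizedModule (Submonoid.powers t) M) := by
  -- flatness descends to a principal localization
  have hflat' : Module.Flat (Localization.AtPrime p) (Localization.AtPrime p ⊗[A] M) :=
    Module.Flat.of_linearEquiv
      (LocalizedModule.isBaseChange p.primeCompl M).equiv
  obtain ⟨t, ht⟩ := (Groth.Agent.S4848.result (A₀ := A) (G p) (g p) (Localization.AtPrime p)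
    (isDirectedColimit p) (B₀ := B) M).mp hflat'
  -- the situation over `A_t`
  let At := Localization.Away t.val
  let Bt := At ⊗[A] B
  let Mt := Bt ⊗[B] M
  let e1 : Mt ≃ₗ[At] At ⊗[A] M := Algebra.IsPushout.cancelBaseChange A At B Bt M
  haveI : Module.Flat At Mt := Module.Flat.of_linearEquiv e1
  haveI : Nontrivial At :=
    (algebraMap (G p t) (Localization.AtPrime p)).domain_nontrivial
  obtain ⟨f, hf, hfree⟩ := exists_free_general (A := At) (B := Bt) Mt ⊥ bot_ne_top
  obtain ⟨a, ⟨_, n, rfl⟩, rfl⟩ := IsLocalization.exists_mk'_eq (Submonoid.powers t.val) f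
  -- `a ∉ p`
  have hrad : (⊥ : Ideal A).radical = p := by
    have h := Ideal.sInf_minimalPrimes (I := (⊥ : Ideal A))
    have h2 : (⊥ : Ideal A).minimalPrimes = {p} := hp
    rw [h2, sInf_singleton] at h
    exact h.symm
  have ha : a ∉ p := by
    intro hap
    apply hf
    rw [← hrad] at hap
    obtain ⟨k, hk⟩ := hap
    refine ⟨k, ?_⟩
    rw [Ideal.mem_bot] at hk ⊢
    rw [IsLocalization.mk'_eq_mul_mk'_one, mul_pow, ← map_pow, hk, map_zero, zero_mul]
  refine ⟨t.val * a, fun h => (Ideal.IsPrime.mem_or_mem ‹_› h).elim t.prop ha, ?_⟩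
  let C := Localization.Away (t.val * a)
  have htau : IsUnit (algebraMap A C (t.val * a)) :=
    IsLocalization.Away.algebraMap_isUnit (t.val * a)
  have htu : IsUnit (algebraMap A C t.val) :=
    isUnit_of_dvd_unit (map_dvd _ (Dvd.intro a rfl)) htau
  have hau : IsUnit (algebraMap A C a) :=
    isUnit_of_dvd_unit (map_dvd _ (Dvd.intro_left t.val rfl)) htau
  letI : Algebra At C := (IsLocalization.Away.lift (S := At) t.val htu).toAlgebra
  haveI : IsScalarTower A At C :=
    IsScalarTower.of_algebraMap_eq (fun r => (IsLocalization.Away.lift_eq t.val htu r).symm)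
  have hfu : IsUnit (algebraMap At C (IsLocalization.mk' At a
      (⟨t.val ^ n, n, rfl⟩ : Submonoid.powers t.val))) := by
    have h1 := IsLocalization.mk'_spec At a (⟨t.val ^ n, n, rfl⟩ : Submonoid.powers t.val)
    have h2 := congrArg (algebraMap At C) h1
    rw [map_mul, ← IsScalarTower.algebraMap_apply A At C,
      ← IsScalarTower.algebraMap_apply A At C] at h2
    exact isUnit_of_mul_isUnit_left (h2 ▸ hau)
  have hC : Module.Free C (C ⊗[At] Mt) :=
    hfree C hfu (fun x hx => by rw [Ideal.mem_bot.mp hx, map_zero])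
  have hC' : Module.Free C (C ⊗[A] M) :=
    Module.Free.of_equiv ((AlgebraTensorModule.congr (LinearEquiv.refl C C) e1).trans
      (AlgebraTensorModule.cancelBaseChange A At C C M))
  exact Groth.Agent.Lib.Helper8.GenFree.free_localizedModule_of_free_tensor (t.val * a) M hC'

end Groth.Agent.Lib.Helper8.StratFree
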