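import Groth.Agent.Lib.Helper8.GenFreeR3
import Groth.Agent.Lib.QCoh.Helper74_FlatOver
import Groth.Agent.Lib.Helper61.QCohSections

/-!
# Generic flatness for quasi-coherent modules of finite type over an integral base (helper8)
-/

set_option autoImplicit false
set_option maxHeartbeats 400000

universe u

namespace Groth.Agent.Lib.Helper8.GenFlatMod

open AlgebraicGeometry CategoryTheory Limits TopologicalSpace TensorProduct
open Groth.Agent.Lib.Helper8.GenFree

section Algebra

/-- a localization of `M` at (the image of) `g` is flat over `R` as soon as `R_g ⊗ M` is free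
over `R_g` -/
theorem flat_of_isLocalizedModule_of_free {R A M N : Type*} [CommRing R] [CommRing A]
    [Algebra R A] [AddCommGroup M] [Module A M] [Module R M] [IsScalarTower R A M]
    [AddCommGroup N] [Module A N] [Module R N] [IsScalarTower R A N] (g : R) (ρ : M →ₗ[A] N)
    [IsLocalizedModule (Submonoid.powers (algebraMap R A g)) ρ]
    (h : Module.Free (Localization.Away g) (Localization.Away g ⊗[R] M)) : Module.Flat R N := by
  have := IsLocalizedModule.restrictScalars_powers g ρ
  let e : LocalizedModule (Submonoid.powers g) M ≃ₗ[R] N :=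
    IsLocalizedModule.iso (Submonoid.powers g) (ρ.restrictScalars R)
  have h1 : Module.Free (Localization.Away g) (LocalizedModule (Submonoid.powers g) M) :=
    free_localizedModule_of_free_tensor g M h
  have h3 : Module.Flat R (LocalizedModule (Submonoid.powers g) M) :=
    Module.Flat.trans R (Localization.Away g) _
  exact Module.Flat.of_linearEquiv e.symm

end Algebra

section Sch

open Groth.Agent.Lib.QCoh Groth.Agent.Lib.Helper61.QCohSections

variable {X Y : Scheme.{u}} (f : X ⟶ Y) (F : X.Modules)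

/-- the key local statement: freeness of the localized sections gives flatness at the points over
the basic open -/
theorem isFlatOverAt_of_free [F.IsQuasicoherent] {V : Y.Opens} (hV : IsAffineOpen V)
    {W : X.Opens} (hW : IsAffineOpen W) (e : W ≤ f ⁻¹ᵁ V) (g : Γ(Y, V))
    (hfree : letI := sectionsModuleOver f F e
      Module.Free (Localization.Away g) (Localization.Away g ⊗[Γ(Y, V)] Γ(F, W)))
    (x : X) (hxW : x ∈ W) (hxg : f.base x ∈ Y.basicOpen g) : FlatMod.IsFlatOverAt f F x := by
  have hx' : x ∈ X.basicOpen (f.appLE V W e g) := by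
    simpa [Scheme.Hom.appLE, ← Scheme.preimage_basicOpen] using And.intro hxW hxg
  have e' : X.basicOpen (f.appLE V W e g) ≤ f ⁻¹ᵁ V := (X.basicOpen_le _).trans e
  refine isFlatOverAt_of_flat_Γ f F e' hV (hW.basicOpen _) x hx' ?_
  let _ := sectionsModuleOver f F e
  let _ := sectionsModuleOver f F e'
  let _ : Algebra Γ(Y, V) Γ(X, W) := (f.appLE V W e).hom.toAlgebra
  let _ := resModule F (X.basicOpen_le (f.appLE V W e g))
  have : IsScalarTower Γ(Y, V) Γ(X, W) Γ(F, W) := .of_algebraMap_smul fun _ _ => rfl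
  have : IsScalarTower Γ(Y, V) Γ(X, W) Γ(F, X.basicOpen (f.appLE V W e g)) :=
    .of_algebraMap_smul fun r n => by
      show X.presheaf.map (homOfLE (X.basicOpen_le (f.appLE V W e g))).op (f.appLE V W e r) • n =
        f.appLE V (X.basicOpen (f.appLE V W e g)) e' r • n
      rw [← Scheme.Hom.appLE_map f e (homOfLE (X.basicOpen_le (f.appLE V W e g))).op]
      rfl
  have hloc := isLocalizedModule_res_basicOpen F hW (f.appLE V W e g)
  exact flat_of_isLocalizedModule_of_free g (resLinear F (X.basicOpen_le (f.appLE V W e g))) hfree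

/-- **Generic flatness** for a quasi-coherent module of finite type on a scheme of finite type
over an integral scheme. -/
theorem exists_open_isFlatOverAt [IsIntegral Y] [LocallyOfFiniteType f] [QuasiCompact f]
    [F.IsQuasicoherent] [F.IsFiniteType] :
    ∃ U : Y.Opens, (U : Set Y).Nonempty ∧
      ∀ x : X, f.base x ∈ U → FlatMod.IsFlatOverAt f F x := by
  classical
  obtain ⟨y⟩ : Nonempty Y := inferInstance
  obtain ⟨V, hV, hyV, -⟩ := Opens.isBasis_iff_nbhd.mp Y.isBasis_affineOpens (Opens.mem_top y)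
  have : Nonempty V := ⟨⟨y, hyV⟩⟩
  have : IsDomain Γ(Y, V) := inferInstance
  have hc : IsCompact ((f ⁻¹ᵁ V : X.Opens) : Set X) :=
    QuasiCompact.isCompact_preimage (f := f) _ V.isOpen hV.isCompact
  obtain ⟨s, hs, hU⟩ := isCompact_iff_finite_and_eq_biUnion_affineOpens.mp hc
  have hsle : ∀ W ∈ s, W.1 ≤ f ⁻¹ᵁ V := by
    intro W hW
    rw [hU]
    exact le_iSup₂ (f := fun (i : X.affineOpens) (_ : i ∈ s) => (i : X.Opens)) W hW
  have key : ∀ W : X.affineOpens, ∃ fW : Γ(Y, V), fW ≠ 0 ∧
      (∀ (e : W.1 ≤ f ⁻¹ᵁ V) (g : Γ(Y, V)), fW ∣ g → letI := sectionsModuleOver f F e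
        Module.Free (Localization.Away g) (Localization.Away g ⊗[Γ(Y, V)] Γ(F, W.1))) := by
    intro W
    by_cases e : W.1 ≤ f ⁻¹ᵁ V
    · let _ := sectionsModuleOver f F e
      let _ : Algebra Γ(Y, V) Γ(X, W.1) := (f.appLE V W.1 e).hom.toAlgebra
      have : IsScalarTower Γ(Y, V) Γ(X, W.1) Γ(F, W.1) := .of_algebraMap_smul fun _ _ => rfl
      have : Algebra.FiniteType Γ(Y, V) Γ(X, W.1) :=
        HasRingHomProperty.appLE @LocallyOfFiniteType f inferInstance ⟨V, hV⟩ W e
      have : Module.Finite Γ(X, W.1) Γ(F, W.1) := finite_Γ_of_isAffineOpen W.2 F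
      obtain ⟨fW, h0, hfW⟩ := gf_of_finiteType (R := Γ(Y, V)) Γ(X, W.1) Γ(F, W.1)
      refine ⟨fW, h0, fun e' g hg => ?_⟩
      exact hfW (Localization.Away g)
        (isUnit_of_dvd_unit (map_dvd _ hg) (IsLocalization.Away.algebraMap_isUnit g))
    · exact ⟨1, one_ne_zero, fun e' => absurd e' e⟩
  choose fW hfW0 hfW using key
  let g : Γ(Y, V) := ∏ W ∈ hs.toFinset, fW W
  have hg0 : g ≠ 0 := Finset.prod_ne_zero_iff.mpr fun W _ => hfW0 W
  refine ⟨Y.basicOpen g, ?_, ?_⟩
  · by_contra hne
    rw [Set.not_nonempty_iff_eq_empty] at hne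
    have h0 : Y.basicOpen g = ⊥ := Opens.ext hne
    rw [basicOpen_eq_bot_iff] at h0
    exact hg0 h0
  · intro x hx
    have hxV : x ∈ f ⁻¹ᵁ V := Y.basicOpen_le g hx
    rw [hU] at hxV
    simp only [Opens.mem_iSup] at hxV
    obtain ⟨W, hWs, hxW⟩ := hxV
    exact isFlatOverAt_of_free f F hV W.2 (hsle W hWs) g
      (hfW W (hsle W hWs) g (Finset.dvd_prod_of_mem _ (hs.mem_toFinset.mpr hWs))) x hxW hx

end Sch

end Groth.Agent.Lib.Helper8.GenFlatMod
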