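import Mathlib

/-!
# Generic freeness, part 1 (helper8): pseudo-division by leading terms

For an ideal `I` of `R[x_1..x_n]` over a domain `R`, after inverting a single non-zero `f : R`
the quotient becomes free on the standard monomials.  This file has the combinatorial
core: Dickson's lemma and pseudo-division.
-/

set_option autoImplicit false
set_option maxHeartbeats 400000

namespace Groth.Agent.Lib.Helper8.GenFree

open MvPolynomial MonomialOrder

/-- Dickson's lemma: every subset of `σ →₀ ℕ` (`σ` finite) is dominated by a finite subset. -/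
theorem dickson {σ : Type*} [Finite σ] (U : Set (σ →₀ ℕ)) :
    ∃ T : Finset (σ →₀ ℕ), (T : Set (σ →₀ ℕ)) ⊆ U ∧ ∀ a ∈ U, ∃ t ∈ T, t ≤ a := by
  classical
  let I : Ideal (MvPolynomial σ ℚ) := Ideal.span ((fun s => monomial s (1 : ℚ)) '' U)
  have hfg : I.FG := IsNoetherian.noetherian I
  obtain ⟨s', hs', hspan⟩ := (Submodule.fg_span_iff_fg_span_finset_subset _).mp hfg
  obtain ⟨T, hT, rfl⟩ := Finset.subset_set_image_iff.mp hs'
  refine ⟨T, hT, fun a ha => ?_⟩
  have h1 : monomial a (1 : ℚ) ∈ I := Ideal.subset_span ⟨a, ha, rfl⟩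
  have h2 : monomial a (1 : ℚ) ∈ Ideal.span ((fun s => monomial s (1 : ℚ)) '' (T : Set (σ →₀ ℕ))) := by
    have : (Ideal.span ((fun s => monomial s (1 : ℚ)) '' (T : Set (σ →₀ ℕ))) : Ideal (MvPolynomial σ ℚ)) = I := by
      show Submodule.span _ _ = Submodule.span _ _
      rw [hspan, Finset.coe_image]
    rw [this]
    exact h1
  rw [mem_ideal_span_monomial_image] at h2
  obtain ⟨t, ht, hta⟩ := h2 a (by simp)
  exact ⟨t, ht, hta⟩

variable {σ : Type*} (m : MonomialOrder σ) {R : Type*} [CommRing R]

theorem sub_eq_zero_or_degree_lt {p q : MvPolynomial σ R} (hd : m.degree p = m.degree q)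
    (hc : m.leadingCoeff p = m.leadingCoeff q) :
    p - q = 0 ∨ m.degree (p - q) ≺[m] m.degree p := by
  by_cases h : p - q = 0
  · exact Or.inl h
  · right
    have hle : m.degree (p - q) ≼[m] m.degree p := by
      refine le_trans degree_sub_le ?_
      rw [hd]
      simp
    refine lt_of_le_of_ne hle ?_
    intro heq
    have heq' : m.degree (p - q) = m.degree p := m.toSyn.injective heq
    have h1 : (p - q).coeff (m.degree (p - q)) ≠ 0 := by
      rw [coeff_degree_ne_zero_iff]
      exact h
    apply h1
    rw [heq', coeff_sub]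
    have : q.coeff (m.degree p) = m.leadingCoeff q := by rw [hd]; rfl
    rw [this, ← hc]
    exact sub_self _

variable [IsDomain R]

/-- Pseudo-division: after multiplying by a power of `f`, every polynomial is a combination of
the `b t` plus a remainder supported on monomials not divisible by any `t ∈ T`. -/
theorem pseudo_div (T : Finset (σ →₀ ℕ)) (b : (σ →₀ ℕ) → MvPolynomial σ R)
    (hb : ∀ t ∈ T, m.degree (b t) = t) (f : R) (hf0 : f ≠ 0)
    (hf : ∀ t ∈ T, m.leadingCoeff (b t) ∣ f) (p : MvPolynomial σ R) :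
    ∃ (k : ℕ) (q r : MvPolynomial σ R), C (f ^ k) * p = q + r ∧
      q ∈ Ideal.span (b '' (T : Set (σ →₀ ℕ))) ∧ ∀ a ∈ r.support, ∀ t ∈ T, ¬ t ≤ a := by
  classical
  induction' h : m.toSyn (m.degree p) using WellFoundedLT.induction with s ih generalizing p
  by_cases hp : p = 0
  · exact ⟨0, 0, 0, by simp [hp], Ideal.zero_mem _, by simp⟩
  have hc0 : m.leadingCoeff p ≠ 0 := leadingCoeff_ne_zero_iff.mpr hp
  by_cases hex : ∃ t ∈ T, t ≤ m.degree p
  · obtain ⟨t, htT, hta⟩ := hex
    obtain ⟨e, he⟩ := hf t htT
    have he0 : e ≠ 0 := by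
      rintro rfl
      exact hf0 (by simpa using he)
    have hbt0 : b t ≠ 0 := by
      intro h0
      rw [h0, leadingCoeff_zero, zero_mul] at he
      exact hf0 he
    have hd1 : m.degree (C f * p) = m.degree p := by
      rw [degree_mul (C_ne_zero.mpr hf0) hp, degree_C, zero_add]
    have hl1 : m.leadingCoeff (C f * p) = f * m.leadingCoeff p := by
      rw [leadingCoeff_mul, leadingCoeff_C]
    have hmon : monomial (m.degree p - t) (m.leadingCoeff p * e) ≠ 0 := by
      rw [Ne, monomial_eq_zero]
      exact mul_ne_zero hc0 he0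
    have hd2 : m.degree (monomial (m.degree p - t) (m.leadingCoeff p * e) * b t) = m.degree p := by
      rw [degree_mul hmon hbt0, degree_monomial, if_neg (mul_ne_zero hc0 he0), hb t htT,
        tsub_add_cancel_of_le hta]
    have hl2 : m.leadingCoeff (monomial (m.degree p - t) (m.leadingCoeff p * e) * b t) =
        f * m.leadingCoeff p := by
      rw [leadingCoeff_mul, leadingCoeff_monomial, he]
      ring
    have hbmem : b t ∈ Ideal.span (b '' (T : Set (σ →₀ ℕ))) := Ideal.subset_span ⟨t, htT, rfl⟩
    rcases sub_eq_zero_or_degree_lt m (hd1.trans hd2.symm) (hl1.trans hl2.symm) with h0 | hlt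
    · refine ⟨1, monomial (m.degree p - t) (m.leadingCoeff p * e) * b t, 0, ?_, ?_, by simp⟩
      · rw [pow_one, add_zero]
        exact sub_eq_zero.mp h0
      · exact Ideal.mul_mem_left _ _ hbmem
    · rw [hd1] at hlt
      obtain ⟨k, q, r, h1, h2, h3⟩ := ih _ (by rw [← h]; exact hlt)
        (C f * p - monomial (m.degree p - t) (m.leadingCoeff p * e) * b t) rfl
      refine ⟨k + 1, q + C (f ^ k) * (monomial (m.degree p - t) (m.leadingCoeff p * e) * b t), r,
        ?_, ?_, h3⟩
      · have : C (f ^ (k + 1)) * p =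
            C (f ^ k) * (C f * p - monomial (m.degree p - t) (m.leadingCoeff p * e) * b t) +
              C (f ^ k) * (monomial (m.degree p - t) (m.leadingCoeff p * e) * b t) := by
          rw [pow_succ, C_mul]
          ring
        rw [this, h1]
        ring
      · exact Ideal.add_mem _ h2 (Ideal.mul_mem_left _ _ (Ideal.mul_mem_left _ _ hbmem))
  · push Not at hex
    by_cases hsub : m.subLTerm p = 0
    · refine ⟨0, 0, p, by simp, Ideal.zero_mem _, ?_⟩
      have hp' : p = monomial (m.degree p) (m.leadingCoeff p) := by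
        simpa [subLTerm, sub_eq_zero] using hsub
      intro a' ha' t ht
      rw [hp'] at ha'
      have h5 := support_monomial_subset ha'
      rw [Finset.mem_singleton] at h5
      rw [h5]
      exact hex t ht
    · have hlt : m.degree (m.subLTerm p) ≺[m] m.degree p := by
        apply degree_sub_LTerm_lt
        intro hd0
        apply hsub
        simp only [subLTerm, sub_eq_zero]
        nth_rewrite 1 [eq_C_of_degree_eq_zero hd0, hd0]
        simp
      obtain ⟨k, q, r, h1, h2, h3⟩ := ih _ (by rw [← h]; exact hlt) (m.subLTerm p) rfl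
      refine ⟨k, q, r + monomial (m.degree p) (f ^ k * m.leadingCoeff p), ?_, h2, ?_⟩
      · have : p = m.subLTerm p + monomial (m.degree p) (m.leadingCoeff p) := by simp [subLTerm]
        rw [this, mul_add, h1, C_mul_monomial]
        simp only [subLTerm, sub_add_cancel]
        ring
      · intro a' ha' t ht
        by_cases hr : a' ∈ r.support
        · exact h3 a' hr t ht
        · have h4 := MvPolynomial.support_add ha'
          rw [Finset.mem_union] at h4
          have h5 := support_monomial_subset (h4.resolve_left hr)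
          rw [Finset.mem_singleton] at h5
          rw [h5]
          exact hex t ht

/-- Structure of an ideal of a polynomial ring over a domain after inverting one element:
standard monomials are independent modulo `I` and span modulo `I` up to powers of `f`. -/
theorem exists_standard (n : ℕ) (I : Ideal (MvPolynomial (Fin n) R)) :
    ∃ (f : R) (Std : Set (Fin n →₀ ℕ)) (B : Finset (MvPolynomial (Fin n) R)), f ≠ 0 ∧
      (B : Set (MvPolynomial (Fin n) R)) ⊆ I ∧
      (∀ p : MvPolynomial (Fin n) R, ∃ (k : ℕ) (q r : MvPolynomial (Fin n) R),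
        C (f ^ k) * p = q + r ∧ q ∈ Ideal.span (B : Set (MvPolynomial (Fin n) R)) ∧
          r ∈ restrictSupport R Std) ∧
      (∀ r ∈ restrictSupport R Std, r ∈ I → r = 0) := by
  classical
  let m : MonomialOrder (Fin n) := MonomialOrder.lex
  let U : Set (Fin n →₀ ℕ) := {a | ∃ p ∈ I, p ≠ 0 ∧ m.degree p = a}
  obtain ⟨T, hTU, hT⟩ := dickson U
  have hch : ∀ t : Fin n →₀ ℕ, ∃ p : MvPolynomial (Fin n) R,
      t ∈ T → (p ∈ I ∧ p ≠ 0 ∧ m.degree p = t) := by
    intro t
    by_cases ht : t ∈ T
    · obtain ⟨p, hp⟩ := hTU ht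
      exact ⟨p, fun _ => hp⟩
    · exact ⟨0, fun h => absurd h ht⟩
  choose b hb using hch
  let f : R := ∏ t ∈ T, m.leadingCoeff (b t)
  have hf0 : f ≠ 0 := by
    rw [Finset.prod_ne_zero_iff]
    intro t ht
    exact leadingCoeff_ne_zero_iff.mpr (hb t ht).2.1
  let Std : Set (Fin n →₀ ℕ) := {a | ∀ t ∈ T, ¬ t ≤ a}
  refine ⟨f, Std, T.image b, hf0, ?_, ?_, ?_⟩
  · intro x hx
    rw [Finset.coe_image] at hx
    obtain ⟨t, ht, rfl⟩ := hx
    exact (hb t ht).1
  · intro p
    obtain ⟨k, q, r, h1, h2, h3⟩ := pseudo_div m T b (fun t ht => (hb t ht).2.2) f hf0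
      (fun t ht => Finset.dvd_prod_of_mem _ ht) p
    refine ⟨k, q, r, h1, ?_, ?_⟩
    · rw [Finset.coe_image]
      exact h2
    · rw [mem_restrictSupport_iff]
      intro a ha
      exact h3 a ha
  · intro r hr hrI
    by_contra hr0
    have hdU : m.degree r ∈ U := ⟨r, hrI, hr0, rfl⟩
    obtain ⟨t, ht, hta⟩ := hT _ hdU
    have hsupp : m.degree r ∈ r.support := degree_mem_support hr0
    have hr' : (r.support : Set (Fin n →₀ ℕ)) ⊆ Std := (mem_restrictSupport_iff (R := R)).mp hr
    exact hr' hsupp t ht hta

end Groth.Agent.Lib.Helper8.GenFree
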