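import Groth.Agent.Lib.Helper8.GenFree3

/-!
# Generic freeness, part 4 (helper8): generic exactness of fibres
-/

set_option autoImplicit false
set_option maxHeartbeats 400000

universe u v w

namespace Groth.Agent.Lib.Helper8.GenFree

open TensorProduct

section LemmaZ

variable {R' : Type*} [CommRing R'] {F' : Type*} {G' : Type*} {H' : Type*} {Q' : Type*}
  [AddCommGroup F'] [Module R' F'] [AddCommGroup G'] [Module R' G'] [AddCommGroup H'] [Module R' H']
  [AddCommGroup Q'] [Module R' Q']

/-- An exact sequence `F' → G' → H'` whose second map has projective cokernel stays exact after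
any base change. -/
theorem exact_baseChange_of_projective_coker (a' : F' →ₗ[R'] G') (b' : G' →ₗ[R'] H')
    (p' : H' →ₗ[R'] Q') (hab : Function.Exact a' b') (hbp : Function.Exact b' p')
    (hp : Function.Surjective p') [Module.Projective R' Q']
    (κ : Type*) [CommRing κ] [Algebra R' κ] :
    Function.Exact (a'.baseChange κ) (b'.baseChange κ) := by
  obtain ⟨σ, hσ⟩ := Module.projective_lifting_property p' LinearMap.id hp
  have hσ' : ∀ q, p' (σ q) = q := fun q => LinearMap.congr_fun hσ q
  let ρ : H' →ₗ[R'] H' := LinearMap.id - σ ∘ₗ p'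
  have hρ : ∀ h, ρ h ∈ LinearMap.range b' := by
    intro h
    rw [← hbp.linearMap_ker_eq, LinearMap.mem_ker]
    simp [ρ, hσ']
  let ρ₀ : H' →ₗ[R'] LinearMap.range b' := ρ.codRestrict _ hρ
  have hρ₀ : ρ₀ ∘ₗ (LinearMap.range b').subtype = LinearMap.id := by
    ext ⟨h, g, rfl⟩
    have : p' (b' g) = 0 := hbp.apply_apply_eq_zero g
    simp [ρ₀, ρ, this]
  have h1 : Function.Exact a' b'.rangeRestrict := by
    intro y
    rw [← hab y]
    constructor
    · intro h
      have := congrArg Subtype.val h
      simpa using this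
    · intro h
      exact Subtype.ext (by simpa using h)
  have h2 : Function.Exact (a'.baseChange κ) (b'.rangeRestrict.baseChange κ) := by
    rw [LinearMap.baseChange_eq_ltensor, LinearMap.baseChange_eq_ltensor]
    exact lTensor_exact κ h1 b'.surjective_rangeRestrict
  have h3 : b'.baseChange κ =
      ((LinearMap.range b').subtype.baseChange κ) ∘ₗ (b'.rangeRestrict.baseChange κ) := by
    rw [← LinearMap.baseChange_comp]
    congr 1
  have h4 : Function.Injective ((LinearMap.range b').subtype.baseChange κ) := by
    have : (ρ₀.baseChange κ) ∘ₗ ((LinearMap.range b').subtype.baseChange κ) = LinearMap.id := by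
      rw [← LinearMap.baseChange_comp, hρ₀, LinearMap.baseChange_id]
    exact Function.LeftInverse.injective (fun x => LinearMap.congr_fun this x)
  rw [h3]
  exact (Function.Injective.comp_exact_iff_exact h4).mpr h2

end LemmaZ

section Torsion

variable {R : Type u} [CommRing R] [IsDomain R]

/-- If `1 ⊗ m = 0` in `Frac R ⊗ M` then `m` is a torsion element. -/
theorem exists_ne_zero_smul_eq_zero_of_tmul_eq_zero {M : Type*} [AddCommGroup M] [Module R M]
    (m : M) (h : (1 : FractionRing R) ⊗ₜ[R] m = 0) : ∃ r : R, r ≠ 0 ∧ r • m = 0 := by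
  have h' : TensorProduct.mk R (FractionRing R) M 1 m = 0 := h
  rw [IsLocalizedModule.eq_zero_iff (nonZeroDivisors R)] at h'
  obtain ⟨s, hs⟩ := h'
  exact ⟨s.1, nonZeroDivisors.ne_zero s.2, hs⟩

/-- A torsion module embedded in a module whose base change to `R'` is torsion-free has zero
base change to `R'` (`R'` flat over `R`). -/
theorem subsingleton_tensor_of_torsion {N : Type*} {C : Type*} [AddCommGroup N] [Module R N]
    [AddCommGroup C] [Module R C] (i : N →ₗ[R] C) (hi : Function.Injective i)
    (htors : ∀ n : N, ∃ r : R, r ≠ 0 ∧ r • n = 0)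
    (R' : Type*) [CommRing R'] [IsDomain R'] [Algebra R R'] [Module.Flat R R']
    (hinj : Function.Injective (algebraMap R R')) [Module.Free R' (R' ⊗[R] C)] :
    Subsingleton (R' ⊗[R] N) := by
  have hi' : Function.Injective (i.baseChange R') := by
    rw [LinearMap.baseChange_eq_ltensor]
    exact Module.Flat.lTensor_preserves_injective_linearMap i hi
  have h1 : ∀ n : N, (1 : R') ⊗ₜ[R] n = 0 := by
    intro n
    obtain ⟨r, hr0, hr⟩ := htors n
    apply hi'
    rw [map_zero, LinearMap.baseChange_tmul]
    have h2 : algebraMap R R' r • ((1 : R') ⊗ₜ[R] i n) = 0 := by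
      rw [algebraMap_smul, ← TensorProduct.tmul_smul, ← map_smul, hr, map_zero,
        TensorProduct.tmul_zero]
    rcases smul_eq_zero.mp h2 with h3 | h3
    · exact absurd ((injective_iff_map_eq_zero _).mp hinj r h3) hr0
    · exact h3
  refine ⟨fun a b => ?_⟩
  have hz : ∀ z : R' ⊗[R] N, z = 0 := by
    intro z
    induction z using TensorProduct.induction_on with
    | zero => rfl
    | tmul r' n =>
      have : r' ⊗ₜ[R] n = r' • ((1 : R') ⊗ₜ[R] n) := by
        rw [TensorProduct.smul_tmul', smul_eq_mul, mul_one]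
      rw [this, h1, smul_zero]
    | add a b ha hb => rw [ha, hb, add_zero]
  rw [hz a, hz b]

end Torsion

section Transfer

variable {R : Type*} [CommRing R] (R' : Type*) [CommRing R'] [Algebra R R'] (κ : Type*) [CommRing κ]
  [Algebra R κ] [Algebra R' κ] [IsScalarTower R R' κ]
  {F : Type*} {G : Type*} {H : Type*} [AddCommGroup F] [Module R F] [AddCommGroup G] [Module R G]
  [AddCommGroup H] [Module R H]

theorem cancelBaseChange_natural (a : F →ₗ[R] G) :
    (a.baseChange κ) ∘ₗ (AlgebraTensorModule.cancelBaseChange R R' κ κ F).toLinearMap =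
      (AlgebraTensorModule.cancelBaseChange R R' κ κ G).toLinearMap ∘ₗ
        ((a.baseChange R').baseChange κ) := by
  ext x
  simp

theorem exact_baseChange_of_exact_baseChange_baseChange (a : F →ₗ[R] G) (b : G →ₗ[R] H)
    (h : Function.Exact ((a.baseChange R').baseChange κ) ((b.baseChange R').baseChange κ)) :
    Function.Exact (a.baseChange κ) (b.baseChange κ) :=
  Function.Exact.of_ladder_linearEquiv_of_exact
    (e₁ := AlgebraTensorModule.cancelBaseChange R R' κ κ F)
    (e₂ := AlgebraTensorModule.cancelBaseChange R R' κ κ G)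
    (e₃ := AlgebraTensorModule.cancelBaseChange R R' κ κ H)
    (cancelBaseChange_natural R' κ a) (cancelBaseChange_natural R' κ b) h

end Transfer

section Main

variable {R : Type u} [CommRing R] [IsDomain R] {B : Type u} [CommRing B] [Algebra R B]
  [Algebra.FiniteType R B]
  {F G H : Type u} [AddCommGroup F] [Module B F] [Module R F] [IsScalarTower R B F]
  [AddCommGroup G] [Module B G] [Module R G] [IsScalarTower R B G] [Module.Finite B G]
  [AddCommGroup H] [Module B H] [Module R H] [IsScalarTower R B H] [Module.Finite B H]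

/-- **Generic exactness**: if `F → G → H` is exact after tensoring with the fraction field of the
domain `R`, then it is exact after tensoring with any `R`-algebra in which a suitable non-zero
`f : R` becomes invertible. -/
theorem exists_exact_baseChange (u : F →ₗ[B] G) (v : G →ₗ[B] H)
    (hgen : Function.Exact ((u.restrictScalars R).baseChange (FractionRing R))
      ((v.restrictScalars R).baseChange (FractionRing R))) :
    ∃ f : R, f ≠ 0 ∧ ∀ (κ : Type u) [CommRing κ] [Algebra R κ], IsUnit (algebraMap R κ f) →
      Function.Exact ((u.restrictScalars R).baseChange κ) ((v.restrictScalars R).baseChange κ) := by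
  classical
  -- the auxiliary finite `B`-modules
  obtain ⟨f₁, h10, h1⟩ := gf_of_finiteType (R := R) B (G ⧸ LinearMap.range u)
  obtain ⟨f₂, h20, h2⟩ := gf_of_finiteType (R := R) B H
  obtain ⟨f₃, h30, h3⟩ := gf_of_finiteType (R := R) B (H ⧸ LinearMap.range v)
  have hf0 : f₁ * f₂ * f₃ ≠ 0 := mul_ne_zero (mul_ne_zero h10 h20) h30
  refine ⟨f₁ * f₂ * f₃, hf0, ?_⟩
  -- the localization
  let R' := Localization.Away (f₁ * f₂ * f₃)
  have hle : Submonoid.powers (f₁ * f₂ * f₃) ≤ nonZeroDivisors R :=
    powers_le_nonZeroDivisors_of_noZeroDivisors hf0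
  have hdom : IsDomain R' := IsLocalization.isDomain_localization hle
  have hinj : Function.Injective (algebraMap R R') := IsLocalization.injective _ hle
  have hu : IsUnit (algebraMap R R' (f₁ * f₂ * f₃)) := IsLocalization.Away.algebraMap_isUnit _
  have hu' := hu
  rw [map_mul, map_mul] at hu'
  have hfreeC : Module.Free R' (R' ⊗[R] (G ⧸ LinearMap.range u)) :=
    h1 R' (isUnit_of_mul_isUnit_left (isUnit_of_mul_isUnit_left hu'))
  have hfreeH : Module.Free R' (R' ⊗[R] H) :=
    h2 R' (isUnit_of_mul_isUnit_right (isUnit_of_mul_isUnit_left hu'))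
  have hfreeQ : Module.Free R' (R' ⊗[R] (H ⧸ LinearMap.range v)) :=
    h3 R' (isUnit_of_mul_isUnit_right hu')
  let uR : F →ₗ[R] G := u.restrictScalars R
  let vR : G →ₗ[R] H := v.restrictScalars R
  -- Step A: `v ∘ u` vanishes after base change to `R'`
  let M₁ : Submodule R H := LinearMap.range (vR ∘ₗ uR)
  have hM₁tors : ∀ m : M₁, ∃ r : R, r ≠ 0 ∧ r • m = 0 := by
    rintro ⟨m, x, rfl⟩
    have h0 : (1 : FractionRing R) ⊗ₜ[R] (v (u x)) = 0 := by
      have := hgen.apply_apply_eq_zero ((1 : FractionRing R) ⊗ₜ[R] x)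
      simpa using this
    obtain ⟨r, hr0, hr⟩ := exists_ne_zero_smul_eq_zero_of_tmul_eq_zero _ h0
    exact ⟨r, hr0, Subtype.ext hr⟩
  have hM₁ : Subsingleton (R' ⊗[R] M₁) :=
    subsingleton_tensor_of_torsion M₁.subtype M₁.injective_subtype hM₁tors R' hinj
  have hvu : (vR ∘ₗ uR).baseChange R' = 0 := by
    have : vR ∘ₗ uR = M₁.subtype ∘ₗ (vR ∘ₗ uR).rangeRestrict := by
      ext x
      rfl
    rw [this, LinearMap.baseChange_comp]
    ext x
    have : ((vR ∘ₗ uR).rangeRestrict.baseChange R') ((1 : R') ⊗ₜ[R] x) = 0 := Subsingleton.elim _ _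
    simp [this]
  -- Step B: the induced map on the cokernel of `u` is injective after base change to `R'`
  let q : G →ₗ[B] (G ⧸ LinearMap.range u) := (LinearMap.range u).mkQ
  let π : H →ₗ[B] (H ⧸ LinearMap.range (v ∘ₗ u)) := (LinearMap.range (v ∘ₗ u)).mkQ
  have hle' : LinearMap.range u ≤ LinearMap.ker (π ∘ₗ v) := by
    rintro _ ⟨x, rfl⟩
    rw [LinearMap.mem_ker, LinearMap.comp_apply, Submodule.mkQ_apply, Submodule.Quotient.mk_eq_zero]
    exact ⟨x, rfl⟩
  let w : (G ⧸ LinearMap.range u) →ₗ[B] (H ⧸ LinearMap.range (v ∘ₗ u)) :=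
    (LinearMap.range u).liftQ (π ∘ₗ v) hle'
  have hwq : ∀ g : G, w (q g) = π (v g) := fun g => rfl
  let N : Submodule B (G ⧸ LinearMap.range u) := LinearMap.ker w
  have hNtors : ∀ n : N, ∃ r : R, r ≠ 0 ∧ r • n = 0 := by
    rintro ⟨c, hc⟩
    obtain ⟨g, rfl⟩ := (LinearMap.range u).mkQ_surjective c
    have hc' : π (v g) = 0 := hc
    rw [Submodule.mkQ_apply, Submodule.Quotient.mk_eq_zero] at hc'
    obtain ⟨x, hx⟩ := hc'
    have hker : v (g - u x) = 0 := by
      rw [map_sub, ← hx]
      exact sub_self _
    have h0 : (vR.baseChange (FractionRing R)) ((1 : FractionRing R) ⊗ₜ[R] (g - u x)) = 0 := by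
      rw [LinearMap.baseChange_tmul]
      show (1 : FractionRing R) ⊗ₜ[R] v (g - u x) = 0
      rw [hker, TensorProduct.tmul_zero]
    obtain ⟨y, hy⟩ := (hgen _).mp h0
    obtain ⟨⟨x', s⟩, hs⟩ := IsLocalizedModule.surj (nonZeroDivisors R)
      (TensorProduct.mk R (FractionRing R) F 1) y
    have h4 : (1 : FractionRing R) ⊗ₜ[R] ((s : R) • (g - u x) - u x') = 0 := by
      rw [TensorProduct.tmul_sub, TensorProduct.tmul_smul, ← hy]
      have : (s : R) • (uR.baseChange (FractionRing R)) y =
          (uR.baseChange (FractionRing R)) ((s : R) • y) := by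
        rw [LinearMap.map_smul_of_tower]
      rw [this]
      have hs' : (s : R) • y = (1 : FractionRing R) ⊗ₜ[R] x' := hs
      rw [hs', LinearMap.baseChange_tmul]
      exact sub_self _
    obtain ⟨r, hr0, hr⟩ := exists_ne_zero_smul_eq_zero_of_tmul_eq_zero _ h4
    refine ⟨r * (s : R), mul_ne_zero hr0 (nonZeroDivisors.ne_zero s.2), Subtype.ext ?_⟩
    show (r * (s : R)) • (LinearMap.range u).mkQ g = 0
    have h5 : (r * (s : R)) • g = u (r • x' + (r * (s : R)) • x) := by
      have h6 : r • ((s : R) • (g - u x)) = r • u x' := by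
        rw [← sub_eq_zero, ← smul_sub]
        exact hr
      rw [map_add, LinearMap.map_smul_of_tower, LinearMap.map_smul_of_tower, ← h6]
      simp only [mul_smul, smul_sub]
      abel
    rw [← LinearMap.map_smul_of_tower, h5, Submodule.mkQ_apply, Submodule.Quotient.mk_eq_zero]
    exact ⟨_, rfl⟩
  have hN : Subsingleton (R' ⊗[R] N) :=
    subsingleton_tensor_of_torsion (N.subtype.restrictScalars R) N.injective_subtype hNtors R' hinj
  let wR : (G ⧸ LinearMap.range u) →ₗ[R] (H ⧸ LinearMap.range (v ∘ₗ u)) := w.restrictScalars R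
  have hwinj : Function.Injective (wR.baseChange R') := by
    have hex : Function.Exact ((N.subtype.restrictScalars R).baseChange R') (wR.baseChange R') := by
      rw [LinearMap.baseChange_eq_ltensor, LinearMap.baseChange_eq_ltensor]
      exact Module.Flat.lTensor_exact R' (LinearMap.exact_subtype_ker_map w)
    rw [injective_iff_map_eq_zero]
    intro y hy
    obtain ⟨z, rfl⟩ := (hex y).mp hy
    rw [Subsingleton.elim z 0, map_zero]
  -- Step C: exactness over `R'`
  let qR : G →ₗ[R] (G ⧸ LinearMap.range u) := q.restrictScalars R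
  have hexq : Function.Exact (uR.baseChange R') (qR.baseChange R') := by
    rw [LinearMap.baseChange_eq_ltensor, LinearMap.baseChange_eq_ltensor]
    exact lTensor_exact R' (LinearMap.exact_map_mkQ_range u) (LinearMap.range u).mkQ_surjective
  have hexR' : Function.Exact (uR.baseChange R') (vR.baseChange R') := by
    intro y
    constructor
    · intro hy
      apply (hexq y).mp
      apply hwinj
      rw [map_zero]
      have hcomp : (wR.baseChange R') ∘ₗ (qR.baseChange R') =
          ((π.restrictScalars R).baseChange R') ∘ₗ (vR.baseChange R') := by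
        rw [← LinearMap.baseChange_comp, ← LinearMap.baseChange_comp]
        congr 1
      have := LinearMap.congr_fun hcomp y
      simp only [LinearMap.comp_apply] at this
      rw [this, hy, map_zero]
    · rintro ⟨z, rfl⟩
      have := LinearMap.congr_fun hvu z
      rw [LinearMap.baseChange_comp] at this
      exact this
  -- Step D: projective cokernel
  let pR : H →ₗ[R] (H ⧸ LinearMap.range v) := (LinearMap.range v).mkQ.restrictScalars R
  have hexp : Function.Exact (vR.baseChange R') (pR.baseChange R') := by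
    rw [LinearMap.baseChange_eq_ltensor, LinearMap.baseChange_eq_ltensor]
    exact lTensor_exact R' (LinearMap.exact_map_mkQ_range v) (LinearMap.range v).mkQ_surjective
  have hpsurj : Function.Surjective (pR.baseChange R') := by
    rw [LinearMap.baseChange_eq_ltensor]
    exact LinearMap.lTensor_surjective R' (LinearMap.range v).mkQ_surjective
  -- Step E/F
  intro κ _ _ hκ
  let φ : R' →+* κ := IsLocalization.Away.lift (f₁ * f₂ * f₃) hκ
  let _ : Algebra R' κ := φ.toAlgebra
  have : IsScalarTower R R' κ := IsScalarTower.of_algebraMap_eq (fun r => by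
    show algebraMap R κ r = φ (algebraMap R R' r)
    exact (IsLocalization.Away.lift_eq (f₁ * f₂ * f₃) hκ r).symm)
  have hE := exact_baseChange_of_projective_coker (uR.baseChange R') (vR.baseChange R')
    (pR.baseChange R') hexR' hexp hpsurj κ
  exact exact_baseChange_of_exact_baseChange_baseChange R' κ uR vR hE

end Main

end Groth.Agent.Lib.Helper8.GenFree
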