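import Groth.Agent.Lib.Helper8.GenFree3

/-!
# Generic freeness over a reduced ring, part 1 (helper8)

Pseudo-division over an arbitrary commutative ring and the choice of a localization in which the
leading exponents of an ideal are as large as possible.
-/

set_option autoImplicit false
set_option maxHeartbeats 400000

namespace Groth.Agent.Lib.Helper8.GenFree

open MvPolynomial MonomialOrder

variable {σ : Type*} (m : MonomialOrder σ) {R : Type*} [CommRing R]

theorem eq_zero_or_degree_lt_of_coeff_eq_zero {q : MvPolynomial σ R} {a : σ →₀ ℕ}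
    (hq : m.degree q ≼[m] a) (hc : q.coeff a = 0) : q = 0 ∨ m.degree q ≺[m] a := by
  by_cases h : q = 0
  · exact Or.inl h
  · right
    refine lt_of_le_of_ne hq ?_
    intro heq
    have heq' : m.degree q = a := m.toSyn.injective heq
    have h1 : q.coeff (m.degree q) ≠ 0 := by
      rw [coeff_degree_ne_zero_iff]
      exact h
    apply h1
    rw [heq']
    exact hc

theorem sub_eq_zero_or_degree_lt' {p q : MvPolynomial σ R} {a : σ →₀ ℕ}
    (hp : m.degree p ≼[m] a) (hq : m.degree q ≼[m] a) (hc : p.coeff a = q.coeff a) :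
    p - q = 0 ∨ m.degree (p - q) ≺[m] a := by
  refine eq_zero_or_degree_lt_of_coeff_eq_zero m ?_ ?_
  · refine le_trans degree_sub_le ?_
    exact sup_le hp hq
  · rw [coeff_sub, hc, sub_self]

theorem degree_C_mul_le (f : R) (p : MvPolynomial σ R) : m.degree (C f * p) ≼[m] m.degree p := by
  rw [← smul_eq_C_mul]
  exact degree_smul_le

/-- Pseudo-division over an arbitrary commutative ring. -/
theorem pseudo_div' (T : Finset (σ →₀ ℕ)) (b : (σ →₀ ℕ) → MvPolynomial σ R)
    (hb : ∀ t ∈ T, m.degree (b t) = t) (f : R)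
    (hf : ∀ t ∈ T, m.leadingCoeff (b t) ∣ f) (p : MvPolynomial σ R) :
    ∃ (k : ℕ) (q r : MvPolynomial σ R), C (f ^ k) * p = q + r ∧
      q ∈ Ideal.span (b '' (T : Set (σ →₀ ℕ))) ∧ ∀ a ∈ r.support, ∀ t ∈ T, ¬ t ≤ a := by
  classical
  induction' h : m.toSyn (m.degree p) using WellFoundedLT.induction with s ih generalizing p
  by_cases hp : p = 0
  · exact ⟨0, 0, 0, by simp [hp], Ideal.zero_mem _, by simp⟩
  by_cases hex : ∃ t ∈ T, t ≤ m.degree p
  · obtain ⟨t, htT, hta⟩ := hex
    obtain ⟨e, he⟩ := hf t htT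
    have hd1 : m.degree (C f * p) ≼[m] m.degree p := degree_C_mul_le m f p
    have hd2 : m.degree (monomial (m.degree p - t) (m.leadingCoeff p * e) * b t) ≼[m]
        m.degree p := by
      refine le_trans degree_mul_le ?_
      have h1 : m.degree (monomial (m.degree p - t) (m.leadingCoeff p * e)) ≼[m]
          (m.degree p - t) := degree_monomial_le _
      have h2 : m.toSyn (m.degree p) = m.toSyn (m.degree p - t) + m.toSyn t := by
        rw [← map_add, tsub_add_cancel_of_le hta]
      rw [map_add, h2, hb t htT]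
      exact add_le_add_left h1 _
    have hc : (C f * p).coeff (m.degree p) =
        (monomial (m.degree p - t) (m.leadingCoeff p * e) * b t).coeff (m.degree p) := by
      have h3 : (monomial (m.degree p - t) (m.leadingCoeff p * e) * b t).coeff
          ((m.degree p - t) + t) = m.leadingCoeff p * e * (b t).coeff t := coeff_monomial_mul _ _ _ _
      rw [tsub_add_cancel_of_le hta] at h3
      rw [h3, coeff_C_mul]
      have h4 : (b t).coeff t = m.leadingCoeff (b t) := by
        rw [leadingCoeff, hb t htT]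
      rw [h4, he]
      show m.leadingCoeff (b t) * e * m.leadingCoeff p = m.leadingCoeff p * e * m.leadingCoeff (b t)
      ring
    have hbmem : b t ∈ Ideal.span (b '' (T : Set (σ →₀ ℕ))) := Ideal.subset_span ⟨t, htT, rfl⟩
    rcases sub_eq_zero_or_degree_lt' m hd1 hd2 hc with h0 | hlt
    · refine ⟨1, monomial (m.degree p - t) (m.leadingCoeff p * e) * b t, 0, ?_, ?_, by simp⟩
      · rw [pow_one, add_zero]
        exact sub_eq_zero.mp h0
      · exact Ideal.mul_mem_left _ _ hbmem
    · obtain ⟨k, q, r, h1, h2, h3⟩ := ih _ (by rw [← h]; exact hlt)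
        (C f * p - monomial (m.degree p - t) (m.leadingCoeff p * e) * b t) rfl
      refine ⟨k + 1, q + C (f ^ k) * (monomial (m.degree p - t) (m.leadingCoeff p * e) * b t), r,
        ?_, ?_, h3⟩
      · have : C (f ^ (k + 1)) * p =
            C (f ^ k) * (C f * p - monomial (m.degree p - t) (m.leadingCoeff p * e) * b t) +
              C (f ^ k) * (monomial (m.degree p - t) (m.leadingCoeff p * e) * b t) := by
          rw [pow_succ, C_mul]
          ring
        rw [this, h1]
        ring
      · exact Ideal.add_mem _ h2 (Ideal.mul_mem_left _ _ (Ideal.mul_mem_left _ _ hbmem))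
  · push Not at hex
    by_cases hsub : m.subLTerm p = 0
    · refine ⟨0, 0, p, by simp, Ideal.zero_mem _, ?_⟩
      have hp' : p = monomial (m.degree p) (m.leadingCoeff p) := by
        simpa [subLTerm, sub_eq_zero] using hsub
      intro a' ha' t ht
      rw [hp'] at ha'
      have h5 := support_monomial_subset ha'
      rw [Finset.mem_singleton] at h5
      rw [h5]
      exact hex t ht
    · have hlt : m.degree (m.subLTerm p) ≺[m] m.degree p := by
        apply degree_sub_LTerm_lt
        intro hd0
        apply hsub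
        simp only [subLTerm, sub_eq_zero]
        nth_rewrite 1 [eq_C_of_degree_eq_zero hd0, hd0]
        simp
      obtain ⟨k, q, r, h1, h2, h3⟩ := ih _ (by rw [← h]; exact hlt) (m.subLTerm p) rfl
      refine ⟨k, q, r + monomial (m.degree p) (f ^ k * m.leadingCoeff p), ?_, h2, ?_⟩
      · have : p = m.subLTerm p + monomial (m.degree p) (m.leadingCoeff p) := by simp [subLTerm]
        rw [this, mul_add, h1, C_mul_monomial]
        simp only [subLTerm, sub_add_cancel]
        ring
      · intro a' ha' t ht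
        by_cases hr : a' ∈ r.support
        · exact h3 a' hr t ht
        · have h4 := MvPolynomial.support_add ha'
          rw [Finset.mem_union] at h4
          have h5 := support_monomial_subset (h4.resolve_left hr)
          rw [Finset.mem_singleton] at h5
          rw [h5]
          exact hex t ht

/-- Structure of an ideal of a polynomial ring over a reduced ring after inverting one element
(chosen among the multiples of a given non-nilpotent `g`): standard monomials span modulo `I` up to
powers of `f`, and are independent modulo `I` up to powers of `f`. -/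
theorem exists_standard' [IsReduced R] (n : ℕ) (I : Ideal (MvPolynomial (Fin n) R)) (g : R)
    (hg : ¬ IsNilpotent g) :
    ∃ (f : R) (Std : Set (Fin n →₀ ℕ)) (B : Finset (MvPolynomial (Fin n) R)), g ∣ f ∧
      ¬ IsNilpotent f ∧ (B : Set (MvPolynomial (Fin n) R)) ⊆ I ∧
      (∀ p : MvPolynomial (Fin n) R, ∃ (k : ℕ) (q r : MvPolynomial (Fin n) R),
        C (f ^ k) * p = q + r ∧ q ∈ Ideal.span (B : Set (MvPolynomial (Fin n) R)) ∧
          r ∈ restrictSupport R Std) ∧
      (∀ r ∈ restrictSupport R Std, r ∈ I → ∃ k : ℕ, C (f ^ k) * r = 0) := by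
  classical
  let m : MonomialOrder (Fin n) := MonomialOrder.lex
  let V : R → Set (Fin n →₀ ℕ) := fun h =>
    {a | ∃ p ∈ I, m.degree p = a ∧ ∃ k : ℕ, m.leadingCoeff p ∣ h ^ k}
  let J : R → Ideal (MvPolynomial (Fin n) ℚ) := fun h =>
    Ideal.span ((fun s => monomial s (1 : ℚ)) '' V h)
  let 𝒮 : Set (Ideal (MvPolynomial (Fin n) ℚ)) := {K | ∃ h, g ∣ h ∧ ¬ IsNilpotent h ∧ K = J h}
  have hne : 𝒮.Nonempty := ⟨J g, g, dvd_rfl, hg, rfl⟩
  obtain ⟨K, ⟨h, hgh, hh, rfl⟩, hmax⟩ :=
    WellFounded.has_min (wellFounded_gt : WellFounded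
      (fun a b : Ideal (MvPolynomial (Fin n) ℚ) => a > b)) 𝒮 hne
  obtain ⟨T, hTU, hT⟩ := dickson (V h)
  have hch : ∀ t : Fin n →₀ ℕ, ∃ (p : MvPolynomial (Fin n) R) (k : ℕ),
      t ∈ T → (p ∈ I ∧ m.degree p = t ∧ m.leadingCoeff p ∣ h ^ k) := by
    intro t
    by_cases ht : t ∈ T
    · obtain ⟨p, hpI, hpd, k, hk⟩ := hTU ht
      exact ⟨p, k, fun _ => ⟨hpI, hpd, hk⟩⟩
    · exact ⟨0, 0, fun h => absurd h ht⟩
  choose b kk hb using hch
  let N : ℕ := ∑ t ∈ T, kk t
  let f : R := h ^ (N + 1)
  have hhf : h ∣ f := dvd_pow_self h (Nat.succ_ne_zero N)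
  let Std : Set (Fin n →₀ ℕ) := {a | ∀ t ∈ T, ¬ t ≤ a}
  -- independence up to powers of `h`
  have hind : ∀ r : MvPolynomial (Fin n) R, r ∈ I → (∀ a ∈ r.support, a ∈ Std) →
      ∃ k : ℕ, C (h ^ k) * r = 0 := by
    intro r
    induction' hs : m.toSyn (m.degree r) using WellFoundedLT.induction with s ih generalizing r
    intro hrI hrS
    by_cases hr0 : r = 0
    · exact ⟨0, by rw [hr0, mul_zero]⟩
    have haS : m.degree r ∈ Std := hrS _ (degree_mem_support hr0)
    have hc0 : h * m.leadingCoeff r = 0 := by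
      by_contra hne0
      have hnil : ¬ IsNilpotent (h * m.leadingCoeff r) := fun hn => hne0 (IsReduced.eq_zero _ hn)
      have hVV : V h ⊆ V (h * m.leadingCoeff r) := by
        rintro a ⟨p, hpI, hpd, k, hk⟩
        refine ⟨p, hpI, hpd, k, ?_⟩
        rw [mul_pow]
        exact Dvd.dvd.mul_right hk _
      have hle : J h ≤ J (h * m.leadingCoeff r) := Ideal.span_mono (Set.image_mono hVV)
      have hmem : m.degree r ∈ V (h * m.leadingCoeff r) :=
        ⟨r, hrI, rfl, 1, by rw [pow_one]; exact Dvd.intro_left _ rfl⟩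
      have heq : J (h * m.leadingCoeff r) = J h := by
        by_contra hne'
        exact hmax _ ⟨h * m.leadingCoeff r, Dvd.dvd.mul_right hgh _, hnil, rfl⟩
          (lt_of_le_of_ne hle (Ne.symm hne'))
      have h1 : monomial (m.degree r) (1 : ℚ) ∈ J h := by
        rw [← heq]
        exact Ideal.subset_span ⟨_, hmem, rfl⟩
      rw [mem_ideal_span_monomial_image] at h1
      obtain ⟨a', ha', ha'le⟩ := h1 (m.degree r) (by simp)
      obtain ⟨t, ht, hta⟩ := hT a' ha'
      exact haS t ht (hta.trans ha'le)
    have hr'I : C h * r ∈ I := I.mul_mem_left _ hrI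
    have hr'S : ∀ a ∈ (C h * r).support, a ∈ Std := by
      intro a ha
      rw [← smul_eq_C_mul] at ha
      exact hrS a (support_smul ha)
    have hcoef : (C h * r).coeff (m.degree r) = 0 := by
      rw [coeff_C_mul]
      exact hc0
    rcases eq_zero_or_degree_lt_of_coeff_eq_zero m (degree_C_mul_le m h r) hcoef with h0 | hlt
    · exact ⟨1, by rw [pow_one]; exact h0⟩
    · obtain ⟨k, hk⟩ := ih _ (by rw [← hs]; exact hlt) (C h * r) rfl hr'I hr'S
      refine ⟨k + 1, ?_⟩
      rw [pow_succ, C_mul, mul_assoc]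
      exact hk
  refine ⟨f, Std, T.image b, hgh.trans hhf, fun hn => hh (IsNilpotent.of_pow hn), ?_, ?_, ?_⟩
  · intro x hx
    rw [Finset.coe_image] at hx
    obtain ⟨t, ht, rfl⟩ := hx
    exact (hb t ht).1
  · intro p
    obtain ⟨k, q, r, h1, h2, h3⟩ := pseudo_div' m T b (fun t ht => (hb t ht).2.1) f
      (fun t ht => by
        refine (hb t ht).2.2.trans (pow_dvd_pow h ?_)
        have : kk t ≤ N := Finset.single_le_sum (f := kk) (fun _ _ => Nat.zero_le _) ht
        omega) p
    refine ⟨k, q, r, h1, ?_, ?_⟩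
    · rw [Finset.coe_image]
      exact h2
    · rw [mem_restrictSupport_iff]
      intro a ha
      exact h3 a ha
  · intro r hr hrI
    have hr' : (r.support : Set (Fin n →₀ ℕ)) ⊆ Std := (mem_restrictSupport_iff (R := R)).mp hr
    obtain ⟨k, hk⟩ := hind r hrI (fun a ha => hr' ha)
    refine ⟨k, ?_⟩
    have : f ^ k = h ^ (N * k) * h ^ k := by
      show (h ^ (N + 1)) ^ k = _
      rw [← pow_mul, ← pow_add]
      congr 1
      ring
    rw [this, C_mul, mul_assoc, hk, mul_zero]

end Groth.Agent.Lib.Helper8.GenFree
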