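import Mathlib
import Groth.Agent.Lib.Helper8.HD2
import Groth.Agent.Lib.Helper73.DimField

set_option autoImplicit false
set_option linter.style.haveILetI false
set_option maxHeartbeats 400000
universe u

namespace Groth.Agent.Lib.Helper8.HD

open TensorProduct IsLocalRing RingTheory.Sequence

/-- the quotient of a localization at a prime `Q` by the extension of an ideal `J` such that all
primes containing `J` are maximal has Krull dimension `≤ 0` -/
theorem krullDimLE_zero_quot {R : Type*} [CommRing R] (J Q : Ideal R) [Q.IsPrime] (F : Type*)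
    [CommRing F] [Algebra R F] [IsLocalization.AtPrime F Q]
    (h0 : ∀ 𝔓 : Ideal R, 𝔓.IsPrime → J ≤ 𝔓 → 𝔓.IsMaximal) :
    Ring.KrullDimLE 0 (F ⧸ J.map (algebraMap R F)) := by
  haveI : IsLocalRing F := IsLocalization.AtPrime.isLocalRing F Q
  apply Ring.KrullDimLE.mk₀
  intro 𝔓 h𝔓
  have h𝔓₀ : (𝔓.comap (Ideal.Quotient.mk (J.map (algebraMap R F)))).IsPrime :=
    Ideal.comap_isPrime _ _
  set 𝔓₀ := 𝔓.comap (Ideal.Quotient.mk (J.map (algebraMap R F))) with h𝔓₀def
  have hK : J.map (algebraMap R F) ≤ 𝔓₀ := by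
    intro x hx
    rw [h𝔓₀def, Ideal.mem_comap, Ideal.Quotient.eq_zero_iff_mem.2 hx]
    exact Ideal.zero_mem _
  have h𝔓' : (𝔓₀.comap (algebraMap R F)).IsPrime := Ideal.comap_isPrime _ _
  have hJ : J ≤ 𝔓₀.comap (algebraMap R F) :=
    Ideal.le_comap_map.trans (Ideal.comap_mono hK)
  have hmax := h0 _ h𝔓' hJ
  have hle : 𝔓₀.comap (algebraMap R F) ≤ Q := by
    rw [← IsLocalization.AtPrime.under_maximalIdeal F Q]
    exact Ideal.comap_mono (IsLocalRing.le_maximalIdeal h𝔓₀.ne_top)
  have heq : 𝔓₀.comap (algebraMap R F) = Q :=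
    hmax.eq_of_le (Ideal.IsPrime.ne_top inferInstance) hle
  have h1 : 𝔓₀ = maximalIdeal F := by
    have h3 := IsLocalization.map_under Q.primeCompl F 𝔓₀
    have h4 : Ideal.under R 𝔓₀ = Q := heq
    rw [h4, IsLocalization.AtPrime.map_eq_maximalIdeal] at h3
    exact h3.symm
  have h2 : 𝔓 = 𝔓₀.map (Ideal.Quotient.mk (J.map (algebraMap R F))) :=
    (Ideal.map_comap_of_surjective _ Ideal.Quotient.mk_surjective 𝔓).symm
  rw [h2, h1]
  rcases Ideal.map_eq_top_or_isMaximal_of_surjective (Ideal.Quotient.mk (J.map (algebraMap R F)))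
    Ideal.Quotient.mk_surjective (maximalIdeal.isMaximal F) with h | h
  · exfalso
    rw [← h1, ← h2] at h
    exact h𝔓.ne_top h
  · exact h

section Count

variable {A : Type u} [CommRing A] (n : ℕ)

local notation "P" => MvPolynomial (Fin n) A

/-- dimension of the fibre ring of the polynomial ring -/
theorem ringKrullDim_fiber_mvPolynomial (κ : Type u) [Field κ] [Algebra A κ] :
    ringKrullDim (κ ⊗[A] P) = n := by
  have e : κ ⊗[A] P ≃ₐ[κ] MvPolynomial (Fin n) κ := MvPolynomial.algebraTensorAlgEquiv A κ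
  rw [ringKrullDim_eq_of_ringEquiv e.toRingEquiv, MvPolynomial.ringKrullDim_of_isNoetherianRing,
    ringKrullDim_eq_zero_of_field]
  simp

/-- **count**: if the fibre of `P/I` over `p` is finite, the regular sequence generating the
fibre ideal at a prime has as many elements as there are variables. -/
theorem length_eq_of_finite_fibre (I : Ideal P) (p : Ideal A) [p.IsPrime] (𝔮 : Ideal P)
    [𝔮.IsPrime] [𝔮.LiesOver p] (hI𝔮 : I ≤ 𝔮)
    (hfin : Module.Finite p.ResidueField (p.ResidueField ⊗[A] (P ⧸ I)))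
    (f : List P) (hfI : ∀ x ∈ f, x ∈ I)
    (hreg : IsWeaklyRegular (FF p 𝔮) (f.map (algebraMap P (Localization.AtPrime 𝔮))))
    (hspan : I.map ((Ideal.Quotient.mk ((maximalIdeal (Localization.AtPrime p)).map (sig p 𝔮))).comp
          (algebraMap P (Localization.AtPrime 𝔮))) =
        Ideal.ofList (f.map ((Ideal.Quotient.mk
          ((maximalIdeal (Localization.AtPrime p)).map (sig p 𝔮))).comp
          (algebraMap P (Localization.AtPrime 𝔮))))) :
    f.length = n := by
  letI alg : Algebra (p.Fiber P) (FF p 𝔮) := (phi p 𝔮).toRingHom.toAlgebra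
  haveI hloc : IsLocalization.AtPrime (FF p 𝔮) (QQ p 𝔮) := isLocalization_FF p 𝔮
  set ψ : P →+* FF p 𝔮 := (Ideal.Quotient.mk ((maximalIdeal (Localization.AtPrime p)).map
    (sig p 𝔮))).comp (algebraMap P (Localization.AtPrime 𝔮)) with hψ
  set J : Ideal (p.Fiber P) := I.map
      (Algebra.TensorProduct.includeRight (R := A) (A := p.ResidueField) (B := P)) with hJ
  -- primes containing `J` are maximal
  have h0 : ∀ 𝔓 : Ideal (p.Fiber P), 𝔓.IsPrime → J ≤ 𝔓 → 𝔓.IsMaximal := by
    intro 𝔓 h𝔓 hle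
    haveI : Module.Finite p.ResidueField ((p.Fiber P) ⧸ J) :=
      Module.Finite.equiv
        (Algebra.TensorProduct.tensorQuotientEquiv (R := A) p.ResidueField P p.ResidueField
          I).toLinearEquiv
    haveI : IsArtinianRing ((p.Fiber P) ⧸ J) := IsArtinianRing.of_finite p.ResidueField _
    have hker : RingHom.ker (Ideal.Quotient.mk J) ≤ 𝔓 := by rw [Ideal.mk_ker]; exact hle
    haveI : (𝔓.map (Ideal.Quotient.mk J)).IsPrime :=
      Ideal.map_isPrime_of_surjective Ideal.Quotient.mk_surjective hker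
    have hmax : (𝔓.map (Ideal.Quotient.mk J)).IsMaximal :=
      IsArtinianRing.isMaximal_of_isPrime (𝔓.map (Ideal.Quotient.mk J))
    have hcomap : (𝔓.map (Ideal.Quotient.mk J)).comap (Ideal.Quotient.mk J) = 𝔓 := by
      rw [Ideal.comap_map_of_surjective _ Ideal.Quotient.mk_surjective, ← RingHom.ker_eq_comap_bot,
        sup_eq_left]
      exact hker
    rw [← hcomap]
    exact Ideal.comap_isMaximal_of_surjective _ Ideal.Quotient.mk_surjective
  -- `ψ` and the localization
  have hcomp : (algebraMap (p.Fiber P) (FF p 𝔮)).comp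
      (Algebra.TensorProduct.includeRight (R := A) (A := p.ResidueField) (B := P)).toRingHom = ψ := by
    refine RingHom.ext fun x => ?_
    exact phi_one_tmul p 𝔮 x
  have hJψ : J.map (algebraMap (p.Fiber P) (FF p 𝔮)) = I.map ψ := by
    rw [hJ]
    have := Ideal.map_map (I := I)
      (Algebra.TensorProduct.includeRight (R := A) (A := p.ResidueField) (B := P)).toRingHom
      (algebraMap (p.Fiber P) (FF p 𝔮))
    rw [hcomp] at this
    exact this
  have hψmem : ∀ i ∈ 𝔮, ψ i ∈ maximalIdeal (FF p 𝔮) := by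
    intro i hi
    have h1 : algebraMap P (Localization.AtPrime 𝔮) i ∈ maximalIdeal (Localization.AtPrime 𝔮) := by
      rw [← IsLocalization.AtPrime.map_eq_maximalIdeal 𝔮 (Localization.AtPrime 𝔮)]
      exact Ideal.mem_map_of_mem _ hi
    intro hu
    have hu' : IsUnit ((Ideal.Quotient.mk ((maximalIdeal (Localization.AtPrime p)).map
        (sig p 𝔮))) (algebraMap P (Localization.AtPrime 𝔮) i)) := hu
    haveI : IsLocalHom (Ideal.Quotient.mk ((maximalIdeal (Localization.AtPrime p)).map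
        (sig p 𝔮))) := IsLocalHom.of_surjective _ Ideal.Quotient.mk_surjective
    exact h1 (isUnit_of_map_unit _ _ hu')
  have hJQ : J ≤ QQ p 𝔮 := by
    rw [hJ, Ideal.map_le_iff_le_comap]
    intro i hi
    show phi p 𝔮 (1 ⊗ₜ i) ∈ maximalIdeal (FF p 𝔮)
    rw [phi_one_tmul]
    exact hψmem i (hI𝔮 hi)
  haveI hQmax : (QQ p 𝔮).IsMaximal := h0 _ inferInstance hJQ
  -- dimension zero of the quotient
  haveI hKD : Ring.KrullDimLE 0 (FF p 𝔮 ⧸ J.map (algebraMap (p.Fiber P) (FF p 𝔮))) :=
    krullDimLE_zero_quot J (QQ p 𝔮) (FF p 𝔮) h0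
  rw [hJψ, hspan] at hKD
  -- dimension of `FF`
  haveI : IsDomain (p.Fiber P) :=
    (MvPolynomial.algebraTensorAlgEquiv (σ := Fin n) A p.ResidueField).toRingEquiv.toMulEquiv.isDomain
      _
  haveI : Algebra.FiniteType p.ResidueField (p.Fiber P) := inferInstance
  obtain ⟨d, -, hd, hdmax, -⟩ :=
    Groth.Agent.Lib.Helper73.DimFormula.exists_trdeg_eq_ringKrullDim p.ResidueField (p.Fiber P)
  have hdn : d = n := by
    have h1 := ringKrullDim_fiber_mvPolynomial (A := A) n p.ResidueField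
    rw [hd] at h1
    exact_mod_cast h1
  have hdimFF : ringKrullDim (FF p 𝔮) = n := by
    rw [IsLocalization.AtPrime.ringKrullDim_eq_height (QQ p 𝔮) (FF p 𝔮), hdmax (QQ p 𝔮), hdn]
    rfl
  -- regularity
  haveI : IsNoetherianRing (p.Fiber P) :=
    isNoetherianRing_of_ringEquiv _
      (MvPolynomial.algebraTensorAlgEquiv (σ := Fin n) A p.ResidueField).symm.toRingEquiv
  haveI : IsNoetherianRing (FF p 𝔮) :=
    IsLocalization.isNoetherianRing (QQ p 𝔮).primeCompl (FF p 𝔮) inferInstance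
  have hW : IsWeaklyRegular (FF p 𝔮) (f.map ψ) := by
    have h2 : f.map ψ = (f.map (algebraMap P (Localization.AtPrime 𝔮))).map
        (algebraMap (Localization.AtPrime 𝔮) (FF p 𝔮)) := by
      rw [List.map_map]
      rfl
    rw [h2]
    exact (isWeaklyRegular_map_algebraMap_iff (FF p 𝔮) (FF p 𝔮) _).2 hreg
  have hR : IsRegular (FF p 𝔮) (f.map ψ) :=
    IsRegular.of_isWeaklyRegular_of_mem_maximalIdeal (FF p 𝔮) (by
      intro x hx
      obtain ⟨i, hi, rfl⟩ := List.mem_map.1 hx
      exact hψmem i (hI𝔮 (hfI i hi))) hW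
  have hsum := ringKrullDim_add_length_eq_ringKrullDim_of_isRegular (f.map ψ) hR
  have hnt : Nontrivial (FF p 𝔮 ⧸ Ideal.ofList (f.map ψ)) := by
    rw [Ideal.Quotient.nontrivial_iff]
    intro h
    have := hR.top_ne_smul
    apply this
    rw [h]
    simp
  have hzero : ringKrullDim (FF p 𝔮 ⧸ Ideal.ofList (f.map ψ)) = 0 :=
    (ringKrullDimZero_iff_ringKrullDim_eq_zero).1 hKD
  rw [hzero, hdimFF, zero_add, List.length_map] at hsum
  exact_mod_cast hsum

end Count

end Groth.Agent.Lib.Helper8.HD
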