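import Groth.Agent.Lib.Helper32.K0Koszul
import Groth.Agent.Lib.Helper22.KoszulH1
import Groth.Agent.Lib.Helper12.FlatExtendPerfect
import Groth.Agent.Lib.Helper12.DRingSingle
import Groth.Agent.S6960

/-!
# Quotients by Koszul-regular ideals are perfect modules (helper8)

* `homology_zero_of_model`: `H^0` of the Koszul complex of `l` is `A ⧸ (l)`.
* `isPerfectModule_quot_of_koszulRegular`: `A ⧸ (l)` is a perfect module if `l` is Koszul-regular.
* `isPerfectModule_of_away`: Zariski descent of perfectness of a module.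
* `isPerfectModule_quot_of_koszulRegularIdeal`: `P ⧸ I` is perfect if `I` is a Koszul-regular ideal.
-/

set_option autoImplicit false
universe u
open CategoryTheory CategoryTheory.Limits

attribute [local instance] HasDerivedCategory.standard

namespace Groth.Agent.Lib.Helper8.KoszulPerfect

open Groth.Agent.Lib.Helper22.KoszulH1 Groth.Agent.Lib.Helper12 Groth.Agent.Lib.Helper32

variable {A : Type u} [CommRing A]

/-- `H^0` of a complex with a Koszul-type model -/
theorem homology_zero_of_model {K : CochainComplex (ModuleCat.{u} A) ℤ} {n : ℕ} {g : Fin n → A}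
    (m : Model K n g) :
    Nonempty (K.homology 0 ≅ ModuleCat.of A (A ⧸ Ideal.span (Set.range g))) := by
  let S := K.sc' (-1) 0 1
  have e1 : K.homology 0 ≅ S.homology := K.homologyIsoSc' (-1) 0 1 (by simp) (by simp)
  have e2 : S.homology ≅ S.moduleCatLeftHomologyData.H := S.moduleCatHomologyIso
  have hker : ∀ x : S.X₂, x ∈ LinearMap.ker S.g.hom := fun x => by
    show S.g.hom x = 0
    exact eq_zero_of_isZero (M := K.X 1) (m.hX 1 one_pos) _
  let J : Ideal A := Ideal.span (Set.range g)
  let φ : LinearMap.ker S.g.hom →ₗ[A] A ⧸ J :=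
    (Submodule.mkQ J) ∘ₗ m.ε.symm.toLinearMap ∘ₗ (LinearMap.ker S.g.hom).subtype
  have hφs : Function.Surjective φ := by
    intro y
    obtain ⟨a, rfl⟩ := Submodule.mkQ_surjective J y
    refine ⟨⟨m.ε a, hker _⟩, ?_⟩
    show Submodule.mkQ J (m.ε.symm (m.ε a)) = _
    rw [LinearEquiv.symm_apply_apply]
  have hφk : LinearMap.ker φ = LinearMap.range S.moduleCatToCycles := by
    ext x
    rw [LinearMap.mem_ker, LinearMap.mem_range]
    show Submodule.mkQ J (m.ε.symm x.1) = 0 ↔ _
    rw [Submodule.mkQ_apply, Submodule.Quotient.mk_eq_zero]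
    constructor
    · intro h
      obtain ⟨a, ha⟩ := (Ideal.mem_span_range_iff_exists_fun).1 h
      refine ⟨m.α a, Subtype.ext ?_⟩
      show (K.d (-1) 0).hom (m.α a) = x.1
      rw [m.hd1, ha, LinearEquiv.apply_symm_apply]
    · rintro ⟨y, rfl⟩
      obtain ⟨a, rfl⟩ := m.α.surjective y
      show m.ε.symm ((K.d (-1) 0).hom (m.α a)) ∈ J
      rw [m.hd1, LinearEquiv.symm_apply_apply]
      exact (Ideal.mem_span_range_iff_exists_fun).2 ⟨a, rfl⟩
  let e3 : (LinearMap.ker S.g.hom ⧸ LinearMap.range S.moduleCatToCycles) ≃ₗ[A] A ⧸ J :=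
    (Submodule.quotEquivOfEq _ _ hφk.symm) ≪≫ₗ (φ.quotKerEquivOfSurjective hφs)
  exact ⟨e1 ≪≫ e2 ≪≫ e3.toModuleIso⟩

theorem range_get (l : List A) : Set.range l.get = {x | x ∈ l} := by
  ext x
  simp only [Set.mem_range, Set.mem_setOf_eq, List.mem_iff_get]

/-- invariance under linear equivalence -/
theorem isPerfectModule_of_linearEquiv {M N : Type u} [AddCommGroup M] [Module A M]
    [AddCommGroup N] [Module A N] (e : M ≃ₗ[A] N) (h : DRing.IsPerfectModule A M) :
    DRing.IsPerfectModule A N :=
  RepBounded.of_iso (finiteProjective A) (inDMapIso e.toModuleIso) h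

/-- the zero module is perfect -/
theorem isPerfectModule_of_subsingleton (M : Type u) [AddCommGroup M] [Module A M]
    [Subsingleton M] : DRing.IsPerfectModule A M :=
  RepBounded.of_isZero (finiteProjective A)
    (isZero_inD (M := ModuleCat.of A M) (ModuleCat.isZero_of_subsingleton _))

/-- the quotient by a Koszul-regular sequence is a perfect module -/
theorem isPerfectModule_quot_of_koszulRegular (l : List A) (h : LCI.IsKoszulRegularSeq A l) :
    DRing.IsPerfectModule A (A ⧸ Ideal.span {x | x ∈ l}) := by
  obtain ⟨e⟩ := homology_zero_of_model (model l)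
  obtain ⟨e'⟩ := K0Koszul.iso_single_of_homology A (Koszul.koszul A l) h _ e
  have hp := K0Koszul.perf_koszul A l
  rw [← range_get]
  exact RepBounded.of_iso (finiteProjective A) e' hp

/-- Zariski descent of perfectness of a module -/
theorem isPerfectModule_of_away {P : Type u} [CommRing P] (M : Type u) [AddCommGroup M]
    [Module P M] {r : ℕ} (f : Fin r → P) (hf : Ideal.span (Set.range f) = ⊤)
    (h : ∀ i, DRing.IsPerfectModule (Localization.Away (f i))
      (TensorProduct P (Localization.Away (f i)) M)) : DRing.IsPerfectModule P M := by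
  have key := Groth.Agent.S6960.result f hf (singleCx 0 (ModuleCat.of P M)) (fun i => ?_)
  · exact RepBounded.of_iso (finiteProjective P) (toDSingleIso' 0 _) key
  · have e1 := extScD_toD (A := P) (B := Localization.Away (f i)) (singleCx 0 (ModuleCat.of P M))
    have e2 : (extScD P (Localization.Away (f i))).obj (DRing.toD (singleCx 0 (ModuleCat.of P M))) ≅
        (extScD P (Localization.Away (f i))).obj (Dual.inD P M) :=
      (extScD P (Localization.Away (f i))).mapIso (toDSingleIso' 0 _)
    have e3 := extScD_inD (A := P) (B := Localization.Away (f i)) M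
    exact RepBounded.of_iso (finiteProjective _) (e3.symm ≪≫ e2.symm ≪≫ e1) (h i)

/-- the quotient by a Koszul-regular ideal is a perfect module -/
theorem isPerfectModule_quot_of_koszulRegularIdeal {P : Type u} [CommRing P] (I : Ideal P)
    (hI : LCI.IsKoszulRegularIdeal I) : DRing.IsPerfectModule P (P ⧸ I) := by
  classical
  -- the local property
  let Q : P → Prop := fun g => DRing.IsPerfectModule (Localization.Away g)
    (TensorProduct P (Localization.Away g) (P ⧸ I))
  have hQ : ∀ g : P, DRing.IsPerfectModule (Localization.Away g)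
      ((Localization.Away g) ⧸ I.map (algebraMap P (Localization.Away g))) → Q g := by
    intro g hg
    exact isPerfectModule_of_linearEquiv
      (Algebra.TensorProduct.quotIdealMapEquivTensorQuot (Localization.Away g) I).toLinearEquiv hg
  have hlocal : ∀ 𝔭 : PrimeSpectrum P, ∃ g : P, g ∉ 𝔭.asIdeal ∧ Q g := by
    intro 𝔭
    by_cases h : I ≤ 𝔭.asIdeal
    · obtain ⟨g, hg, l, hl, hmap⟩ := hI 𝔭 h
      refine ⟨g, hg, hQ g ?_⟩
      rw [hmap]
      exact isPerfectModule_quot_of_koszulRegular l hl
    · obtain ⟨g, hgI, hg⟩ := SetLike.not_le_iff_exists.1 h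
      refine ⟨g, hg, hQ g ?_⟩
      have htop : I.map (algebraMap P (Localization.Away g)) = ⊤ :=
        Ideal.eq_top_of_isUnit_mem _ (Ideal.mem_map_of_mem _ hgI)
          (IsLocalization.Away.algebraMap_isUnit g)
      haveI : Subsingleton ((Localization.Away g) ⧸ I.map (algebraMap P (Localization.Away g))) := by
        rw [htop]
        exact Ideal.Quotient.subsingleton_iff.2 rfl
      exact isPerfectModule_of_subsingleton _
  -- finite subcover
  have hspan : Ideal.span {g : P | Q g} = ⊤ := by
    by_contra hne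
    obtain ⟨m, hm, hle⟩ := Ideal.exists_le_maximal _ hne
    obtain ⟨g, hg, hQg⟩ := hlocal ⟨m, hm.isPrime⟩
    exact hg (hle (Ideal.subset_span hQg))
  obtain ⟨s, hs, hstop⟩ := (Ideal.span_eq_top_iff_finite _).1 hspan
  let f : Fin s.card → P := fun i => (s.equivFin.symm i : P)
  have hrange : Set.range f = (s : Set P) := by
    ext x
    constructor
    · rintro ⟨i, rfl⟩
      exact (s.equivFin.symm i).2
    · intro hx
      exact ⟨s.equivFin ⟨x, hx⟩, by simp [f]⟩
  refine isPerfectModule_of_away (P ⧸ I) f (by rw [hrange, hstop]) (fun i => ?_)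
  exact hs (s.equivFin.symm i).2

end Groth.Agent.Lib.Helper8.KoszulPerfect
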