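import Groth.Agent.Lib.Helper54.FlatStage7

set_option autoImplicit false
set_option maxHeartbeats 1600000

namespace Groth.Agent.Lib.Helper8.LevelTrans

open TensorProduct
open Groth.Agent.Lib.Helper54 Groth.Agent.Lib.Helper54.FlatStage4

attribute [local instance] Algebra.TensorProduct.rightAlgebra

universe u

section Ring

variable (Z S0 : Type u) [CommRing Z] [CommRing S0] [Algebra Z S0]
  (R : Type u) [CommRing R] [Algebra Z R]
  (C : Type u) [CommRing C] [Algebra Z C] [Algebra R C] [IsScalarTower Z R C]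

/-- `S0 ⊗ R → S0 ⊗ C` -/
noncomputable abbrev rho : R →ₐ[Z] C := IsScalarTower.toAlgHom Z R C

noncomputable abbrev algBRBC : Algebra (S0 ⊗[Z] R) (S0 ⊗[Z] C) := (SM S0 (rho Z R C)).toRingHom.toAlgebra

noncomputable abbrev algRBC : Algebra R (S0 ⊗[Z] C) :=
  ((algebraMap C (S0 ⊗[Z] C)).comp (algebraMap R C)).toAlgebra

attribute [local instance 10] algBRBC algRBC

theorem algebraMap_BRBC (x : S0 ⊗[Z] R) :
    algebraMap (S0 ⊗[Z] R) (S0 ⊗[Z] C) x = SM S0 (rho Z R C) x := rfl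

theorem algebraMap_RBC (r : R) :
    algebraMap R (S0 ⊗[Z] C) r = 1 ⊗ₜ algebraMap R C r := rfl

instance tower_RCBC : IsScalarTower R C (S0 ⊗[Z] C) := IsScalarTower.of_algebraMap_eq (fun _ => rfl)

instance tower_RBRBC : IsScalarTower R (S0 ⊗[Z] R) (S0 ⊗[Z] C) :=
  IsScalarTower.of_algebraMap_eq (fun r => by
    rw [algebraMap_RBC, algebraMap_BRBC, Algebra.TensorProduct.right_algebraMap_apply]
    simp)

instance tower_S0BRBC : IsScalarTower S0 (S0 ⊗[Z] R) (S0 ⊗[Z] C) :=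
  IsScalarTower.of_algebraMap_eq (fun s => by
    rw [algebraMap_BRBC]
    exact ((SM S0 (rho Z R C)).commutes s).symm)

instance tower_ZBRBC : IsScalarTower Z (S0 ⊗[Z] R) (S0 ⊗[Z] C) :=
  IsScalarTower.of_algebraMap_eq (fun z => by
    rw [algebraMap_BRBC, IsScalarTower.algebraMap_apply Z S0 (S0 ⊗[Z] R),
      IsScalarTower.algebraMap_apply Z S0 (S0 ⊗[Z] C)]
    exact ((SM S0 (rho Z R C)).commutes _).symm)

theorem isPushout_RCBRBC : Algebra.IsPushout R C (S0 ⊗[Z] R) (S0 ⊗[Z] C) :=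
  (Algebra.IsPushout.comp_iff Z R S0 (S' := S0 ⊗[Z] R) (T := C) (T' := S0 ⊗[Z] C)).1 inferInstance

theorem isPushout_RBRCBC : Algebra.IsPushout R (S0 ⊗[Z] R) C (S0 ⊗[Z] C) :=
  (isPushout_RCBRBC Z S0 R C).symm

variable (S : Type u) [CommRing S] [Algebra (S0 ⊗[Z] R) S] [Algebra R S]
  [IsScalarTower R (S0 ⊗[Z] R) S]
  (SC : Type u) [CommRing SC] [Algebra S SC] [Algebra C SC] [Algebra R SC] [IsScalarTower R S SC]
  [IsScalarTower R C SC] [Algebra.IsPushout R S C SC]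
  [Algebra (S0 ⊗[Z] R) SC] [IsScalarTower (S0 ⊗[Z] R) S SC]

include S

theorem tower_RBRSC : IsScalarTower R (S0 ⊗[Z] R) SC :=
  IsScalarTower.of_algebraMap_eq (fun r => by
    rw [IsScalarTower.algebraMap_apply (S0 ⊗[Z] R) S SC,
      ← IsScalarTower.algebraMap_apply R (S0 ⊗[Z] R) S, ← IsScalarTower.algebraMap_apply R S SC])

/-- the comparison map `S0 ⊗ C → SC` -/
noncomputable def beta : S0 ⊗[Z] C →ₐ[R] SC :=
  haveI := isPushout_RBRCBC Z S0 R C
  haveI := tower_RBRSC Z S0 R S SC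
  Algebra.pushoutDesc (S0 ⊗[Z] C) (IsScalarTower.toAlgHom R (S0 ⊗[Z] R) SC)
    (IsScalarTower.toAlgHom R C SC) (fun _ _ => mul_comm _ _)

theorem beta_left (x : S0 ⊗[Z] R) :
    beta Z S0 R C S SC (SM S0 (rho Z R C) x) = algebraMap S SC (algebraMap (S0 ⊗[Z] R) S x) := by
  haveI := isPushout_RBRCBC Z S0 R C
  haveI := tower_RBRSC Z S0 R S SC
  rw [← IsScalarTower.algebraMap_apply (S0 ⊗[Z] R) S SC]
  exact Algebra.pushoutDesc_left (S0 ⊗[Z] C) (IsScalarTower.toAlgHom R (S0 ⊗[Z] R) SC)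
    (IsScalarTower.toAlgHom R C SC) (fun _ _ => mul_comm _ _) x

theorem beta_right (c : C) :
    beta Z S0 R C S SC (1 ⊗ₜ c) = algebraMap C SC c := by
  haveI := isPushout_RBRCBC Z S0 R C
  haveI := tower_RBRSC Z S0 R S SC
  have := Algebra.pushoutDesc_right (S0 ⊗[Z] C) (IsScalarTower.toAlgHom R (S0 ⊗[Z] R) SC)
    (IsScalarTower.toAlgHom R C SC) (fun _ _ => mul_comm _ _) c
  rwa [Algebra.TensorProduct.right_algebraMap_apply] at this

/-- `SC` is the localization of `S0 ⊗ C` at the image of `T` -/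
theorem isLocalization_SC (T : Submonoid (S0 ⊗[Z] R)) [IsLocalization T S] :
    @IsLocalization (S0 ⊗[Z] C) _ (T.map (SM S0 (rho Z R C))) SC _
      (beta Z S0 R C S SC).toRingHom.toAlgebra := by
  letI : Algebra (S0 ⊗[Z] C) SC := (beta Z S0 R C S SC).toRingHom.toAlgebra
  haveI := isPushout_RBRCBC Z S0 R C
  haveI := tower_RBRSC Z S0 R S SC
  haveI : IsScalarTower (S0 ⊗[Z] R) (S0 ⊗[Z] C) SC := IsScalarTower.of_algebraMap_eq (fun x => by
    rw [IsScalarTower.algebraMap_apply (S0 ⊗[Z] R) S SC]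
    exact (beta_left Z S0 R C S SC x).symm)
  haveI : IsScalarTower C (S0 ⊗[Z] C) SC := IsScalarTower.of_algebraMap_eq (fun c => by
    rw [Algebra.TensorProduct.right_algebraMap_apply]
    exact (beta_right Z S0 R C S SC c).symm)
  haveI : IsScalarTower R (S0 ⊗[Z] C) SC := IsScalarTower.of_algebraMap_eq (fun r =>
    ((beta Z S0 R C S SC).commutes r).symm)
  have h1 : Algebra.IsPushout (S0 ⊗[Z] R) S (S0 ⊗[Z] C) SC :=
    (Algebra.IsPushout.comp_iff R (S0 ⊗[Z] R) C (S' := S0 ⊗[Z] C) (T := S) (T' := SC)).1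
      inferInstance
  exact (Algebra.isLocalization_iff_isPushout T S).2 h1.symm

theorem isUnit_beta (T : Submonoid (S0 ⊗[Z] R)) [IsLocalization T S] (t : S0 ⊗[Z] R)
    (ht : t ∈ T) : IsUnit (beta Z S0 R C S SC (SM S0 (rho Z R C) t)) := by
  rw [beta_left]
  exact (IsLocalization.map_units S ⟨t, ht⟩).map _

theorem exists_prime_comap (T : Submonoid (S0 ⊗[Z] R)) [IsLocalization T S]
    (q₀ : Ideal (S0 ⊗[Z] C)) [q₀.IsPrime] (hq₀ : ∀ t ∈ T, SM S0 (rho Z R C) t ∉ q₀) :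
    ∃ q : Ideal SC, q.IsPrime ∧ q.comap (beta Z S0 R C S SC) = q₀ := by
  letI : Algebra (S0 ⊗[Z] C) SC := (beta Z S0 R C S SC).toRingHom.toAlgebra
  haveI hloc := isLocalization_SC Z S0 R C S SC T
  have hdisj : Disjoint ((T.map (SM S0 (rho Z R C)) : Submonoid (S0 ⊗[Z] C)) : Set (S0 ⊗[Z] C))
      (q₀ : Set (S0 ⊗[Z] C)) := by
    rw [Set.disjoint_left]
    rintro _ ⟨t, ht, rfl⟩ hmem
    exact hq₀ t ht hmem
  refine ⟨q₀.map (algebraMap (S0 ⊗[Z] C) SC),
    IsLocalization.isPrime_of_isPrime_disjoint (T.map (SM S0 (rho Z R C))) SC q₀ inferInstance hdisj,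
    ?_⟩
  exact IsLocalization.comap_map_of_isPrime_disjoint (T.map (SM S0 (rho Z R C))) SC
    inferInstance hdisj

end Ring

section Mod

variable (Z S0 : Type u) [CommRing Z] [CommRing S0] [Algebra Z S0]
  (N0 : Type u) [AddCommGroup N0] [Module S0 N0]
  (R : Type u) [CommRing R] [Algebra Z R]
  (C : Type u) [CommRing C] [Algebra Z C] [Algebra R C] [IsScalarTower Z R C]

attribute [local instance 10] algBRBC algRBC

/-- the map `(S0 ⊗ R) ⊗ N0 → (S0 ⊗ C) ⊗ N0` -/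
noncomputable def kappa : (S0 ⊗[Z] R) ⊗[S0] N0 →ₗ[S0 ⊗[Z] R] (S0 ⊗[Z] C) ⊗[S0] N0 :=
  TensorProduct.AlgebraTensorModule.map (Algebra.linearMap (S0 ⊗[Z] R) (S0 ⊗[Z] C))
    (LinearMap.id : N0 →ₗ[S0] N0)

theorem kappa_tmul (x : S0 ⊗[Z] R) (n : N0) :
    kappa Z S0 N0 R C (x ⊗ₜ n) = (SM S0 (rho Z R C) x) ⊗ₜ n := rfl

theorem isBaseChange_kappa : IsBaseChange (S0 ⊗[Z] C) (kappa Z S0 N0 R C) := by
  apply IsBaseChange.of_comp (TensorProduct.isBaseChange S0 N0 (S0 ⊗[Z] R))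
  have h : ((kappa Z S0 N0 R C : (S0 ⊗[Z] R) ⊗[S0] N0 →ₗ[S0] (S0 ⊗[Z] C) ⊗[S0] N0) ∘ₗ
      (TensorProduct.mk S0 (S0 ⊗[Z] R) N0 1)) = TensorProduct.mk S0 (S0 ⊗[Z] C) N0 1 := by
    ext n
    simp [kappa_tmul]
  rw [h]
  exact TensorProduct.isBaseChange S0 N0 (S0 ⊗[Z] C)

variable (S : Type u) [CommRing S] [Algebra (S0 ⊗[Z] R) S] [Algebra R S]
  [IsScalarTower R (S0 ⊗[Z] R) S]
  (SC : Type u) [CommRing SC] [Algebra S SC] [Algebra C SC] [Algebra R SC] [IsScalarTower R S SC]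
  [IsScalarTower R C SC] [Algebra.IsPushout R S C SC]
  [Algebra (S0 ⊗[Z] R) SC] [IsScalarTower (S0 ⊗[Z] R) S SC]
  (T : Submonoid (S0 ⊗[Z] R)) [IsLocalization T S]
  (M : Type u) [AddCommGroup M] [Module S M] [Module (S0 ⊗[Z] R) M]
  [IsScalarTower (S0 ⊗[Z] R) S M]
  (f₀ : (S0 ⊗[Z] R) ⊗[S0] N0 →ₗ[S0 ⊗[Z] R] M) (hf₀ : IsBaseChange S f₀)
  (MC : Type u) [AddCommGroup MC] [Module SC MC] [Module S MC] [IsScalarTower S SC MC]
  [Module C MC] [IsScalarTower C SC MC]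
  (fC : M →ₗ[S] MC) (hfC : IsBaseChange SC fC)

include T hf₀ hfC in
/-- identification of the localizations -/
theorem flat_localized_iff (q : Ideal SC) [q.IsPrime] :
    haveI : (q.comap (beta Z S0 R C S SC)).IsPrime := Ideal.comap_isPrime _ _
    Module.Flat C (LocalizedModule q.primeCompl MC) ↔
      Module.Flat C (LocalizedModule (q.comap (beta Z S0 R C S SC)).primeCompl
        ((S0 ⊗[Z] C) ⊗[S0] N0)) := by
  haveI : (q.comap (beta Z S0 R C S SC)).IsPrime := Ideal.comap_isPrime _ _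
  letI : Algebra (S0 ⊗[Z] C) SC := (beta Z S0 R C S SC).toRingHom.toAlgebra
  haveI hloc := isLocalization_SC Z S0 R C S SC T
  haveI := tower_RBRSC Z S0 R S SC
  haveI : IsScalarTower (S0 ⊗[Z] R) (S0 ⊗[Z] C) SC := IsScalarTower.of_algebraMap_eq (fun x => by
    rw [IsScalarTower.algebraMap_apply (S0 ⊗[Z] R) S SC]
    exact (beta_left Z S0 R C S SC x).symm)
  haveI : IsScalarTower C (S0 ⊗[Z] C) SC := IsScalarTower.of_algebraMap_eq (fun c => by
    rw [Algebra.TensorProduct.right_algebraMap_apply]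
    exact (beta_right Z S0 R C S SC c).symm)
  -- module structures on `MC`
  letI : Module (S0 ⊗[Z] C) MC := Module.compHom MC (algebraMap (S0 ⊗[Z] C) SC)
  haveI : IsScalarTower (S0 ⊗[Z] C) SC MC := IsScalarTower.of_algebraMap_smul (fun _ _ => rfl)
  letI : Module (S0 ⊗[Z] R) MC := Module.compHom MC (algebraMap (S0 ⊗[Z] R) SC)
  haveI : IsScalarTower (S0 ⊗[Z] R) SC MC := IsScalarTower.of_algebraMap_smul (fun _ _ => rfl)
  haveI : IsScalarTower (S0 ⊗[Z] R) S MC := IsScalarTower.of_algebraMap_smul (fun b m => by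
    rw [← algebraMap_smul SC (algebraMap (S0 ⊗[Z] R) S b) m,
      ← IsScalarTower.algebraMap_apply (S0 ⊗[Z] R) S SC]
    rfl)
  haveI : IsScalarTower (S0 ⊗[Z] R) (S0 ⊗[Z] C) MC := IsScalarTower.of_algebraMap_smul
    (fun b m => by
      show algebraMap (S0 ⊗[Z] C) SC (algebraMap (S0 ⊗[Z] R) (S0 ⊗[Z] C) b) • m =
        algebraMap (S0 ⊗[Z] R) SC b • m
      rw [← IsScalarTower.algebraMap_apply (S0 ⊗[Z] R) (S0 ⊗[Z] C) SC])
  -- step A
  have hA : IsBaseChange SC ((fC.restrictScalars (S0 ⊗[Z] R)).comp f₀) := hf₀.comp hfC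
  -- step C, D
  have hκ := isBaseChange_kappa Z S0 N0 R C
  let ν : (S0 ⊗[Z] C) ⊗[S0] N0 →ₗ[S0 ⊗[Z] C] MC :=
    hκ.lift ((fC.restrictScalars (S0 ⊗[Z] R)).comp f₀)
  have hν : IsBaseChange SC ν := by
    apply IsBaseChange.of_comp hκ
    have : ((ν : (S0 ⊗[Z] C) ⊗[S0] N0 →ₗ[S0 ⊗[Z] R] MC) ∘ₗ kappa Z S0 N0 R C) =
        (fC.restrictScalars (S0 ⊗[Z] R)).comp f₀ := hκ.lift_comp _
    rw [this]
    exact hA
  -- step E
  have hmk : IsBaseChange (Localization.AtPrime q) (LocalizedModule.mkLinearMap q.primeCompl MC) :=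
    IsLocalizedModule.isBaseChange q.primeCompl (Localization.AtPrime q) _
  have hE : IsBaseChange (Localization.AtPrime q)
      (((LocalizedModule.mkLinearMap q.primeCompl MC).restrictScalars (S0 ⊗[Z] C)).comp ν) :=
    hν.comp hmk
  -- step F
  haveI : IsLocalization.AtPrime (Localization.AtPrime q)
      (q.comap (algebraMap (S0 ⊗[Z] C) SC)) :=
    IsLocalization.isLocalization_isLocalization_atPrime_isLocalization
      (T.map (SM S0 (rho Z R C))) (Localization.AtPrime q) q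
  -- step G
  haveI hG : IsLocalizedModule (q.comap (algebraMap (S0 ⊗[Z] C) SC)).primeCompl
      (((LocalizedModule.mkLinearMap q.primeCompl MC).restrictScalars (S0 ⊗[Z] C)).comp ν) :=
    (isLocalizedModule_iff_isBaseChange (q.comap (algebraMap (S0 ⊗[Z] C) SC)).primeCompl
      (Localization.AtPrime q) _).2 hE
  -- step H
  let e := IsLocalizedModule.iso (q.comap (algebraMap (S0 ⊗[Z] C) SC)).primeCompl
    (((LocalizedModule.mkLinearMap q.primeCompl MC).restrictScalars (S0 ⊗[Z] C)).comp ν)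
  haveI : IsScalarTower C (S0 ⊗[Z] C) (LocalizedModule q.primeCompl MC) :=
    IsScalarTower.of_algebraMap_smul (fun c l => by
      rw [← algebraMap_smul SC (algebraMap C (S0 ⊗[Z] C) c) l,
        ← IsScalarTower.algebraMap_apply C (S0 ⊗[Z] C) SC, algebraMap_smul])
  exact (Module.Flat.equiv_iff (e.restrictScalars C)).symm

end Mod

end Groth.Agent.Lib.Helper8.LevelTrans
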