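import Mathlib
import Groth.Agent.Lib.Helper9.KoszulIndep
import Groth.Agent.Lib.Helper9.QRegLocalA

set_option autoImplicit false
set_option linter.style.haveILetI false
set_option maxHeartbeats 400000
universe u

namespace Groth.Agent.Lib.Helper8.LocCot

open Groth.Agent.Lib.Helper9

section

variable {P : Type u} [CommRing P] (I : Ideal P) (G : P)

local notation "PG" => Localization.Away G
local notation "JJ" => Ideal.map (algebraMap P (Localization.Away G)) I
local notation "SS" => P ⧸ I
local notation "AA" => Localization.Away (Ideal.Quotient.mk I G)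

/-- the ring isomorphism `P_G / I P_G ≃ (P/I)_g` -/
noncomputable def sigma : (PG ⧸ JJ) ≃+* AA :=
  (Ideal.quotEquivOfEq (KoszulIndep.ker_awayMap (Ideal.Quotient.mk I) G ▸
    (by rw [Ideal.mk_ker]) : JJ = RingHom.ker (Localization.awayMap (Ideal.Quotient.mk I) G))).trans
  (RingHom.quotientKerEquivOfSurjective
    (KoszulIndep.awayMap_surjective (Ideal.Quotient.mk I) Ideal.Quotient.mk_surjective G))

theorem sigma_mk (x : PG) :
    sigma I G (Ideal.Quotient.mk _ x) = Localization.awayMap (Ideal.Quotient.mk I) G x := rfl

theorem sigma_mk_algebraMap (p : P) :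
    sigma I G (Ideal.Quotient.mk _ (algebraMap P PG p)) =
      algebraMap SS AA (Ideal.Quotient.mk I p) := by
  rw [sigma_mk, Localization.awayMap, IsLocalization.Away.map, IsLocalization.map_eq]

theorem sigma_symm_algebraMap (p : P) :
    (sigma I G).symm (algebraMap SS AA (Ideal.Quotient.mk I p)) =
      Ideal.Quotient.mk _ (algebraMap P PG p) := by
  rw [← sigma_mk_algebraMap, RingEquiv.symm_apply_apply]

end

section Mod

variable {P : Type u} [CommRing P] (I : Ideal P) (G : P)

local notation "PG" => Localization.Away G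
local notation "JJ" => Ideal.map (algebraMap P (Localization.Away G)) I
local notation "SS" => P ⧸ I
local notation "AA" => Localization.Away (Ideal.Quotient.mk I G)
local notation "NN" => Ideal.Cotangent (Ideal.map (algebraMap P (Localization.Away G)) I)

/-- the `(P/I)_g`-module structure on the conormal module of `I P_G` -/
@[reducible] noncomputable def modA : Module AA NN :=
  Module.compHom NN ((sigma I G).symm : AA →+* (PG ⧸ JJ))

/-- the `P/I`-module structure on the conormal module of `I P_G` -/
@[reducible] noncomputable def modS : Module SS NN :=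
  Module.compHom NN (((sigma I G).symm : AA →+* (PG ⧸ JJ)).comp (algebraMap SS AA))

attribute [local instance] modA modS

theorem smulA_def (a : AA) (n : NN) : a • n = (sigma I G).symm a • n := rfl

theorem smulS_def (s : SS) (n : NN) : s • n = (sigma I G).symm (algebraMap SS AA s) • n := rfl

instance : IsScalarTower SS AA NN := ⟨fun s a n => by
  show (sigma I G).symm (s • a) • n =
    (sigma I G).symm (algebraMap SS AA s) • ((sigma I G).symm a • n)
  rw [Algebra.smul_def, map_mul, mul_smul]⟩

theorem smulS_mk (p : P) (n : NN) :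
    (Ideal.Quotient.mk I p) • n = (algebraMap P PG p) • n := by
  rw [smulS_def, sigma_symm_algebraMap]
  rfl

/-- the comparison map on conormal modules -/
noncomputable def psi : I.Cotangent →ₗ[SS] NN where
  toFun := Ideal.mapCotangent I JJ (Algebra.ofId P PG) Ideal.le_comap_map
  map_add' := map_add _
  map_smul' := by
    intro s m
    obtain ⟨p, rfl⟩ := Ideal.Quotient.mk_surjective s
    simp only [RingHom.id_apply]
    rw [smulS_mk]
    have h1 : (Ideal.Quotient.mk I p) • m = p • m := rfl
    rw [h1, map_smul]
    exact (algebraMap_smul PG p _).symm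

theorem psi_toCotangent (i : I) :
    psi I G (I.toCotangent i) =
      (JJ).toCotangent ⟨algebraMap P PG i, Ideal.mem_map_of_mem _ i.2⟩ := rfl

theorem smulS_pow (k : ℕ) (n : NN) :
    (Ideal.Quotient.mk I G) ^ k • n = (algebraMap P PG (G ^ k)) • n := by
  rw [← map_pow, smulS_mk]

theorem isUnit_algebraMap_pow (k : ℕ) : IsUnit (algebraMap P PG (G ^ k)) :=
  IsLocalization.map_units PG (⟨G ^ k, k, rfl⟩ : Submonoid.powers G)

instance isLocalizedModule_psi :
    IsLocalizedModule (Submonoid.powers (Ideal.Quotient.mk I G)) (psi I G) where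
  map_units := by
    rintro ⟨_, k, rfl⟩
    rw [Module.End.isUnit_iff]
    obtain ⟨u, hu⟩ := isUnit_algebraMap_pow G k
    constructor
    · intro a b hab
      simp only [Module.algebraMap_end_apply] at hab
      rw [smulS_pow, smulS_pow, ← hu] at hab
      have := congrArg (fun z => (↑u⁻¹ : PG) • z) hab
      simpa [smul_smul] using this
    · intro b
      refine ⟨(↑u⁻¹ : PG) • b, ?_⟩
      simp only [Module.algebraMap_end_apply]
      rw [smulS_pow, ← hu, smul_smul, Units.mul_inv, one_smul]
  surj := by
    intro y
    obtain ⟨⟨j, hj⟩, rfl⟩ := Ideal.toCotangent_surjective _ y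
    obtain ⟨⟨i, s⟩, his⟩ := (IsLocalization.mem_map_algebraMap_iff (Submonoid.powers G) PG).1 hj
    obtain ⟨k, hk⟩ := s.2
    refine ⟨⟨I.toCotangent i, ⟨(Ideal.Quotient.mk I G) ^ k, k, rfl⟩⟩, ?_⟩
    show (Ideal.Quotient.mk I G) ^ k • (JJ).toCotangent ⟨j, hj⟩ = psi I G (I.toCotangent i)
    rw [smulS_pow, psi_toCotangent, ← map_smul]
    congr 1
    apply Subtype.ext
    show algebraMap P PG (G ^ k) • j = algebraMap P PG i
    have hk' : G ^ k = (s : P) := hk
    rw [smul_eq_mul, mul_comm, hk']
    exact his
  exists_of_eq := by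
    intro x₁ x₂ h
    have h0 : psi I G (x₁ - x₂) = 0 := by rw [map_sub, h, sub_self]
    obtain ⟨⟨i, hi⟩, hix⟩ := Ideal.toCotangent_surjective _ (x₁ - x₂)
    rw [← hix, psi_toCotangent, Ideal.toCotangent_eq_zero] at h0
    have h1 : algebraMap P PG i ∈ (I ^ 2).map (algebraMap P PG) := by
      rw [Ideal.map_pow]
      exact h0
    obtain ⟨k, hk⟩ := QRegLocalA.exists_pow_mul_mem_of_algebraMap_mem (I ^ 2) G i h1
    refine ⟨⟨(Ideal.Quotient.mk I G) ^ k, k, rfl⟩, ?_⟩
    show (Ideal.Quotient.mk I G) ^ k • x₁ = (Ideal.Quotient.mk I G) ^ k • x₂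
    rw [← sub_eq_zero, ← smul_sub, ← hix, ← map_pow]
    have h2 : (Ideal.Quotient.mk I (G ^ k)) • I.toCotangent ⟨i, hi⟩ =
        (G ^ k) • I.toCotangent ⟨i, hi⟩ := rfl
    rw [h2, ← map_smul, Ideal.toCotangent_eq_zero]
    exact hk

attribute [local instance] RingHomInvPair.of_ringEquiv in
/-- projectivity of the conormal module of `I P_G` gives projectivity of the localized conormal
module of `I` -/
theorem projective_localizedModule_cotangent [hproj : Module.Projective (PG ⧸ JJ) NN] :
    Module.Projective AA
      (LocalizedModule (Submonoid.powers (Ideal.Quotient.mk I G)) I.Cotangent) := by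
  haveI : Module.Projective AA NN := by
    let e₂ : NN ≃ₛₗ[((sigma I G) : (PG ⧸ JJ) →+* AA)] NN :=
      { toFun := id
        invFun := id
        map_add' := fun _ _ => rfl
        map_smul' := fun r x => by
          show r • x = (sigma I G).symm (sigma I G r) • x
          rw [RingEquiv.symm_apply_apply]
        left_inv := fun _ => rfl
        right_inv := fun _ => rfl }
    exact Module.Projective.of_equiv e₂
  let e : LocalizedModule (Submonoid.powers (Ideal.Quotient.mk I G)) I.Cotangent ≃ₗ[SS] NN :=
    IsLocalizedModule.iso (Submonoid.powers (Ideal.Quotient.mk I G)) (psi I G)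
  let e' : LocalizedModule (Submonoid.powers (Ideal.Quotient.mk I G)) I.Cotangent ≃ₗ[AA] NN :=
    e.extendScalarsOfIsLocalization (Submonoid.powers (Ideal.Quotient.mk I G)) AA
  exact Module.Projective.of_equiv' e'.symm

end Mod

end Groth.Agent.Lib.Helper8.LocCot
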