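import Mathlib
import Groth.Prelude.Def_FlatCA

/-!
# A local ring as a directed colimit of Noetherian local rings (helper8)

For a local `R`-algebra `R'`, the finitely generated `R`-subalgebras `A ⊆ R'`, localized at the
contraction of the maximal ideal of `R'`, form a directed system of local rings `G A` with local
transition maps and colimit `R'`.  If `R` is Noetherian, each `G A` is Noetherian.
-/

set_option autoImplicit false
universe u

namespace Groth.Agent.Lib.Helper8.LocalColim

variable (R R' : Type u) [CommRing R] [CommRing R'] [IsLocalRing R'] [Algebra R R']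

/-- index type: finitely generated subalgebras -/
abbrev Idx : Type u := {A : Subalgebra R R' // A.FG}

variable {R R'}

/-- contraction of the maximal ideal -/
def pr (A : Idx R R') : Ideal A.1 := (IsLocalRing.maximalIdeal R').comap (A.1.val : A.1 →+* R')

instance pr_isPrime (A : Idx R R') : (pr A).IsPrime := by
  unfold pr; infer_instance

theorem mem_pr (A : Idx R R') (x : A.1) : x ∈ pr A ↔ (x : R') ∈ IsLocalRing.maximalIdeal R' :=
  Iff.rfl

/-- stage ring -/
abbrev G (A : Idx R R') : Type u := Localization.AtPrime (pr A)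

theorem isUnit_val (A : Idx R R') (y : (pr A).primeCompl) :
    IsUnit ((A.1.val : A.1 →+* R') y) := by
  have h : (y : A.1) ∉ pr A := y.2
  rw [mem_pr] at h
  by_contra hu
  exact h ((IsLocalRing.mem_maximalIdeal _).2 hu)

/-- structure map to `R'` -/
noncomputable def toR' (A : Idx R R') : G A →+* R' :=
  IsLocalization.lift (M := (pr A).primeCompl) (g := (A.1.val : A.1 →+* R')) (isUnit_val A)

noncomputable instance algGR' (A : Idx R R') : Algebra (G A) R' := (toR' A).toAlgebra

theorem algebraMap_G_R'_apply (A : Idx R R') (x : A.1) :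
    algebraMap (G A) R' (algebraMap A.1 (G A) x) = (x : R') := by
  show toR' A _ = _
  unfold toR'
  rw [IsLocalization.lift_eq]
  rfl

instance tower (A : Idx R R') : IsScalarTower R (G A) R' := by
  refine IsScalarTower.of_algebraMap_eq (fun r => ?_)
  rw [IsScalarTower.algebraMap_apply R A.1 (G A), algebraMap_G_R'_apply]
  rfl

theorem algebraMap_G_R'_injective (A : Idx R R') : Function.Injective (algebraMap (G A) R') := by
  show Function.Injective (toR' A)
  unfold toR'
  rw [IsLocalization.lift_injective_iff]
  intro x y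
  constructor
  · intro h
    have := congrArg (algebraMap (G A) R') h
    rwa [algebraMap_G_R'_apply, algebraMap_G_R'_apply] at this
  · intro h
    have : x = y := Subtype.ext h
    rw [this]

theorem pr_eq_comap {A B : Idx R R'} (h : A ≤ B) :
    pr A = (pr B).comap ((Subalgebra.inclusion (show A.1 ≤ B.1 from h)).toRingHom) := by
  ext x
  rfl

/-- transition maps -/
noncomputable def g (A B : Idx R R') (h : A ≤ B) : G A →+* G B :=
  Localization.localRingHom (pr A) (pr B)
    ((Subalgebra.inclusion (show A.1 ≤ B.1 from h)).toRingHom) (pr_eq_comap h)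

theorem g_algebraMap {A B : Idx R R'} (h : A ≤ B) (x : A.1) :
    g A B h (algebraMap A.1 (G A) x) =
      algebraMap B.1 (G B) (Subalgebra.inclusion (show A.1 ≤ B.1 from h) x) := by
  unfold g
  rw [Localization.localRingHom_to_map]
  rfl

instance g_isLocalHom {A B : Idx R R'} (h : A ≤ B) : IsLocalHom (g A B h) := by
  unfold g; infer_instance

theorem g_comp_algebraMap {A B : Idx R R'} (h : A ≤ B) :
    (g A B h).comp (algebraMap R (G A)) = algebraMap R (G B) := by
  ext r
  rw [RingHom.comp_apply, IsScalarTower.algebraMap_apply R A.1 (G A), g_algebraMap,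
    IsScalarTower.algebraMap_apply R B.1 (G B)]
  rfl

theorem ringHom_ext_G {A : Idx R R'} {T : Type*} [CommRing T] (f₁ f₂ : G A →+* T)
    (h : ∀ x : A.1, f₁ (algebraMap A.1 (G A) x) = f₂ (algebraMap A.1 (G A) x)) : f₁ = f₂ :=
  IsLocalization.ringHom_ext (pr A).primeCompl (RingHom.ext h)

/-- the subalgebra generated by one element -/
def single (a : R') : Idx R R' := ⟨Algebra.adjoin R {a}, ⟨{a}, by simp⟩⟩

/-- the generator -/
def singleElem (a : R') : (single (R := R) a).1 := ⟨a, Algebra.subset_adjoin rfl⟩

theorem isDirectedColimitRing : FlatCA.IsDirectedColimitRing (G (R := R) (R' := R')) g R' := by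
  refine ⟨?_, ?_, ?_, ?_, ?_, ?_, ?_⟩
  · refine ⟨fun A B => ⟨⟨A.1 ⊔ B.1, A.2.sup B.2⟩, ?_, ?_⟩⟩
    · exact (le_sup_left : A.1 ≤ A.1 ⊔ B.1)
    · exact (le_sup_right : B.1 ≤ A.1 ⊔ B.1)
  · exact ⟨⟨⊥, Subalgebra.fg_bot⟩⟩
  · intro A
    refine ringHom_ext_G _ _ (fun x => ?_)
    rw [g_algebraMap]
    rfl
  · intro A B C hAB hBC
    refine ringHom_ext_G _ _ (fun x => ?_)
    rw [RingHom.comp_apply, g_algebraMap, g_algebraMap, g_algebraMap]
    rfl
  · intro A B h
    refine ringHom_ext_G _ _ (fun x => ?_)
    rw [RingHom.comp_apply, g_algebraMap, algebraMap_G_R'_apply, algebraMap_G_R'_apply]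
    rfl
  · intro a
    refine ⟨single a, algebraMap (single (R := R) a).1 (G (single a)) (singleElem a), ?_⟩
    rw [algebraMap_G_R'_apply]
    rfl
  · intro A x hx
    refine ⟨A, le_rfl, ?_⟩
    have : x = 0 := algebraMap_G_R'_injective A (by rw [hx, map_zero])
    rw [this, map_zero]

theorem map_maximalIdeal_le {A B : Idx R R'} (h : A ≤ B) :
    (IsLocalRing.maximalIdeal (G A)).map (g A B h) ≤ IsLocalRing.maximalIdeal (G B) :=
  ((IsLocalRing.local_hom_TFAE (g A B h)).out 0 2).1 (g_isLocalHom h)

theorem maximalIdeal_le_iSup :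
    IsLocalRing.maximalIdeal R' ≤
      ⨆ A : Idx R R', (IsLocalRing.maximalIdeal (G A)).map (algebraMap (G A) R') := by
  intro a ha
  refine Ideal.mem_iSup_of_mem (single (R := R) a) ?_
  have h1 : singleElem (R := R) a ∈ pr (single a) := ha
  have h2 : algebraMap (single (R := R) a).1 (G (single a)) (singleElem a) ∈
      IsLocalRing.maximalIdeal (G (single (R := R) a)) :=
    (IsLocalization.AtPrime.to_map_mem_maximal_iff (G (single a)) (pr (single a)) _).2 h1
  have := Ideal.mem_map_of_mem (algebraMap (G (single (R := R) a)) R') h2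
  rwa [algebraMap_G_R'_apply] at this

instance isLocalHom_algebraMap_G_R' (A : Idx R R') : IsLocalHom (algebraMap (G A) R') := by
  constructor
  intro x hx
  obtain ⟨r, s, rfl⟩ := IsLocalization.exists_mk'_eq (pr A).primeCompl x
  rw [IsLocalization.AtPrime.isUnit_mk'_iff]
  have h1 : algebraMap (G A) R' (IsLocalization.mk' (G A) r s) * (s : A.1).1 = (r : R') := by
    rw [← algebraMap_G_R'_apply A (s : A.1), ← map_mul, IsLocalization.mk'_spec,
      algebraMap_G_R'_apply]
  have h2 : IsUnit ((r : A.1) : R') := by
    rw [← h1]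
    exact hx.mul (isUnit_val A s)
  show r ∉ pr A
  intro hr
  rw [mem_pr] at hr
  exact (IsLocalRing.mem_maximalIdeal _).1 hr h2

theorem isLocalHom_algebraMap_R_G [IsLocalHom (algebraMap R R')] (A : Idx R R') :
    IsLocalHom (algebraMap R (G A)) := by
  constructor
  intro r hr
  have : IsUnit (algebraMap R R' r) := by
    rw [IsScalarTower.algebraMap_apply R (G A) R']
    exact hr.map _
  exact isUnit_of_map_unit (algebraMap R R') r this

theorem isNoetherianRing_G [IsNoetherianRing R] (A : Idx R R') : IsNoetherianRing (G A) := by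
  haveI : Algebra.FiniteType R A.1 := (Subalgebra.fg_iff_finiteType A.1).1 A.2
  haveI : IsNoetherianRing A.1 := Algebra.FiniteType.isNoetherianRing R A.1
  exact IsLocalization.isNoetherianRing (pr A).primeCompl (G A) inferInstance

theorem ker_le (A : Idx R R') :
    RingHom.ker (algebraMap R (G A)) ≤ RingHom.ker (algebraMap R R') := by
  intro r hr
  rw [RingHom.mem_ker] at hr ⊢
  rw [IsScalarTower.algebraMap_apply R (G A) R', hr, map_zero]

end Groth.Agent.Lib.Helper8.LocalColim
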