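import Groth.Agent.Lib.Helper8.MatCok
import Mathlib.RingTheory.IsTensorProduct
import Mathlib.RingTheory.Flat.FaithfullyFlat.Basic

/-!
# Sequences of modules presented by matrices, and their base change (helper8)
-/

set_option autoImplicit false
set_option maxHeartbeats 400000

namespace Groth.Agent.Lib.Helper8.MatCok

open Matrix TensorProduct

/-- Matrix data presenting a pair of composable maps `F → G → H` of finitely presented modules. -/
structure MatSeq (A : Type*) [CommRing A] (mF nF mG nG mH nH : ℕ) where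
  KF : Matrix (Fin mF) (Fin nF) A
  KG : Matrix (Fin mG) (Fin nG) A
  KH : Matrix (Fin mH) (Fin nH) A
  U : Matrix (Fin nF) (Fin nG) A
  V : Matrix (Fin nG) (Fin nH) A
  CU : Matrix (Fin mF) (Fin mG) A
  CV : Matrix (Fin mG) (Fin mH) A
  hU : KF * U = CU * KG
  hV : KG * V = CV * KH

namespace MatSeq

variable {A : Type*} [CommRing A] {mF nF mG nG mH nH : ℕ}

/-- The first map. -/
def u (D : MatSeq A mF nF mG nG mH nH) : Cok D.KF →ₗ[A] Cok D.KG :=
  cokMap _ _ D.U D.CU D.hU

/-- The second map. -/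
def v (D : MatSeq A mF nF mG nG mH nH) : Cok D.KG →ₗ[A] Cok D.KH :=
  cokMap _ _ D.V D.CV D.hV

/-- Transport of matrix data along a ring homomorphism. -/
def map {B : Type*} [CommRing B] (D : MatSeq A mF nF mG nG mH nH) (φ : A →+* B) :
    MatSeq B mF nF mG nG mH nH where
  KF := D.KF.map φ
  KG := D.KG.map φ
  KH := D.KH.map φ
  U := D.U.map φ
  V := D.V.map φ
  CU := D.CU.map φ
  CV := D.CV.map φ
  hU := map_mul_eq D.hU φ
  hV := map_mul_eq D.hV φ

theorem map_map {B C : Type*} [CommRing B] [CommRing C] (D : MatSeq A mF nF mG nG mH nH)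
    (φ : A →+* B) (ψ : B →+* C) : (D.map φ).map ψ = D.map (ψ.comp φ) := by
  simp only [map, Matrix.map_map]
  rfl

@[ext]
theorem ext' {D D' : MatSeq A mF nF mG nG mH nH} (h1 : D.KF = D'.KF) (h2 : D.KG = D'.KG)
    (h3 : D.KH = D'.KH) (h4 : D.U = D'.U) (h5 : D.V = D'.V) (h6 : D.CU = D'.CU)
    (h7 : D.CV = D'.CV) : D = D' := by
  cases D; cases D'; simp_all

end MatSeq

section BC

variable (k κ : Type*) {A : Type*} (A' : Type*) [CommRing k] [CommRing κ] [CommRing A] [CommRing A']
  [Algebra k κ] [Algebra k A] [Algebra k A'] [Algebra κ A'] [Algebra A A']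
  [IsScalarTower k A A'] [IsScalarTower k κ A'] [Algebra.IsPushout k κ A A']

/-- The comparison `κ ⊗[k] Cok K ≃ Cok (K.map _)` for a pushout square of rings. -/
noncomputable def cokEquiv {m n : ℕ} (K : Matrix (Fin m) (Fin n) A) :
    κ ⊗[k] Cok K ≃ₗ[κ] Cok (K.map (algebraMap A A')) :=
  (Algebra.IsPushout.cancelBaseChange k κ A A' (Cok K)).symm ≪≫ₗ
    ((isBaseChange_cokBC A' K).equiv.restrictScalars κ)

theorem cokEquiv_tmul {m n : ℕ} (K : Matrix (Fin m) (Fin n) A) (s : κ) (z : Cok K) :
    cokEquiv k κ A' K (s ⊗ₜ z) = s • cokBC A' K z := by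
  simp only [cokEquiv, LinearEquiv.trans_apply, Algebra.IsPushout.cancelBaseChange_symm_tmul,
    LinearEquiv.restrictScalars_apply, IsBaseChange.equiv_tmul, algebraMap_smul]

theorem cokEquiv_natural {m n m' n' : ℕ} (K : Matrix (Fin m) (Fin n) A)
    (K' : Matrix (Fin m') (Fin n') A)
    (U : Matrix (Fin n) (Fin n') A) (C : Matrix (Fin m) (Fin m') A) (h : K * U = C * K') :
    ((cokMap _ _ (U.map (algebraMap A A')) (C.map (algebraMap A A'))
        (map_mul_eq h (algebraMap A A'))).restrictScalars κ) ∘ₗ (cokEquiv k κ A' K).toLinearMap =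
      (cokEquiv k κ A' K').toLinearMap ∘ₗ ((cokMap K K' U C h).restrictScalars k).baseChange κ := by
  apply TensorProduct.AlgebraTensorModule.ext
  intro s z
  simp only [LinearMap.comp_apply, LinearEquiv.coe_coe, LinearMap.baseChange_tmul,
    LinearMap.restrictScalars_apply, cokEquiv_tmul]
  rw [cokBC_cokMap A' K K' U C h (map_mul_eq h (algebraMap A A'))]
  exact LinearMap.map_smul_of_tower _ s _

variable {mF nF mG nG mH nH : ℕ}

/-- **Base change of matrix sequences**: exactness of the mapped sequence is exactness of the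
base-changed sequence. -/
theorem exact_map_iff (D : MatSeq A mF nF mG nG mH nH) :
    Function.Exact (D.map (algebraMap A A')).u (D.map (algebraMap A A')).v ↔
      Function.Exact ((D.u.restrictScalars k).baseChange κ) ((D.v.restrictScalars k).baseChange κ) := by
  have h1 := cokEquiv_natural k κ A' D.KF D.KG D.U D.CU D.hU
  have h2 := cokEquiv_natural k κ A' D.KG D.KH D.V D.CV D.hV
  exact Function.Exact.iff_of_ladder_linearEquiv (e₁ := cokEquiv k κ A' D.KF)
    (e₂ := cokEquiv k κ A' D.KG) (e₃ := cokEquiv k κ A' D.KH)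
    (f₁₂ := (D.u.restrictScalars k).baseChange κ) (f₂₃ := (D.v.restrictScalars k).baseChange κ)
    (g₁₂ := (D.map (algebraMap A A')).u.restrictScalars κ)
    (g₂₃ := (D.map (algebraMap A A')).v.restrictScalars κ) h1 h2

end BC

end Groth.Agent.Lib.Helper8.MatCok
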