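import Mathlib
import Groth.Agent.S7224

/-!
# Base change of the naive cotangent complex of a flat algebra (helper8)

Variant of helper57's S7224 with `S` flat over `R` instead of `R'` flat over `R`.
-/

set_option autoImplicit false
set_option linter.style.haveILetI false
universe u
open CategoryTheory CategoryTheory.Limits TensorProduct
attribute [local instance] HasDerivedCategory.standard
open FlatMor

namespace Groth.Agent.Lib.Helper8.NLBC

open Groth.Agent.S7221 Groth.Agent.S7224

section alg
variable (R S R' S' : Type u) [CommRing R] [CommRing S] [CommRing R']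
    [CommRing S'] [Algebra R S] [Algebra R' S'] [Algebra R R'] [Algebra S S'] [Algebra R S']
    [IsScalarTower R R' S'] [IsScalarTower R S S'] [Algebra.IsPushout R R' S S']
    {ι : Type u} (G : Algebra.Generators R S ι) (G' : Algebra.Generators R' S' ι)
    (h : ∀ i, G'.val i = algebraMap S S' (G.val i))

attribute [local instance] MvPolynomial.algebraMvPolynomial

/-- `R' ⊗_R I → P' ⊗_P I` -/
noncomputable def Phi :
    R' ⊗[R] (kerI R S G) →+ MvPolynomial ι R' ⊗[MvPolynomial ι R] (kerI R S G) :=
  TensorProduct.liftAddHom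
    { toFun := fun r' =>
        { toFun := fun x => (MvPolynomial.C r' : MvPolynomial ι R') ⊗ₜ[MvPolynomial ι R] x
          map_zero' := by rw [tmul_zero]
          map_add' := fun x y => by rw [tmul_add] }
      map_zero' := by ext x; simp
      map_add' := fun p q => by ext x; simp [add_tmul] }
    (by
      intro r r' x
      change (MvPolynomial.C (r • r') : MvPolynomial ι R') ⊗ₜ[MvPolynomial ι R] x =
        (MvPolynomial.C r' : MvPolynomial ι R') ⊗ₜ[MvPolynomial ι R] (r • x)
      have h1 : (MvPolynomial.C (r • r') : MvPolynomial ι R') =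
          (MvPolynomial.C r : MvPolynomial ι R) • (MvPolynomial.C r' : MvPolynomial ι R') := by
        have h0 : (MvPolynomial.C r : MvPolynomial ι R) • (MvPolynomial.C r' : MvPolynomial ι R') =
            MvPolynomial.C (algebraMap R R' r) * MvPolynomial.C r' := by
          rw [Algebra.smul_def, MvPolynomial.algebraMap_def, MvPolynomial.map_C]
        rw [h0, ← MvPolynomial.C_mul, ← Algebra.smul_def]
      have h2 : r • x = (MvPolynomial.C r : MvPolynomial ι R) • x := by
        ext
        simp [MvPolynomial.smul_eq_C_mul]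
      rw [h1, h2, TensorProduct.smul_tmul])

theorem Phi_tmul (r' : R') (x : kerI R S G) :
    Phi R S R' G (r' ⊗ₜ x) = (MvPolynomial.C r' : MvPolynomial ι R') ⊗ₜ[MvPolynomial ι R] x := rfl

theorem Phi_surjective : Function.Surjective (Phi R S R' G) := by
  intro w
  induction w using TensorProduct.induction_on with
  | zero => exact ⟨0, map_zero _⟩
  | add a b ha hb =>
    obtain ⟨a', rfl⟩ := ha
    obtain ⟨b', rfl⟩ := hb
    exact ⟨a' + b', map_add _ _ _⟩
  | tmul p' x =>
    revert x
    induction p' using MvPolynomial.induction_on with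
    | C a => intro x; exact ⟨a ⊗ₜ x, rfl⟩
    | add p q hp hq =>
      intro x
      obtain ⟨a', ha'⟩ := hp x
      obtain ⟨b', hb'⟩ := hq x
      exact ⟨a' + b', by rw [map_add, ha', hb', add_tmul]⟩
    | mul_X p i hp =>
      intro x
      obtain ⟨a', ha'⟩ := hp ((MvPolynomial.X i : MvPolynomial ι R) • x)
      refine ⟨a', ?_⟩
      rw [ha', ← TensorProduct.smul_tmul]
      congr 1
      rw [Algebra.smul_def, MvPolynomial.algebraMap_def, MvPolynomial.map_X, mul_comm]

theorem psi_Phi (v : R' ⊗[R] (kerI R S G)) :
    psi (P' := MvPolynomial ι R') (kerI R S G) (Phi R S R' G v) =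
      MvPolynomial.algebraTensorAlgEquiv R R'
        (LinearMap.lTensor R' ((kerI R S G).subtype.restrictScalars R) v) := by
  induction v using TensorProduct.induction_on with
  | zero => simp
  | add a b ha hb => rw [map_add, map_add, map_add, map_add, ha, hb]
  | tmul r' x =>
    rw [Phi_tmul, psi_tmul, LinearMap.lTensor_tmul, MvPolynomial.algebraTensorAlgEquiv_tmul,
      MvPolynomial.smul_eq_C_mul, MvPolynomial.algebraMap_def]
    rfl

/-- `P' ⊗_P I → P'` is injective when `S` is flat over `R` -/
theorem psi_injective_of_flat [Module.Flat R S] :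
    Function.Injective (psi (P' := MvPolynomial ι R') (kerI R S G)) := by
  have hsurj : Function.Surjective ((MvPolynomial.aeval (R := R) G.val).toLinearMap) := by
    intro s
    obtain ⟨p, hp⟩ := G.algebraMap_surjective s
    exact ⟨p, by rw [← hp, Algebra.Generators.algebraMap_apply]; rfl⟩
  have hex : Function.Exact ((kerI R S G).subtype.restrictScalars R)
      ((MvPolynomial.aeval (R := R) G.val).toLinearMap) := by
    intro p
    constructor
    · intro hp
      exact ⟨⟨p, hp⟩, rfl⟩
    · rintro ⟨x, rfl⟩
      exact x.2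
  have hinj := LinearMap.lTensor_injective_of_exact_of_flat
    ((MvPolynomial.aeval (R := R) G.val).toLinearMap) hsurj
    ((kerI R S G).subtype.restrictScalars R) (Submodule.injective_subtype _) hex R'
  rw [injective_iff_map_eq_zero]
  intro w hw
  obtain ⟨v, rfl⟩ := Phi_surjective R S R' G w
  rw [psi_Phi, EmbeddingLike.map_eq_zero_iff] at hw
  have hv : v = 0 := by
    apply hinj
    rw [hw, map_zero]
  rw [hv, map_zero]

include h in
/-- degree -1: injective when `S` is flat over `R` -/
theorem cotangent_inj' [Module.Flat R S] :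
    Function.Injective (LinearMap.liftBaseChange S' (Algebra.Extension.Cotangent.map
      (NLCx.sameVarsHom G G' h).toExtensionHom)) := by
  rw [injective_iff_map_eq_zero]
  intro y hy
  obtain ⟨w, rfl⟩ := Theta_surjective R S R' S' G G' h y
  obtain ⟨hw, hw2⟩ := L_Theta R S R' S' G G' h w
  rw [hw2, mk_eq_zero_iff', ker_eq_map R S R' S' G G' h, ← Ideal.map_pow] at hy
  have hy' : psi (P' := MvPolynomial ι R') (kerI R S G) w ∈
      Ideal.map (algebraMap (MvPolynomial ι R) (MvPolynomial ι R')) ((kerI R S G) ^ 2) := hy
  obtain ⟨v, hv⟩ := map_le_range_psi (P' := MvPolynomial ι R') ((kerI R S G) ^ 2) hy'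
  rw [← psi_jmap] at hv
  have := psi_injective_of_flat R S R' G hv
  rw [← this, Theta_jmap]

include h in
theorem partA' [Module.Flat R S] :
    IsIso (NLCx.bcMap (S' := S') (NLCx.sameVarsHom G G' h).toExtensionHom) :=
  isIso_bcMap_of_bijective _
    ⟨cotangent_inj' R S R' S' G G' h, cotangent_surj R S R' S' G G' h⟩
    (cotangentSpace_bij R S R' S' G G' h)

theorem partB' [Module.Flat R S] :
    ∃ e : HomotopyEquiv (NLCx.bcCx (Algebra.Generators.self R S).toExtension S')
          (NLCx.cx (Algebra.Generators.self R' S').toExtension),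
        e.hom = NLCx.bcMapSelf R S R' S' := by
  let fE := (NLCx.sameVarsHom (Algebra.Generators.self R S) (G1 R S R' S') (G1_val R S R' S')).toExtensionHom
  let gE := ((G1 R S R' S').defaultHom (Algebra.Generators.self R' S')).toExtensionHom
  let bE := ((Algebra.Generators.self R' S').defaultHom (G1 R S R' S')).toExtensionHom
  haveI : IsIso (NLCx.bcMap (S' := S') fE) :=
    partA' R S R' S' (Algebra.Generators.self R S) (G1 R S R' S') (G1_val R S R' S')
  refine ⟨(HomotopyEquiv.ofIso (asIso (NLCx.bcMap (S' := S') fE))).trans (extHomotopyEquiv gE bE), ?_⟩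
  change NLCx.bcMap (S' := S') fE ≫ NLCx.map gE = NLCx.bcMapSelf R S R' S'
  rw [← bcMap_comp]
  unfold NLCx.bcMapSelf
  rw [defaultHom_eq R S R' S']

theorem quasiIso_bcMapSelf [Module.Flat R S] : QuasiIso (NLCx.bcMapSelf R S R' S') := by
  obtain ⟨e, he⟩ := partB' R S R' S'
  rw [← he]
  infer_instance

end alg

end Groth.Agent.Lib.Helper8.NLBC
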