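import Mathlib
import Groth.Agent.Lib.Helper8.NLBC1
import Groth.Agent.Lib.Helper8.NLAmp
import Groth.Agent.Lib.Helper36.LeftDerivedFlat
import Groth.Agent.Lib.Helper12.FlatExtendScalars

/-!
# Derived base change of the naive cotangent complex (helper8)
-/

set_option autoImplicit false
set_option linter.style.haveILetI false
universe u
open CategoryTheory CategoryTheory.Limits TensorProduct
attribute [local instance] HasDerivedCategory.standard
open FlatMor

namespace Groth.Agent.Lib.Helper8.NLBC

open Groth.Agent.Lib.Helper12 Groth.Agent.Lib.Helper8.NLCompare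

section bridge
variable {B B' : Type u} [CommRing B] [CommRing B'] [Algebra B B']

/-- naturality of the identification of extension of scalars with the tensor product -/
theorem extScObjIso_naturality {M N : Type u} [AddCommGroup M] [Module B M] [AddCommGroup N]
    [Module B N] (d : M →ₗ[B] N) :
    (extScObjIso (A := B) (B := B') M).inv ≫ (extSc B B').map (ModuleCat.ofHom d) =
      ModuleCat.ofHom (d.baseChange B') ≫ (extScObjIso (A := B) (B := B') N).inv := by
  rw [Iso.inv_comp_eq, ← Category.assoc, Iso.eq_comp_inv]
  apply ModuleCat.hom_ext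
  apply LinearMap.ext
  have key : ∀ x : TensorProduct B
      ((ModuleCat.restrictScalars (algebraMap B B')).obj (ModuleCat.of B' B')) M,
      ((extSc B B').map (ModuleCat.ofHom d) ≫ (extScObjIso (A := B) (B := B') N).hom).hom x =
        ((extScObjIso (A := B) (B := B') M).hom ≫ ModuleCat.ofHom (d.baseChange B')).hom x := by
    intro x
    induction x using TensorProduct.induction_on with
    | zero =>
      exact (map_zero (ModuleCat.Hom.hom
        ((extSc B B').map (ModuleCat.ofHom d) ≫ (extScObjIso (A := B) (B := B') N).hom))).trans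
        (map_zero (ModuleCat.Hom.hom
          ((extScObjIso (A := B) (B := B') M).hom ≫ ModuleCat.ofHom (d.baseChange B')))).symm
    | add a b ha hb =>
      exact (map_add (ModuleCat.Hom.hom
        ((extSc B B').map (ModuleCat.ofHom d) ≫ (extScObjIso (A := B) (B := B') N).hom)) a b).trans
        ((congrArg₂ (· + ·) ha hb).trans (map_add (ModuleCat.Hom.hom
          ((extScObjIso (A := B) (B := B') M).hom ≫ ModuleCat.ofHom (d.baseChange B'))) a b).symm)
    | tmul s m => rfl
  exact key

end bridge

set_option linter.unusedSectionVars false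

section main
variable (A B A' B' : Type u) [CommRing A] [CommRing B] [CommRing A'] [CommRing B']
  [Algebra A B] [Algebra A' B'] [Algebra A A'] [Algebra B B'] [Algebra A B']
  [IsScalarTower A A' B'] [IsScalarTower A B B'] [Algebra.IsPushout A A' B B']

/-- the comparison from the tensor form to the extension-of-scalars form -/
noncomputable def theta (E : Algebra.Extension.{u} A B) :
    NLCx.bcCx E B' ⟶ ((extSc B B').mapHomologicalComplex (ComplexShape.up ℤ)).obj (nlCx E) :=
  HomologicalComplex.mkHomFromDouble _ (by decide)
    ((extScObjIso (A := B) (B := B') E.Cotangent).inv ≫ (extSc B B').map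
      (HomologicalComplex.doubleXIso₀ (ModuleCat.ofHom E.cotangentComplex) rel).inv)
    ((extScObjIso (A := B) (B := B') E.CotangentSpace).inv ≫ (extSc B B').map
      (HomologicalComplex.doubleXIso₁ (ModuleCat.ofHom E.cotangentComplex) rel ne).inv)
    (by
      have hd : (nlCx E).d (-1) 0 =
          (HomologicalComplex.doubleXIso₀ (ModuleCat.ofHom E.cotangentComplex) rel).hom ≫
            ModuleCat.ofHom E.cotangentComplex ≫
            (HomologicalComplex.doubleXIso₁ (ModuleCat.ofHom E.cotangentComplex) rel ne).inv :=
        HomologicalComplex.double_d _ rel ne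
      change (_ ≫ (extSc B B').map _) ≫ (extSc B B').map ((nlCx E).d (-1) 0) =
        _ ≫ (_ ≫ (extSc B B').map _)
      rw [hd, Category.assoc, ← Functor.map_comp, Iso.inv_hom_id_assoc, Functor.map_comp,
        ← Category.assoc, extScObjIso_naturality, Category.assoc])
    (by
      intro k hk
      have hz : IsZero ((nlCx E).X k) := by
        apply HomologicalComplex.isZero_double_X
        · simp at hk; omega
        · simp at hk; omega
      change _ ≫ (extSc B B').map ((nlCx E).d 0 k) = 0
      rw [hz.eq_of_tgt ((nlCx E).d 0 k) 0, Functor.map_zero, comp_zero])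

theorem isIso_theta (E : Algebra.Extension.{u} A B) : IsIso (theta A B B' E) := by
  have hcomp : ∀ i : ℤ, IsIso ((theta A B B' E).f i) := by
    intro i
    by_cases h0 : i = -1
    · subst h0
      unfold theta
      erw [HomologicalComplex.mkHomFromDouble_f₀]
      exact @IsIso.comp_isIso _ _ _ _ _ _ _ (Iso.isIso_hom _)
        (@IsIso.comp_isIso _ _ _ _ _ _ _ (Iso.isIso_inv _) (Functor.map_isIso _ _))
    · by_cases h1 : i = 0
      · subst h1
        unfold theta
        erw [HomologicalComplex.mkHomFromDouble_f₁]
        exact @IsIso.comp_isIso _ _ _ _ _ _ _ (Iso.isIso_hom _)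
          (@IsIso.comp_isIso _ _ _ _ _ _ _ (Iso.isIso_inv _) (Functor.map_isIso _ _))
      · have hz1 : IsZero ((NLCx.bcCx E B').X i) := HomologicalComplex.isZero_double_X _ _ i h0 h1
        have hz0 : IsZero ((nlCx E).X i) := HomologicalComplex.isZero_double_X _ _ i h0 h1
        have hz2 : IsZero ((((extSc B B').mapHomologicalComplex (ComplexShape.up ℤ)).obj
            (nlCx E)).X i) := (extSc B B').map_isZero hz0
        exact ⟨⟨0, hz1.eq_of_src _ _, hz2.eq_of_src _ _⟩⟩
  exact HomologicalComplex.Hom.isIso_of_components _

/-- derived base change of the naive cotangent complex of a flat algebra with tor amplitude in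
`[-1, 0]` -/
theorem nonempty_LBaseChange_NL_iso [Module.Flat A B]
    (hamp : DRing.HasTorAmplitudeIn B (-1) 0 (LCI.NL A B))
    [DRing.HasLBaseChange (algebraMap B B')] :
    Nonempty ((DRing.LBaseChange (algebraMap B B')).obj (LCI.NL A B) ≅ LCI.NL A' B') := by
  let E := (Algebra.Generators.self A B).toExtension
  haveI : Module.Flat B E.CotangentSpace := inferInstance
  haveI hfc : Module.Flat B E.Cotangent :=
    Groth.Agent.Lib.Helper8.NLAmp.flat_cotangent_of_torAmp E hamp
  have hb : DRing.VanishesAbove (nlCx E) 0 := by
    intro i hi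
    exact HomologicalComplex.isZero_double_X _ _ i (by omega) (by omega)
  have hfl : ∀ j : ℤ, Module.Flat B ((nlCx E).X j) := by
    intro j
    by_cases h1 : j = -1
    · subst h1
      let e0 := (HomologicalComplex.doubleXIso₀ (ModuleCat.ofHom E.cotangentComplex) rel).toLinearEquiv
      exact Module.Flat.of_linearEquiv e0
    · by_cases h0 : j = 0
      · subst h0
        let e1 := (HomologicalComplex.doubleXIso₁ (ModuleCat.ofHom E.cotangentComplex) rel ne).toLinearEquiv
        exact Module.Flat.of_linearEquiv e1
      · have hz := HomologicalComplex.isZero_double_X (ModuleCat.ofHom E.cotangentComplex) rel j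
          h1 h0
        haveI : Subsingleton ((nlCx E).X j) := ModuleCat.subsingleton_of_isZero hz
        infer_instance
  obtain ⟨e1⟩ := Groth.Agent.Lib.Helper36.LT.nonempty_lBaseChangeObjIso_of_flat
    (algebraMap B B') (nlCx E) 0 hb hfl
  haveI := isIso_theta A B B' E
  haveI hq : QuasiIso (NLCx.bcMapSelf A B A' B') := quasiIso_bcMapSelf A B A' B'
  have hiso : IsIso (DerivedCategory.Q.map (NLCx.bcMapSelf A B A' B')) :=
    (DerivedCategory.isIso_Q_map_iff_quasiIso _ _).2 hq
  exact ⟨e1 ≪≫ (DerivedCategory.Q.mapIso (asIso (theta A B B' E))).symm ≪≫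
    @asIso _ _ _ _ (DerivedCategory.Q.map (NLCx.bcMapSelf A B A' B')) hiso⟩

end main

end Groth.Agent.Lib.Helper8.NLBC
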