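import Mathlib
import Groth.Agent.Lib.Helper8.CBC3
import Groth.Agent.Lib.Helper8.HD

/-!
# Tor amplitude of the naive cotangent complex and local complete intersections, flat case
(helper8)

For a flat finitely presented algebra `A → B` (`A` arbitrary), tor amplitude in `[-1, 0]` of
`NL_{B/A}` implies that `B` is a local complete intersection over `A`.
-/

set_option autoImplicit false
set_option linter.style.haveILetI false
set_option maxHeartbeats 400000
universe u

namespace Groth.Agent.Lib.Helper8.NLFlat

open TensorProduct Algebra CategoryTheory CategoryTheory.Limits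
open Groth.Agent.Lib.Helper8.NLCompare Groth.Agent.Lib.Helper8.NLAmp

attribute [local instance] HasDerivedCategory.standard

variable {A B : Type u} [CommRing A] [CommRing B] [Algebra A B]

/-- tor amplitude of `NL_{B/A}` in `[-1,0]` makes the conormal module of any finite polynomial
presentation flat -/
theorem flat_cotangent_of_nl_torAmp (n : ℕ) (f : MvPolynomial (Fin n) A →ₐ[A] B)
    (hf : Function.Surjective f)
    (hamp : DRing.HasTorAmplitudeIn B (-1) 0 (LCI.NL A B)) :
    Module.Flat B (Algebra.Extension.ofSurjective f hf).Cotangent := by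
  let E : Algebra.Extension.{u} A B := Algebra.Extension.ofSurjective f hf
  haveI : Module.Free (MvPolynomial (Fin n) A) Ω[MvPolynomial (Fin n) A⁄A] := inferInstance
  letI : Algebra (MvPolynomial (Fin n) A) B := f.toAlgebra
  haveI : Module.Flat B E.CotangentSpace := by
    show Module.Flat B (TensorProduct (MvPolynomial (Fin n) A) B Ω[MvPolynomial (Fin n) A⁄A])
    infer_instance
  let ψ : E.Hom (Algebra.Generators.self A B).toExtension :=
    Algebra.Extension.Hom.ofAlgHom
      (MvPolynomial.aeval (fun i : Fin n => (MvPolynomial.X (f (MvPolynomial.X i)) : MvPolynomial B A)))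
      (by
        apply MvPolynomial.algHom_ext
        intro i
        show algebraMap (Algebra.Generators.self A B).toExtension.Ring B
            (MvPolynomial.aeval (fun i : Fin n => (MvPolynomial.X (f (MvPolynomial.X i)) :
              MvPolynomial B A)) (MvPolynomial.X i)) =
          f (MvPolynomial.X i)
        have h1 : (MvPolynomial.aeval (fun i : Fin n => (MvPolynomial.X (f (MvPolynomial.X i)) :
            MvPolynomial B A))) (MvPolynomial.X i : MvPolynomial (Fin n) A) =
            (MvPolynomial.X (f (MvPolynomial.X i)) : MvPolynomial B A) :=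
          MvPolynomial.aeval_X _ _
        have h2 : algebraMap (Algebra.Generators.self A B).toExtension.Ring B
            (MvPolynomial.X (R := A) (f (MvPolynomial.X i))) = f (MvPolynomial.X i) := by
          have := (Algebra.Generators.self A B).algebraMap_apply
            (MvPolynomial.X (R := A) (f (MvPolynomial.X i)))
          rw [MvPolynomial.aeval_X] at this
          exact this
        exact (congrArg _ h1).trans h2)
  have e : DRing.toD (nlCx E) ≅ LCI.NL A B := (nlIso (Extension.defaultHom A B E) ψ).symm
  have hamp' : DRing.HasTorAmplitudeIn B (-1) 0 (DRing.toD (nlCx E)) := by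
    obtain ⟨F, hF, hFfl, ⟨eF⟩⟩ := hamp
    exact ⟨F, hF, hFfl, ⟨eF ≪≫ e.symm⟩⟩
  exact flat_cotangent_of_torAmp E hamp'

/-- **Fibrewise criterion**, with the fibre ideals Koszul-regular. -/
theorem isKoszulRegularIdeal_ker_of_fibre_ideals [Module.Flat A B] (n : ℕ)
    (f : MvPolynomial (Fin n) A →ₐ[A] B) (hf : Function.Surjective f)
    (hfg : (RingHom.ker f.toRingHom).FG)
    (h : ∀ p : PrimeSpectrum A, LCI.IsKoszulRegularIdeal ((RingHom.ker f.toRingHom).map
      (Algebra.TensorProduct.includeRight (R := A) (A := p.asIdeal.ResidueField)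
        (B := MvPolynomial (Fin n) A)))) :
    LCI.IsKoszulRegularIdeal (RingHom.ker f.toRingHom) := by
  haveI : Module.Flat A (MvPolynomial (Fin n) A ⧸ RingHom.ker f.toRingHom) :=
    Module.Flat.of_linearEquiv (Ideal.quotientKerAlgEquivOfSurjective hf).toLinearEquiv
  intro 𝔮 h𝔮
  haveI : (𝔮.asIdeal.under A).IsPrime := Ideal.comap_isPrime _ _
  obtain ⟨l, g, hg, -, hWR, hspan, -⟩ := Groth.Agent.Lib.Helper8.HD.local_main n
    (RingHom.ker f.toRingHom) hfg (𝔮.asIdeal.under A) 𝔮.asIdeal h𝔮
    (h ⟨𝔮.asIdeal.under A, inferInstance⟩)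
  exact ⟨g, hg, _, (Groth.Agent.S15821.result _ _ hWR).1, hspan⟩

/-- tor amplitude in `[-1, 0]` of the naive cotangent complex implies lci, for flat finitely
presented algebras over an arbitrary ring -/
theorem isLCI_of_torAmp_of_flat [Module.Flat A B] [Algebra.FinitePresentation A B]
    (hamp : DRing.HasTorAmplitudeIn B (-1) 0 (LCI.NL A B)) : LCI.IsLCI A B := by
  obtain ⟨n, f, hf, hfg⟩ := Algebra.FinitePresentation.out (R := A) (A := B)
  refine ⟨inferInstance, n, f, hf, ?_⟩
  have hflat := flat_cotangent_of_nl_torAmp n f hf hamp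
  exact isKoszulRegularIdeal_ker_of_fibre_ideals n f hf hfg (fun p =>
    Groth.Agent.Lib.Helper8.CBC.isKoszulRegularIdeal_map_of_flat_cotangent n f hf hfg hflat
      p.asIdeal.ResidueField)

end Groth.Agent.Lib.Helper8.NLFlat
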