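import Mathlib
import Groth.Prelude.Def_FlatCA

/-!
# Quotients by a directed family of ideals as a directed colimit of rings (helper8)
-/

set_option autoImplicit false
set_option maxHeartbeats 400000
universe u

namespace Groth.Agent.Lib.Helper8.QuotColim

variable {P : Type u} [CommRing P] {ι : Type u} [Preorder ι] (𝔞 : ι → Ideal P)

/-- the quotient rings -/
abbrev G (i : ι) : Type u := P ⧸ 𝔞 i

/-- the transition maps -/
def g (hmono : Monotone 𝔞) (i j : ι) (h : i ≤ j) : G 𝔞 i →ₐ[P] G 𝔞 j :=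
  Ideal.Quotient.factorₐ P (hmono h)

variable (A : Type u) [CommRing A] [Algebra P A]

/-- the structure maps to the colimit ring -/
@[reducible] def algA (hle : ∀ i, 𝔞 i ≤ RingHom.ker (algebraMap P A)) (i : ι) :
    Algebra (G 𝔞 i) A :=
  (Ideal.Quotient.lift (𝔞 i) (algebraMap P A) (fun a ha => hle i ha)).toAlgebra

theorem tower (hle : ∀ i, 𝔞 i ≤ RingHom.ker (algebraMap P A)) (i : ι) :
    @IsScalarTower P (G 𝔞 i) A _ (algA 𝔞 A hle i).toSMul _ :=
  letI := algA 𝔞 A hle i
  IsScalarTower.of_algebraMap_eq (fun _ => rfl)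

theorem isDirectedColimit [IsDirected ι (· ≤ ·)] [Nonempty ι] (hmono : Monotone 𝔞)
    (hsurj : Function.Surjective (algebraMap P A))
    (hker : RingHom.ker (algebraMap P A) = ⨆ i, 𝔞 i)
    (hle : ∀ i, 𝔞 i ≤ RingHom.ker (algebraMap P A)) :
    @FlatCA.IsDirectedColimitRing ι _ (G 𝔞) _ (fun i j h => (g 𝔞 hmono i j h).toRingHom) A _
      (algA 𝔞 A hle) := by
  letI := algA 𝔞 A hle
  refine ⟨inferInstance, inferInstance, ?_, ?_, ?_, ?_, ?_⟩
  · intro i
    apply Ideal.Quotient.ringHom_ext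
    ext a
    rfl
  · intro i j k hij hjk
    apply Ideal.Quotient.ringHom_ext
    ext a
    rfl
  · intro i j h
    apply Ideal.Quotient.ringHom_ext
    ext a
    rfl
  · intro a
    obtain ⟨p, rfl⟩ := hsurj a
    obtain ⟨i⟩ := (inferInstance : Nonempty ι)
    exact ⟨i, Ideal.Quotient.mk _ p, rfl⟩
  · intro i x hx
    obtain ⟨p, rfl⟩ := Ideal.Quotient.mk_surjective x
    have hp : p ∈ ⨆ i, 𝔞 i := by
      rw [← hker, RingHom.mem_ker]
      exact hx
    rw [Submodule.mem_iSup_of_directed _ hmono.directed_le] at hp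
    obtain ⟨j, hj⟩ := hp
    obtain ⟨k, hik, hjk⟩ := exists_ge_ge i j
    refine ⟨k, hik, ?_⟩
    change Ideal.Quotient.mk (𝔞 k) p = 0
    exact Ideal.Quotient.eq_zero_iff_mem.2 (hmono hjk hj)

end Groth.Agent.Lib.Helper8.QuotColim
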