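import Mathlib
import Groth.Agent.S4848
import Groth.Agent.Lib.Helper8.QuotColim

/-!
# Descent of flatness to a stage of a directed family of quotients; transfer lemmas (helper8)
-/

set_option autoImplicit false
set_option maxHeartbeats 400000
universe u

open TensorProduct

namespace Groth.Agent.Lib.Helper8.QuotFlat

open Groth.Agent.Lib.Helper8.QuotColim

/-- flatness of a base change descends to a stage of a directed family of quotients -/
theorem exists_flat_stage {P : Type u} [CommRing P] {ι : Type u} [Preorder ι] (𝔞 : ι → Ideal P)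
    [IsDirected ι (· ≤ ·)] [Nonempty ι] (hmono : Monotone 𝔞)
    (A : Type u) [CommRing A] [Algebra P A]
    (hsurj : Function.Surjective (algebraMap P A))
    (hker : RingHom.ker (algebraMap P A) = ⨆ i, 𝔞 i)
    {B₀ : Type u} [CommRing B₀] [Algebra P B₀] [Algebra.FinitePresentation P B₀]
    (M : Type u) [AddCommGroup M] [Module B₀ M] [Module P M] [IsScalarTower P B₀ M]
    [Module.FinitePresentation B₀ M]
    (hA : Module.Flat A (A ⊗[P] M)) : ∃ i, Module.Flat (P ⧸ 𝔞 i) ((P ⧸ 𝔞 i) ⊗[P] M) := by
  have hle : ∀ i, 𝔞 i ≤ RingHom.ker (algebraMap P A) := fun i => hker ▸ le_iSup 𝔞 i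
  letI := algA 𝔞 A hle
  haveI := tower 𝔞 A hle
  have hcolim := isDirectedColimit 𝔞 A hmono hsurj hker hle
  exact (Groth.Agent.S4848.result (G 𝔞) (g 𝔞 hmono) A hcolim (B₀ := B₀) M).1 hA

/-- base change of flatness between algebras -/
theorem flat_baseChange_algebra {P : Type u} [CommRing P] (A A' : Type u) [CommRing A]
    [CommRing A'] [Algebra P A] [Algebra P A'] [Algebra A A'] [IsScalarTower P A A']
    (M : Type u) [AddCommGroup M] [Module P M] (h : Module.Flat A (A ⊗[P] M)) :
    Module.Flat A' (A' ⊗[P] M) :=
  Module.Flat.of_linearEquiv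
    (TensorProduct.AlgebraTensorModule.cancelBaseChange P A A' A' M).symm

/-- tensoring over a ring or over a quotient of it -/
noncomputable def tensorEquivOfSurjective {P S : Type u} [CommRing P] [CommRing S] [Algebra P S]
    (hS : Function.Surjective (algebraMap P S)) (A : Type u) [CommRing A] [Algebra S A]
    [Algebra P A] [IsScalarTower P S A] (M : Type u) [AddCommGroup M] [Module S M] [Module P M]
    [IsScalarTower P S M] : A ⊗[P] M ≃ₗ[A] A ⊗[S] M :=
  haveI : TensorProduct.CompatibleSMul P S S M :=
    TensorProduct.CompatibleSMul.of_algebraMap_surjective _ _ hS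
  (TensorProduct.AlgebraTensorModule.cancelBaseChange P S A A M).symm ≪≫ₗ
    TensorProduct.AlgebraTensorModule.congr (LinearEquiv.refl A A)
      (TensorProduct.lidOfCompatibleSMul P S M)

end Groth.Agent.Lib.Helper8.QuotFlat
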