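import Mathlib
import Groth.Agent.Lib.Helper8.QuotFlat
import Groth.Agent.Lib.Helper2.LocalFlat3

set_option autoImplicit false
set_option maxHeartbeats 400000
set_option linter.unusedSectionVars false
universe u

open TensorProduct

namespace Groth.Agent.Lib.Helper8.NilFibre

open Groth.Agent.Lib.Helper8.QuotFlat

section

variable {R P S : Type u} [CommRing R] [CommRing P] [CommRing S] [Algebra R P] [Algebra P S]
  [Algebra R S] [IsScalarTower R P S] (I : Ideal R)

/-- the index type: pairs of finitely generated subideals -/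
def Idx : Type u :=
  {x : Ideal P × Ideal R // x.1 ≤ RingHom.ker (algebraMap P S) ∧ x.1.FG ∧ x.2 ≤ I ∧ x.2.FG}

instance : Preorder (Idx (P := P) (S := S) I) := Subtype.preorder _

/-- the ideals -/
def ideal (x : Idx (P := P) (S := S) I) : Ideal P := x.1.1 ⊔ x.1.2.map (algebraMap R P)

instance : Nonempty (Idx (P := P) (S := S) I) :=
  ⟨⟨(⊥, ⊥), bot_le, Submodule.fg_bot, bot_le, Submodule.fg_bot⟩⟩

instance : IsDirected (Idx (P := P) (S := S) I) (· ≤ ·) :=
  ⟨fun x y => ⟨⟨(x.1.1 ⊔ y.1.1, x.1.2 ⊔ y.1.2), sup_le x.2.1 y.2.1, Submodule.FG.sup x.2.2.1 y.2.2.1,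
    sup_le x.2.2.2.1 y.2.2.2.1, Submodule.FG.sup x.2.2.2.2 y.2.2.2.2⟩,
    ⟨le_sup_left, le_sup_left⟩, ⟨le_sup_right, le_sup_right⟩⟩⟩

theorem ideal_mono : Monotone (ideal (P := P) (S := S) I) := fun _ _ h =>
  sup_le_sup h.1 (Ideal.map_mono h.2)

theorem iSup_ideal : (⨆ x, ideal (P := P) (S := S) I x) =
    RingHom.ker (algebraMap P S) ⊔ I.map (algebraMap R P) := by
  apply le_antisymm
  · exact iSup_le fun x => sup_le_sup x.2.1 (Ideal.map_mono x.2.2.2.1)
  · refine sup_le ?_ ?_
    · intro j hj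
      have : j ∈ ideal (P := P) (S := S) I ⟨(Ideal.span {j}, ⊥),
          (Ideal.span_singleton_le_iff_mem _).2 hj, ⟨{j}, by simp⟩, bot_le, Submodule.fg_bot⟩ :=
        Ideal.mem_sup_left (Ideal.mem_span_singleton_self j)
      exact Ideal.mem_iSup_of_mem _ this
    · rw [Ideal.map_le_iff_le_comap]
      intro a ha
      have : algebraMap R P a ∈ ideal (P := P) (S := S) I ⟨(⊥, Ideal.span {a}), bot_le,
          Submodule.fg_bot, (Ideal.span_singleton_le_iff_mem _).2 ha, ⟨{a}, by simp⟩⟩ :=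
        Ideal.mem_sup_right (Ideal.mem_map_of_mem _ (Ideal.mem_span_singleton_self a))
      exact Ideal.mem_comap.2 (Ideal.mem_iSup_of_mem _ this)

theorem ker_quot (hS : Function.Surjective (algebraMap P S)) (K : Ideal R) :
    RingHom.ker (algebraMap P (S ⧸ K.map (algebraMap R S))) =
      RingHom.ker (algebraMap P S) ⊔ K.map (algebraMap R P) := by
  have h1 : algebraMap P (S ⧸ K.map (algebraMap R S)) =
      (Ideal.Quotient.mk (K.map (algebraMap R S))).comp (algebraMap P S) := rfl
  rw [h1, ← RingHom.comap_ker, Ideal.mk_ker]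
  have h2 : K.map (algebraMap R S) = (K.map (algebraMap R P)).map (algebraMap P S) := by
    rw [Ideal.map_map, ← IsScalarTower.algebraMap_eq]
  rw [h2, Ideal.comap_map_of_surjective _ hS, sup_comm]
  rfl

end

/-- fibrewise criterion of flatness modulo a locally nilpotent ideal, relative to a
surjection from `P` -/
theorem flat_of_locallyNilpotent {R P S S' M : Type u} [CommRing R] [CommRing P] [CommRing S]
    [CommRing S'] [Algebra R P] [Algebra P S] [Algebra R S] [IsScalarTower R P S]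
    (hS : Function.Surjective (algebraMap P S)) [Algebra P S'] [Algebra.FinitePresentation P S']
    [AddCommGroup M] [Module S' M] [Module P M] [IsScalarTower P S' M]
    [Module.FinitePresentation S' M] [Module S M] [IsScalarTower P S M] [Module R M]
    [IsScalarTower R S M] [Module.Flat R M] (I : Ideal R) (hI : ∀ a ∈ I, IsNilpotent a)
    (h : Module.Flat (S ⧸ I.map (algebraMap R S)) ((S ⧸ I.map (algebraMap R S)) ⊗[S] M)) :
    Module.Flat S M := by
  have hA : Module.Flat (S ⧸ I.map (algebraMap R S)) ((S ⧸ I.map (algebraMap R S)) ⊗[P] M) :=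
    Module.Flat.of_linearEquiv (tensorEquivOfSurjective hS (S ⧸ I.map (algebraMap R S)) M)
  have hsurj : Function.Surjective (algebraMap P (S ⧸ I.map (algebraMap R S))) :=
    Ideal.Quotient.mk_surjective.comp hS
  obtain ⟨x, hx⟩ := exists_flat_stage (ideal (P := P) (S := S) I) (ideal_mono I)
    (S ⧸ I.map (algebraMap R S)) hsurj ((ker_quot hS I).trans (iSup_ideal I).symm) (B₀ := S') M hA
  obtain ⟨⟨J', I'⟩, hJ', hJ'fg, hI', hI'fg⟩ := x
  have hle : ideal (P := P) (S := S) I ⟨(J', I'), hJ', hJ'fg, hI', hI'fg⟩ ≤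
      RingHom.ker (algebraMap P (S ⧸ I'.map (algebraMap R S))) := by
    rw [ker_quot hS I']
    exact sup_le_sup hJ' le_rfl
  let _ : Algebra (P ⧸ ideal (P := P) (S := S) I ⟨(J', I'), hJ', hJ'fg, hI', hI'fg⟩)
      (S ⧸ I'.map (algebraMap R S)) :=
    (Ideal.Quotient.lift _ (algebraMap P (S ⧸ I'.map (algebraMap R S)))
      (fun a ha => hle ha)).toAlgebra
  have : IsScalarTower P (P ⧸ ideal (P := P) (S := S) I ⟨(J', I'), hJ', hJ'fg, hI', hI'fg⟩)
      (S ⧸ I'.map (algebraMap R S)) := IsScalarTower.of_algebraMap_eq (fun _ => rfl)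
  have h1 : Module.Flat (S ⧸ I'.map (algebraMap R S))
      ((S ⧸ I'.map (algebraMap R S)) ⊗[P] M) :=
    flat_baseChange_algebra _ (S ⧸ I'.map (algebraMap R S)) M hx
  have h2 : Module.Flat (S ⧸ I'.map (algebraMap R S))
      ((S ⧸ I'.map (algebraMap R S)) ⊗[S] M) :=
    Module.Flat.of_linearEquiv
      (tensorEquivOfSurjective hS (S ⧸ I'.map (algebraMap R S)) M).symm
  have hnil : IsNilpotent I' :=
    (Ideal.FG.isNilpotent_iff_le_nilradical hI'fg).2 (fun a ha => hI a (hI' ha))
  have hnil' : IsNilpotent (I'.map (algebraMap R S)) := by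
    obtain ⟨n, hn⟩ := hnil
    refine ⟨n, ?_⟩
    rw [← Ideal.map_pow, hn]
    exact Ideal.map_bot
  exact Groth.Agent.Lib.Helper2.flat_of_nilpotent (I'.map (algebraMap R S)) hnil'
    (Groth.Agent.Lib.Helper2.rTensor_injective_map_of_flat (R := R) (S := S) (M := M) I') h2

end Groth.Agent.Lib.Helper8.NilFibre
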