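import Mathlib
import Groth.Prelude.Def_MoreMor
import Groth.Agent.Lib.Helper8.PCL2
import Groth.Agent.Lib.Helper8.PCL3

/-!
# Flat base change and fpqc descent of pseudo-coherent morphisms (helper8)
-/

set_option autoImplicit false
set_option linter.style.haveILetI false
universe u
attribute [local instance] HasDerivedCategory.standard
open CategoryTheory CategoryTheory.Limits AlgebraicGeometry

namespace Groth.Agent.Lib.Helper8.PCL

/-- flat base change of pseudo-coherent morphisms -/
theorem pcMor_of_isPullback_flat {X S X' S' : Scheme.{u}} (f : X ⟶ S) (f' : X' ⟶ S')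
    (g' : X' ⟶ X) (g : S' ⟶ S) [Flat g] (hc : IsPullback g' f' f g) (hf : pcMor f) :
    pcMor f' := by
  rw [HasRingHomProperty.iff_exists_appLE (P := pcMor) pch_stableAwaySource]
  intro x'
  have hs : g (f' x') = f (g' x') := by
    rw [← Scheme.Hom.comp_apply, ← Scheme.Hom.comp_apply, hc.w]
  obtain ⟨W, hW, hsW, -⟩ := exists_isAffineOpen_mem_and_subset (x := g (f' x')) (U := ⊤) trivial
  obtain ⟨W', hW', hs'W', hW'W⟩ := exists_isAffineOpen_mem_and_subset (x := f' x')
    (U := g ⁻¹ᵁ W) hsW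
  obtain ⟨U, hU, hxU, hUW⟩ := exists_isAffineOpen_mem_and_subset (x := g' x')
    (U := f ⁻¹ᵁ W) (by show f (g' x') ∈ W; rw [← hs]; exact hsW)
  obtain ⟨UY, hUY⟩ : ∃ UY : X'.Opens, UY = g' ⁻¹ᵁ U ⊓ f' ⁻¹ᵁ W' := ⟨_, rfl⟩
  have hiso := isIso_pushoutSection_of_isAffineOpen hc hW'W hUW hUY hW hW' hU
  have hpo := (isIso_pushoutSection_iff hc hW'W hUW hUY).mp hiso
  haveI : IsAffine W := hW
  haveI : IsAffine W' := hW'
  haveI : IsAffine U := hU
  have hUYaff : IsAffineOpen UY :=
    .of_isIso (Scheme.Hom.isPullback_resLE hc hW'W hUW hUY).isoPullback.hom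
  have e' : UY ≤ f' ⁻¹ᵁ W' := by
    rw [hUY]
    exact inf_le_right
  refine ⟨⟨W', hW'⟩, ⟨UY, hUYaff⟩, ?_, e', ?_⟩
  · show x' ∈ UY
    rw [hUY]
    exact ⟨hxU, hs'W'⟩
  · have h1 : PCH (f.appLE W U hUW).hom :=
      (HasRingHomProperty.iff_appLE (P := pcMor)).1 hf ⟨W, hW⟩ ⟨U, hU⟩ hUW
    have h2 : (g.appLE W W' hW'W).hom.Flat :=
      HasRingHomProperty.appLE (P := @Flat) g inferInstance ⟨W, hW⟩ ⟨W', hW'⟩ hW'W
    exact pch_of_isPushout _ _ _ _ hpo h2 h1

/-- descent along a faithfully flat map of affine schemes -/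
theorem pcMor_descends_affine {R R' : CommRingCat.{u}} (φ : R ⟶ R')
    (hφ : Flat (Spec.map φ) ∧ Surjective (Spec.map φ)) {Y : Scheme.{u}} (g : Y ⟶ Spec R)
    (h : pcMor (pullback.fst (Spec.map φ) g)) : pcMor g := by
  wlog hY : ∃ S, Y = Spec S generalizing Y
  · rw [IsZariskiLocalAtSource.iff_of_openCover (P := pcMor) Y.affineCover]
    intro i
    have heq : pullback.fst (Spec.map φ) (Y.affineCover.f i ≫ g) =
        pullback.map _ _ _ _ (𝟙 _) (Y.affineCover.f i) (𝟙 _) (by simp) (by simp) ≫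
          pullback.fst (Spec.map φ) g := (pullback.lift_fst _ _ _).symm
    exact this _ (heq ▸ AlgebraicGeometry.IsZariskiLocalAtSource.comp h _) ⟨_, rfl⟩
  obtain ⟨S, rfl⟩ := hY
  refine of_pullback_fst_Spec_of_codescendsAlong (P := pcMor)
    (P' := (@Flat ⊓ @Surjective : MorphismProperty Scheme.{u})) pch_codescendsAlong ?_ ?_
    (f := Spec.map φ) ⟨hφ.1, hφ.2⟩ h
  · intro R S f hf
    exact (flat_and_surjective_SpecMap_iff f).1 ⟨hf.1, hf.2⟩
  · intro R S f
    exact HasRingHomProperty.Spec_iff (P := pcMor)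

/-- descent over an affine base -/
theorem pcMor_descends_aux {R : CommRingCat.{u}} {X Y : Scheme.{u}} (f : X ⟶ Spec R)
    (g : Y ⟶ Spec R) (hf : (@Surjective ⊓ @Flat ⊓ @QuasiCompact : MorphismProperty Scheme) f)
    (h : pcMor (pullback.fst f g)) : pcMor g := by
  obtain ⟨⟨hsurj, hflat⟩, hqc⟩ := hf
  haveI : Surjective f := hsurj
  haveI : Flat f := hflat
  haveI : QuasiCompact f := hqc
  haveI : CompactSpace X := (quasiCompact_iff_compactSpace f).mp inferInstance
  obtain ⟨T, p, hpsurj, hpflat, hT⟩ := X.exists_hom_isAffine_of_isZariskiLocalAtSource @Flat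
  haveI : Flat p := hpflat
  haveI : Surjective p := hpsurj
  -- replace `T` by a spectrum
  let p' : Spec Γ(T, ⊤) ⟶ X := T.isoSpec.inv ≫ p
  haveI : Flat p' := inferInstance
  haveI : Surjective p' := inferInstance
  let q : Spec Γ(T, ⊤) ⟶ Spec R := p' ≫ f
  haveI : Flat q := inferInstance
  haveI : Surjective q := inferInstance
  -- base change to `T`
  have hq : pcMor (pullback.fst q g) := by
    have hbig : IsPullback (pullback.fst q g) (pullback.snd q g) q g := .of_hasPullback _ _
    have hright : IsPullback (pullback.fst f g) (pullback.snd f g) f g := .of_hasPullback _ _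
    let t : pullback q g ⟶ pullback f g :=
      pullback.lift (pullback.fst q g ≫ p') (pullback.snd q g)
        (by rw [Category.assoc]; exact pullback.condition)
    have ht1 : t ≫ pullback.fst f g = pullback.fst q g ≫ p' := pullback.lift_fst _ _ _
    have ht2 : t ≫ pullback.snd f g = pullback.snd q g := pullback.lift_snd _ _ _
    have hleft : IsPullback t (pullback.fst q g) (pullback.fst f g) p' := by
      refine IsPullback.of_right ?_ ht1 hright.flip
      rw [ht2]
      exact hbig.flip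
    exact pcMor_of_isPullback_flat (pullback.fst f g) (pullback.fst q g) t p' hleft h
  obtain ⟨φ, hφ⟩ := Spec.map_surjective q
  have hφ' : Flat (Spec.map φ) ∧ Surjective (Spec.map φ) := by
    rw [hφ]
    exact ⟨inferInstance, inferInstance⟩
  rw [← hφ] at hq
  exact pcMor_descends_affine φ hφ' g hq

instance pcMor_descendsAlong :
    MorphismProperty.DescendsAlong pcMor.{u}
      (@Surjective ⊓ @Flat ⊓ @QuasiCompact : MorphismProperty Scheme.{u}) :=
  IsZariskiLocalAtTarget.descendsAlong _ _ (fun f g hf h => pcMor_descends_aux f g hf h)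

/-- fpqc descent of pseudo-coherent morphisms -/
theorem isPseudoCoherentMor_of_fpqc_baseChange {X S X' S' : Scheme.{u}} (f : X ⟶ S)
    (f' : X' ⟶ S') (g' : X' ⟶ X) (g : S' ⟶ S) [Flat g] [Surjective g] [QuasiCompact g]
    (hc : IsPullback g' f' f g) (hf' : MoreMor.IsPseudoCoherentMor f') :
    MoreMor.IsPseudoCoherentMor f := by
  rw [← pcMor_iff] at hf' ⊢
  exact MorphismProperty.of_isPullback_of_descendsAlong
    (Q := (@Surjective ⊓ @Flat ⊓ @QuasiCompact : MorphismProperty Scheme.{u})) hc.flip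
    ⟨⟨inferInstance, inferInstance⟩, inferInstance⟩ hf'

/-- flat base change of pseudo-coherent morphisms -/
theorem isPseudoCoherentMor_flat_baseChange {X S X' S' : Scheme.{u}} (f : X ⟶ S)
    (f' : X' ⟶ S') (g' : X' ⟶ X) (g : S' ⟶ S) [Flat g]
    (hc : IsPullback g' f' f g) (hf : MoreMor.IsPseudoCoherentMor f) :
    MoreMor.IsPseudoCoherentMor f' := by
  rw [← pcMor_iff] at hf ⊢
  exact pcMor_of_isPullback_flat f f' g' g hc hf

end Groth.Agent.Lib.Helper8.PCL
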