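import Groth.Agent.S7066
import Groth.Agent.Lib.Helper8.KoszulPerfect
import Groth.Agent.Lib.Helper9.LciMor3

set_option autoImplicit false
set_option linter.style.haveILetI false
universe u
attribute [local instance] HasDerivedCategory.standard

namespace Groth.Agent.Lib.Helper8.PerfLCI

open CategoryTheory CategoryTheory.Limits AlgebraicGeometry

/-- a local complete intersection ring map is perfect -/
theorem isPerfectHom_of_isLCI (A B : Type u) [CommRing A] [CommRing B] [Algebra A B]
    (h : LCI.IsLCI A B) : MoreMor.IsPerfectHom A B := by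
  obtain ⟨-, n, f, hf, hK⟩ := h
  rw [Groth.Agent.S7066.result]
  refine ⟨n, f, hf, ?_⟩
  letI := f.toRingHom.toAlgebra
  have h1 := Groth.Agent.Lib.Helper8.KoszulPerfect.isPerfectModule_quot_of_koszulRegularIdeal
    (RingHom.ker f.toRingHom) hK
  let e : (MvPolynomial (Fin n) A ⧸ RingHom.ker f.toRingHom) ≃ₗ[MvPolynomial (Fin n) A] B :=
    { (RingHom.quotientKerEquivOfSurjective (f := f.toRingHom) hf).toAddEquiv with
      map_smul' := by
        intro p x
        obtain ⟨x, rfl⟩ := Ideal.Quotient.mk_surjective x
        simp only [RingHom.id_apply]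
        show (RingHom.quotientKerEquivOfSurjective (f := f.toRingHom) hf)
            (p • Ideal.Quotient.mk _ x) = p • _
        rw [Algebra.smul_def, map_mul, Algebra.smul_def]
        rfl }
  exact Groth.Agent.Lib.Helper8.KoszulPerfect.isPerfectModule_of_linearEquiv e h1

/-- a morphism which is Koszul at every point is perfect -/
theorem isPerfectMor_of_isKoszulAt {X Y : Scheme.{u}} (f : X ⟶ Y)
    (hf : ∀ x : X, Synt.IsKoszulAt f x) : MoreMor.IsPerfectMor f := by
  intro U V hU hV hUV
  letI := (f.appLE V U hUV).hom.toAlgebra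
  exact isPerfectHom_of_isLCI _ _
    (Groth.Agent.Lib.Helper9.LciMor3.isLCI_appLE_of_isKoszulAt f hf U V hU hV hUV)

end Groth.Agent.Lib.Helper8.PerfLCI
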