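import Groth.Prelude.Def_Mor2

import Groth.Agent.Lib.Helper8.PerfLCI
import Groth.Agent.S15821
import Groth.Agent.Lib.Helper9.SmoothLCI0

set_option autoImplicit false
universe u
open CategoryTheory CategoryTheory.Limits AlgebraicGeometry

namespace Groth.Agent.Lib.Helper8.PerfLCI

theorem isKoszulAt_of_isRegularClosedImmersion {Z X : Scheme.{u}} (i : Z ⟶ X)
    (hi : Mor2.IsRegularClosedImmersion i) (z : Z) : Synt.IsKoszulAt i z := by
  obtain ⟨hcl, h⟩ := hi
  have := hcl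
  obtain ⟨V, hV, hzV, rs, hreg, hker⟩ := h z
  have hU : IsAffineOpen (i ⁻¹ᵁ V) := hV.preimage i
  refine Groth.Agent.Lib.Helper9.LciMor2.isKoszulAt_of_affine_isLCI i z ⟨i ⁻¹ᵁ V, hU⟩ ⟨V, hV⟩
    le_rfl hzV ?_
  have happ : i.appLE V (i ⁻¹ᵁ V) le_rfl = i.app V := (Scheme.Hom.app_eq_appLE _).symm
  rw [happ]
  refine Groth.Agent.Lib.Helper9.LciMor2.ringHomLCI_of_surjective (i.app V).hom
    (i.app_surjective V hV) ?_
  have hk : RingHom.ker (i.app V).hom = Ideal.ofList rs := by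
    rw [← hker, Scheme.Hom.ker_apply]
  rw [hk]
  exact Groth.Agent.Lib.Helper9.SmoothLCI0.isKoszulRegularIdeal_ofList rs
    (Groth.Agent.S15821.result _ rs hreg.toIsWeaklyRegular).1

end Groth.Agent.Lib.Helper8.PerfLCI
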