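import Mathlib
import Groth.Prelude.Def_MoreMor
import Groth.Agent.Lib.Helper8.PFL3
import Groth.Agent.S1676
import Groth.Agent.S1509

/-!
# Cancelling a smooth morphism from a perfect composite (helper8)
-/

set_option autoImplicit false
set_option linter.style.haveILetI false
universe u
attribute [local instance] HasDerivedCategory.standard
open CategoryTheory CategoryTheory.Limits AlgebraicGeometry TensorProduct

namespace Groth.Agent.Lib.Helper8.PFL

open Groth.Agent.Lib.Helper8.PCL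

/-- a ring map which is a retraction of a smooth ring map is perfect -/
theorem pfh_of_section_smooth {C D : Type u} [CommRing C] [CommRing D] (ι : C →+* D)
    (σ : D →+* C) (hι : ι.Smooth) (hσ : σ.comp ι = RingHom.id C) : PFH σ := by
  have hsurj : Function.Surjective σ := fun c => ⟨ι c, RingHom.congr_fun hσ c⟩
  let f : Spec (CommRingCat.of D) ⟶ Spec (CommRingCat.of C) := Spec.map (CommRingCat.ofHom ι)
  let s : Spec (CommRingCat.of C) ⟶ Spec (CommRingCat.of D) := Spec.map (CommRingCat.ofHom σ)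
  haveI : Smooth f := (HasRingHomProperty.Spec_iff (P := @Smooth)).2 hι
  haveI : IsClosedImmersion s := IsClosedImmersion.spec_of_surjective _ hsurj
  have hs : s ≫ f = 𝟙 _ := by
    show Spec.map (CommRingCat.ofHom σ) ≫ Spec.map (CommRingCat.ofHom ι) = 𝟙 _
    rw [← Spec.map_comp, ← CommRingCat.ofHom_comp, hσ]
    exact Spec.map_id _
  have h1 := Groth.Agent.S1676.result f s hs
  have h2 := Groth.Agent.S1509.result s h1
  rw [← pfMor_iff] at h2
  exact (HasRingHomProperty.Spec_iff (P := pfMor)).1 h2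

section
attribute [local instance] Algebra.TensorProduct.rightAlgebra

/-- if `A → B` is smooth and `A → B → C` is perfect then `B → C` is perfect -/
theorem pfh_of_smooth_of_comp {A B C : Type u} [CommRing A] [CommRing B] [CommRing C]
    (α : A →+* B) (φ : B →+* C) (hα : α.Smooth) (h : PFH (φ.comp α)) : PFH φ := by
  letI := α.toAlgebra
  letI := φ.toAlgebra
  letI := (φ.comp α).toAlgebra
  haveI : IsScalarTower A B C := .of_algebraMap_eq' rfl
  haveI : Algebra.Smooth A B := hα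
  haveI : Module.Flat A B := inferInstance
  have h1 : PFH (algebraMap B (B ⊗[A] C)) := by
    refine ⟨pch_algebraMap.2 (pc_baseChange (R' := B) h.1), ?_⟩
    rw [ftd_algebraMap]
    obtain ⟨k, hk⟩ := h.2
    exact ⟨k, tdle_baseChange B hk⟩
  let σ : B ⊗[A] C →ₐ[A] C :=
    Algebra.TensorProduct.productMap (IsScalarTower.toAlgHom A B C) (AlgHom.id A C)
  have hsm : (algebraMap C (B ⊗[A] C)).Smooth :=
    RingHom.Smooth.isStableUnderBaseChange A B C (B ⊗[A] C) hα
  have hσ : PFH (σ : B ⊗[A] C →+* C) := by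
    refine pfh_of_section_smooth (algebraMap C (B ⊗[A] C)) _ hsm ?_
    ext c
    show σ ((1 : B) ⊗ₜ[A] c) = c
    simp [σ]
  have h3 := pfh_stableUnderComposition _ _ h1 hσ
  have heq : (σ : B ⊗[A] C →+* C).comp (algebraMap B (B ⊗[A] C)) = φ := by
    ext b
    show σ (b ⊗ₜ[A] (1 : C)) = φ b
    simp [σ]
    rfl
  rwa [heq] at h3

end

/-- if `g` is smooth and `f ≫ g` is perfect then `f` is perfect -/
theorem isPerfectMor_of_comp_smooth {X Y S : Scheme.{u}} (f : X ⟶ Y) (g : Y ⟶ S) [Smooth g]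
    (h : MoreMor.IsPerfectMor (f ≫ g)) : MoreMor.IsPerfectMor f := by
  rw [← pfMor_iff] at h ⊢
  rw [HasRingHomProperty.iff_exists_appLE (P := pfMor) pfh_stableAwaySource]
  intro x
  obtain ⟨W, hW, hxW, -⟩ := exists_isAffineOpen_mem_and_subset (x := g (f x)) (U := ⊤) trivial
  obtain ⟨V, hV, hxV, hVW⟩ := exists_isAffineOpen_mem_and_subset (x := f x) (U := g ⁻¹ᵁ W) hxW
  obtain ⟨U, hU, hxU, hUV⟩ := exists_isAffineOpen_mem_and_subset (x := x) (U := f ⁻¹ᵁ V) hxV
  refine ⟨⟨V, hV⟩, ⟨U, hU⟩, hxU, hUV, ?_⟩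
  have hUW : U ≤ (f ≫ g) ⁻¹ᵁ W := fun y hy => hVW (hUV hy)
  have h1 : PFH ((f ≫ g).appLE W U hUW).hom :=
    (HasRingHomProperty.iff_appLE (P := pfMor)).1 h ⟨W, hW⟩ ⟨U, hU⟩ hUW
  have h2 : (g.appLE W V hVW).hom.Smooth :=
    HasRingHomProperty.appLE (P := @Smooth) g inferInstance ⟨W, hW⟩ ⟨V, hV⟩ hVW
  have hcomp : g.appLE W V hVW ≫ f.appLE V U hUV = (f ≫ g).appLE W U hUW :=
    Scheme.Hom.appLE_comp_appLE f g W V U hVW hUV
  apply pfh_of_smooth_of_comp (g.appLE W V hVW).hom (f.appLE V U hUV).hom h2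
  rw [← CommRingCat.hom_comp, hcomp]
  exact h1

end Groth.Agent.Lib.Helper8.PFL
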