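import Mathlib
import Groth.Prelude.Def_MoreMor
import Groth.Agent.Lib.Helper8.PFL2
import Groth.Agent.S6935

/-!
# Spreading out finite tor dimension of pseudo-coherent modules (helper8)
-/

set_option autoImplicit false
set_option linter.style.haveILetI false
universe u
attribute [local instance] HasDerivedCategory.standard
open CategoryTheory CategoryTheory.Limits TensorProduct

namespace Groth.Agent.Lib.Helper8.PFL

open Groth.Agent.Lib.Helper12 DRing Groth.Agent.Lib.Helper8.TorDimPoly

section spread
variable {R : Type u} [CommRing R]

/-- over a localization, tor dimension can be computed over the base -/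
theorem tdle_base_localization (S : Submonoid R) (R' : Type u) [CommRing R'] [Algebra R R']
    [IsLocalization S R'] {M : Type u} [AddCommGroup M] [Module R' M] [Module R M]
    [IsScalarTower R R' M] {k : ℕ} (h : DRing.HasTorDimLE R k M) : DRing.HasTorDimLE R' k M := by
  haveI : Module.Flat R R' := IsLocalization.flat R' S
  have h1 := tdle_baseChange R' h
  haveI : IsLocalizedModule S (LinearMap.id : M →ₗ[R] M) := isLocalizedModule_id S M R'
  have hb : IsBaseChange R' (LinearMap.id : M →ₗ[R] M) := IsLocalizedModule.isBaseChange S R' _
  exact tdle_of_linearEquiv hb.equiv h1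

/-- the kernel of a surjection from a finite free module onto a pseudo-coherent module is
pseudo-coherent -/
theorem pcm_ker {M : Type u} [AddCommGroup M] [Module R M] {n : ℕ} (π : (Fin n → R) →ₗ[R] M)
    (hπ : Function.Surjective π) (h : DRing.IsPseudoCoherentModule' R M) :
    DRing.IsPseudoCoherentModule' R (LinearMap.ker π) := by
  unfold DRing.IsPseudoCoherentModule' at *
  rw [← isPseudoCoherent'_iff_forall] at h ⊢
  let S : ShortComplex (ModuleCat.{u} R) :=
    ShortComplex.mk (ModuleCat.ofHom (LinearMap.ker π).subtype) (ModuleCat.ofHom π) (by
      ext x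
      exact x.2)
  have hS : S.ShortExact := by
    refine ShortComplex.ShortExact.mk' ?_ ?_ ?_
    · rw [ShortComplex.ShortExact.moduleCat_exact_iff_function_exact]
      exact LinearMap.exact_subtype_ker_map π
    · exact (ModuleCat.mono_iff_injective _).mpr (Submodule.injective_subtype _)
    · exact (ModuleCat.epi_iff_surjective _).mpr hπ
  have hT := hS.singleTriangle_distinguished
  have hF : ∀ m : ℤ, IsPseudoCoherent R m (Dual.inD R (Fin n → R)) := fun m =>
    isPseudoCoherent_inD_of_finite_free (ModuleCat.of R (Fin n → R)) m
  intro m
  have := (isPseudoCoherent_two_out_of_three hS.singleTriangle hT (m - 1)).2.2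
    (by simpa using hF m) (h (m - 1))
  simpa using this

theorem pcm_finite {M : Type u} [AddCommGroup M] [Module R M]
    (h : DRing.IsPseudoCoherentModule' R M) : Module.Finite R M :=
  (Groth.Agent.S6935.result R M).1.1 (isPseudoCoherent_of_isPseudoCoherent' h 0)

theorem pcm_finitePresentation {M : Type u} [AddCommGroup M] [Module R M]
    (h : DRing.IsPseudoCoherentModule' R M) : Module.FinitePresentation R M :=
  (Groth.Agent.S6935.result R M).2.1 (isPseudoCoherent_of_isPseudoCoherent' h (-1))

/-- finite tor dimension of a pseudo-coherent module at a prime spreads out to a principal open -/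
theorem spread (Q : Ideal R) [Q.IsPrime] :
    ∀ (e : ℕ) (M : Type u) [AddCommGroup M] [Module R M], DRing.IsPseudoCoherentModule' R M →
      TD (Localization.AtPrime Q) e (Localization.AtPrime Q ⊗[R] M) →
      ∃ g : R, g ∉ Q ∧ TD (Localization.Away g) e (Localization.Away g ⊗[R] M)
  | 0, M, _, _, hpc, h => by
    haveI : Module.Flat (Localization.AtPrime Q) (Localization.AtPrime Q ⊗[R] M) :=
      flat_of_td_zero _ h
    haveI : Module.FinitePresentation R M := pcm_finitePresentation hpc
    haveI : Module.FinitePresentation (Localization.AtPrime Q) (Localization.AtPrime Q ⊗[R] M) :=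
      inferInstance
    haveI : Module.Free (Localization.AtPrime Q) (Localization.AtPrime Q ⊗[R] M) :=
      Module.free_of_flat_of_isLocalRing
    haveI : IsLocalizedModule Q.primeCompl (TensorProduct.mk R (Localization.AtPrime Q) M 1) :=
      (isLocalizedModule_iff_isBaseChange Q.primeCompl (Localization.AtPrime Q) _).2
        (TensorProduct.isBaseChange R M (Localization.AtPrime Q))
    obtain ⟨r, hr, hfree, -⟩ := Module.FinitePresentation.exists_free_localizedModule_powers
      Q.primeCompl (TensorProduct.mk R (Localization.AtPrime Q) M 1) (Localization.AtPrime Q)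
    refine ⟨r, hr, ?_⟩
    haveI := hfree
    have e := (IsLocalizedModule.isBaseChange (Submonoid.powers r) (Localization.Away r)
      (LocalizedModule.mkLinearMap (Submonoid.powers r) M)).equiv
    haveI : Module.Flat (Localization.Away r) (Localization.Away r ⊗[R] M) :=
      Module.Flat.of_linearEquiv e
    exact td_of_flat _ 0
  | e + 1, M, _, _, hpc, h => by
    haveI : Module.Finite R M := pcm_finite hpc
    obtain ⟨n, π, hπ⟩ := Module.Finite.exists_fin' R M
    have hK := pcm_ker π hπ hpc
    have hKQ : TD (Localization.AtPrime Q) e (Localization.AtPrime Q ⊗[R] LinearMap.ker π) := by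
      refine td_left ((LinearMap.ker π).subtype.baseChange (Localization.AtPrime Q))
        (π.baseChange (Localization.AtPrime Q)) ?_ ?_ ?_ e h
      · rw [LinearMap.baseChange_eq_ltensor]
        exact Module.Flat.lTensor_preserves_injective_linearMap _ (Submodule.injective_subtype _)
      · rw [LinearMap.baseChange_eq_ltensor, LinearMap.baseChange_eq_ltensor]
        exact lTensor_exact _ (LinearMap.exact_subtype_ker_map _) hπ
      · rw [LinearMap.baseChange_eq_ltensor]
        exact LinearMap.lTensor_surjective _ hπ
    obtain ⟨g, hg, hKg⟩ := spread Q e _ hK hKQ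
    refine ⟨g, hg, td_right ((LinearMap.ker π).subtype.baseChange (Localization.Away g))
      (π.baseChange (Localization.Away g)) ?_ ?_ ?_ e hKg (td_of_flat _ e)⟩
    · rw [LinearMap.baseChange_eq_ltensor]
      exact Module.Flat.lTensor_preserves_injective_linearMap _ (Submodule.injective_subtype _)
    · rw [LinearMap.baseChange_eq_ltensor, LinearMap.baseChange_eq_ltensor]
      exact lTensor_exact _ (LinearMap.exact_subtype_ker_map _) hπ
    · rw [LinearMap.baseChange_eq_ltensor]
      exact LinearMap.lTensor_surjective _ hπ

end spread

end Groth.Agent.Lib.Helper8.PFL
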