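import Mathlib
import Groth.Prelude.Def_MoreMor
import Groth.Agent.Lib.Helper8.PFL5

/-!
# Finite tor dimension of a pseudo-coherent ring map can be checked at the primes (helper8)
-/

set_option autoImplicit false
set_option linter.style.haveILetI false
universe u
attribute [local instance] HasDerivedCategory.standard
open CategoryTheory CategoryTheory.Limits TensorProduct

namespace Groth.Agent.Lib.Helper8.PFL

open Groth.Agent.Lib.Helper12 DRing Groth.Agent.Lib.Helper8.TorDimPoly

section ring
variable {A B : Type u} [CommRing A] [CommRing B] [Algebra A B]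

theorem exists_away_tdle {n : ℕ} (φ : MvPolynomial (Fin n) A →ₐ[A] B) (hφ : Function.Surjective φ)
    (hpc : letI := φ.toRingHom.toAlgebra
      DRing.IsPseudoCoherentModule' (MvPolynomial (Fin n) A) B)
    (q : Ideal B) [q.IsPrime] (Bq : Type u) [CommRing Bq] [Algebra B Bq]
    [IsLocalization.AtPrime Bq q] [Algebra A Bq] [IsScalarTower A B Bq] (d : ℕ)
    (h : DRing.HasTorDimLE A d Bq) :
    ∃ g : B, g ∉ q ∧ DRing.HasTorDimLE A (d + n) (Localization.Away g) := by
  letI algPB : Algebra (MvPolynomial (Fin n) A) B := φ.toRingHom.toAlgebra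
  haveI : IsScalarTower A (MvPolynomial (Fin n) A) B :=
    IsScalarTower.of_algebraMap_eq (fun a => (φ.commutes a).symm)
  letI : Algebra (MvPolynomial (Fin n) A) Bq :=
    ((algebraMap B Bq).comp (algebraMap (MvPolynomial (Fin n) A) B)).toAlgebra
  haveI : IsScalarTower (MvPolynomial (Fin n) A) B Bq := IsScalarTower.of_algebraMap_eq' rfl
  haveI : IsScalarTower A (MvPolynomial (Fin n) A) Bq := IsScalarTower.of_algebraMap_eq (fun a => by
    rw [IsScalarTower.algebraMap_apply A B Bq,
      IsScalarTower.algebraMap_apply A (MvPolynomial (Fin n) A) B]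
    rfl)
  set P := MvPolynomial (Fin n) A with hP
  let Q : Ideal P := q.comap (algebraMap P B)
  haveI : Q.IsPrime := Ideal.comap_isPrime _ _
  -- step a
  have ha : TD P (d + n) Bq := td_mvPolynomial A d n Bq ((tdle_iff_td d Bq).1 h)
  -- step b
  have hsub : Algebra.algebraMapSubmonoid B Q.primeCompl = q.primeCompl := by
    ext x
    constructor
    · rintro ⟨p, hp, rfl⟩
      exact hp
    · intro hx
      obtain ⟨p, rfl⟩ := hφ x
      exact ⟨p, hx, rfl⟩
  haveI : IsLocalization (Algebra.algebraMapSubmonoid B Q.primeCompl) Bq := by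
    rw [hsub]
    infer_instance
  haveI h1 : IsLocalizedModule Q.primeCompl (IsScalarTower.toAlgHom P B Bq).toLinearMap :=
    (isLocalizedModule_iff_isLocalization).2 inferInstance
  haveI h2 : IsLocalizedModule Q.primeCompl (TensorProduct.mk P (Localization.AtPrime Q) B 1) :=
    (isLocalizedModule_iff_isBaseChange Q.primeCompl (Localization.AtPrime Q) _).2
      (TensorProduct.isBaseChange P B (Localization.AtPrime Q))
  have e1 : Bq ≃ₗ[P] Localization.AtPrime Q ⊗[P] B :=
    IsLocalizedModule.linearEquiv Q.primeCompl (IsScalarTower.toAlgHom P B Bq).toLinearMap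
      (TensorProduct.mk P (Localization.AtPrime Q) B 1)
  have hb : DRing.HasTorDimLE P (d + n) (Localization.AtPrime Q ⊗[P] B) :=
    tdle_of_linearEquiv e1 ((tdle_iff_td _ _).2 ha)
  -- step c
  have hc : TD (Localization.AtPrime Q) (d + n) (Localization.AtPrime Q ⊗[P] B) :=
    (tdle_iff_td _ _).1 (tdle_base_localization Q.primeCompl (Localization.AtPrime Q) hb)
  -- step d
  obtain ⟨G, hG, hGtd⟩ := spread Q (d + n) B hpc hc
  refine ⟨algebraMap P B G, hG, ?_⟩
  -- step e
  haveI : Module.Flat P (Localization.Away G) := IsLocalization.flat _ (Submonoid.powers G)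
  have he1 : TD P (d + n) (Localization.Away G ⊗[P] B) :=
    td_restrict P (Localization.Away G) (d + n) _ hGtd
  have hsub' : Algebra.algebraMapSubmonoid B (Submonoid.powers G) =
      Submonoid.powers (algebraMap P B G) := Submonoid.map_powers _ _
  haveI : IsLocalization (Algebra.algebraMapSubmonoid B (Submonoid.powers G))
      (Localization.Away (algebraMap P B G)) := by
    rw [hsub']
    infer_instance
  haveI h3 : IsLocalizedModule (Submonoid.powers G)
      (IsScalarTower.toAlgHom P B (Localization.Away (algebraMap P B G))).toLinearMap :=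
    (isLocalizedModule_iff_isLocalization).2 inferInstance
  haveI h4 : IsLocalizedModule (Submonoid.powers G)
      (TensorProduct.mk P (Localization.Away G) B 1) :=
    (isLocalizedModule_iff_isBaseChange (Submonoid.powers G) (Localization.Away G) _).2
      (TensorProduct.isBaseChange P B (Localization.Away G))
  have e2 : Localization.Away G ⊗[P] B ≃ₗ[P] Localization.Away (algebraMap P B G) :=
    IsLocalizedModule.linearEquiv (Submonoid.powers G)
      (TensorProduct.mk P (Localization.Away G) B 1)
      (IsScalarTower.toAlgHom P B (Localization.Away (algebraMap P B G))).toLinearMap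
  have he2 : TD P (d + n) (Localization.Away (algebraMap P B G)) :=
    (tdle_iff_td _ _).1 (tdle_of_linearEquiv e2 ((tdle_iff_td _ _).2 he1))
  exact (tdle_iff_td _ _).2 (td_restrict A P (d + n) _ he2)

end ring

end Groth.Agent.Lib.Helper8.PFL
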