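import Mathlib
import Groth.Prelude.Def_MoreMor
import Groth.Agent.Lib.Helper8.PFL3
import Groth.Agent.Lib.Helper8.PFL6

/-!
# Perfect = pseudo-coherent + finite tor dimension of the stalks (helper8)
-/

set_option autoImplicit false
set_option linter.style.haveILetI false
universe u
attribute [local instance] HasDerivedCategory.standard
open CategoryTheory CategoryTheory.Limits AlgebraicGeometry TensorProduct

namespace Groth.Agent.Lib.Helper8.PFL

open Groth.Agent.Lib.Helper8.PCL

section ring
variable {A B : Type u} [CommRing A] [CommRing B]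

/-- finite tor dimension over a localization of the base -/
theorem ftd_base_localization (S : Submonoid A) (A' : Type u) [CommRing A'] [Algebra A A']
    [IsLocalization S A'] (φ : A' →+* B) (h : FTD (φ.comp (algebraMap A A'))) : FTD φ := by
  letI := φ.toAlgebra
  letI := (φ.comp (algebraMap A A')).toAlgebra
  haveI : IsScalarTower A A' B := .of_algebraMap_eq' rfl
  obtain ⟨k, hk⟩ := h
  exact ⟨k, tdle_base_localization S A' hk⟩

/-- for a pseudo-coherent ring map, finite tor dimension can be checked at the primes of the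
target -/
theorem ftd_of_forall_prime (ψ : A →+* B) (hpc : PCH ψ)
    (H : ∀ (q : Ideal B) [q.IsPrime], ∃ (Bq : Type u) (_ : CommRing Bq) (_ : Algebra B Bq)
      (_ : IsLocalization.AtPrime Bq q), FTD ((algebraMap B Bq).comp ψ)) : FTD ψ := by
  letI := ψ.toAlgebra
  obtain ⟨n, φ, hφ, hpc'⟩ := hpc
  apply ftd_ofLocalizationSpanTarget ψ
    {g : B | FTD ((algebraMap B (Localization.Away g)).comp ψ)}
  · by_contra hne
    obtain ⟨m, hm, hle⟩ := Ideal.exists_le_maximal _ hne
    haveI : m.IsPrime := hm.isPrime
    obtain ⟨Bq, _, _, _, hq⟩ := H m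
    letI : Algebra A Bq := ((algebraMap B Bq).comp ψ).toAlgebra
    haveI : IsScalarTower A B Bq := .of_algebraMap_eq' rfl
    obtain ⟨d, hd⟩ := hq
    obtain ⟨g, hg, hgd⟩ := exists_away_tdle φ hφ hpc' m Bq d hd
    apply hg
    apply hle
    apply Ideal.subset_span
    show FTD ((algebraMap B (Localization.Away g)).comp ψ)
    unfold FTD
    have heq : ((algebraMap B (Localization.Away g)).comp ψ).toAlgebra =
        (inferInstance : Algebra A (Localization.Away g)) := by
      apply Algebra.algebra_ext
      intro y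
      exact (IsScalarTower.algebraMap_apply A B (Localization.Away g) y).symm
    rw [heq]
    exact ⟨d + n, hgd⟩
  · rintro ⟨g, hg⟩
    exact hg

end ring

section scheme

theorem isPerfectMor_iff_stalk {X S : Scheme.{u}} (f : X ⟶ S)
    (hf : MoreMor.IsPseudoCoherentMor f) :
    MoreMor.IsPerfectMor f ↔ ∀ x : X, FTD (f.stalkMap x).hom := by
  constructor
  · intro h x
    obtain ⟨V, hV, hxV, -⟩ := exists_isAffineOpen_mem_and_subset (x := f x) (U := ⊤) trivial
    obtain ⟨U, hU, hxU, hUV⟩ := exists_isAffineOpen_mem_and_subset (x := x) (U := f ⁻¹ᵁ V) hxV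
    have h1 : FTD (f.appLE V U hUV).hom := (h U V hU hV hUV).2
    letI := S.presheaf.algebra_section_stalk ⟨f x, hxV⟩
    haveI := hV.isLocalization_stalk ⟨f x, hxV⟩
    letI := X.presheaf.algebra_section_stalk ⟨x, hxU⟩
    haveI := hU.isLocalization_stalk ⟨x, hxU⟩
    apply ftd_base_localization (hV.primeIdealOf ⟨f x, hxV⟩).asIdeal.primeCompl
      (S.presheaf.stalk (f x))
    have heq : (f.stalkMap x).hom.comp (algebraMap Γ(S, V) (S.presheaf.stalk (f x))) =
        (algebraMap Γ(X, U) (X.presheaf.stalk x)).comp (f.appLE V U hUV).hom := by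
      ext a
      show f.stalkMap x (S.presheaf.germ V (f x) hxV a) =
        X.presheaf.germ U x hxU (f.appLE V U hUV a)
      rw [Scheme.Hom.germ_stalkMap_apply]
      simp only [Scheme.Hom.appLE, CommRingCat.comp_apply]
      exact (X.presheaf.germ_res_apply _ _ _ _).symm
    rw [heq]
    refine ftd_comp _ _ h1 (ftd_of_flat _ ?_)
    rw [RingHom.flat_algebraMap_iff]
    exact IsLocalization.flat _ (hU.primeIdealOf ⟨x, hxU⟩).asIdeal.primeCompl
  · intro h U V hU hV hUV
    refine ⟨hf U V hU hV hUV, ?_⟩
    show FTD (f.appLE V U hUV).hom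
    apply ftd_of_forall_prime _ (hf U V hU hV hUV)
    intro q _
    have hx : hU.fromSpec ⟨q, inferInstance⟩ ∈ U := (hU.isoSpec.inv _).2
    set x := hU.fromSpec ⟨q, inferInstance⟩ with hxdef
    have hxV : f x ∈ V := hUV hx
    letI := S.presheaf.algebra_section_stalk ⟨f x, hxV⟩
    haveI := hV.isLocalization_stalk ⟨f x, hxV⟩
    refine ⟨X.presheaf.stalk x, inferInstance, X.presheaf.algebra_section_stalk ⟨x, hx⟩,
      hU.isLocalization_stalk' ⟨q, inferInstance⟩ hx, ?_⟩
    letI := X.presheaf.algebra_section_stalk ⟨x, hx⟩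
    have heq : (f.stalkMap x).hom.comp (algebraMap Γ(S, V) (S.presheaf.stalk (f x))) =
        (algebraMap Γ(X, U) (X.presheaf.stalk x)).comp (f.appLE V U hUV).hom := by
      ext a
      show f.stalkMap x (S.presheaf.germ V (f x) hxV a) =
        X.presheaf.germ U x hx (f.appLE V U hUV a)
      rw [Scheme.Hom.germ_stalkMap_apply]
      simp only [Scheme.Hom.appLE, CommRingCat.comp_apply]
      exact (X.presheaf.germ_res_apply _ _ _ _).symm
    rw [← heq]
    refine ftd_comp _ _ (ftd_of_flat _ ?_) (h x)
    rw [RingHom.flat_algebraMap_iff]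
    exact IsLocalization.flat _ (hV.primeIdealOf ⟨f x, hxV⟩).asIdeal.primeCompl

end scheme

end Groth.Agent.Lib.Helper8.PFL
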