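import Mathlib
import Groth.Agent.Lib.Helper8.LCILocal
import Groth.Agent.Lib.Helper9.KoszulIndep

set_option autoImplicit false
set_option linter.style.haveILetI false
set_option maxHeartbeats 400000
universe u

namespace Groth.Agent.Lib.Helper8.Pack

open Polynomial Groth.Agent.Lib.Helper9 Groth.Agent.Lib.Helper8.LCILocal

section

variable {A : Type u} [CommRing A] (n : ℕ)

local notation "P" => MvPolynomial (Fin n) A

/-- packaging: if `I P_G` is generated by the images of a list `f` of polynomials, then
`(P/I)_G` is the quotient of the polynomial ring in one more variable by `f` and `G y - 1`. -/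
theorem pack (I : Ideal P) (G : P) (f : List P)
    (hI : I.map (algebraMap P (Localization.Away G)) =
      Ideal.ofList (f.map (algebraMap P (Localization.Away G)))) :
    ∃ L : List (MvPolynomial (Fin (n + 1)) A), L.length = f.length + 1 ∧
      Nonempty (Localization.Away (Ideal.Quotient.mk I G) ≃ₐ[A]
        (MvPolynomial (Fin (n + 1)) A ⧸ Ideal.ofList L)) := by
  let ρ : Localization.Away G →+* Localization.Away (Ideal.Quotient.mk I G) :=
    Localization.awayMap (Ideal.Quotient.mk I) G
  have hρ : Function.Surjective ρ :=
    KoszulIndep.awayMap_surjective (Ideal.Quotient.mk I) Ideal.Quotient.mk_surjective G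
  have hkρ : RingHom.ker ρ = I.map (algebraMap P (Localization.Away G)) := by
    have := KoszulIndep.ker_awayMap (Ideal.Quotient.mk I) G
    rw [Ideal.mk_ker] at this
    exact this
  let e : MvPolynomial (Fin (n + 1)) A ≃ₐ[A] P[X] := MvPolynomial.finSuccEquiv A n
  let l' : List P[X] := f.map C ++ [C G * X - 1]
  have hmapl' : (Ideal.ofList (f.map C)).map (piHom G) =
      Ideal.ofList (f.map (algebraMap P (Localization.Away G))) := by
    rw [Ideal.map_ofList, List.map_map]
    congr 1
    apply List.map_congr_left
    intro a _
    exact piHom_C G a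
  have hker' : RingHom.ker (ρ.comp (piHom G)) = Ideal.ofList l' := by
    rw [← RingHom.comap_ker, hkρ, hI, ← hmapl',
      Ideal.comap_map_of_surjective _ (piHom_surjective G), Ideal.ofList_append]
    congr 1
    exact ker_piHom G
  let Φ : MvPolynomial (Fin (n + 1)) A →ₐ[A] Localization.Away (Ideal.Quotient.mk I G) :=
    { toRingHom := (ρ.comp (piHom G)).comp (e : MvPolynomial (Fin (n + 1)) A →+* P[X])
      commutes' := by
        intro a
        show ρ (piHom G (e (algebraMap A _ a))) = _
        rw [e.commutes, Polynomial.algebraMap_apply, piHom_C]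
        show Localization.awayMap (Ideal.Quotient.mk I) G
          (algebraMap P (Localization.Away G) (algebraMap A P a)) = _
        rw [Localization.awayMap, IsLocalization.Away.map, IsLocalization.map_eq,
          IsScalarTower.algebraMap_apply A (P ⧸ I) (Localization.Away (Ideal.Quotient.mk I G))]
        rfl }
  have hΦ : Function.Surjective Φ := by
    intro y
    obtain ⟨x, hx⟩ := hρ y
    obtain ⟨z, hz⟩ := piHom_surjective G x
    exact ⟨e.symm z, by
      show ρ (piHom G (e (e.symm z))) = y
      rw [e.apply_symm_apply, hz, hx]⟩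
  let L : List (MvPolynomial (Fin (n + 1)) A) := l'.map e.symm
  have hkΦ : RingHom.ker Φ.toRingHom = Ideal.ofList L := by
    have h1 : Φ.toRingHom = (ρ.comp (piHom G)).comp (e : MvPolynomial (Fin (n + 1)) A →+* P[X]) :=
      rfl
    rw [h1, ← RingHom.comap_ker, hker']
    have h2 : Ideal.ofList L = (Ideal.ofList l').map
        (e.symm : P[X] →+* MvPolynomial (Fin (n + 1)) A) := by
      rw [Ideal.map_ofList]
      rfl
    rw [h2]
    exact (Ideal.map_symm (e : MvPolynomial (Fin (n + 1)) A ≃+* P[X])).symm
  refine ⟨L, by simp [L, l'], ⟨?_⟩⟩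
  exact ((Ideal.quotientEquivAlgOfEq A hkΦ).symm.trans
    (Ideal.quotientKerAlgEquivOfSurjective hΦ)).symm

end

end Groth.Agent.Lib.Helper8.Pack
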