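import Mathlib
import Groth.Agent.Lib.Helper8.QRegLift

/-!
# Lifting quasi-regular sequences across a locally nilpotent ideal: smoothness (helper8)
-/

set_option autoImplicit false
set_option linter.style.haveILetI false
universe u

namespace Groth.Agent.Lib.Helper8.QRegSmooth

open TensorProduct

variable {A₁ B₁ : Type u} [CommRing A₁] [CommRing B₁] [Algebra A₁ B₁]
  (I : Ideal A₁) {r : ℕ} (f' : Fin r → B₁)

/-- the double quotient `(B₁/IB₁)/(f̄) ≅ (B₁/(f'))/I(B₁/(f'))` -/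
noncomputable def e1 :
    ((B₁ ⧸ Ideal.map (algebraMap A₁ B₁) I) ⧸
      Ideal.span (Set.range (fun i => Ideal.Quotient.mk (Ideal.map (algebraMap A₁ B₁) I) (f' i))))
    ≃ₐ[A₁] ((B₁ ⧸ Ideal.span (Set.range f')) ⧸
      I.map (algebraMap A₁ (B₁ ⧸ Ideal.span (Set.range f')))) :=
  (Ideal.quotientEquivAlgOfEq A₁ (by
    rw [Ideal.map_span, ← Set.range_comp]; rfl)).trans
  ((DoubleQuot.quotQuotEquivCommₐ A₁ (Ideal.map (algebraMap A₁ B₁) I)
    (Ideal.span (Set.range f'))).trans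
  (Ideal.quotientEquivAlgOfEq A₁ (by
    change Ideal.map (Ideal.Quotient.mk (Ideal.span (Set.range f')))
      (Ideal.map (algebraMap A₁ B₁) I) = _
    rw [Ideal.map_map]; rfl)))


/-- the fibre comparison -/
noncomputable def fibreEquiv (K : Type u) [CommRing K] [Algebra A₁ K] [Algebra (A₁ ⧸ I) K]
    [IsScalarTower A₁ (A₁ ⧸ I) K] :
    K ⊗[A₁ ⧸ I] ((B₁ ⧸ Ideal.map (algebraMap A₁ B₁) I) ⧸
      Ideal.span (Set.range (fun i => Ideal.Quotient.mk (Ideal.map (algebraMap A₁ B₁) I) (f' i))))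
    ≃ₐ[K] K ⊗[A₁] (B₁ ⧸ Ideal.span (Set.range f')) :=
  (Algebra.TensorProduct.congr (AlgEquiv.refl : K ≃ₐ[K] K)
    (((e1 I f').extendScalarsOfSurjective
      (Ideal.Quotient.mk_surjective : Function.Surjective (algebraMap A₁ (A₁ ⧸ I)))).trans
      (Algebra.TensorProduct.quotIdealMapEquivQuotTensor (B₁ ⧸ Ideal.span (Set.range f')) I))).trans
  (Algebra.TensorProduct.cancelBaseChange A₁ (A₁ ⧸ I) K K (B₁ ⧸ Ideal.span (Set.range f')))


/-- **Smoothness of the quotient by a lift of a quasi-regular sequence.** -/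
theorem smooth_quot (A₁ B₁ : Type u) [CommRing A₁] [CommRing B₁] [Algebra A₁ B₁]
    [Module.Flat A₁ B₁] [Algebra.FinitePresentation A₁ B₁]
    (I : Ideal A₁) (hI : ∀ x ∈ I, IsNilpotent x) (r : ℕ) (f' : Fin r → B₁)
    (hq : CAlgX.IsQuasiRegular
      (fun i => Ideal.Quotient.mk (Ideal.map (algebraMap A₁ B₁) I) (f' i)))
    (hsm : Algebra.Smooth (A₁ ⧸ I)
      ((B₁ ⧸ Ideal.map (algebraMap A₁ B₁) I) ⧸
        Ideal.span (Set.range (fun i => Ideal.Quotient.mk (Ideal.map (algebraMap A₁ B₁) I) (f' i))))) :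
    Algebra.Smooth A₁ (B₁ ⧸ Ideal.span (Set.range f')) := by
  haveI hflatC : Module.Flat (A₁ ⧸ I)
      ((B₁ ⧸ Ideal.map (algebraMap A₁ B₁) I) ⧸
        Ideal.span (Set.range (fun i => Ideal.Quotient.mk (Ideal.map (algebraMap A₁ B₁) I) (f' i)))) :=
    Algebra.Smooth.flat _ _
  haveI : Module.Flat A₁ (B₁ ⧸ Ideal.span (Set.range f')) :=
    QRegLift.flat_quot A₁ B₁ I hI r f' hq hflatC
  haveI : Algebra.FinitePresentation A₁ (B₁ ⧸ Ideal.span (Set.range f')) :=
    Algebra.FinitePresentation.quotient (Submodule.fg_span (Set.finite_range f'))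
  refine Algebra.Smooth.of_formallySmooth_fiber fun p hp => ?_
  have hIp : I ≤ p := fun x hx => by
    obtain ⟨n, hn⟩ := hI x hx
    have : x ^ n ∈ p := by rw [hn]; exact zero_mem _
    exact hp.mem_of_pow_mem n this
  letI : Algebra (A₁ ⧸ I) p.ResidueField :=
    (Ideal.Quotient.lift I (algebraMap A₁ p.ResidueField)
      (fun _ ha => Ideal.algebraMap_residueField_eq_zero.mpr (hIp ha))).toAlgebra
  haveI : IsScalarTower A₁ (A₁ ⧸ I) p.ResidueField :=
    IsScalarTower.of_algebraMap_eq (fun x => rfl)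
  haveI : Algebra.FormallySmooth p.ResidueField (p.ResidueField ⊗[A₁ ⧸ I]
      ((B₁ ⧸ Ideal.map (algebraMap A₁ B₁) I) ⧸
        Ideal.span (Set.range (fun i => Ideal.Quotient.mk (Ideal.map (algebraMap A₁ B₁) I) (f' i))))) :=
    inferInstance
  exact Algebra.FormallySmooth.of_equiv (A := p.ResidueField ⊗[A₁ ⧸ I]
      ((B₁ ⧸ Ideal.map (algebraMap A₁ B₁) I) ⧸
        Ideal.span (Set.range (fun i => Ideal.Quotient.mk (Ideal.map (algebraMap A₁ B₁) I) (f' i)))))
    (B := p.Fiber (B₁ ⧸ Ideal.span (Set.range f')))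
    (fibreEquiv I f' p.ResidueField)

end Groth.Agent.Lib.Helper8.QRegSmooth
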