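import Groth.Agent.Lib.Helper54.FlatColim

set_option autoImplicit false

namespace Groth.Agent.Lib.Helper8.TensorColim

open TensorProduct Module

universe u

section

variable {Z : Type u} [CommRing Z] (X : Type u) [AddCommGroup X] [Module Z X]
  {ι : Type u} [Preorder ι] (G : ι → Type u) [∀ i, CommRing (G i)] [∀ i, Algebra Z (G i)]
  (g : ∀ i j, i ≤ j → G i →ₐ[Z] G j)
  (A : Type u) [CommRing A] [Algebra Z A] [∀ i, Algebra (G i) A] [∀ i, IsScalarTower Z (G i) A]
  (hcolim : FlatCA.IsDirectedColimitRing G (fun i j h => (g i j h).toRingHom) A)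

/-- structure maps as linear maps -/
noncomputable abbrev inc (i : ι) : G i →ₗ[Z] A := (IsScalarTower.toAlgHom Z (G i) A).toLinearMap

include hcolim in
theorem exists_lift (y : X ⊗[Z] A) :
    ∃ (i : ι) (x : X ⊗[Z] G i), (inc G A i).lTensor X x = y := by
  obtain ⟨hdir, hne, hid, hcomp, hcompat, hsurj, hinj⟩ := hcolim
  induction y using TensorProduct.induction_on with
  | zero => exact ⟨hne.some, 0, map_zero _⟩
  | tmul m a =>
    obtain ⟨i, b, rfl⟩ := hsurj a
    exact ⟨i, m ⊗ₜ b, rfl⟩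
  | add y₁ y₂ h₁ h₂ =>
    obtain ⟨i₁, x₁, rfl⟩ := h₁
    obtain ⟨i₂, x₂, rfl⟩ := h₂
    obtain ⟨k, hk₁, hk₂⟩ := hdir.directed i₁ i₂
    refine ⟨k, (g i₁ k hk₁).toLinearMap.lTensor X x₁ + (g i₂ k hk₂).toLinearMap.lTensor X x₂, ?_⟩
    have e₁ : (inc G A k) ∘ₗ (g i₁ k hk₁).toLinearMap = inc G A i₁ :=
      LinearMap.ext fun b => RingHom.congr_fun (hcompat i₁ k hk₁) b
    have e₂ : (inc G A k) ∘ₗ (g i₂ k hk₂).toLinearMap = inc G A i₂ :=
      LinearMap.ext fun b => RingHom.congr_fun (hcompat i₂ k hk₂) b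
    rw [map_add, ← LinearMap.comp_apply, ← LinearMap.comp_apply, ← LinearMap.lTensor_comp,
      ← LinearMap.lTensor_comp, e₁, e₂]

include hcolim in
theorem exists_kill (i : ι) (x : X ⊗[Z] G i) (hx : (inc G A i).lTensor X x = 0) :
    ∃ (j : ι) (h : i ≤ j), (g i j h).toLinearMap.lTensor X x = 0 := by
  classical
  obtain ⟨hdir, hne, hid, hcomp, hcompat, hsurj, hinj⟩ := hcolim
  haveI := hdir
  haveI := hne
  let f : ∀ i j, i ≤ j → G i →ₗ[Z] G j := fun i j h => (g i j h).toLinearMap
  haveI : DirectedSystem G (fun i j h => f i j h) :=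
    { map_self := fun i b => RingHom.congr_fun (hid i) b
      map_map := fun k j i hij hjk b => RingHom.congr_fun (hcomp i j k hij hjk) b }
  let Φ : Module.DirectLimit G f →ₗ[Z] A :=
    Module.DirectLimit.lift Z ι G f (inc G A) (fun i j hij b => RingHom.congr_fun (hcompat i j hij) b)
  have hΦ : ∀ i b, Φ (Module.DirectLimit.of Z ι G f i b) = algebraMap (G i) A b := fun i b =>
    Module.DirectLimit.lift_of _ _ b
  have hΦinj : Function.Injective Φ := by
    rw [injective_iff_map_eq_zero]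
    intro z hz
    obtain ⟨i, b, rfl⟩ := Module.DirectLimit.exists_of z
    rw [hΦ] at hz
    obtain ⟨j, hij, hj⟩ := hinj i b hz
    rw [← Module.DirectLimit.of_f (hij := hij)]
    show Module.DirectLimit.of Z ι G f j (g i j hij b) = 0
    have : g i j hij b = 0 := hj
    rw [this, map_zero]
  have h1 : inc G A i = Φ ∘ₗ Module.DirectLimit.of Z ι G f i := LinearMap.ext fun b => (hΦ i b).symm
  rw [h1, LinearMap.lTensor_comp, LinearMap.comp_apply] at hx
  have h2 : (Module.DirectLimit.of Z ι G f i).lTensor X x = 0 := by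
    have hΦsurj : Function.Surjective Φ := by
      intro a
      obtain ⟨i, b, rfl⟩ := hsurj a
      exact ⟨Module.DirectLimit.of Z ι G f i b, hΦ i b⟩
    have hΦ' : Function.Injective (Φ.lTensor X) :=
      (LinearEquiv.lTensor X (LinearEquiv.ofBijective Φ ⟨hΦinj, hΦsurj⟩)).injective
    exact hΦ' (by rw [hx, map_zero])
  have h3' : ∀ x' : X ⊗[Z] G i,
      TensorProduct.directLimitRight f X ((Module.DirectLimit.of Z ι G f i).lTensor X x') =
      Module.DirectLimit.of Z ι (fun i => X ⊗[Z] G i) (fun i j h => (f i j h).lTensor X) i x' := by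
    intro x'
    induction x' using TensorProduct.induction_on with
    | zero => simp
    | tmul m b => simp
    | add a b ha hb => simp only [map_add, ha, hb]
  have h3 := h3' x
  rw [h2, map_zero] at h3
  obtain ⟨j, hij, hj⟩ := Module.DirectLimit.of.zero_exact h3.symm
  exact ⟨j, hij, hj⟩

end

end Groth.Agent.Lib.Helper8.TensorColim
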