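import Groth.Agent.Lib.Helper8.FlatCx
import Groth.Agent.Lib.Helper8.EW
import Mathlib.Algebra.Homology.HomologySequenceLemmas
import Mathlib.Algebra.Homology.QuasiIso

/-!
# Tensoring a quasi-isomorphism of bounded-above flat complexes (helper8)

`quasiIso_tensorRight_of_boundedAbove`: if `φ : C ⟶ D` is a quasi-isomorphism of bounded above
cochain complexes of flat modules, then `φ ⊗ M` is a quasi-isomorphism for every module `M`.
The proof is by descending induction on the degree using a free presentation of `M` and the
homology sequence.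
-/

set_option autoImplicit false
set_option maxHeartbeats 400000
universe u
open CategoryTheory CategoryTheory.Limits MonoidalCategory

namespace Groth.Agent.Lib.Helper8.FlatCx

variable {A : Type u} [CommRing A] {ι : Type} {c : ComplexShape ι}
  {C D : HomologicalComplex (ModuleCat.{u} A) c} (φ : C ⟶ D)

/-- `φ ⊗ M`. -/
noncomputable abbrev tensorHomCx (M : ModuleCat.{u} A) : CohIII.tensorObj C M ⟶ CohIII.tensorObj D M :=
  ((tensorRight M).mapHomologicalComplex c).map φ

theorem tensorHomCx_f (M : ModuleCat.{u} A) (i : ι) : (tensorHomCx φ M).f i = φ.f i ▷ M := rfl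

theorem tensorMap_tensorHomCx {M N : ModuleCat.{u} A} (g : M ⟶ N) :
    CohIII.tensorMap C g ≫ tensorHomCx φ N = tensorHomCx φ M ≫ CohIII.tensorMap D g := by
  ext i : 1
  simp only [HomologicalComplex.comp_f, tensorMap_f, tensorHomCx_f]
  exact whisker_exchange (φ.f i) g

/-- the morphism of short complexes of complexes `C ⊗ S ⟶ D ⊗ S`. -/
noncomputable def tensorSCHom (S : ShortComplex (ModuleCat.{u} A)) : tensorSC C S ⟶ tensorSC D S where
  τ₁ := tensorHomCx φ S.X₁
  τ₂ := tensorHomCx φ S.X₂
  τ₃ := tensorHomCx φ S.X₃
  comm₁₂ := (tensorMap_tensorHomCx φ S.f).symm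
  comm₂₃ := (tensorMap_tensorHomCx φ S.g).symm

section presentation

open Groth.Agent.Lib.Helper8.EW

/-- the short exact sequence `0 ⟶ ker ⟶ F0 M ⟶ M ⟶ 0` with `F0 M` free. -/
noncomputable def presShort (M : ModuleCat.{u} A) : ShortComplex (ModuleCat.{u} A) :=
  ShortComplex.mk (ModuleCat.ofHom (LinearMap.ker (pi0 M).hom).subtype) (pi0 M) (by
    apply ModuleCat.hom_ext
    apply LinearMap.ext
    intro z
    exact z.2)

theorem presShort_shortExact (M : ModuleCat.{u} A) : (presShort M).ShortExact where
  exact := by
    rw [ShortComplex.ShortExact.moduleCat_exact_iff_function_exact]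
    exact LinearMap.exact_subtype_ker_map _
  mono_f := (ModuleCat.mono_iff_injective _).mpr (Submodule.injective_subtype _)
  epi_g := (ModuleCat.epi_iff_surjective _).mpr (surjective_pi0 M)

end presentation

section induction

variable {C D : CochainComplex (ModuleCat.{u} A) ℤ} (φ : C ⟶ D)

theorem isIso_homologyMap_tensorHomCx_of_flat [QuasiIso φ] (F : ModuleCat.{u} A)
    [Module.Flat A F] (i : ℤ) :
    IsIso (HomologicalComplex.homologyMap (tensorHomCx φ F) i) := by
  have : PreservesFiniteColimits (tensorLeft F) := inferInstance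
  have : PreservesFiniteColimits (tensorRight F) :=
    preservesFiniteColimits_of_natIso (BraidedCategory.tensorLeftIsoTensorRight F)
  have : QuasiIso (tensorHomCx φ F) := inferInstance
  infer_instance

theorem isZero_homology_tensorObj (M : ModuleCat.{u} A) (i : ℤ) (h : IsZero (C.X i)) :
    IsZero ((CohIII.tensorObj C M).homology i) := by
  have h1 : IsZero ((CohIII.tensorObj C M).X i) := (tensorRight M).map_isZero h
  exact ShortComplex.isZero_homology_of_isZero_X₂ _ h1

theorem isIso_homologyMap_tensorHomCx_step [QuasiIso φ] (hC : ∀ i, Module.Flat A (C.X i))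
    (hD : ∀ i, Module.Flat A (D.X i)) (i : ℤ)
    (h : ∀ M : ModuleCat.{u} A, IsIso (HomologicalComplex.homologyMap (tensorHomCx φ M) (i + 1)))
    (M : ModuleCat.{u} A) :
    IsIso (HomologicalComplex.homologyMap (tensorHomCx φ M) i) := by
  have hepi : ∀ M : ModuleCat.{u} A,
      Epi (HomologicalComplex.homologyMap (tensorHomCx φ M) i) := by
    intro M
    have h1 := tensorSC_shortExact C hC (presShort_shortExact M)
    have h2 := tensorSC_shortExact D hD (presShort_shortExact M)
    refine HomologicalComplex.HomologySequence.epi_homologyMap_τ₃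
      (tensorSCHom φ (presShort M)) h1 h2 i ?_ ?_ ?_
    · have := isIso_homologyMap_tensorHomCx_of_flat φ (EW.F0 M) i
      show Epi (HomologicalComplex.homologyMap (tensorHomCx φ (EW.F0 M)) i)
      infer_instance
    · intro j hj
      have hj' : i + 1 = j := hj
      subst hj'
      have := h (presShort M).X₁
      show Epi (HomologicalComplex.homologyMap (tensorHomCx φ (presShort M).X₁) (i + 1))
      infer_instance
    · intro j hj
      have hj' : i + 1 = j := hj
      subst hj'
      have := h (EW.F0 M)
      show Mono (HomologicalComplex.homologyMap (tensorHomCx φ (EW.F0 M)) (i + 1))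
      infer_instance
  have hmono : Mono (HomologicalComplex.homologyMap (tensorHomCx φ M) i) := by
    have h1 := tensorSC_shortExact C hC (presShort_shortExact M)
    have h2 := tensorSC_shortExact D hD (presShort_shortExact M)
    refine HomologicalComplex.HomologySequence.mono_homologyMap_τ₃
      (tensorSCHom φ (presShort M)) h1 h2 i ?_ ?_ ?_
    · exact hepi (presShort M).X₁
    · have := isIso_homologyMap_tensorHomCx_of_flat φ (EW.F0 M) i
      show Mono (HomologicalComplex.homologyMap (tensorHomCx φ (EW.F0 M)) i)
      infer_instance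
    · intro j hj
      have hj' : i + 1 = j := hj
      subst hj'
      have := h (presShort M).X₁
      show Mono (HomologicalComplex.homologyMap (tensorHomCx φ (presShort M).X₁) (i + 1))
      infer_instance
  have := hepi M
  exact isIso_of_mono_of_epi _

/-- if `φ : C ⟶ D` is a quasi-isomorphism of bounded above cochain complexes of flat modules, then
`φ ⊗ M` is a quasi-isomorphism for every module `M`. -/
theorem quasiIso_tensorRight_of_boundedAbove [QuasiIso φ] (hC : ∀ i, Module.Flat A (C.X i))
    (hD : ∀ i, Module.Flat A (D.X i)) (b : ℤ) (bC : ∀ i, b < i → IsZero (C.X i))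
    (bD : ∀ i, b < i → IsZero (D.X i)) (M : ModuleCat.{u} A) :
    QuasiIso (tensorHomCx φ M) := by
  have key : ∀ (n : ℕ) (M : ModuleCat.{u} A),
      IsIso (HomologicalComplex.homologyMap (tensorHomCx φ M) (b + 1 - n)) := by
    intro n
    induction n with
    | zero =>
      intro M
      have hz1 := isZero_homology_tensorObj (C := C) M (b + 1 - (0 : ℕ)) (bC _ (by simp))
      have hz2 := isZero_homology_tensorObj (C := D) M (b + 1 - (0 : ℕ)) (bD _ (by simp))
      exact ⟨0, hz1.eq_of_src _ _, hz2.eq_of_src _ _⟩
    | succ n ih =>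
      intro M
      apply isIso_homologyMap_tensorHomCx_step φ hC hD
      intro M'
      have e : b + 1 - ((n + 1 : ℕ) : ℤ) + 1 = b + 1 - (n : ℤ) := by push_cast; ring
      rw [e]
      exact ih M'
  have all : ∀ (i : ℤ) (M : ModuleCat.{u} A),
      IsIso (HomologicalComplex.homologyMap (tensorHomCx φ M) i) := by
    intro i M
    by_cases hi : b < i
    · have hz1 := isZero_homology_tensorObj (C := C) M i (bC _ hi)
      have hz2 := isZero_homology_tensorObj (C := D) M i (bD _ hi)
      exact ⟨0, hz1.eq_of_src _ _, hz2.eq_of_src _ _⟩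
    · obtain ⟨n, hn⟩ : ∃ n : ℕ, i = b + 1 - n := ⟨(b + 1 - i).toNat, by omega⟩
      rw [hn]
      exact key n M
  rw [quasiIso_iff]
  intro i
  rw [quasiIsoAt_iff_isIso_homologyMap]
  exact all i M

end induction

end Groth.Agent.Lib.Helper8.FlatCx
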